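import Mathlib

set_option autoImplicit false

namespace Cfsg.Agent.Helper5

/-- A group of order `n!` acting faithfully on `n` points is the symmetric group. -/
theorem equiv_perm_of_injective {G X : Type*} [Group G] [Finite X]
    (φ : G →* Equiv.Perm X) (hφ : Function.Injective φ) (n : ℕ) (hX : Nat.card X = n)
    (hG : Nat.card G = n.factorial) : Nonempty (G ≃* Equiv.Perm (Fin n)) := by
  classical
  have : Fintype X := Fintype.ofFinite X
  have hX' : Fintype.card X = n := by rw [← Nat.card_eq_fintype_card, hX]
  let e : X ≃ Fin n := Fintype.equivFinOfCardEq hX'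
  let ψ : G →* Equiv.Perm (Fin n) := (e.permCongrHom.toMonoidHom).comp φ
  have hψ : Function.Injective ψ := e.permCongrHom.injective.comp hφ
  have hcard : Nat.card ψ.range = Nat.card (Equiv.Perm (Fin n)) := by
    rw [← Nat.card_congr (MonoidHom.ofInjective hψ).toEquiv, hG, Nat.card_eq_fintype_card,
      Fintype.card_perm, Fintype.card_fin]
  have htop : ψ.range = ⊤ := Subgroup.eq_top_of_card_eq _ hcard
  exact ⟨(MonoidHom.ofInjective hψ).trans ((MulEquiv.subgroupCongr htop).trans Subgroup.topEquiv)⟩

/-- A group of order `n!/2` acting faithfully on `n` points is the alternating group. -/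
theorem equiv_alternating_of_injective {G X : Type*} [Group G] [Finite X]
    (φ : G →* Equiv.Perm X) (hφ : Function.Injective φ) (n : ℕ) (hX : Nat.card X = n)
    (hG : 2 * Nat.card G = n.factorial) : Nonempty (G ≃* alternatingGroup (Fin n)) := by
  classical
  have : Fintype X := Fintype.ofFinite X
  have hX' : Fintype.card X = n := by rw [← Nat.card_eq_fintype_card, hX]
  let e : X ≃ Fin n := Fintype.equivFinOfCardEq hX'
  let ψ : G →* Equiv.Perm (Fin n) := (e.permCongrHom.toMonoidHom).comp φ
  have hψ : Function.Injective ψ := e.permCongrHom.injective.comp hφ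
  have hcard : Nat.card ψ.range = Nat.card G :=
    (Nat.card_congr (MonoidHom.ofInjective hψ).toEquiv).symm
  have hidx : ψ.range.index = 2 := by
    have h1 := Subgroup.card_mul_index ψ.range
    rw [hcard, Nat.card_eq_fintype_card (α := Equiv.Perm (Fin n)), Fintype.card_perm,
      Fintype.card_fin, ← hG, mul_comm] at h1
    have hpos : 0 < Nat.card G := by
      rcases Nat.eq_zero_or_pos (Nat.card G) with h0 | h0
      · rw [h0] at hG
        exact absurd hG.symm (Nat.factorial_ne_zero n)
      · exact h0
    exact Nat.eq_of_mul_eq_mul_right hpos h1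
  have halt : ψ.range = alternatingGroup (Fin n) :=
    Equiv.Perm.eq_alternatingGroup_of_index_eq_two hidx
  exact ⟨(MonoidHom.ofInjective hψ).trans (MulEquiv.subgroupCongr halt)⟩

end Cfsg.Agent.Helper5
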