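import Mathlib

set_option autoImplicit false

namespace Cfsg.Agent.Helper5

open Matrix

section
variable {F : Type*} [Field F]

lemma range_toGL_eq_ker_det (n : ℕ) :
    (SpecialLinearGroup.toGL : SpecialLinearGroup (Fin n) F →* GL (Fin n) F).range =
      (GeneralLinearGroup.det : GL (Fin n) F →* Fˣ).ker := by
  ext g
  constructor
  · rintro ⟨s, rfl⟩
    simp
  · intro hg
    rw [MonoidHom.mem_ker] at hg
    have hdet : (g : Matrix (Fin n) (Fin n) F).det = 1 := by
      have := congrArg Units.val hg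
      simpa using this
    exact ⟨⟨g.val, hdet⟩, Units.ext rfl⟩

end

variable {F : Type*} [Field F] [Fintype F]

/-- `|SL_n(q)| * (q - 1) = |GL_n(q)|` for `n ≥ 1`. -/
theorem card_SL_mul_card_units (n : ℕ) (hn : 0 < n) :
    Nat.card (SpecialLinearGroup (Fin n) F) * Nat.card Fˣ = Nat.card (GL (Fin n) F) := by
  have : Nonempty (Fin n) := ⟨⟨0, hn⟩⟩
  have h4 := Subgroup.card_mul_index (GeneralLinearGroup.det : GL (Fin n) F →* Fˣ).ker
  rw [Subgroup.index_ker, MonoidHom.range_eq_top.2 GeneralLinearGroup.det_surjective] at h4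
  rw [← h4, ← range_toGL_eq_ker_det]
  congr 1
  · exact (Nat.card_congr (MonoidHom.ofInjective
      (SpecialLinearGroup.toGL_injective (n := Fin n) (R := F))).toEquiv)
  · exact (Nat.card_congr Subgroup.topEquiv.toEquiv).symm

theorem card_SL_mul {q : ℕ} (hF : Fintype.card F = q) (n : ℕ) (hn : 0 < n) :
    Nat.card (SpecialLinearGroup (Fin n) F) * (q - 1) = ∏ i : Fin n, (q ^ n - q ^ (i : ℕ)) := by
  rw [← hF, ← Matrix.card_GL_field, ← card_SL_mul_card_units n hn, Nat.card_units,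
    Nat.card_eq_fintype_card (α := F)]

/-- The centre of `SL_n(q)` has order `gcd(n, q - 1)`, for `n ≥ 1`. -/
theorem card_center_SL {q : ℕ} (hF : Fintype.card F = q) (n : ℕ) (hn : 0 < n) :
    Nat.card (Subgroup.center (SpecialLinearGroup (Fin n) F)) = Nat.gcd n (q - 1) := by
  have e := SpecialLinearGroup.center_equiv_rootsOfUnity' (R := F) (n := Fin n) ⟨0, hn⟩
  rw [Nat.card_congr e.toEquiv, Fintype.card_fin, rootsOfUnity_eq_ker,
    IsCyclic.card_powMonoidHom_ker, Nat.card_units, Nat.card_eq_fintype_card (α := F), hF,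
    Nat.gcd_comm]

/-- `|PSL_n(q)| * gcd(n, q - 1) = |SL_n(q)|`. -/
theorem card_PSL_mul_gcd {q : ℕ} (hF : Fintype.card F = q) (n : ℕ) (hn : 0 < n) :
    Nat.card (ProjectiveSpecialLinearGroup (Fin n) F) * Nat.gcd n (q - 1) =
      Nat.card (SpecialLinearGroup (Fin n) F) := by
  rw [← card_center_SL hF n hn]
  exact (Subgroup.card_eq_card_quotient_mul_card_subgroup _).symm

/-- `|PSL_n(q)| * gcd(n, q - 1) * (q - 1) = ∏_{i<n} (q^n - q^i)`. -/
theorem card_PSL_mul {q : ℕ} (hF : Fintype.card F = q) (n : ℕ) (hn : 0 < n) :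
    Nat.card (ProjectiveSpecialLinearGroup (Fin n) F) * Nat.gcd n (q - 1) * (q - 1) =
      ∏ i : Fin n, (q ^ n - q ^ (i : ℕ)) := by
  rw [card_PSL_mul_gcd hF n hn, card_SL_mul hF n hn]

end Cfsg.Agent.Helper5
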