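import Mathlib
import Cfsg.Agent.Lib.Helper5.SLCard
import Cfsg.Agent.Lib.Helper5.PermEmbed

set_option autoImplicit false

namespace Cfsg.Agent.Helper5

open Matrix
open scoped LinearAlgebra.Projectivization

variable {F : Type*} [Field F] [Fintype F]

lemma card_proj_line {q : ℕ} (hF : Fintype.card F = q) :
    Nat.card (ℙ F (Fin 2 → F)) = q + 1 := by
  rw [Projectivization.card_of_finrank_two F (Fin 2 → F) (by simp), Nat.card_eq_fintype_card, hF]

lemma card_PSL2_mul {q : ℕ} (hF : Fintype.card F = q) :
    Nat.card (ProjectiveSpecialLinearGroup (Fin 2) F) * Nat.gcd 2 (q - 1) * (q - 1) =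
      (q ^ 2 - 1) * (q ^ 2 - q) := by
  rw [card_PSL_mul hF 2 (by norm_num), Fin.prod_univ_two]
  simp

theorem sl2_card_two_equiv (hF : Fintype.card F = 2) :
    Nonempty (SpecialLinearGroup (Fin 2) F ≃* Equiv.Perm (Fin 3)) := by
  have hc : Nat.card (Subgroup.center (SpecialLinearGroup (Fin 2) F)) = 1 := by
    rw [card_center_SL hF 2 (by norm_num)]
    rfl
  have hker : (MulAction.toPermHom (SpecialLinearGroup (Fin 2) F) (ℙ F (Fin 2 → F))).ker = ⊥ := by
    rw [Projectivization.SL_mulAction_ker]
    exact Subgroup.card_eq_one.1 hc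
  have hinj := (MonoidHom.ker_eq_bot_iff _).1 hker
  refine equiv_perm_of_injective _ hinj 3 (card_proj_line hF) ?_
  have h1 := card_SL_mul hF 2 (by norm_num)
  rw [Fin.prod_univ_two] at h1
  simp at h1
  rw [h1]
  rfl

theorem psl2_card_three_equiv (hF : Fintype.card F = 3) :
    Nonempty (ProjectiveSpecialLinearGroup (Fin 2) F ≃* alternatingGroup (Fin 4)) := by
  refine equiv_alternating_of_injective _
    (ProjectiveSpecialLinearGroup.toPermHom_injective (K := F) (ι := Fin 2)) 4
    (card_proj_line hF) ?_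
  have h1 := card_PSL2_mul hF
  norm_num at h1
  have : Nat.factorial 4 = 24 := rfl
  omega

theorem psl2_card_four_equiv (hF : Fintype.card F = 4) :
    Nonempty (ProjectiveSpecialLinearGroup (Fin 2) F ≃* alternatingGroup (Fin 5)) := by
  refine equiv_alternating_of_injective _
    (ProjectiveSpecialLinearGroup.toPermHom_injective (K := F) (ι := Fin 2)) 5
    (card_proj_line hF) ?_
  have h1 := card_PSL2_mul hF
  norm_num at h1
  have : Nat.factorial 5 = 120 := rfl
  omega

end Cfsg.Agent.Helper5
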