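import Mathlib

set_option autoImplicit false
set_option linter.unusedSimpArgs false

namespace Cfsg.Agent.Helper5

open Matrix Matrix.SpecialLinearGroup
open scoped commutatorElement

variable {ι F : Type*} [DecidableEq ι] [Fintype ι] [Field F]

lemma transvection_matrix_comm {i j k : ι} (hij : i ≠ j) (hik : i ≠ k) (hkj : k ≠ j) (c : F) :
    (Matrix.transvection i j c : Matrix ι ι F) =
      Matrix.transvection i k c * Matrix.transvection k j 1 * Matrix.transvection i k (-c) *
        Matrix.transvection k j (-1) := by
  simp only [Matrix.transvection]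
  simp [mul_add, add_mul, single_mul_single_same, single_mul_single_of_ne, hij, hik, hkj, hij.symm,
    hik.symm, hkj.symm]
  simp only [← single_neg]
  abel

/-- For three distinct indices, a transvection is a commutator of transvections. -/
lemma transvection_eq_commutator {i j k : ι} (hij : i ≠ j) (hik : i ≠ k) (hkj : k ≠ j) (c : F) :
    (SpecialLinearGroup.transvection hij c : SpecialLinearGroup ι F) =
      ⁅SpecialLinearGroup.transvection hik c, SpecialLinearGroup.transvection hkj 1⁆ := by
  rw [commutatorElement_def, SpecialLinearGroup.transvection_inv, SpecialLinearGroup.transvection_inv]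
  apply Subtype.ext
  exact transvection_matrix_comm hij hik hkj c

end Cfsg.Agent.Helper5

namespace Cfsg.Agent.Helper5

open Matrix Matrix.SpecialLinearGroup
open scoped commutatorElement

variable {ι F : Type*} [DecidableEq ι] [Fintype ι] [Field F]

lemma diag2n_matrix_decompose {i j : ι} (hij : i ≠ j) (a : F) (ha : a ≠ 0) :
    (diagonal (fun k ↦ if k = i then a else if k = j then a⁻¹ else 1) : Matrix ι ι F) =
      Matrix.transvection i j a * Matrix.transvection j i (-a⁻¹) * Matrix.transvection i j a *
        Matrix.transvection i j (-1) * Matrix.transvection j i 1 * Matrix.transvection i j (-1) := by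
  simp only [Matrix.transvection]
  simp [mul_add, add_mul, single_mul_single_same, single_mul_single_of_ne, hij, hij.symm]
  simp only [mul_inv_cancel₀ ha, inv_mul_cancel₀ ha]
  ext x y
  simp only [diagonal_apply, Matrix.add_apply, one_apply, single_apply]
  by_cases hxi : x = i <;> by_cases hxj : x = j <;> by_cases hyi : y = i <;> by_cases hyj : y = j <;>
    simp_all [eq_comm] <;> try ring


lemma diag2n_decompose {i j : ι} (hij : i ≠ j) (a : F) (ha : a ≠ 0) :
    diag2n hij a ha = SpecialLinearGroup.transvection hij a *
      SpecialLinearGroup.transvection hij.symm (-a⁻¹) *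
      SpecialLinearGroup.transvection hij a * SpecialLinearGroup.transvection hij (-1) *
      SpecialLinearGroup.transvection hij.symm 1 * SpecialLinearGroup.transvection hij (-1) :=
  Subtype.ext (diag2n_matrix_decompose hij a ha)

theorem transvection_induction [Nontrivial ι] (P : SpecialLinearGroup ι F → Prop)
    (htransvec : ∀ (i j : ι) (h : i ≠ j) (c : F), P (SpecialLinearGroup.transvection h c))
    (hmul : ∀ A B, P A → P B → P (A * B)) (A : SpecialLinearGroup ι F) : P A := by
  refine diagonal_transvection_induction' P _ (fun i j hij c hc ↦ ?_) htransvec hmul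
  rw [diag2n_decompose hij c hc]
  refine hmul _ _ (hmul _ _ (hmul _ _ (hmul _ _ (hmul _ _ ?_ ?_) ?_) ?_) ?_) ?_
  all_goals exact htransvec _ _ _ _

lemma exists_ne_ne (h : 3 ≤ Fintype.card ι) (i j : ι) : ∃ k, k ≠ i ∧ k ≠ j := by
  by_contra hcon
  push_neg at hcon
  have hsub : (Finset.univ : Finset ι) ⊆ {i, j} := fun k _ => by
    by_cases hk : k = i
    · simp [hk]
    · simp [hcon k hk]
  have h1 := Finset.card_le_card hsub
  have h2 : ({i, j} : Finset ι).card ≤ 2 := Finset.card_le_two
  rw [Finset.card_univ] at h1
  omega

lemma nontrivial_of_three_le (h : 3 ≤ Fintype.card ι) : Nontrivial ι :=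
  Fintype.one_lt_card_iff_nontrivial.1 (by omega)

theorem commutator_SL_eq_top (h : 3 ≤ Fintype.card ι) :
    commutator (SpecialLinearGroup ι F) = ⊤ := by
  haveI := nontrivial_of_three_le h
  refine le_antisymm le_top (fun A _ ↦ transvection_induction _ (fun i j hij c ↦ ?_)
    (fun _ _ ↦ mul_mem) A)
  obtain ⟨k, hki, hkj⟩ := exists_ne_ne h i j
  rw [transvection_eq_commutator hij (Ne.symm hki) hkj c]
  exact Subgroup.commutator_mem_commutator (Subgroup.mem_top _) (Subgroup.mem_top _)

end Cfsg.Agent.Helper5
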