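import Mathlib
import Cfsg.Agent.Lib.Helper5.SL
import Cfsg.Agent.Lib.Helper5.SLCard

set_option autoImplicit false

namespace Cfsg.Agent.Helper5

open Matrix

section
variable {F : Type*} [Field F]

/-- Upper unitriangular matrices in `SL_2` as a monoid hom from `(F, +)`. -/
def slUpper (F : Type*) [Field F] : Multiplicative F →* Matrix.SpecialLinearGroup (Fin 2) F where
  toFun x := SpecialLinearGroup.transvection (zero_ne_one (α := Fin 2)) (Multiplicative.toAdd x)
  map_one' := SpecialLinearGroup.transvection_coeff_zero _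
  map_mul' _ _ := SpecialLinearGroup.transvection_add _ _ _

/-- The upper unitriangular subgroup of `SL_2`. -/
def slU (F : Type*) [Field F] : Subgroup (Matrix.SpecialLinearGroup (Fin 2) F) := (slUpper F).range

lemma mem_slU_iff {g : Matrix.SpecialLinearGroup (Fin 2) F} :
    g ∈ slU F ↔ ∃ x : F, SpecialLinearGroup.transvection (zero_ne_one (α := Fin 2)) x = g := by
  constructor
  · rintro ⟨x, hx⟩
    exact ⟨Multiplicative.toAdd x, hx⟩
  · rintro ⟨x, hx⟩
    exact ⟨Multiplicative.ofAdd x, hx⟩

lemma slUpper_injective : Function.Injective (slUpper F) := by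
  intro x y hxy
  have := congrArg (fun g : Matrix.SpecialLinearGroup (Fin 2) F ↦ g.1 0 1) hxy
  simpa [slUpper, SpecialLinearGroup.transvection_coe] using this

/-- Upper triangular `g` normalizes the upper unitriangular subgroup. -/
lemma sl_upperTri_conj {g : Matrix.SpecialLinearGroup (Fin 2) F} (hg : g.1 1 0 = 0) (x : F) :
    g * SpecialLinearGroup.transvection (zero_ne_one (α := Fin 2)) x =
      SpecialLinearGroup.transvection (zero_ne_one (α := Fin 2)) (g.1 0 0 * x / g.1 1 1) * g := by
  have hdet := g.det_coe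
  rw [Matrix.det_fin_two, hg, mul_zero, sub_zero] at hdet
  have h11 : g.1 1 1 ≠ 0 := right_ne_zero_of_mul_eq_one hdet
  ext i j
  fin_cases i <;> fin_cases j <;>
    simp [SpecialLinearGroup.transvection_coe, Matrix.mul_apply, Fin.sum_univ_two, hg,
      Matrix.add_apply, Matrix.single_apply] <;> field_simp <;> ring

/-- Key identity: a suitable `U`-conjugate of `k U k⁻¹` is lower unitriangular. -/
lemma sl_bruhat_identity (k : Matrix.SpecialLinearGroup (Fin 2) F) (hc : k.1 1 0 ≠ 0) (y : F) :
    SpecialLinearGroup.transvection (zero_ne_one (α := Fin 2)) (k.1 0 0 / k.1 1 0) *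
      SpecialLinearGroup.transvection (one_ne_zero (α := Fin 2)) y *
      SpecialLinearGroup.transvection (zero_ne_one (α := Fin 2)) (-(k.1 0 0 / k.1 1 0)) * k =
    k * SpecialLinearGroup.transvection (zero_ne_one (α := Fin 2)) (-y / (k.1 1 0) ^ 2) := by
  have hdet := k.det_coe
  rw [Matrix.det_fin_two] at hdet
  have hb : k.1 0 1 = (k.1 0 0 * k.1 1 1 - 1) / k.1 1 0 := by
    field_simp
    linear_combination (-1 : F) * hdet
  ext i j
  fin_cases i <;> fin_cases j <;>
    simp [SpecialLinearGroup.transvection_coe, Matrix.mul_apply, Fin.sum_univ_two,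
      Matrix.add_apply, Matrix.single_apply, hb] <;> field_simp <;> ring

/-- A subgroup containing `U` and `k U k⁻¹` with `k` not upper triangular is everything. -/
lemma sl_eq_top_of_slU_of_conj (H : Subgroup (Matrix.SpecialLinearGroup (Fin 2) F))
    (k : Matrix.SpecialLinearGroup (Fin 2) F) (hc : k.1 1 0 ≠ 0)
    (hU : ∀ x : F, SpecialLinearGroup.transvection (zero_ne_one (α := Fin 2)) x ∈ H)
    (hk : ∀ x : F, k * SpecialLinearGroup.transvection (zero_ne_one (α := Fin 2)) x * k⁻¹ ∈ H) :
    H = ⊤ := by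
  have hL : ∀ y : F, SpecialLinearGroup.transvection (one_ne_zero (α := Fin 2)) y ∈ H := by
    intro y
    have hid := sl_bruhat_identity k hc y
    set u := SpecialLinearGroup.transvection (zero_ne_one (α := Fin 2)) (k.1 0 0 / k.1 1 0)
      with hu
    have huinv : SpecialLinearGroup.transvection (zero_ne_one (α := Fin 2))
        (-(k.1 0 0 / k.1 1 0)) = u⁻¹ := by
      rw [hu, SpecialLinearGroup.transvection_inv]
    rw [huinv] at hid
    have h1 : SpecialLinearGroup.transvection (one_ne_zero (α := Fin 2)) y =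
        u⁻¹ * (k * SpecialLinearGroup.transvection (zero_ne_one (α := Fin 2))
          (-y / (k.1 1 0) ^ 2) * k⁻¹) * u := by
      rw [← hid]
      group
    rw [h1]
    exact H.mul_mem (H.mul_mem (H.inv_mem (hU _)) (hk _)) (hU _)
  refine le_antisymm le_top (fun A _ ↦ transvection_induction _ (fun i j hij c ↦ ?_)
    (fun _ _ ↦ mul_mem) A)
  fin_cases i <;> fin_cases j
  · exact absurd rfl hij
  · exact hU c
  · exact hL c
  · exact absurd rfl hij

lemma sl_eq_top_of_conj_of_conj (H : Subgroup (Matrix.SpecialLinearGroup (Fin 2) F))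
    (g h : Matrix.SpecialLinearGroup (Fin 2) F) (hc : (g⁻¹ * h).1 1 0 ≠ 0)
    (hg : ∀ x : F, g * SpecialLinearGroup.transvection (zero_ne_one (α := Fin 2)) x * g⁻¹ ∈ H)
    (hh : ∀ x : F, h * SpecialLinearGroup.transvection (zero_ne_one (α := Fin 2)) x * h⁻¹ ∈ H) :
    H = ⊤ := by
  have key := sl_eq_top_of_slU_of_conj (H.comap (MulAut.conj g).toMonoidHom) (g⁻¹ * h) hc
    (fun x ↦ by
      rw [Subgroup.mem_comap]
      simpa using hg x)
    (fun x ↦ by
      rw [Subgroup.mem_comap]
      have := hh x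
      simpa [mul_assoc] using this)
  rw [eq_top_iff]
  intro n _
  have : g⁻¹ * n * g ∈ H.comap (MulAut.conj g).toMonoidHom := by rw [key]; trivial
  rw [Subgroup.mem_comap] at this
  simpa [mul_assoc] using this

end

section
open scoped Pointwise
variable {F : Type*} [Field F] [Fintype F] (p : ℕ) [Fact p.Prime] [CharP F p]

lemma card_SL2 {q : ℕ} (hF : Fintype.card F = q) :
    Nat.card (Matrix.SpecialLinearGroup (Fin 2) F) = q * (q ^ 2 - 1) := by
  have h := card_SL_mul hF 2 (by norm_num)
  rw [Fin.prod_univ_two] at h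
  simp only [Fin.val_zero, pow_zero, Fin.val_one, pow_one] at h
  have hq : 2 ≤ q := by rw [← hF]; exact Fintype.one_lt_card
  have h2 : q ^ 2 - q = q * (q - 1) := by
    rw [Nat.mul_sub, mul_one, pow_two]
  rw [h2] at h
  have hpos : 0 < q - 1 := by omega
  apply Nat.eq_of_mul_eq_mul_right hpos
  rw [h]
  ring

lemma card_sylow_SL2 {q : ℕ} (hF : Fintype.card F = q)
    (P : Sylow p (Matrix.SpecialLinearGroup (Fin 2) F)) : Nat.card P = q := by
  have hp : p.Prime := Fact.out
  obtain ⟨e, _, he⟩ := FiniteField.card F p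
  rw [hF] at he
  have hq1 : 1 ≤ q ^ 2 := Nat.one_le_pow _ _ (by rw [he]; exact pow_pos hp.pos _)
  have hnd : ¬ p ∣ q ^ 2 - 1 := by
    intro hd
    have hdvd : p ∣ q ^ 2 := by
      rw [he]
      exact dvd_pow (dvd_pow_self p e.pos.ne') (by norm_num)
    have := Nat.dvd_sub hdvd hd
    rw [Nat.sub_sub_self hq1] at this
    exact hp.one_lt.ne' (Nat.dvd_one.1 this)
  have hm0 : q ^ 2 - 1 ≠ 0 := fun h ↦ hnd (h ▸ dvd_zero p)
  have hq0 : q ≠ 0 := by rw [he]; exact (pow_pos hp.pos _).ne'
  rw [Sylow.card_eq_multiplicity, card_SL2 hF, Nat.factorization_mul hq0 hm0, Finsupp.add_apply,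
    Nat.factorization_eq_zero_of_not_dvd hnd, add_zero, he, Nat.factorization_pow,
    Finsupp.smul_apply, hp.factorization_self]
  simp

lemma card_slU {q : ℕ} (hF : Fintype.card F = q) : Nat.card (slU F) = q := by
  unfold slU
  rw [← Nat.card_congr (MonoidHom.ofInjective (slUpper_injective (F := F))).toEquiv,
    Nat.card_congr (Multiplicative.toAdd (α := F)), Nat.card_eq_fintype_card]
  exact hF

/-- The upper unitriangular subgroup as a Sylow subgroup of `SL_2(q)`. -/
noncomputable def slUSylow : Sylow p (Matrix.SpecialLinearGroup (Fin 2) F) :=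
  Sylow.ofCard (slU F) (by
    have P : Sylow p (Matrix.SpecialLinearGroup (Fin 2) F) := default
    rw [← Sylow.card_eq_multiplicity P, card_sylow_SL2 p rfl P, card_slU rfl])

lemma mem_smul_slUSylow_iff (g x : Matrix.SpecialLinearGroup (Fin 2) F) :
    x ∈ ((g • slUSylow p : Sylow p (Matrix.SpecialLinearGroup (Fin 2) F)) :
      Subgroup (Matrix.SpecialLinearGroup (Fin 2) F)) ↔ g⁻¹ * x * g ∈ slU F := by
  rw [Sylow.coe_subgroup_smul, Subgroup.mem_pointwise_smul_iff_inv_smul_mem]
  change _ ∈ slU F ↔ _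
  simp [MulAut.smul_def]

theorem sylow_sup_eq_top_SL2 (P Q : Sylow p (Matrix.SpecialLinearGroup (Fin 2) F)) (h : P ≠ Q) :
    (P : Subgroup (Matrix.SpecialLinearGroup (Fin 2) F)) ⊔
      (Q : Subgroup (Matrix.SpecialLinearGroup (Fin 2) F)) = ⊤ := by
  obtain ⟨g, rfl⟩ := MulAction.exists_smul_eq (Matrix.SpecialLinearGroup (Fin 2) F) (slUSylow p) P
  obtain ⟨k, rfl⟩ := MulAction.exists_smul_eq (Matrix.SpecialLinearGroup (Fin 2) F) (slUSylow p) Q
  have hc : (g⁻¹ * k).1 1 0 ≠ 0 := by
    intro hc
    apply h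
    -- g⁻¹ k normalizes U
    have hfix : (g⁻¹ * k) • (slUSylow p : Sylow p (Matrix.SpecialLinearGroup (Fin 2) F)) =
        slUSylow p := by
      rw [Sylow.smul_eq_iff_mem_normalizer]
      change g⁻¹ * k ∈ Subgroup.normalizer ((slU F : Subgroup _) : Set _)
      rw [Subgroup.mem_normalizer_iff]
      have key : ∀ (m : Matrix.SpecialLinearGroup (Fin 2) F), m.1 1 0 = 0 →
          ∀ n ∈ slU F, m * n * m⁻¹ ∈ slU F := by
        intro m hm n hn
        obtain ⟨x, rfl⟩ := mem_slU_iff.1 hn
        rw [sl_upperTri_conj hm, mul_inv_cancel_right]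
        exact mem_slU_iff.2 ⟨_, rfl⟩
      have hinv : (g⁻¹ * k)⁻¹.1 1 0 = 0 := by
        rw [Matrix.SpecialLinearGroup.coe_inv, Matrix.adjugate_fin_two]
        simp [hc]
      intro n
      constructor
      · exact key _ hc n
      · intro hn
        have := key _ hinv _ hn
        simpa [mul_assoc] using this
    calc g • (slUSylow p : Sylow p (Matrix.SpecialLinearGroup (Fin 2) F))
        = g • ((g⁻¹ * k) • slUSylow p) := by rw [hfix]
      _ = k • slUSylow p := by rw [smul_smul, mul_inv_cancel_left]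
  apply sl_eq_top_of_conj_of_conj _ g k hc
  · intro x
    apply Subgroup.mem_sup_left
    rw [mem_smul_slUSylow_iff]
    have : g⁻¹ * (g * SpecialLinearGroup.transvection (zero_ne_one (α := Fin 2)) x * g⁻¹) * g =
        SpecialLinearGroup.transvection (zero_ne_one (α := Fin 2)) x := by group
    rw [this]
    exact mem_slU_iff.2 ⟨x, rfl⟩
  · intro x
    apply Subgroup.mem_sup_right
    rw [mem_smul_slUSylow_iff]
    have : k⁻¹ * (k * SpecialLinearGroup.transvection (zero_ne_one (α := Fin 2)) x * k⁻¹) * k =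
        SpecialLinearGroup.transvection (zero_ne_one (α := Fin 2)) x := by group
    rw [this]
    exact mem_slU_iff.2 ⟨x, rfl⟩

end

end Cfsg.Agent.Helper5
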