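import Mathlib

set_option autoImplicit false

namespace Cfsg.Agent.Helper5

open Matrix

/-- `∏_{i<n} (q^n - q^i) = q^(n(n-1)/2) * ∏_{i<n} (q^(n-i) - 1)` -/
lemma prod_GL_split (q n : ℕ) :
    ∏ i : Fin n, (q ^ n - q ^ (i : ℕ)) =
      q ^ (n * (n - 1) / 2) * ∏ i : Fin n, (q ^ (n - (i : ℕ)) - 1) := by
  rw [← Finset.sum_range_id, ← Finset.prod_pow_eq_pow_sum, ← Fin.prod_univ_eq_prod_range,
    ← Finset.prod_mul_distrib]
  refine Finset.prod_congr rfl (fun i _ ↦ ?_)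
  have hi : (i : ℕ) ≤ n := i.2.le
  rw [Nat.mul_sub, mul_one, ← pow_add, Nat.add_sub_cancel' hi]

lemma not_dvd_prod_sub_one (p e q n : ℕ) (hp : p.Prime) (he : 0 < e) (hq : q = p ^ e) :
    ¬ p ∣ ∏ i : Fin n, (q ^ (n - (i : ℕ)) - 1) := by
  rw [Prime.dvd_finsetProd_iff hp.prime]
  rintro ⟨i, _, hi⟩
  have hpos : 0 < n - (i : ℕ) := Nat.sub_pos_of_lt i.2
  have hdvd : p ∣ q ^ (n - (i : ℕ)) := by
    rw [hq]
    exact dvd_pow (dvd_pow_self p he.ne') hpos.ne'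
  have hge : 1 ≤ q ^ (n - (i : ℕ)) := Nat.one_le_pow _ _ (by rw [hq]; exact pow_pos hp.pos _)
  have := (Nat.dvd_sub hdvd hi)
  rw [Nat.sub_sub_self hge] at this
  exact hp.one_lt.ne' (Nat.dvd_one.1 this)

theorem card_sylow_GL {F : Type*} [Field F] [Fintype F] {q : ℕ} (hF : Fintype.card F = q) (p : ℕ)
    [Fact p.Prime] [CharP F p] (n : ℕ) (P : Sylow p (GL (Fin n) F)) :
    Nat.card P = q ^ (n * (n - 1) / 2) := by
  have hp : p.Prime := Fact.out
  obtain ⟨e, _, he⟩ := FiniteField.card F p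
  rw [hF] at he
  rw [Sylow.card_eq_multiplicity, Matrix.card_GL_field, hF, prod_GL_split]
  have hnd := not_dvd_prod_sub_one p e q n hp e.pos he
  have hm0 : ∏ i : Fin n, (q ^ (n - (i : ℕ)) - 1) ≠ 0 := fun h ↦ hnd (h ▸ dvd_zero p)
  have hq0 : q ≠ 0 := by rw [he]; exact (pow_pos hp.pos _).ne'
  rw [Nat.factorization_mul (pow_ne_zero _ hq0) hm0, Finsupp.add_apply,
    Nat.factorization_eq_zero_of_not_dvd hnd, add_zero, Nat.factorization_pow, he,
    Nat.factorization_pow, Finsupp.smul_apply, Finsupp.smul_apply, hp.factorization_self]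
  simp only [smul_eq_mul, mul_one]
  rw [← pow_mul, mul_comm]

end Cfsg.Agent.Helper5
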