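import Mathlib
import Cfsg.Agent.Lib.Helper5.SL
import Cfsg.Agent.Lib.Helper5.SLCard

set_option autoImplicit false

namespace Cfsg.Agent.Helper5

open Matrix

abbrev SL23 := Matrix.SpecialLinearGroup (Fin 2) (ZMod 3)

def qA : SL23 := ⟨!![0, -1; 1, 0], by decide⟩
def qX : SL23 := ⟨!![1, 1; 1, -1], by decide⟩

def qf : QuaternionGroup 2 → SL23
  | .a i => qA ^ i.val
  | .xa i => qX * qA ^ i.val

set_option maxRecDepth 100000 in
lemma qf_mul : ∀ x y : QuaternionGroup 2, qf (x * y) = qf x * qf y := by
  decide

set_option maxRecDepth 100000 in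
lemma qf_one : qf 1 = 1 := by decide

/-- The quaternion group inside `SL_2(3)`. -/
def qHom : QuaternionGroup 2 →* SL23 where
  toFun := qf
  map_one' := qf_one
  map_mul' := qf_mul

set_option maxRecDepth 100000 in
lemma qHom_injective : Function.Injective qHom := by
  intro x y h
  have : ∀ x y : QuaternionGroup 2, qf x = qf y → x = y := by decide
  exact this x y h

set_option maxRecDepth 100000 in
lemma qHom_conj_transvection :
    ∀ (i j : Fin 2) (hij : i ≠ j) (c : ZMod 3) (x : QuaternionGroup 2),
      ∃ y : QuaternionGroup 2, qf y =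
        SpecialLinearGroup.transvection hij c * qf x * (SpecialLinearGroup.transvection hij c)⁻¹ := by
  decide

lemma qHom_range_normal : (qHom.range).Normal := by
  rw [← Subgroup.normalizer_eq_top_iff]
  refine le_antisymm le_top (fun A _ ↦ transvection_induction _ (fun i j hij c ↦ ?_)
    (fun _ _ ↦ mul_mem) A)
  rw [Subgroup.mem_normalizer_iff]
  have key : ∀ (i j : Fin 2) (hij : i ≠ j) (c : ZMod 3) (h : SL23), h ∈ qHom.range →
      SpecialLinearGroup.transvection hij c * h * (SpecialLinearGroup.transvection hij c)⁻¹ ∈
        qHom.range := by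
    rintro i j hij c h ⟨x, rfl⟩
    obtain ⟨y, hy⟩ := qHom_conj_transvection i j hij c x
    exact ⟨y, hy⟩
  intro h
  constructor
  · exact key i j hij c h
  · intro hh
    have := key i j hij (-c) _ hh
    rw [← SpecialLinearGroup.transvection_inv] at this
    simpa [mul_assoc] using this

lemma qHom_range_card : Nat.card qHom.range = 8 := by
  rw [← Nat.card_congr (MonoidHom.ofInjective qHom_injective).toEquiv, Nat.card_eq_fintype_card,
    QuaternionGroup.card]

lemma card_SL23 : Nat.card SL23 = 24 := by
  have h := card_SL_mul (F := ZMod 3) (q := 3) (ZMod.card 3) 2 (by norm_num)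
  rw [Fin.prod_univ_two] at h
  generalize Nat.card SL23 = n at h ⊢
  norm_num at h
  omega

lemma qHom_range_index : qHom.range.index = 3 := by
  have := Subgroup.card_mul_index qHom.range
  rw [qHom_range_card, card_SL23] at this
  omega

end Cfsg.Agent.Helper5
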