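import Mathlib
import Cfsg.Agent.Lib.Helper5.PSL2Small

set_option autoImplicit false

namespace Cfsg.Agent.Helper5

open Matrix

section matrix
variable {F : Type*} [Field F]

/-- Cayley–Hamilton for `SL_2`. -/
lemma sl2_sq (A : Matrix.SpecialLinearGroup (Fin 2) F) :
    A.1 * A.1 = (A.1 0 0 + A.1 1 1) • A.1 - 1 := by
  have hdet := A.det_coe
  rw [Matrix.det_fin_two] at hdet
  ext i j
  fin_cases i <;> fin_cases j <;>
    simp [Matrix.mul_apply, Fin.sum_univ_two] <;>
    first | ring1 | linear_combination hdet | linear_combination (-1 : F) * hdet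

lemma sl2_pow_four (A : Matrix.SpecialLinearGroup (Fin 2) F) (t : F)
    (ht : t = A.1 0 0 + A.1 1 1) :
    A.1 ^ 4 = (t ^ 3 - 2 * t) • A.1 - (t ^ 2 - 1) • (1 : Matrix (Fin 2) (Fin 2) F) := by
  have h2 := sl2_sq A
  rw [← ht] at h2
  have : A.1 ^ 4 = (A.1 * A.1) * (A.1 * A.1) := by noncomm_ring
  rw [this, h2]
  simp only [sub_mul, mul_sub, smul_mul_assoc, mul_smul_comm, h2, mul_one, one_mul, smul_sub,
    smul_smul]
  module

/-- A scalar matrix in `SL_2` squares to one. -/
lemma sl2_sq_mem_center_of_scalar (A : Matrix.SpecialLinearGroup (Fin 2) F)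
    (hb : A.1 0 1 = 0) (hc : A.1 1 0 = 0) (had : A.1 0 0 = A.1 1 1) :
    A ^ 2 ∈ Subgroup.center (Matrix.SpecialLinearGroup (Fin 2) F) := by
  have hdet := A.det_coe
  rw [Matrix.det_fin_two, hb, hc, ← had] at hdet
  rw [Matrix.SpecialLinearGroup.mem_center_iff]
  refine ⟨1, by simp, ?_⟩
  rw [Matrix.SpecialLinearGroup.coe_pow, pow_two]
  ext i j
  fin_cases i <;> fin_cases j <;>
    simp [Matrix.mul_apply, Fin.sum_univ_two, hb, hc, ← had] <;>
    first | ring1 | linear_combination hdet | linear_combination (-1 : F) * hdet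

/-- If `A ∈ SL_2(F)` has `A^4` central and `2` is not a square in `F`, then `A^2` is central. -/
lemma sl2_sq_mem_center (h2 : ¬ IsSquare (2 : F)) (A : Matrix.SpecialLinearGroup (Fin 2) F)
    (h4 : A ^ 4 ∈ Subgroup.center (Matrix.SpecialLinearGroup (Fin 2) F)) :
    A ^ 2 ∈ Subgroup.center (Matrix.SpecialLinearGroup (Fin 2) F) := by
  obtain ⟨r, hr, hrA⟩ := Matrix.SpecialLinearGroup.mem_center_iff.1 h4
  obtain ⟨t, ht⟩ : ∃ t, t = A.1 0 0 + A.1 1 1 := ⟨_, rfl⟩
  have hp4 := sl2_pow_four A t ht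
  have hrA' : A.1 ^ 4 = scalar (Fin 2) r := by
    rw [hrA]
    simp
  have hsq := sl2_sq A
  rw [← ht] at hsq
  by_cases ht0 : t = 0
  · rw [Matrix.SpecialLinearGroup.mem_center_iff]
    refine ⟨-1, by simp, ?_⟩
    rw [Matrix.SpecialLinearGroup.coe_pow, pow_two, hsq, ht0]
    ext i j
    fin_cases i <;> fin_cases j <;> simp
  · have ht2 : t ^ 2 - 2 ≠ 0 := by
      intro h
      apply h2
      exact ⟨t, by linear_combination (-1 : F) * h⟩
    have hs : t ^ 3 - 2 * t ≠ 0 := by
      have : t ^ 3 - 2 * t = t * (t ^ 2 - 2) := by ring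
      rw [this]
      exact mul_ne_zero ht0 ht2
    have heq : (t ^ 3 - 2 * t) • A.1 = (r + t ^ 2 - 1) • (1 : Matrix (Fin 2) (Fin 2) F) := by
      have : (t ^ 3 - 2 * t) • A.1 = A.1 ^ 4 + (t ^ 2 - 1) • (1 : Matrix (Fin 2) (Fin 2) F) := by
        rw [hp4]; abel
      rw [this, hrA']
      ext i j
      fin_cases i <;> fin_cases j <;> simp <;> ring
    have e01 := congrFun (congrFun heq 0) 1
    have e10 := congrFun (congrFun heq 1) 0
    have e00 := congrFun (congrFun heq 0) 0
    have e11 := congrFun (congrFun heq 1) 1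
    simp at e01 e10 e00 e11
    have hb : A.1 0 1 = 0 := by
      rcases e01 with h | h
      · exact absurd h hs
      · exact h
    have hc : A.1 1 0 = 0 := by
      rcases e10 with h | h
      · exact absurd h hs
      · exact h
    have had : A.1 0 0 = A.1 1 1 := by
      have : (t ^ 3 - 2 * t) * (A.1 0 0 - A.1 1 1) = 0 := by linear_combination e00 - e11
      rcases mul_eq_zero.1 this with h | h
      · exact absurd h hs
      · exact sub_eq_zero.1 h
    exact sl2_sq_mem_center_of_scalar A hb hc had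

end matrix

section group
variable {F : Type*} [Field F] [Fintype F]

lemma card_PSL2_of_mod_eight {q : ℕ} (hF : Fintype.card F = q) (hq : q % 8 = 3 ∨ q % 8 = 5) :
    ∃ m, ¬ 2 ∣ m ∧ Nat.card (ProjectiveSpecialLinearGroup (Fin 2) F) = 2 ^ 2 * m := by
  have h := card_PSL2_mul hF
  rcases hq with hq | hq
  · obtain ⟨k, rfl⟩ : ∃ k, q = 8 * k + 3 := ⟨q / 8, by omega⟩
    have hg : Nat.gcd 2 (8 * k + 3 - 1) = 2 := by
      have : 8 * k + 3 - 1 = 2 * (4 * k + 1) := by omega
      rw [this]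
      exact Nat.gcd_mul_right_right _ _
    have h1 : (8 * k + 3) ^ 2 - 1 = (8 * k + 2) * (8 * k + 4) := by
      have : (8 * k + 3) ^ 2 = (8 * k + 2) * (8 * k + 4) + 1 := by ring
      omega
    have h2 : (8 * k + 3) ^ 2 - (8 * k + 3) = (8 * k + 3) * (8 * k + 2) := by
      have : (8 * k + 3) ^ 2 = (8 * k + 3) * (8 * k + 2) + (8 * k + 3) := by ring
      omega
    have h3 : 8 * k + 3 - 1 = 8 * k + 2 := by omega
    rw [hg, h1, h2, h3] at h
    refine ⟨(2 * k + 1) * (8 * k + 3) * (4 * k + 1), ?_, ?_⟩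
    · rw [Nat.Prime.dvd_mul Nat.prime_two, Nat.Prime.dvd_mul Nat.prime_two]
      omega
    · have hpos : 0 < 2 * (8 * k + 2) := by positivity
      apply Nat.eq_of_mul_eq_mul_right hpos
      rw [← mul_assoc, h]
      ring
  · obtain ⟨k, rfl⟩ : ∃ k, q = 8 * k + 5 := ⟨q / 8, by omega⟩
    have hg : Nat.gcd 2 (8 * k + 5 - 1) = 2 := by
      have : 8 * k + 5 - 1 = 2 * (4 * k + 2) := by omega
      rw [this]
      exact Nat.gcd_mul_right_right _ _
    have h1 : (8 * k + 5) ^ 2 - 1 = (8 * k + 4) * (8 * k + 6) := by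
      have : (8 * k + 5) ^ 2 = (8 * k + 4) * (8 * k + 6) + 1 := by ring
      omega
    have h2 : (8 * k + 5) ^ 2 - (8 * k + 5) = (8 * k + 5) * (8 * k + 4) := by
      have : (8 * k + 5) ^ 2 = (8 * k + 5) * (8 * k + 4) + (8 * k + 5) := by ring
      omega
    have h3 : 8 * k + 5 - 1 = 8 * k + 4 := by omega
    rw [hg, h1, h2, h3] at h
    refine ⟨(2 * k + 1) * (8 * k + 5) * (4 * k + 3), ?_, ?_⟩
    · rw [Nat.Prime.dvd_mul Nat.prime_two, Nat.Prime.dvd_mul Nat.prime_two]
      omega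
    · have hpos : 0 < 2 * (8 * k + 4) := by positivity
      apply Nat.eq_of_mul_eq_mul_right hpos
      rw [← mul_assoc, h]
      ring

theorem sylow_two_PSL2_isKleinFour {q : ℕ} (hF : Fintype.card F = q)
    (hq : q % 8 = 3 ∨ q % 8 = 5) (P : Sylow 2 (ProjectiveSpecialLinearGroup (Fin 2) F)) :
    IsKleinFour (P : Subgroup (ProjectiveSpecialLinearGroup (Fin 2) F)) := by
  obtain ⟨m, hm2, hcard⟩ := card_PSL2_of_mod_eight hF hq
  have hm0 : m ≠ 0 := fun h ↦ hm2 (h ▸ dvd_zero 2)
  have hP : Nat.card P = 4 := by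
    rw [Sylow.card_eq_multiplicity, hcard, Nat.factorization_mul (by norm_num) hm0,
      Finsupp.add_apply, Nat.factorization_eq_zero_of_not_dvd hm2, add_zero,
      Nat.Prime.factorization_pow Nat.prime_two]
    simp
  have h2 : ¬ IsSquare (2 : F) := by
    rw [FiniteField.isSquare_two_iff, hF]
    omega
  have hsq : ∀ x : P, x ^ 2 = 1 := by
    intro x
    have hx4 : x ^ 4 = 1 := by
      rw [← hP]
      exact pow_card_eq_one'
    obtain ⟨A, hA⟩ := QuotientGroup.mk_surjective x.1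
    have h4 : A ^ 4 ∈ Subgroup.center (Matrix.SpecialLinearGroup (Fin 2) F) := by
      rw [← QuotientGroup.eq_one_iff, QuotientGroup.mk_pow, hA]
      have := congrArg Subtype.val hx4
      simpa using this
    have h2' := sl2_sq_mem_center h2 A h4
    rw [← QuotientGroup.eq_one_iff, QuotientGroup.mk_pow, hA] at h2'
    apply Subtype.ext
    simpa using h2'
  refine ⟨hP, ?_⟩
  have hdvd : Monoid.exponent P ∣ 2 := Monoid.exponent_dvd_of_forall_pow_eq_one hsq
  rcases (Nat.dvd_prime Nat.prime_two).1 hdvd with h1 | h1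
  · exfalso
    rw [Monoid.exp_eq_one_iff] at h1
    have h3 : Nat.card P = 1 := Nat.card_of_subsingleton (1 : P)
    rw [hP] at h3
    exact absurd h3 (by norm_num)
  · exact h1

end group

end Cfsg.Agent.Helper5
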