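import Mathlib

set_option autoImplicit false

namespace Cfsg.Agent.Helper5

open Matrix

variable {l : Type*} [DecidableEq l] [Fintype l] {F : Type*} [Field F]

/-- `J *ᵥ x` on the left block. -/
lemma J_mulVec_inl (x : l ⊕ l → F) (i : l) : (J l F *ᵥ x) (Sum.inl i) = - x (Sum.inr i) := by
  simp [J, Matrix.mulVec, dotProduct, Fintype.sum_sum_type, Matrix.one_apply]

lemma J_mulVec_inr (x : l ⊕ l → F) (i : l) : (J l F *ᵥ x) (Sum.inr i) = x (Sum.inl i) := by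
  simp [J, Matrix.mulVec, dotProduct, Fintype.sum_sum_type, Matrix.one_apply]

lemma J_mulVec_J_mulVec (x : l ⊕ l → F) : J l F *ᵥ (J l F *ᵥ x) = -x := by
  rw [Matrix.mulVec_mulVec, J_squared, Matrix.neg_mulVec, Matrix.one_mulVec]

lemma J_mulVec_vecMul_J (x : l ⊕ l → F) : (J l F *ᵥ x) ᵥ* J l F = x := by
  rw [← Matrix.vecMul_transpose, J_transpose, Matrix.vecMul_vecMul, Matrix.neg_mul, J_squared,
    neg_neg, Matrix.vecMul_one]

/-- The standard symplectic form is alternating. -/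
lemma dotProduct_J_mulVec_self (x : l ⊕ l → F) : x ⬝ᵥ (J l F *ᵥ x) = 0 := by
  simp only [dotProduct, Fintype.sum_sum_type, J_mulVec_inl, J_mulVec_inr]
  rw [← Finset.sum_add_distrib]
  apply Finset.sum_eq_zero
  intro i _
  ring

/-- The symplectic transvection `x ↦ x + a ω(u,x) u`. -/
def spTv (u : l ⊕ l → F) (a : F) : Matrix (l ⊕ l) (l ⊕ l) F :=
  1 + a • vecMulVec u (J l F *ᵥ u)

lemma spTv_mem (u : l ⊕ l → F) (a : F) : spTv u a ∈ symplecticGroup l F := by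
  rw [SymplecticGroup.mem_iff, spTv, Matrix.transpose_add, Matrix.transpose_one, Matrix.transpose_smul,
    Matrix.transpose_vecMulVec]
  rw [Matrix.add_mul, Matrix.one_mul, Matrix.add_mul, Matrix.mul_add, Matrix.mul_one,
    Matrix.mul_add, Matrix.mul_one]
  rw [Matrix.smul_mul, Matrix.vecMulVec_mul, J_mulVec_vecMul_J, Matrix.mul_smul,
    Matrix.mul_vecMulVec, J_mulVec_J_mulVec, Matrix.smul_mul, Matrix.mul_smul,
    Matrix.vecMulVec_mul_vecMulVec, dotProduct_J_mulVec_self, zero_smul, Matrix.vecMulVec_zero,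
    smul_zero, smul_zero, add_zero, Matrix.neg_vecMulVec, smul_neg]
  abel

lemma spTv_mulVec (u : l ⊕ l → F) (a : F) (x : l ⊕ l → F) :
    spTv u a *ᵥ x = x + (a * ((J l F *ᵥ u) ⬝ᵥ x)) • u := by
  rw [spTv, Matrix.add_mulVec, Matrix.one_mulVec, Matrix.smul_mulVec, Matrix.vecMulVec_mulVec]
  rw [op_smul_eq_smul, smul_smul]

/-- Antisymmetry. -/
lemma J_mulVec_dotProduct_comm (x y : l ⊕ l → F) :
    (J l F *ᵥ x) ⬝ᵥ y = - ((J l F *ᵥ y) ⬝ᵥ x) := by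
  simp only [dotProduct, Fintype.sum_sum_type, J_mulVec_inl, J_mulVec_inr]
  rw [← Finset.sum_add_distrib, ← Finset.sum_add_distrib, ← Finset.sum_neg_distrib]
  apply Finset.sum_congr rfl
  intro i _
  ring

/-- Nondegeneracy. -/
lemma exists_J_mulVec_dotProduct_ne_zero (x : l ⊕ l → F) (hx : x ≠ 0) :
    ∃ y : l ⊕ l → F, (J l F *ᵥ x) ⬝ᵥ y ≠ 0 := by
  have hJx : J l F *ᵥ x ≠ 0 := by
    intro h
    apply hx
    have := J_mulVec_J_mulVec x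
    rw [h, Matrix.mulVec_zero] at this
    exact neg_eq_zero.1 this.symm
  obtain ⟨i, hi⟩ := Function.ne_iff.1 hJx
  refine ⟨Pi.single i 1, ?_⟩
  rw [dotProduct_single, mul_one]
  exact hi

/-- `Sp` is transitive on nonzero vectors, first case. -/
lemma exists_spTv_of_ne_zero (v w : l ⊕ l → F) (h : (J l F *ᵥ v) ⬝ᵥ w ≠ 0) :
    ∃ g : symplecticGroup l F, (g : Matrix (l ⊕ l) (l ⊕ l) F) *ᵥ v = w := by
  refine ⟨⟨spTv (v - w) (-((J l F *ᵥ v) ⬝ᵥ w)⁻¹), spTv_mem _ _⟩, ?_⟩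
  change spTv (v - w) (-((J l F *ᵥ v) ⬝ᵥ w)⁻¹) *ᵥ v = w
  rw [spTv_mulVec]
  have h1 : (J l F *ᵥ (v - w)) ⬝ᵥ v = (J l F *ᵥ v) ⬝ᵥ w := by
    rw [Matrix.mulVec_sub, sub_dotProduct, dotProduct_comm (J l F *ᵥ v) v,
      dotProduct_J_mulVec_self, zero_sub, ← J_mulVec_dotProduct_comm]
  rw [h1, neg_mul, inv_mul_cancel₀ h, neg_smul, one_smul]
  abel

theorem sp_transitive (v w : l ⊕ l → F) (hv : v ≠ 0) (hw : w ≠ 0) :
    ∃ g : symplecticGroup l F, (g : Matrix (l ⊕ l) (l ⊕ l) F) *ᵥ v = w := by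
  by_cases h : (J l F *ᵥ v) ⬝ᵥ w ≠ 0
  · exact exists_spTv_of_ne_zero v w h
  · rw [not_not] at h
    -- find x with ω(v,x) ≠ 0 and ω(x,w) ≠ 0
    have key : ∃ x : l ⊕ l → F, (J l F *ᵥ v) ⬝ᵥ x ≠ 0 ∧ (J l F *ᵥ x) ⬝ᵥ w ≠ 0 := by
      obtain ⟨x1, hx1⟩ := exists_J_mulVec_dotProduct_ne_zero v hv
      obtain ⟨x2, hx2⟩ := exists_J_mulVec_dotProduct_ne_zero w hw
      by_cases h1 : (J l F *ᵥ x1) ⬝ᵥ w ≠ 0
      · exact ⟨x1, hx1, h1⟩
      rw [not_not] at h1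
      by_cases h2 : (J l F *ᵥ v) ⬝ᵥ x2 ≠ 0
      · refine ⟨x2, h2, ?_⟩
        rw [J_mulVec_dotProduct_comm]
        exact neg_ne_zero.2 hx2
      rw [not_not] at h2
      refine ⟨x1 + x2, ?_, ?_⟩
      · rw [dotProduct_add, h2, add_zero]
        exact hx1
      · rw [Matrix.mulVec_add, add_dotProduct, h1, zero_add, J_mulVec_dotProduct_comm]
        exact neg_ne_zero.2 hx2
    obtain ⟨x, hx1, hx2⟩ := key
    obtain ⟨g1, hg1⟩ := exists_spTv_of_ne_zero v x hx1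
    obtain ⟨g2, hg2⟩ := exists_spTv_of_ne_zero x w hx2
    refine ⟨g2 * g1, ?_⟩
    change ((g2 : Matrix (l ⊕ l) (l ⊕ l) F) * (g1 : Matrix (l ⊕ l) (l ⊕ l) F)) *ᵥ v = w
    rw [← Matrix.mulVec_mulVec, hg1, hg2]

end Cfsg.Agent.Helper5
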