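import Mathlib
import Cfsg.Agent.Lib.Helper5.SpTv

set_option autoImplicit false

namespace Cfsg.Agent.Helper5

open Matrix

/-- A matrix for which every vector is an eigenvector is scalar. -/
lemma eq_smul_one_of_forall_mulVec {n : Type*} [DecidableEq n] [Fintype n] {F : Type*} [Field F]
    (A : Matrix n n F) (h : ∀ u : n → F, ∃ c : F, A *ᵥ u = c • u) :
    ∃ c : F, A = c • (1 : Matrix n n F) := by
  rcases isEmpty_or_nonempty n with hn | ⟨⟨i₀⟩⟩
  · exact ⟨0, Subsingleton.elim _ _⟩
  choose c hc using fun i : n => h (Pi.single i 1)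
  have hall : ∀ i, c i = c i₀ := by
    intro i
    by_cases hi : i = i₀
    · rw [hi]
    obtain ⟨d, hd⟩ := h (Pi.single i 1 + Pi.single i₀ 1)
    rw [Matrix.mulVec_add, hc i, hc i₀] at hd
    have h1 := congrFun hd i
    have h2 := congrFun hd i₀
    simp [hi, Ne.symm hi] at h1 h2
    rw [h1, h2]
  refine ⟨c i₀, ?_⟩
  ext a b
  have h1 := congrFun (hc b) a
  rw [Matrix.mulVec_single_one, hall b] at h1
  simp only [Matrix.col_apply, Pi.smul_apply, smul_eq_mul] at h1
  rw [h1, Matrix.smul_apply, Matrix.one_apply, Pi.single_apply, smul_eq_mul]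

variable {l : Type*} [DecidableEq l] [Fintype l] {F : Type*} [Field F]

/-- A matrix commuting with all symplectic transvections is scalar. -/
lemma eq_smul_one_of_commute_spTv (A : Matrix (l ⊕ l) (l ⊕ l) F)
    (h : ∀ u : l ⊕ l → F, A * spTv u 1 = spTv u 1 * A) :
    ∃ c : F, A = c • (1 : Matrix (l ⊕ l) (l ⊕ l) F) := by
  apply eq_smul_one_of_forall_mulVec
  intro u
  by_cases hu : u = 0
  · exact ⟨0, by rw [hu, Matrix.mulVec_zero, smul_zero]⟩
  have h1 := h u
  rw [spTv, one_smul, Matrix.mul_add, Matrix.add_mul, Matrix.mul_one, Matrix.one_mul,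
    add_right_inj, Matrix.mul_vecMulVec, Matrix.vecMulVec_mul] at h1
  have hJu : J l F *ᵥ u ≠ 0 := by
    intro h0
    apply hu
    have := J_mulVec_J_mulVec u
    rw [h0, Matrix.mulVec_zero] at this
    exact neg_eq_zero.1 this.symm
  obtain ⟨j, hj⟩ := Function.ne_iff.1 hJu
  refine ⟨((J l F *ᵥ u) ᵥ* A) j / (J l F *ᵥ u) j, ?_⟩
  ext i
  have h2 := congrFun (congrFun h1 i) j
  rw [Matrix.vecMulVec_apply, Matrix.vecMulVec_apply] at h2
  rw [Pi.smul_apply, smul_eq_mul]
  rw [Pi.zero_apply] at hj
  field_simp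
  linear_combination h2

/-- `-1` as an element of the symplectic group. -/
def spNegOne (l : Type*) [DecidableEq l] [Fintype l] (F : Type*) [Field F] :
    symplecticGroup l F :=
  ⟨-1, SymplecticGroup.neg_mem (one_mem _)⟩

lemma spNegOne_mem_center : spNegOne l F ∈ Subgroup.center (symplecticGroup l F) := by
  rw [Subgroup.mem_center_iff]
  intro g
  apply Subtype.ext
  change (g : Matrix (l ⊕ l) (l ⊕ l) F) * (-1) = (-1) * (g : Matrix (l ⊕ l) (l ⊕ l) F)
  rw [Matrix.mul_neg, Matrix.neg_mul, Matrix.mul_one, Matrix.one_mul]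

lemma center_sp_subset [Nonempty l] (g : symplecticGroup l F)
    (hg : g ∈ Subgroup.center (symplecticGroup l F)) : g = 1 ∨ g = spNegOne l F := by
  rw [Subgroup.mem_center_iff] at hg
  obtain ⟨c, hc⟩ := eq_smul_one_of_commute_spTv (g : Matrix (l ⊕ l) (l ⊕ l) F) (by
    intro u
    have := hg ⟨spTv u 1, spTv_mem u 1⟩
    have h2 := congrArg Subtype.val this
    exact h2.symm)
  have hmem := g.2
  rw [SymplecticGroup.mem_iff, hc, Matrix.transpose_smul, Matrix.transpose_one, Matrix.smul_mul,
    Matrix.one_mul, Matrix.mul_smul, Matrix.mul_one, smul_smul] at hmem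
  obtain ⟨i⟩ := ‹Nonempty l›
  have h1 := congrFun (congrFun hmem (Sum.inl i)) (Sum.inr i)
  simp [J] at h1
  have h2 : (c - 1) * (c + 1) = 0 := by linear_combination h1
  rcases mul_eq_zero.1 h2 with h3 | h3
  · left
    apply Subtype.ext
    rw [hc, sub_eq_zero.1 h3, one_smul]
    rfl
  · right
    apply Subtype.ext
    rw [hc, eq_neg_of_add_eq_zero_left h3, neg_smul, one_smul]
    rfl

theorem center_sp_eq [Nonempty l] :
    (Subgroup.center (symplecticGroup l F) : Set (symplecticGroup l F)) = {1, spNegOne l F} := by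
  ext g
  simp only [SetLike.mem_coe, Set.mem_insert_iff, Set.mem_singleton_iff]
  constructor
  · exact center_sp_subset g
  · rintro (rfl | rfl)
    · exact one_mem _
    · exact spNegOne_mem_center

lemma spNegOne_eq_one_iff [Nonempty l] : spNegOne l F = 1 ↔ (-1 : F) = 1 := by
  constructor
  · intro h
    obtain ⟨i⟩ := ‹Nonempty l›
    have h1 := congrArg Subtype.val h
    have h2 := congrFun (congrFun h1 (Sum.inl i)) (Sum.inl i)
    change (-1 : Matrix (l ⊕ l) (l ⊕ l) F) (Sum.inl i) (Sum.inl i) =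
      (1 : Matrix (l ⊕ l) (l ⊕ l) F) (Sum.inl i) (Sum.inl i) at h2
    simpa using h2
  · intro h
    apply Subtype.ext
    change (-1 : Matrix (l ⊕ l) (l ⊕ l) F) = 1
    ext a b
    rw [Matrix.neg_apply, Matrix.one_apply]
    split_ifs
    · exact h
    · simp

theorem card_center_sp [Fintype F] [Nonempty l] :
    Nat.card (Subgroup.center (symplecticGroup l F)) = Nat.gcd 2 (Fintype.card F - 1) := by
  have h1 : Nat.card (Subgroup.center (symplecticGroup l F)) =
      Set.ncard ({1, spNegOne l F} : Set (symplecticGroup l F)) := by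
    rw [← center_sp_eq]
    rfl
  rw [h1]
  by_cases h2 : (-1 : F) = 1
  · rw [spNegOne_eq_one_iff.2 h2, Set.pair_eq_singleton, Set.ncard_singleton]
    have hchar : ringChar F = 2 := by
      have h3 : (2 : F) = 0 := by linear_combination -h2
      exact CharP.ringChar_of_prime_eq_zero Nat.prime_two (by exact_mod_cast h3)
    have heven : Fintype.card F % 2 = 0 := FiniteField.even_card_of_char_two hchar
    have hpos : 0 < Fintype.card F := Fintype.card_pos
    have h4 : ¬ 2 ∣ (Fintype.card F - 1) := by omega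
    exact (Nat.Coprime.gcd_eq_one ((Nat.prime_two.coprime_iff_not_dvd).2 h4)).symm
  · have hne : (1 : symplecticGroup l F) ≠ spNegOne l F := by
      intro h
      exact h2 (spNegOne_eq_one_iff.1 h.symm)
    rw [Set.ncard_pair hne]
    have hchar : ringChar F ≠ 2 := by
      intro h
      apply h2
      have : CharP F 2 := by rw [← h]; exact ringChar.charP F
      exact CharTwo.neg_eq 1
    have hodd : Fintype.card F % 2 = 1 := FiniteField.odd_card_of_char_ne_two hchar
    have h4 : 2 ∣ (Fintype.card F - 1) := by omega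
    exact (Nat.gcd_eq_left h4).symm

end Cfsg.Agent.Helper5
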