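import Mathlib
import Cfsg.Agent.Lib.Helper84.SpRoot
import Cfsg.Agent.Lib.Helper5.SpCenter

set_option autoImplicit false

/-!
# Eichler elements of the symplectic group and the unipotent radical `Q v` of a vector stabiliser
-/

namespace Cfsg.Agent.Helper5.SpAut

open Matrix Cfsg Cfsg.Agent.Helper13 Cfsg.Agent.Helper84.SpRoot

variable {F : Type*} [Field F] {m : ℕ}

/-- matrix of `x ↦ x + f(x,v) u + f(x,u) v + c f(x,v) v` -/
def eichM (v u : Fin m ⊕ Fin m → F) (c : F) : Matrix (Fin m ⊕ Fin m) (Fin m ⊕ Fin m) F :=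
  1 + vecMulVec u (Matrix.J (Fin m) F *ᵥ v) + vecMulVec v (Matrix.J (Fin m) F *ᵥ u)
    + c • vecMulVec v (Matrix.J (Fin m) F *ᵥ v)

theorem eichM_mulVec (v u : Fin m ⊕ Fin m → F) (c : F) (x : Fin m ⊕ Fin m → F) :
    eichM v u c *ᵥ x = x + Cfsg.sympForm m F x v • u + Cfsg.sympForm m F x u • v
      + (c * Cfsg.sympForm m F x v) • v := by
  unfold eichM Cfsg.sympForm
  simp only [Matrix.add_mulVec, Matrix.one_mulVec, Matrix.smul_mulVec, Matrix.vecMulVec_mulVec,
    op_smul_eq_smul, smul_smul]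
  rw [dotProduct_comm (Matrix.J (Fin m) F *ᵥ v) x, dotProduct_comm (Matrix.J (Fin m) F *ᵥ u) x]

theorem eichM_mem {v u : Fin m ⊕ Fin m → F} (h : Cfsg.sympForm m F u v = 0) (c : F) :
    eichM v u c ∈ Matrix.symplecticGroup (Fin m) F := by
  apply mem_sp_of_preserves
  intro x y
  have h' : Cfsg.sympForm m F v u = 0 := by rw [sympForm_swap, h, neg_zero]
  simp only [eichM_mulVec, sympForm_add_left, sympForm_add_right, sympForm_smul_left,
    sympForm_smul_right, sympForm_self, h, h']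
  rw [sympForm_swap v y, sympForm_swap u y]
  ring

open Classical in
/-- the Eichler element as a symplectic matrix (`1` when `u` is not orthogonal to `v`) -/
noncomputable def eich (v u : Fin m ⊕ Fin m → F) (c : F) : Matrix.symplecticGroup (Fin m) F :=
  if h : Cfsg.sympForm m F u v = 0 then ⟨eichM v u c, eichM_mem h c⟩ else 1

theorem eich_act {v u : Fin m ⊕ Fin m → F} (h : Cfsg.sympForm m F u v = 0) (c : F)
    (x : Fin m ⊕ Fin m → F) :
    (eich v u c).val *ᵥ x = x + Cfsg.sympForm m F x v • u + Cfsg.sympForm m F x u • v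
      + (c * Cfsg.sympForm m F x v) • v := by
  unfold eich
  rw [dif_pos h]
  exact eichM_mulVec v u c x

theorem orth_symm {u v : Fin m ⊕ Fin m → F} (h : Cfsg.sympForm m F u v = 0) :
    Cfsg.sympForm m F v u = 0 := by rw [sympForm_swap, h, neg_zero]

theorem eich_zero_eq_sympT (v : Fin m ⊕ Fin m → F) (c : F) : eich v 0 c = sympT v c := by
  apply sp_ext
  intro x
  rw [eich_act (sympForm_zero_left v), sympT_act, sympForm_zero_right]
  module

/-- composition law -/
theorem eich_mul {v u u' : Fin m ⊕ Fin m → F} (h : Cfsg.sympForm m F u v = 0)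
    (h' : Cfsg.sympForm m F u' v = 0) (c c' : F) :
    eich v u c * eich v u' c' = eich v (u + u') (c + c' + Cfsg.sympForm m F u' u) := by
  have h2 : Cfsg.sympForm m F (u + u') v = 0 := by rw [sympForm_add_left, h, h', add_zero]
  apply sp_ext
  intro x
  rw [mul_act, eich_act h', eich_act h, eich_act h2]
  simp only [sympForm_add_left, sympForm_add_right, sympForm_smul_left, sympForm_self, h, h',
    orth_symm h, orth_symm h']
  module

/-- conjugation law -/
theorem conj_eich (g : Matrix.symplecticGroup (Fin m) F) {v u : Fin m ⊕ Fin m → F}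
    (h : Cfsg.sympForm m F u v = 0) (c : F) :
    g * eich v u c * g⁻¹ = eich (g.val *ᵥ v) (g.val *ᵥ u) c := by
  have h2 : Cfsg.sympForm m F (g.val *ᵥ u) (g.val *ᵥ v) = 0 := by
    rw [sympForm_mulVec g.2, h]
  apply sp_ext
  intro x
  rw [mul_act, mul_act, eich_act h, eich_act h2, sympForm_act_right, sympForm_act_right]
  simp only [Matrix.mulVec_add, Matrix.mulVec_smul, mulVec_inv_mulVec]

theorem eich_one (v : Fin m ⊕ Fin m → F) : eich v 0 0 = 1 := by
  rw [eich_zero_eq_sympT, sympT_zero]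

theorem eich_pow {v u : Fin m ⊕ Fin m → F} (h : Cfsg.sympForm m F u v = 0) (c : F) (k : ℕ) :
    (eich v u c) ^ k = eich v (k • u) (k • c) := by
  induction k with
  | zero => rw [pow_zero, zero_smul, zero_smul, eich_one]
  | succ k ih =>
    have hk : Cfsg.sympForm m F (k • u) v = 0 := by
      rw [← Nat.cast_smul_eq_nsmul F, sympForm_smul_left, h, mul_zero]
    rw [pow_succ, ih, eich_mul hk h, succ_nsmul, succ_nsmul]
    congr 1
    rw [← Nat.cast_smul_eq_nsmul F k u, sympForm_smul_right, sympForm_self, mul_zero, add_zero]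

/-- the unipotent radical of the stabiliser of `v`: fixes `v` and acts trivially on `v^⊥ / v` -/
def Q (v : Fin m ⊕ Fin m → F) : Subgroup (Matrix.symplecticGroup (Fin m) F) where
  carrier := {g | g.val *ᵥ v = v ∧ ∀ w, Cfsg.sympForm m F w v = 0 → ∃ b : F, g.val *ᵥ w = w + b • v}
  one_mem' := ⟨one_act v, fun w _ => ⟨0, by rw [one_act, zero_smul, add_zero]⟩⟩
  mul_mem' := by
    rintro g h ⟨hg1, hg2⟩ ⟨hh1, hh2⟩
    refine ⟨by rw [mul_act, hh1, hg1], fun w hw => ?_⟩
    obtain ⟨b, hb⟩ := hh2 w hw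
    obtain ⟨b', hb'⟩ := hg2 w hw
    refine ⟨b' + b, ?_⟩
    rw [mul_act, hb, Matrix.mulVec_add, Matrix.mulVec_smul, hg1, hb']
    module
  inv_mem' := by
    rintro g ⟨hg1, hg2⟩
    have hinv : (g⁻¹).val *ᵥ v = v := by
      conv_lhs => rw [← hg1]
      exact inv_mulVec_mulVec g v
    refine ⟨hinv, fun w hw => ?_⟩
    obtain ⟨b, hb⟩ := hg2 w hw
    refine ⟨-b, ?_⟩
    have : (g⁻¹).val *ᵥ (g.val *ᵥ w) = (g⁻¹).val *ᵥ (w + b • v) := by rw [hb]
    rw [inv_mulVec_mulVec, Matrix.mulVec_add, Matrix.mulVec_smul, hinv] at this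
    rw [neg_smul, ← sub_eq_add_neg, eq_sub_iff_add_eq]
    exact this.symm

theorem mem_Q {v : Fin m ⊕ Fin m → F} {g : Matrix.symplecticGroup (Fin m) F} :
    g ∈ Q v ↔ g.val *ᵥ v = v ∧
      ∀ w, Cfsg.sympForm m F w v = 0 → ∃ b : F, g.val *ᵥ w = w + b • v := Iff.rfl

theorem eich_mem_Q {v u : Fin m ⊕ Fin m → F} (h : Cfsg.sympForm m F u v = 0) (c : F) :
    eich v u c ∈ Q v := by
  refine ⟨?_, fun w hw => ⟨Cfsg.sympForm m F w u, ?_⟩⟩
  · rw [eich_act h, sympForm_self, orth_symm h]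
    module
  · rw [eich_act h, hw]
    module

theorem sympT_mem_Q (v : Fin m ⊕ Fin m → F) (c : F) : sympT v c ∈ Q v := by
  rw [← eich_zero_eq_sympT]
  exact eich_mem_Q (sympForm_zero_left v) c

theorem T_le_Q (v : Fin m ⊕ Fin m → F) : T v ≤ Q v := by
  intro g hg
  obtain ⟨c, rfl⟩ := mem_T_iff.mp hg
  exact sympT_mem_Q v c

/-- elements of `Q v` are Eichler elements -/
theorem exists_eich_of_mem_Q {v : Fin m ⊕ Fin m → F} (hv : v ≠ 0)
    {g : Matrix.symplecticGroup (Fin m) F} (hg : g ∈ Q v) :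
    ∃ (u : Fin m ⊕ Fin m → F) (c : F), Cfsg.sympForm m F u v = 0 ∧ g = eich v u c := by
  obtain ⟨hg1, hg2⟩ := hg
  obtain ⟨x0, hx0⟩ := exists_partner (m := m) hv
  -- hx0 : f v x0 = 1
  have hx0' : Cfsg.sympForm m F x0 v = -1 := by rw [sympForm_swap, hx0]
  set u0 := g.val *ᵥ x0 - x0 with hu0
  have hu0v : Cfsg.sympForm m F u0 v = 0 := by
    rw [hu0, sympForm_sub_left]
    conv_lhs => rw [← hg1]
    rw [sympForm_mulVec g.2, hg1, sub_self]
  -- on v^⊥
  have hperp : ∀ w, Cfsg.sympForm m F w v = 0 → g.val *ᵥ w = w + Cfsg.sympForm m F u0 w • v := by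
    intro w hw
    obtain ⟨b, hb⟩ := hg2 w hw
    have h1 : Cfsg.sympForm m F (g.val *ᵥ x0) (g.val *ᵥ w) = Cfsg.sympForm m F x0 w :=
      sympForm_mulVec g.2 x0 w
    have h2 : g.val *ᵥ x0 = x0 + u0 := by rw [hu0]; abel
    rw [h2, hb] at h1
    simp only [sympForm_add_left, sympForm_add_right, sympForm_smul_right, hx0', hu0v] at h1
    have hb' : b = Cfsg.sympForm m F u0 w := by
      linear_combination -h1
    rw [hb, hb']
  refine ⟨-u0, -Cfsg.sympForm m F x0 u0, ?_, ?_⟩
  · rw [sympForm_neg_left, hu0v, neg_zero]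
  · have hu0v' : Cfsg.sympForm m F (-u0) v = 0 := by rw [sympForm_neg_left, hu0v, neg_zero]
    apply sp_ext
    intro x
    -- decompose x = (x + f(x,v) x0) + (- f(x,v)) x0, first part in v^⊥
    set a := Cfsg.sympForm m F x v with ha
    have hy : Cfsg.sympForm m F (x + a • x0) v = 0 := by
      rw [sympForm_add_left, sympForm_smul_left, hx0', ← ha]; ring
    have hx : x = (x + a • x0) + (-a) • x0 := by module
    have h2 : g.val *ᵥ x0 = x0 + u0 := by rw [hu0]; abel
    have hgx : g.val *ᵥ x = (x + a • x0) + Cfsg.sympForm m F u0 (x + a • x0) • v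
        + (-a) • (x0 + u0) := by
      conv_lhs => rw [hx]
      rw [Matrix.mulVec_add, Matrix.mulVec_smul, hperp _ hy, h2]
    rw [hgx, eich_act hu0v']
    simp only [sympForm_add_right, sympForm_smul_right, sympForm_neg_right, ← ha]
    rw [sympForm_swap u0 x, sympForm_swap u0 x0]
    module

end Cfsg.Agent.Helper5.SpAut
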