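import Mathlib
import Cfsg.Agent.Lib.Helper13.OrthSimple
import Cfsg.Agent.Lib.Helper13.OrthGeom

set_option autoImplicit false

/-!
# Eichler elements of `Ω(Q)` as total functions, and basic formulas
-/

namespace Cfsg.Agent.Helper5.OAut

open Matrix QuadraticMap Cfsg.Agent.Helper13 Cfsg.Agent.Helper43

variable {F : Type*} [Field F] {ι : Type} [Fintype ι] [DecidableEq ι]
  (Q : QuadraticForm F (ι → F))

/-- the standing hypotheses -/
structure Ctx : Prop where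
  hQ : (polarBilin Q).Nondegenerate
  hE : Cfsg.Omega F ⇑Q = EK Q
  hyp : ∃ (k : ℕ) (e f : Fin k → (ι → F)), IsHypFamily Q e f ∧ 3 ≤ k
  hn : 7 ≤ Fintype.card ι
  hcen : ∀ z : ↥(Cfsg.Omega F ⇑Q), z ∈ Subgroup.center ↥(Cfsg.Omega F ⇑Q) →
    ∃ c : F, ∀ x : ι → F, z • x = c • x

/-- Eichler transformation as a total function into the isometry group -/
noncomputable def Eo (u w : ι → F) : ↥(Cfsg.isometryGroup F ⇑Q) :=
  by classical exact if h : Q u = 0 ∧ polar (⇑Q) u w = 0 then eichO Q u w h.1 h.2 else 1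

theorem Eo_eq {u w : ι → F} (hu : Q u = 0) (huw : polar (⇑Q) u w = 0) :
    Eo Q u w = eichO Q u w hu huw := by
  unfold Eo
  exact dif_pos ⟨hu, huw⟩

/-- Eichler transformation as a total function into `Ω(Q)` -/
noncomputable def E (u w : ι → F) : ↥(Cfsg.Omega F ⇑Q) :=
  by classical exact if h : Eo Q u w ∈ Cfsg.Omega F ⇑Q then ⟨Eo Q u w, h⟩ else 1

/-- the action of `Ω(Q)` on vectors, as a plain function -/
def act (g : ↥(Cfsg.Omega F ⇑Q)) (x : ι → F) : ι → F :=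
  (g : ↥(Cfsg.isometryGroup F ⇑Q)) • x

variable {Q}

local infixr:73 " ⋆ " => act _

theorem act_def (g : ↥(Cfsg.Omega F ⇑Q)) (x : ι → F) :
    g ⋆ x = (g : ↥(Cfsg.isometryGroup F ⇑Q)) • x := rfl

theorem act_one (x : ι → F) : (1 : ↥(Cfsg.Omega F ⇑Q)) ⋆ x = x := one_smul _ x

theorem act_mul (g h : ↥(Cfsg.Omega F ⇑Q)) (x : ι → F) : (g * h) ⋆ x = g ⋆ h ⋆ x :=
  mul_smul (g : ↥(Cfsg.isometryGroup F ⇑Q)) (h : ↥(Cfsg.isometryGroup F ⇑Q)) x

theorem act_inv_act (g : ↥(Cfsg.Omega F ⇑Q)) (x : ι → F) : g⁻¹ ⋆ g ⋆ x = x := by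
  rw [← act_mul, inv_mul_cancel, act_one]

theorem act_act_inv (g : ↥(Cfsg.Omega F ⇑Q)) (x : ι → F) : g ⋆ g⁻¹ ⋆ x = x := by
  rw [← act_mul, mul_inv_cancel, act_one]

theorem act_add (g : ↥(Cfsg.Omega F ⇑Q)) (x y : ι → F) : g ⋆ (x + y) = g ⋆ x + g ⋆ y :=
  smul_add (g : ↥(Cfsg.isometryGroup F ⇑Q)) x y

theorem act_zero (g : ↥(Cfsg.Omega F ⇑Q)) : g ⋆ (0 : ι → F) = 0 :=
  smul_zero (g : ↥(Cfsg.isometryGroup F ⇑Q))

theorem act_neg (g : ↥(Cfsg.Omega F ⇑Q)) (x : ι → F) : g ⋆ (-x) = -(g ⋆ x) :=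
  smul_neg (g : ↥(Cfsg.isometryGroup F ⇑Q)) x

theorem act_sub (g : ↥(Cfsg.Omega F ⇑Q)) (x y : ι → F) : g ⋆ (x - y) = g ⋆ x - g ⋆ y :=
  O_smul_sub Q g.1 x y

theorem act_smul (g : ↥(Cfsg.Omega F ⇑Q)) (c : F) (x : ι → F) : g ⋆ (c • x) = c • (g ⋆ x) :=
  O_smul_smul_comm Q g.1 c x

theorem Q_act (g : ↥(Cfsg.Omega F ⇑Q)) (x : ι → F) : Q (g ⋆ x) = Q x := O_Q_smul Q g.1 x

theorem polar_act (g : ↥(Cfsg.Omega F ⇑Q)) (x y : ι → F) :
    polar (⇑Q) (g ⋆ x) (g ⋆ y) = polar (⇑Q) x y := O_polar_smul Q g.1 x y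

theorem Om_ext {g h : ↥(Cfsg.Omega F ⇑Q)} (H : ∀ x : ι → F, g ⋆ x = h ⋆ x) : g = h :=
  Subtype.ext (O_ext Q H)

theorem act_eq_zero (g : ↥(Cfsg.Omega F ⇑Q)) (x : ι → F) : g ⋆ x = 0 ↔ x = 0 :=
  O_smul_eq_zero Q g.1 x

theorem act_inv_eq_iff (g : ↥(Cfsg.Omega F ⇑Q)) (x y : ι → F) : g⁻¹ ⋆ x = y ↔ x = g ⋆ y := by
  constructor
  · intro h
    rw [← h, act_act_inv]
  · intro h
    rw [h, act_inv_act]

theorem polar_act_inv (g : ↥(Cfsg.Omega F ⇑Q)) (x y : ι → F) :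
    polar (⇑Q) (g⁻¹ ⋆ x) y = polar (⇑Q) x (g ⋆ y) := by
  have := polar_act g (g⁻¹ ⋆ x) y
  rw [act_act_inv] at this
  exact this.symm

theorem polar_act_left (g : ↥(Cfsg.Omega F ⇑Q)) (x y : ι → F) :
    polar (⇑Q) (g ⋆ x) y = polar (⇑Q) x (g⁻¹ ⋆ y) := by
  have := polar_act g x (g⁻¹ ⋆ y)
  rw [act_act_inv] at this
  exact this

theorem E_coe (C : Ctx Q) {u w : ι → F} (hu : Q u = 0) (huw : polar (⇑Q) u w = 0) :
    ((E Q u w : ↥(Cfsg.Omega F ⇑Q)) : ↥(Cfsg.isometryGroup F ⇑Q)) = eichO Q u w hu huw := by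
  have h : Eo Q u w ∈ Cfsg.Omega F ⇑Q := by
    rw [Eo_eq Q hu huw, C.hE]
    exact eichO_mem_EK Q u w hu huw
  unfold E
  rw [dif_pos h]
  exact Eo_eq Q hu huw

theorem E_act (C : Ctx Q) {u w : ι → F} (hu : Q u = 0) (huw : polar (⇑Q) u w = 0)
    (x : ι → F) :
    E Q u w ⋆ x = x + polar (⇑Q) u x • w - polar (⇑Q) w x • u - (Q w * polar (⇑Q) u x) • u := by
  rw [act_def, E_coe C hu huw, eichO_smul]

theorem E_mul (C : Ctx Q) {u w w' : ι → F} (hu : Q u = 0) (huw : polar (⇑Q) u w = 0)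
    (huw' : polar (⇑Q) u w' = 0) : E Q u w * E Q u w' = E Q u (w + w') := by
  have h3 : polar (⇑Q) u (w + w') = 0 := by rw [polar_add_right, huw, huw', add_zero]
  apply Subtype.ext
  rw [Subgroup.coe_mul, E_coe C hu huw, E_coe C hu huw', E_coe C hu h3, eichO_mul]

theorem E_zero (C : Ctx Q) {u : ι → F} (hu : Q u = 0) : E Q u 0 = 1 := by
  apply Subtype.ext
  rw [E_coe C hu (polar_zero_right _ _), eichO_zero, Subgroup.coe_one]

theorem E_inv (C : Ctx Q) {u w : ι → F} (hu : Q u = 0) (huw : polar (⇑Q) u w = 0) :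
    (E Q u w)⁻¹ = E Q u (-w) := by
  have h3 : polar (⇑Q) u (-w) = 0 := by rw [polar_neg_right, huw, neg_zero]
  apply Subtype.ext
  rw [Subgroup.coe_inv, E_coe C hu huw, E_coe C hu h3, eichO_inv]

theorem E_conj (C : Ctx Q) (g : ↥(Cfsg.Omega F ⇑Q)) {u w : ι → F} (hu : Q u = 0)
    (huw : polar (⇑Q) u w = 0) : g * E Q u w * g⁻¹ = E Q (g ⋆ u) (g ⋆ w) := by
  have h1 : Q (g ⋆ u) = 0 := by rw [Q_act, hu]
  have h2 : polar (⇑Q) (g ⋆ u) (g ⋆ w) = 0 := by rw [polar_act, huw]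
  apply Subtype.ext
  rw [Subgroup.coe_mul, Subgroup.coe_mul, Subgroup.coe_inv, E_coe C hu huw, E_coe C h1 h2,
    eichO_conj]
  rfl

/-- `E u w` only depends on `w` modulo `u` -/
theorem E_add_smul (C : Ctx Q) {u w : ι → F} (hu : Q u = 0) (huw : polar (⇑Q) u w = 0) (c : F) :
    E Q u (w + c • u) = E Q u w := by
  have huu : polar (⇑Q) u u = 0 := polar_self_of_sing Q u hu
  have h3 : polar (⇑Q) u (w + c • u) = 0 := by
    rw [polar_add_right, polar_smul_right, huw, huu, smul_zero, add_zero]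
  apply Om_ext
  intro x
  rw [E_act C hu h3, E_act C hu huw]
  have hq : Q (w + c • u) = Q w := by
    rw [QuadraticMap.map_add Q w (c • u), QuadraticMap.map_smul, hu, polar_smul_right,
      polar_comm, huw]
    simp
  rw [hq, polar_add_left, polar_smul_left]
  simp only [smul_eq_mul]
  module

theorem E_smul_left (C : Ctx Q) {u w : ι → F} (hu : Q u = 0) (huw : polar (⇑Q) u w = 0) (c : F) :
    E Q (c • u) w = E Q u (c • w) := by
  have h1 : Q (c • u) = 0 := by rw [QuadraticMap.map_smul, hu, smul_zero]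
  have h2 : polar (⇑Q) (c • u) w = 0 := by rw [polar_smul_left, huw, smul_zero]
  have h3 : polar (⇑Q) u (c • w) = 0 := by rw [polar_smul_right, huw, smul_zero]
  apply Om_ext
  intro x
  rw [E_act C h1 h2, E_act C hu h3, QuadraticMap.map_smul, polar_smul_left, polar_smul_left]
  simp only [smul_eq_mul]
  module

/-- swapping the two vectors of a totally singular pair -/
theorem E_swap (C : Ctx Q) {a b : ι → F} (ha : Q a = 0) (hb : Q b = 0)
    (hab : polar (⇑Q) a b = 0) : E Q a b = E Q b (-a) := by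
  have h2 : polar (⇑Q) b (-a) = 0 := by rw [polar_neg_right, polar_comm, hab, neg_zero]
  apply Om_ext
  intro x
  rw [E_act C ha hab, E_act C hb h2, hb, QuadraticMap.map_neg, ha, polar_neg_left]
  module

theorem E_pow (C : Ctx Q) {u w : ι → F} (hu : Q u = 0) (huw : polar (⇑Q) u w = 0) (k : ℕ) :
    E Q u w ^ k = E Q u (k • w) := by
  induction k with
  | zero => rw [pow_zero, zero_smul, E_zero C hu]
  | succ k ih =>
    have h3 : polar (⇑Q) u (k • w) = 0 := by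
      rw [← Nat.cast_smul_eq_nsmul F, polar_smul_right, huw, smul_zero]
    rw [pow_succ, ih, E_mul C hu h3 huw, succ_nsmul]

end Cfsg.Agent.Helper5.OAut
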