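import Mathlib
import Cfsg.Agent.Lib.Helper5.OAut1
import Cfsg.Agent.Lib.Helper44.QFSplit

set_option autoImplicit false
set_option linter.unusedSectionVars false

/-!
# Counting singular vectors (Chevalley-Warning) and fixed singular vectors of `p`-groups
-/

namespace Cfsg.Agent.Helper5.OAut

open Matrix QuadraticMap Cfsg.Agent.Helper13 Cfsg.Agent.Helper43 Module

section count

variable {F : Type*} [Field F] [Fintype F] {p : ℕ} [Fact p.Prime] [CharP F p]

/-- Chevalley-Warning: the number of zeros of a quadratic form in at least three variables is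
divisible by the characteristic -/
theorem card_sing_pi_dvd {n : ℕ} (hn : 3 ≤ n) (Q : QuadraticForm F (Fin n → F)) :
    p ∣ Nat.card {x : Fin n → F // Q x = 0} := by
  classical
  set β := Q.toBilin (Pi.basisFun F (Fin n)) with hβ
  have hQβ : ∀ x, Q x = β x x := by
    intro x
    have h := QuadraticMap.toQuadraticMap_toBilin Q (Pi.basisFun F (Fin n))
    have h2 := congrArg (fun q : QuadraticMap F (Fin n → F) F => q x) h
    simp only [LinearMap.BilinMap.toQuadraticMap_apply] at h2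
    exact h2.symm
  set M : Matrix (Fin n) (Fin n) F := LinearMap.BilinForm.toMatrix' β with hM
  have hβM : ∀ x y, β x y = x ⬝ᵥ M.mulVec y := by
    intro x y
    rw [hM, ← Matrix.toBilin'_apply', Matrix.toBilin'_toMatrix']
  let f : MvPolynomial (Fin n) F :=
    ∑ i, ∑ j, MvPolynomial.C (M i j) * MvPolynomial.X i * MvPolynomial.X j
  have hdeg : f.totalDegree ≤ 2 := by
    apply MvPolynomial.totalDegree_finsetSum_le
    intro i _
    apply MvPolynomial.totalDegree_finsetSum_le
    intro j _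
    have h1 := MvPolynomial.totalDegree_mul
      (MvPolynomial.C (M i j) * (MvPolynomial.X i : MvPolynomial (Fin n) F))
      (MvPolynomial.X j : MvPolynomial (Fin n) F)
    have h2 := MvPolynomial.totalDegree_mul
      (MvPolynomial.C (M i j) : MvPolynomial (Fin n) F)
      (MvPolynomial.X i : MvPolynomial (Fin n) F)
    rw [MvPolynomial.totalDegree_X] at h1 h2
    rw [MvPolynomial.totalDegree_C] at h2
    omega
  have heval : ∀ x : Fin n → F, MvPolynomial.eval x f = Q x := by
    intro x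
    rw [hQβ, hβM]
    simp only [f, map_sum, map_mul, MvPolynomial.eval_C, MvPolynomial.eval_X, dotProduct,
      Matrix.mulVec, Finset.mul_sum]
    apply Finset.sum_congr rfl
    intro i _
    apply Finset.sum_congr rfl
    intro j _
    ring
  have hlt : f.totalDegree < Fintype.card (Fin n) := by
    rw [Fintype.card_fin]; omega
  have hdvd := char_dvd_card_solutions p hlt
  rw [Nat.card_eq_fintype_card]
  have : Fintype.card {x : Fin n → F // Q x = 0}
      = Fintype.card {x : Fin n → F // MvPolynomial.eval x f = 0} := by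
    apply Fintype.card_congr
    exact Equiv.subtypeEquivRight (fun x => by rw [heval])
  rw [this]
  exact hdvd

theorem card_sing_dvd {V : Type*} [AddCommGroup V] [Module F V] [Module.Finite F V]
    (Q : QuadraticForm F V) (h : 3 ≤ finrank F V) : p ∣ Nat.card {v : V // Q v = 0} := by
  let b := Module.finBasis F V
  let e : V ≃ₗ[F] (Fin (finrank F V) → F) := b.equivFun
  let Q' : QuadraticForm F (Fin (finrank F V) → F) := Q.comp e.symm.toLinearMap
  have h1 := card_sing_pi_dvd (p := p) h Q'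
  have h2 : Nat.card {v : V // Q v = 0} = Nat.card {x : Fin (finrank F V) → F // Q' x = 0} := by
    apply Nat.card_congr
    refine e.toEquiv.subtypeEquiv (fun v => ?_)
    show Q v = 0 ↔ Q (e.symm (e v)) = 0
    rw [LinearEquiv.symm_apply_apply]
  rw [h2]
  exact h1

end count

section perp

variable {F : Type*} [Field F] {ι : Type} [Fintype ι] [DecidableEq ι]
  (Q : QuadraticForm F (ι → F))

/-- the common orthogonal complement of a finite family of vectors -/
def perpK {k : ℕ} (x : Fin k → (ι → F)) : Submodule F (ι → F) :=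
  LinearMap.ker (LinearMap.pi (fun i => polarBilin Q (x i)))

variable {Q}

theorem mem_perpK {k : ℕ} {x : Fin k → (ι → F)} {y : ι → F} :
    y ∈ perpK Q x ↔ ∀ i, polar (⇑Q) (x i) y = 0 := by
  unfold perpK
  rw [LinearMap.mem_ker]
  constructor
  · intro h i
    exact congrFun h i
  · intro h
    funext i
    exact h i

theorem finrank_perpK {k : ℕ} (x : Fin k → (ι → F)) :
    Fintype.card ι ≤ finrank F (perpK Q x) + k := by
  have h1 := LinearMap.finrank_range_add_finrank_ker
    (LinearMap.pi (fun i => polarBilin Q (x i)) : (ι → F) →ₗ[F] (Fin k → F))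
  have h2 : finrank F (LinearMap.range
      (LinearMap.pi (fun i => polarBilin Q (x i)) : (ι → F) →ₗ[F] (Fin k → F))) ≤ k := by
    have := Submodule.finrank_le (LinearMap.range
      (LinearMap.pi (fun i => polarBilin Q (x i)) : (ι → F) →ₗ[F] (Fin k → F)))
    rwa [Module.finrank_fin_fun] at this
  rw [Module.finrank_fintype_fun_eq_card] at h1
  unfold perpK
  omega

theorem exists_sing_perpK [Fintype F] {k : ℕ} (x : Fin k → (ι → F))
    (hk : k + 3 ≤ Fintype.card ι) :
    ∃ z : ι → F, z ≠ 0 ∧ Q z = 0 ∧ ∀ i, polar (⇑Q) (x i) z = 0 := by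
  have h1 := finrank_perpK (Q := Q) x
  have h3 : 3 ≤ finrank F (perpK Q x) := by omega
  obtain ⟨z, hz0, hz⟩ := Cfsg.Agent.Helper44.QF.exists_singular
    (Q.comp (perpK Q x).subtype) h3
  refine ⟨z.1, fun h => hz0 (Subtype.ext h), hz, mem_perpK.mp z.2⟩

end perp

section fixed

variable {F : Type*} [Field F] [Fintype F] {ι : Type} [Fintype ι] [DecidableEq ι]
  {Q : QuadraticForm F (ι → F)} {p : ℕ} [Fact p.Prime] [CharP F p]

local infixr:73 " ⋆ " => act _

omit [Fintype F] [Fintype ι] [DecidableEq ι] in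
theorem Q_sub_smul_sing {a u : ι → F} (hu : Q u = 0) (hau : polar (⇑Q) u a = 0) (c : F) :
    Q (a - c • u) = Q a := by
  have h1 : a - c • u = a + (-c) • u := by rw [neg_smul, sub_eq_add_neg]
  rw [h1, QuadraticMap.map_add Q a ((-c) • u), QuadraticMap.map_smul, hu, polar_smul_right,
    polar_comm, hau]
  simp

/-- a `p`-subgroup of `Ω` fixes a non-zero singular vector -/
theorem exists_fixed_singular (hn : 3 ≤ Fintype.card ι) (P : Subgroup ↥(Cfsg.Omega F ⇑Q))
    (hP : IsPGroup p P) : ∃ u : ι → F, u ≠ 0 ∧ Q u = 0 ∧ ∀ g ∈ P, g ⋆ u = u := by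
  let _ : MulAction P {x : ι → F // Q x = 0} :=
    { smul := fun g x => ⟨g.1 ⋆ x.1, by rw [Q_act]; exact x.2⟩
      one_smul := fun x => Subtype.ext (act_one x.1)
      mul_smul := fun g h x => Subtype.ext (act_mul g.1 h.1 x.1) }
  have hcard : p ∣ Nat.card {x : ι → F // Q x = 0} := by
    apply card_sing_dvd
    rw [Module.finrank_fintype_fun_eq_card]
    exact hn
  have h0 : (⟨0, map_zero Q⟩ : {x : ι → F // Q x = 0}) ∈
      MulAction.fixedPoints P {x : ι → F // Q x = 0} := by
    intro g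
    apply Subtype.ext
    exact act_zero g.1
  obtain ⟨b, hb, hb0⟩ := hP.exists_fixed_point_of_prime_dvd_card_of_fixed_point _ hcard h0
  refine ⟨b.1, fun h => hb0 (Subtype.ext h.symm), b.2, fun g hg => ?_⟩
  exact congrArg Subtype.val (hb ⟨g, hg⟩)

/-- second level: a fixed singular vector in `u^⊥ / u` -/
theorem exists_fixed_second (hn : 5 ≤ Fintype.card ι) (P : Subgroup ↥(Cfsg.Omega F ⇑Q))
    (hP : IsPGroup p P) {u v : ι → F} (hu : Q u = 0) (huv : polar (⇑Q) u v = 1)
    (hfix : ∀ g ∈ P, g ⋆ u = u) :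
    ∃ w : ι → F, w ≠ 0 ∧ Q w = 0 ∧ polar (⇑Q) u w = 0 ∧ polar (⇑Q) v w = 0 ∧
      ∀ g ∈ P, ∃ c : F, g ⋆ w = w + c • u := by
  have hvu : polar (⇑Q) v u = 1 := by rw [polar_comm, huv]
  have huu : polar (⇑Q) u u = 0 := polar_self_of_sing Q u hu
  let S := {w : ι → F // polar (⇑Q) u w = 0 ∧ polar (⇑Q) v w = 0 ∧ Q w = 0}
  have key : ∀ (g : ↥(Cfsg.Omega F ⇑Q)), g ⋆ u = u → ∀ w : ι → F, polar (⇑Q) u w = 0 →
      polar (⇑Q) u (g ⋆ w - polar (⇑Q) v (g ⋆ w) • u) = 0 ∧
      polar (⇑Q) v (g ⋆ w - polar (⇑Q) v (g ⋆ w) • u) = 0 ∧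
      Q (g ⋆ w - polar (⇑Q) v (g ⋆ w) • u) = Q w := by
    intro g hg w hw
    have h1 : polar (⇑Q) u (g ⋆ w) = 0 := by
      conv_lhs => rw [← hg]
      rw [polar_act, hw]
    refine ⟨?_, ?_, ?_⟩
    · rw [polar_sub_right, polar_smul_right, h1, huu, smul_zero, sub_zero]
    · rw [polar_sub_right, polar_smul_right, hvu, smul_eq_mul, mul_one, sub_self]
    · rw [Q_sub_smul_sing hu h1, Q_act]
  let _ : MulAction P S :=
    { smul := fun g w => ⟨g.1 ⋆ w.1 - polar (⇑Q) v (g.1 ⋆ w.1) • u,
        (key g.1 (hfix g.1 g.2) w.1 w.2.1).1, (key g.1 (hfix g.1 g.2) w.1 w.2.1).2.1,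
        by rw [(key g.1 (hfix g.1 g.2) w.1 w.2.1).2.2]; exact w.2.2.2⟩
      one_smul := by
        intro w
        apply Subtype.ext
        show (1 : ↥(Cfsg.Omega F ⇑Q)) ⋆ w.1 - polar (⇑Q) v ((1 : ↥(Cfsg.Omega F ⇑Q)) ⋆ w.1) • u
          = w.1
        rw [act_one, w.2.2.1, zero_smul, sub_zero]
      mul_smul := by
        intro g h w
        apply Subtype.ext
        show (g.1 * h.1) ⋆ w.1 - polar (⇑Q) v ((g.1 * h.1) ⋆ w.1) • u
          = g.1 ⋆ (h.1 ⋆ w.1 - polar (⇑Q) v (h.1 ⋆ w.1) • u)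
            - polar (⇑Q) v (g.1 ⋆ (h.1 ⋆ w.1 - polar (⇑Q) v (h.1 ⋆ w.1) • u)) • u
        rw [act_mul, act_sub, act_smul, hfix g.1 g.2, polar_sub_right,
          polar_smul_right, hvu]
        simp only [smul_eq_mul, mul_one]
        module }
  have hcard : p ∣ Nat.card S := by
    have h1 := finrank_perpK (Q := Q) ![u, v]
    have h3 : 3 ≤ finrank F (perpK Q ![u, v]) := by omega
    have h4 := card_sing_dvd (p := p) (Q.comp (perpK Q ![u, v]).subtype) h3
    have h5 : Nat.card S
        = Nat.card {y : ↥(perpK Q ![u, v]) // (Q.comp (perpK Q ![u, v]).subtype) y = 0} := by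
      apply Nat.card_congr
      refine ⟨fun w => ⟨⟨w.1, ?_⟩, w.2.2.2⟩, fun y => ⟨y.1.1, ?_, ?_, y.2⟩, ?_, ?_⟩
      · rw [mem_perpK]
        intro i
        fin_cases i
        · exact w.2.1
        · exact w.2.2.1
      · exact (mem_perpK.mp y.1.2) 0
      · exact (mem_perpK.mp y.1.2) 1
      · intro w; rfl
      · intro y; rfl
    rw [h5]
    exact h4
  have h0 : (⟨0, polar_zero_right _ _, polar_zero_right _ _, map_zero Q⟩ : S) ∈
      MulAction.fixedPoints P S := by
    intro g
    apply Subtype.ext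
    show g.1 ⋆ (0 : ι → F) - polar (⇑Q) v (g.1 ⋆ (0 : ι → F)) • u = 0
    rw [act_zero, polar_zero_right, zero_smul, sub_zero]
  obtain ⟨b, hb, hb0⟩ := hP.exists_fixed_point_of_prime_dvd_card_of_fixed_point _ hcard h0
  refine ⟨b.1, fun h => hb0 (Subtype.ext h.symm), b.2.2.2, b.2.1, b.2.2.1, fun g hg => ?_⟩
  have h1 : g ⋆ b.1 - polar (⇑Q) v (g ⋆ b.1) • u = b.1 := congrArg Subtype.val (hb ⟨g, hg⟩)
  exact ⟨polar (⇑Q) v (g ⋆ b.1), sub_eq_iff_eq_add.mp h1⟩

end fixed

end Cfsg.Agent.Helper5.OAut
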