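import Mathlib
import Cfsg.Agent.Lib.Helper5.OAut2

set_option autoImplicit false
set_option linter.unusedSectionVars false

/-!
# The subgroups `Qrad u`, `X a b`, `Rl u w` of `Ω(Q)`
-/

namespace Cfsg.Agent.Helper5.OAut

open Matrix QuadraticMap Cfsg.Agent.Helper13 Cfsg.Agent.Helper43 Module

variable {F : Type*} [Field F] {ι : Type} [Fintype ι] [DecidableEq ι]
  (Q : QuadraticForm F (ι → F))

local infixr:73 " ⋆ " => act _

/-- the unipotent radical of the stabiliser of the singular point `u` -/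
def Qrad (u : ι → F) : Subgroup ↥(Cfsg.Omega F ⇑Q) :=
  Subgroup.closure {g | ∃ w, polar (⇑Q) u w = 0 ∧ g = E Q u w}

/-- the long root group attached to the totally singular pair `a, b` -/
def X (a b : ι → F) : Subgroup ↥(Cfsg.Omega F ⇑Q) :=
  Subgroup.closure {g | ∃ c : F, g = E Q a (c • b)}

/-- the unipotent radical of the stabiliser of the line `⟨u, w⟩` -/
def Rl (u w : ι → F) : Subgroup ↥(Cfsg.Omega F ⇑Q) where
  carrier := {g | g ⋆ u = u ∧ g ⋆ w = w ∧ ∀ x, polar (⇑Q) u x = 0 → polar (⇑Q) w x = 0 →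
    ∃ α β : F, g ⋆ x = x + α • u + β • w}
  one_mem' := ⟨act_one u, act_one w, fun x _ _ => ⟨0, 0, by rw [act_one]; simp⟩⟩
  mul_mem' := by
    rintro g h ⟨hg1, hg2, hg3⟩ ⟨hh1, hh2, hh3⟩
    refine ⟨by rw [act_mul, hh1, hg1], by rw [act_mul, hh2, hg2], fun x hx1 hx2 => ?_⟩
    obtain ⟨α, β, h1⟩ := hh3 x hx1 hx2
    obtain ⟨α', β', h2⟩ := hg3 x hx1 hx2
    refine ⟨α + α', β + β', ?_⟩
    rw [act_mul, h1, act_add, act_add, act_smul, act_smul, hg1, hg2, h2]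
    module
  inv_mem' := by
    rintro g ⟨hg1, hg2, hg3⟩
    have h1 : g⁻¹ ⋆ u = u := by rw [act_inv_eq_iff, hg1]
    have h2 : g⁻¹ ⋆ w = w := by rw [act_inv_eq_iff, hg2]
    refine ⟨h1, h2, fun x hx1 hx2 => ?_⟩
    obtain ⟨α, β, h3⟩ := hg3 x hx1 hx2
    refine ⟨-α, -β, ?_⟩
    rw [act_inv_eq_iff, act_add, act_add, act_smul, act_smul, hg1, hg2, h3]
    module

variable {Q}

theorem mem_Rl {u w : ι → F} {g : ↥(Cfsg.Omega F ⇑Q)} :
    g ∈ Rl Q u w ↔ g ⋆ u = u ∧ g ⋆ w = w ∧ ∀ x, polar (⇑Q) u x = 0 → polar (⇑Q) w x = 0 →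
      ∃ α β : F, g ⋆ x = x + α • u + β • w := Iff.rfl

theorem mem_Qrad (C : Ctx Q) {u : ι → F} (hu : Q u = 0) {g : ↥(Cfsg.Omega F ⇑Q)} :
    g ∈ Qrad Q u ↔ ∃ w, polar (⇑Q) u w = 0 ∧ g = E Q u w := by
  constructor
  · intro hg
    unfold Qrad at hg
    induction hg using Subgroup.closure_induction with
    | mem s hs => exact hs
    | one => exact ⟨0, polar_zero_right _ _, (E_zero C hu).symm⟩
    | mul a b _ _ ha hb =>
      obtain ⟨w, hw, rfl⟩ := ha
      obtain ⟨w', hw', rfl⟩ := hb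
      exact ⟨w + w', by rw [polar_add_right, hw, hw', add_zero], E_mul C hu hw hw'⟩
    | inv a _ ha =>
      obtain ⟨w, hw, rfl⟩ := ha
      exact ⟨-w, by rw [polar_neg_right, hw, neg_zero], E_inv C hu hw⟩
  · intro h
    exact Subgroup.subset_closure h

theorem E_mem_Qrad {u w : ι → F} (huw : polar (⇑Q) u w = 0) : E Q u w ∈ Qrad Q u :=
  Subgroup.subset_closure ⟨w, huw, rfl⟩

theorem mem_X (C : Ctx Q) {a b : ι → F} (ha : Q a = 0) (hab : polar (⇑Q) a b = 0)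
    {g : ↥(Cfsg.Omega F ⇑Q)} : g ∈ X Q a b ↔ ∃ c : F, g = E Q a (c • b) := by
  have hc : ∀ c : F, polar (⇑Q) a (c • b) = 0 := fun c => by
    rw [polar_smul_right, hab, smul_zero]
  constructor
  · intro hg
    unfold X at hg
    induction hg using Subgroup.closure_induction with
    | mem s hs => exact hs
    | one => exact ⟨0, by rw [zero_smul, E_zero C ha]⟩
    | mul x y _ _ hx hy =>
      obtain ⟨c, rfl⟩ := hx
      obtain ⟨c', rfl⟩ := hy
      exact ⟨c + c', by rw [E_mul C ha (hc c) (hc c'), add_smul]⟩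
    | inv x _ hx =>
      obtain ⟨c, rfl⟩ := hx
      exact ⟨-c, by rw [E_inv C ha (hc c), neg_smul]⟩
  · intro h
    exact Subgroup.subset_closure h

theorem E_mem_X (a b : ι → F) (c : F) : E Q a (c • b) ∈ X Q a b :=
  Subgroup.subset_closure ⟨c, rfl⟩

theorem X_le_Qrad (C : Ctx Q) {a b : ι → F} (ha : Q a = 0) (hab : polar (⇑Q) a b = 0) :
    X Q a b ≤ Qrad Q a := by
  intro g hg
  obtain ⟨c, rfl⟩ := (mem_X C ha hab).mp hg
  exact E_mem_Qrad (by rw [polar_smul_right, hab, smul_zero])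

/-- Eichler elements in `Rl` -/
theorem E_mem_Rl_right (C : Ctx Q) {u w t : ι → F} (hu : Q u = 0) (hw : Q w = 0)
    (huw : polar (⇑Q) u w = 0) (hut : polar (⇑Q) u t = 0) (hwt : polar (⇑Q) w t = 0) :
    E Q w t ∈ Rl Q u w := by
  have hwu : polar (⇑Q) w u = 0 := by rw [polar_comm, huw]
  have hww : polar (⇑Q) w w = 0 := polar_self_of_sing Q w hw
  have htu : polar (⇑Q) t u = 0 := by rw [polar_comm, hut]
  have htw : polar (⇑Q) t w = 0 := by rw [polar_comm, hwt]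
  refine ⟨?_, ?_, fun x hx1 hx2 => ?_⟩
  · rw [E_act C hw hwt, hwu, htu]; simp
  · rw [E_act C hw hwt, hww, htw]; simp
  · refine ⟨0, -polar (⇑Q) t x, ?_⟩
    rw [E_act C hw hwt, hx2]
    simp [sub_eq_add_neg]

theorem E_mem_Rl_left (C : Ctx Q) {u w t : ι → F} (hu : Q u = 0) (hw : Q w = 0)
    (huw : polar (⇑Q) u w = 0) (hut : polar (⇑Q) u t = 0) (hwt : polar (⇑Q) w t = 0) :
    E Q u t ∈ Rl Q u w := by
  have huu : polar (⇑Q) u u = 0 := polar_self_of_sing Q u hu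
  have htu : polar (⇑Q) t u = 0 := by rw [polar_comm, hut]
  have htw : polar (⇑Q) t w = 0 := by rw [polar_comm, hwt]
  refine ⟨?_, ?_, fun x hx1 hx2 => ?_⟩
  · rw [E_act C hu hut, huu, htu]; simp
  · rw [E_act C hu hut, huw, htw]; simp
  · refine ⟨-polar (⇑Q) t x, 0, ?_⟩
    rw [E_act C hu hut, hx1]
    simp [sub_eq_add_neg]

/-- elements stabilising the flag `u ⊂ ⟨u, w⟩` normalise `Rl u w` -/
theorem conj_mem_Rl {u w : ι → F} {h g : ↥(Cfsg.Omega F ⇑Q)} (hu : h ⋆ u = u) {c : F}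
    (hw : h ⋆ w = w + c • u) (hg : g ∈ Rl Q u w) : h * g * h⁻¹ ∈ Rl Q u w := by
  obtain ⟨hg1, hg2, hg3⟩ := hg
  have h1 : h⁻¹ ⋆ u = u := by rw [act_inv_eq_iff, hu]
  have h2 : h⁻¹ ⋆ w = w - c • u := by
    rw [act_inv_eq_iff, act_sub, act_smul, hu, hw]; module
  refine ⟨?_, ?_, fun x hx1 hx2 => ?_⟩
  · rw [act_mul, act_mul, h1, hg1, hu]
  · rw [act_mul, act_mul, h2, act_sub, act_smul, hg1, hg2, act_sub, act_smul, hu, hw]; module
  · have hy1 : polar (⇑Q) u (h⁻¹ ⋆ x) = 0 := by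
      rw [polar_comm, polar_act_inv, hu, polar_comm, hx1]
    have hy2 : polar (⇑Q) w (h⁻¹ ⋆ x) = 0 := by
      rw [polar_comm, polar_act_inv, hw, polar_add_right, polar_smul_right, polar_comm, hx2,
        polar_comm, hx1]
      simp
    obtain ⟨α, β, h3⟩ := hg3 _ hy1 hy2
    refine ⟨α + β * c, β, ?_⟩
    rw [act_mul, act_mul, h3, act_add, act_add, act_act_inv, act_smul, act_smul, hu, hw]
    module

end Cfsg.Agent.Helper5.OAut
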