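import Mathlib
import Cfsg.Agent.Lib.Helper5.OAut3

set_option autoImplicit false
set_option linter.unusedSectionVars false
set_option linter.unusedVariables false

/-!
# Geometry helpers and the characterisation of `Qrad u`
-/

namespace Cfsg.Agent.Helper5.OAut

open Matrix QuadraticMap Cfsg.Agent.Helper13 Cfsg.Agent.Helper43 Module

variable {F : Type*} [Field F] {ι : Type} [Fintype ι] [DecidableEq ι]
  {Q : QuadraticForm F (ι → F)}

local infixr:73 " ⋆ " => act _

theorem eq_zero_of_forall_polar (C : Ctx Q) {x : ι → F} (h : ∀ z, polar (⇑Q) x z = 0) : x = 0 :=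
  C.hQ.1 x h

theorem exists_partner (C : Ctx Q) {u : ι → F} (hu0 : u ≠ 0) (hu : Q u = 0) :
    ∃ v, Q v = 0 ∧ polar (⇑Q) u v = 1 := by
  have h1 : ∃ z, polar (⇑Q) u z ≠ 0 := by
    by_contra hcon
    push Not at hcon
    exact hu0 (eq_zero_of_forall_polar C hcon)
  obtain ⟨z, hz⟩ := h1
  set z0 := (polar (⇑Q) u z)⁻¹ • z with hz0
  have h2 : polar (⇑Q) u z0 = 1 := by
    rw [hz0, polar_smul_right, smul_eq_mul, inv_mul_cancel₀ hz]
  obtain ⟨h3, h4⟩ := singularize Q u z0 hu h2
  refine ⟨_, h3, ?_⟩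
  rw [h4, h2, polar_self_of_sing Q u hu, mul_zero, sub_zero]

/-- the double-perp criterion -/
theorem mem_span_pair_of_perp (C : Ctx Q) {a b : ι → F} (hli : LinearIndependent F ![a, b])
    {y : ι → F} (h : ∀ t, polar (⇑Q) a t = 0 → polar (⇑Q) b t = 0 → polar (⇑Q) y t = 0) :
    ∃ α β : F, y = α • a + β • b := by
  obtain ⟨z0, hz0⟩ := polar_prescribe Q C.hQ ![a, b] hli ![1, 0]
  obtain ⟨z1, hz1⟩ := polar_prescribe Q C.hQ ![a, b] hli ![0, 1]
  have h0a : polar (⇑Q) a z0 = 1 := hz0 0
  have h0b : polar (⇑Q) b z0 = 0 := hz0 1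
  have h1a : polar (⇑Q) a z1 = 0 := hz1 0
  have h1b : polar (⇑Q) b z1 = 1 := hz1 1
  refine ⟨polar (⇑Q) y z0, polar (⇑Q) y z1, ?_⟩
  have key : ∀ z, polar (⇑Q) (y - (polar (⇑Q) y z0 • a + polar (⇑Q) y z1 • b)) z = 0 := by
    intro z
    set z' := z - polar (⇑Q) a z • z0 - polar (⇑Q) b z • z1 with hz'
    have h1 : polar (⇑Q) a z' = 0 := by
      rw [hz', polar_sub_right, polar_sub_right, polar_smul_right, polar_smul_right, h0a, h1a]
      simp
    have h2 : polar (⇑Q) b z' = 0 := by
      rw [hz', polar_sub_right, polar_sub_right, polar_smul_right, polar_smul_right, h0b, h1b]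
      simp
    have h3 := h z' h1 h2
    rw [hz', polar_sub_right, polar_sub_right, polar_smul_right, polar_smul_right] at h3
    rw [polar_sub_left, polar_add_left, polar_smul_left, polar_smul_left]
    simp only [smul_eq_mul] at h3 ⊢
    linear_combination h3
  have := eq_zero_of_forall_polar C key
  exact sub_eq_zero.mp this

/-- a vector outside the span of a linearly independent pair, perpendicular to both -/
theorem exists_perp_not_mem (C : Ctx Q) {a b : ι → F} (hli : LinearIndependent F ![a, b]) :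
    ∃ t, polar (⇑Q) a t = 0 ∧ polar (⇑Q) b t = 0 ∧ ∀ α β : F, t ≠ α • a + β • b := by
  by_contra hcon
  push Not at hcon
  -- every vector perpendicular to a, b lies in the span: then the perp has dimension ≤ 2
  have h1 := finrank_perpK (Q := Q) ![a, b]
  have h2 : perpK Q ![a, b] ≤ Submodule.span F {a, b} := by
    intro t ht
    rw [mem_perpK] at ht
    obtain ⟨α, β, h⟩ := hcon t (ht 0) (ht 1)
    rw [Submodule.mem_span_pair]
    exact ⟨α, β, h.symm⟩
  have h3 := Submodule.finrank_mono h2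
  have h4 : finrank F (Submodule.span F {a, b}) ≤ 2 := by
    classical
    have := finrank_span_finset_le_card (R := F) ({a, b} : Finset (ι → F))
    rw [Finset.coe_insert, Finset.coe_singleton] at this
    exact this.trans Finset.card_le_two
  have := C.hn
  omega

/-- two isometries agreeing on `u`, `v` and on `{u, v}^⊥` are equal -/
theorem ext_of_agree {u v : ι → F} (hu : Q u = 0) (hv : Q v = 0)
    (huv : polar (⇑Q) u v = 1) {g h : ↥(Cfsg.Omega F ⇑Q)} (h1 : g ⋆ u = h ⋆ u)
    (h2 : g ⋆ v = h ⋆ v)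
    (h3 : ∀ x, polar (⇑Q) u x = 0 → polar (⇑Q) v x = 0 → g ⋆ x = h ⋆ x) : g = h := by
  have huu : polar (⇑Q) u u = 0 := polar_self_of_sing Q u hu
  have hvv : polar (⇑Q) v v = 0 := polar_self_of_sing Q v hv
  have hvu : polar (⇑Q) v u = 1 := by rw [polar_comm, huv]
  apply Om_ext
  intro x
  set x0 := x - polar (⇑Q) v x • u - polar (⇑Q) u x • v with hx0
  have e1 : polar (⇑Q) u x0 = 0 := by
    rw [hx0, polar_sub_right, polar_sub_right, polar_smul_right, polar_smul_right, huu, huv]
    simp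
  have e2 : polar (⇑Q) v x0 = 0 := by
    rw [hx0, polar_sub_right, polar_sub_right, polar_smul_right, polar_smul_right, hvu, hvv]
    simp
  have hx : x = x0 + polar (⇑Q) v x • u + polar (⇑Q) u x • v := by rw [hx0]; abel
  rw [hx, act_add, act_add, act_smul, act_smul, act_add, act_add, act_smul, act_smul, h1, h2,
    h3 x0 e1 e2]

theorem E_eq_imp (C : Ctx Q) {u t1 t2 : ι → F} (hu0 : u ≠ 0) (hu : Q u = 0)
    (h1 : polar (⇑Q) u t1 = 0) (h2 : polar (⇑Q) u t2 = 0) (h : E Q u t1 = E Q u t2) :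
    ∃ c : F, t1 = t2 + c • u := by
  obtain ⟨v, hv, huv⟩ := exists_partner C hu0 hu
  have h3 := congrArg (fun g => g ⋆ v) h
  simp only [E_act C hu h1, E_act C hu h2, huv] at h3
  refine ⟨(polar (⇑Q) t1 v + Q t1) - (polar (⇑Q) t2 v + Q t2), ?_⟩
  have h4 : t1 - t2 - ((polar (⇑Q) t1 v + Q t1) - (polar (⇑Q) t2 v + Q t2)) • u = 0 := by
    have h5 : t1 - t2 - ((polar (⇑Q) t1 v + Q t1) - (polar (⇑Q) t2 v + Q t2)) • u
        = (v + (1 : F) • t1 - polar (⇑Q) t1 v • u - (Q t1 * 1) • u)
          - (v + (1 : F) • t2 - polar (⇑Q) t2 v • u - (Q t2 * 1) • u) := by module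
    rw [h5, h3, sub_self]
  rw [sub_sub, sub_eq_zero] at h4
  exact h4

/-- an element of `Ω` fixing `u` and acting trivially on `u^⊥ / u` lies in `Qrad u` -/
theorem mem_Qrad_of_trivial (C : Ctx Q) {u : ι → F} (hu0 : u ≠ 0) (hu : Q u = 0)
    {z : ↥(Cfsg.Omega F ⇑Q)} (hzu : z ⋆ u = u)
    (hz : ∀ t, polar (⇑Q) u t = 0 → ∃ c : F, z ⋆ t = t + c • u) : z ∈ Qrad Q u := by
  obtain ⟨v, hv, huv⟩ := exists_partner C hu0 hu
  have huu : polar (⇑Q) u u = 0 := polar_self_of_sing Q u hu
  have hvv : polar (⇑Q) v v = 0 := polar_self_of_sing Q v hv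
  have hvu : polar (⇑Q) v u = 1 := by rw [polar_comm, huv]
  set y := z ⋆ v - v with hy
  have hzv : z ⋆ v = v + y := by rw [hy]; abel
  have huy : polar (⇑Q) u y = 0 := by
    have h1 : polar (⇑Q) u (z ⋆ v) = 1 := by
      conv_lhs => rw [← hzu]
      rw [polar_act, huv]
    rw [hy, polar_sub_right, h1, huv, sub_self]
  have hQy : Q y + polar (⇑Q) v y = 0 := by
    have h1 : Q (z ⋆ v) = 0 := by rw [Q_act, hv]
    rw [hzv, QuadraticMap.map_add Q v y, hv] at h1
    linear_combination h1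
  have key : z = E Q u y := by
    apply ext_of_agree hu hv huv
    · rw [hzu, E_act C hu huy, huu, polar_comm _ y u, huy]; simp
    · rw [hzv, E_act C hu huy, huv]
      have h2 : polar (⇑Q) y v = -Q y := by rw [polar_comm]; linear_combination hQy
      rw [h2]
      module
    · intro x hx1 hx2
      obtain ⟨c, hc⟩ := hz x hx1
      have h1 : polar (⇑Q) (z ⋆ x) (z ⋆ v) = 0 := by rw [polar_act, polar_comm, hx2]
      rw [hc, hzv, polar_add_left, polar_add_right, polar_add_right, polar_smul_left,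
        polar_smul_left, huv, huy, polar_comm _ x v, hx2] at h1
      simp only [smul_eq_mul, mul_one, mul_zero, add_zero, zero_add] at h1
      have hc' : c = -polar (⇑Q) y x := by rw [polar_comm _ y x]; linear_combination h1
      rw [hc, E_act C hu huy, hx1, hc']
      module
  rw [key]
  exact E_mem_Qrad huy

end Cfsg.Agent.Helper5.OAut
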