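import Mathlib
import Cfsg.Agent.Lib.Helper5.OAut4

set_option autoImplicit false
set_option linter.unusedSectionVars false
set_option linter.unusedVariables false

/-!
# Sylow `p`-subgroups of `Ω(Q)` in the defining characteristic: the centre is a long root group
-/

namespace Cfsg.Agent.Helper5.OAut

open Matrix QuadraticMap Cfsg.Agent.Helper13 Cfsg.Agent.Helper43 Module

variable {F : Type*} [Field F] {ι : Type} [Fintype ι] [DecidableEq ι]
  {Q : QuadraticForm F (ι → F)}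

local infixr:73 " ⋆ " => act _

theorem mat_ext_mv {A B : Matrix ι ι F} (h : ∀ v, A *ᵥ v = B *ᵥ v) : A = B := by
  apply Matrix.toLin'.injective
  apply LinearMap.ext
  intro v
  simp only [Matrix.toLin'_apply]
  exact h v

/-- the matrix of an element of `Ω` -/
def mat (g : ↥(Cfsg.Omega F ⇑Q)) : Matrix ι ι F :=
  (((g : ↥(Cfsg.isometryGroup F ⇑Q)) : GL ι F) : Matrix ι ι F)

theorem act_eq_mat (g : ↥(Cfsg.Omega F ⇑Q)) (x : ι → F) : g ⋆ x = mat g *ᵥ x := rfl

theorem act_pow_eq (g : ↥(Cfsg.Omega F ⇑Q)) (k : ℕ) (x : ι → F) :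
    (g ^ k) ⋆ x = (mat g) ^ k *ᵥ x := by
  induction k generalizing x with
  | zero => rw [pow_zero, pow_zero, act_one, Matrix.one_mulVec]
  | succ k ih => rw [pow_succ, pow_succ, act_mul, ih, act_eq_mat, Matrix.mulVec_mulVec]

theorem mem_normalizer_of_conj {G : Type*} [Group G] (h : G) (R : Subgroup G)
    (h1 : ∀ g ∈ R, h * g * h⁻¹ ∈ R) (h2 : ∀ g ∈ R, h⁻¹ * g * h ∈ R) :
    h ∈ Subgroup.normalizer (R : Set G) := by
  rw [Subgroup.mem_normalizer_iff]
  intro g
  constructor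
  · exact h1 g
  · intro hg
    have := h2 _ hg
    have e : h⁻¹ * (h * g * h⁻¹) * h = g := by group
    rwa [e] at this

section Finite

variable [Fintype F] {p : ℕ} [Fact p.Prime] [CharP F p]

theorem matrix_pow_eq_one [Nonempty ι] (M : Matrix ι ι F) (h : (M - 1) ^ 3 = 0) :
    M ^ (p ^ 2) = 1 := by
  have hp : 2 ≤ p := (Fact.out : p.Prime).two_le
  have h4 : 3 ≤ p ^ 2 := by nlinarith
  have h5 : (M - 1) ^ (p ^ 2) = 0 := by
    obtain ⟨k, hk⟩ := Nat.exists_eq_add_of_le h4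
    rw [hk, pow_add, h, zero_mul]
  calc M ^ (p ^ 2) = (1 + (M - 1)) ^ (p ^ 2) := by rw [add_sub_cancel]
    _ = 1 ^ (p ^ 2) + (M - 1) ^ (p ^ 2) :=
        add_pow_char_pow_of_commute p 2 (Commute.one_left _)
    _ = 1 := by rw [one_pow, h5, add_zero]

theorem Qrad_isPGroup (C : Ctx Q) {u : ι → F} (hu : Q u = 0) : IsPGroup p (Qrad Q u) := by
  intro g
  refine ⟨1, ?_⟩
  obtain ⟨w, hw, hg⟩ := (mem_Qrad C hu).mp g.2
  apply Subtype.ext
  rw [Subgroup.coe_pow, pow_one, hg, E_pow C hu hw, Subgroup.coe_one]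
  have h1 : (p • w : ι → F) = 0 := by
    rw [← Nat.cast_smul_eq_nsmul F, CharP.cast_eq_zero, zero_smul]
  rw [h1, E_zero C hu]

theorem Rl_isPGroup (C : Ctx Q) (u w : ι → F) : IsPGroup p (Rl Q u w) := by
  have : Nonempty ι := by
    have := C.hn
    exact Fintype.card_pos_iff.mp (by omega)
  intro g
  refine ⟨2, ?_⟩
  obtain ⟨hg1, hg2, hg3⟩ := g.2
  have hgi1 : g.1⁻¹ ⋆ u = u := by rw [act_inv_eq_iff, hg1]
  have hgi2 : g.1⁻¹ ⋆ w = w := by rw [act_inv_eq_iff, hg2]
  have hN : ∀ x, (mat g.1 - 1) *ᵥ x = g.1 ⋆ x - x := by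
    intro x
    rw [Matrix.sub_mulVec, Matrix.one_mulVec]
    rfl
  have h1 : ∀ x, polar (⇑Q) u (g.1 ⋆ x - x) = 0 := by
    intro x
    rw [polar_sub_right, ← polar_act_inv g.1 u x, hgi1, sub_self]
  have h2 : ∀ x, polar (⇑Q) w (g.1 ⋆ x - x) = 0 := by
    intro x
    rw [polar_sub_right, ← polar_act_inv g.1 w x, hgi2, sub_self]
  have hcube : (mat g.1 - 1) ^ 3 = 0 := by
    apply mat_ext_mv
    intro x
    have e1 : (mat g.1 - 1) *ᵥ x = g.1 ⋆ x - x := hN x
    obtain ⟨α, β, h3⟩ := hg3 _ (h1 x) (h2 x)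
    have e2 : (mat g.1 - 1) *ᵥ (g.1 ⋆ x - x) = α • u + β • w := by rw [hN, h3]; abel
    have e3 : (mat g.1 - 1) *ᵥ (α • u + β • w) = 0 := by
      rw [hN, act_add, act_smul, act_smul, hg1, hg2, sub_self]
    rw [pow_succ, pow_two, ← Matrix.mulVec_mulVec, ← Matrix.mulVec_mulVec, e1, e2, e3,
      Matrix.zero_mulVec]
  have hpow := matrix_pow_eq_one (p := p) (mat g.1) hcube
  apply Subtype.ext
  rw [Subgroup.coe_pow, Subgroup.coe_one]
  apply Om_ext
  intro x
  rw [act_pow_eq, hpow, Matrix.one_mulVec, act_one]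

/-- a normalised `p`-subgroup lies in the Sylow subgroup -/
theorem le_sylow_of_normalizes {G : Type*} [Group G] (P : Sylow p G) (R : Subgroup G)
    (hR : IsPGroup p R) (hN : (P : Subgroup G) ≤ Subgroup.normalizer (R : Set G)) :
    R ≤ P := by
  have h1 : IsPGroup p ((P : Subgroup G) ⊔ R : Subgroup G) :=
    IsPGroup.to_sup_of_normal_right' P.2 hR hN
  have h2 := P.is_maximal' h1 le_sup_left
  calc R ≤ (P : Subgroup G) ⊔ R := le_sup_right
    _ = P := h2

theorem Qrad_le_sylow (C : Ctx Q) {u : ι → F} (hu : Q u = 0)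
    (P : Sylow p ↥(Cfsg.Omega F ⇑Q)) (hP : ∀ g ∈ P, g ⋆ u = u) : Qrad Q u ≤ P := by
  apply le_sylow_of_normalizes P _ (Qrad_isPGroup C hu)
  intro h hh
  have key : ∀ k : ↥(Cfsg.Omega F ⇑Q), k ⋆ u = u → ∀ g ∈ Qrad Q u, k * g * k⁻¹ ∈ Qrad Q u := by
    intro k hk g hg
    obtain ⟨w, hw, rfl⟩ := (mem_Qrad C hu).mp hg
    rw [E_conj C k hu hw, hk]
    apply E_mem_Qrad
    conv_lhs => rw [← hk]
    rw [polar_act, hw]
  apply mem_normalizer_of_conj
  · exact key h (hP h hh)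
  · intro g hg
    have := key h⁻¹ (by rw [act_inv_eq_iff, hP h hh]) g hg
    rwa [inv_inv] at this

theorem Rl_le_sylow (C : Ctx Q) {u w : ι → F}
    (P : Sylow p ↥(Cfsg.Omega F ⇑Q)) (hP : ∀ g ∈ P, g ⋆ u = u)
    (hP2 : ∀ g ∈ P, ∃ c : F, g ⋆ w = w + c • u) : Rl Q u w ≤ P := by
  apply le_sylow_of_normalizes P _ (Rl_isPGroup C u w)
  intro h hh
  obtain ⟨c, hc⟩ := hP2 h hh
  have hu := hP h hh
  apply mem_normalizer_of_conj
  · intro g hg
    exact conj_mem_Rl hu hc hg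
  · intro g hg
    have h1 : h⁻¹ ⋆ u = u := by rw [act_inv_eq_iff, hu]
    have h2 : h⁻¹ ⋆ w = w + (-c) • u := by
      rw [act_inv_eq_iff, act_add, act_smul, hu, hc]; module
    have := conj_mem_Rl h1 h2 hg
    rwa [inv_inv] at this

/-- the centre of a subgroup, as a subgroup of the ambient group -/
def ZP {G : Type*} [Group G] (P : Subgroup G) : Subgroup G :=
  P ⊓ Subgroup.centralizer (P : Set G)

theorem mem_ZP {G : Type*} [Group G] {P : Subgroup G} {z : G} :
    z ∈ ZP P ↔ z ∈ P ∧ ∀ u ∈ P, u * z = z * u := by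
  unfold ZP
  rw [Subgroup.mem_inf, Subgroup.mem_centralizer_iff]
  rfl

/-- **the centre of a Sylow `p`-subgroup is a long root group** -/
theorem ZP_sylow (C : Ctx Q) {u w : ι → F} (hu0 : u ≠ 0) (hu : Q u = 0) (hw : Q w = 0)
    (huw : polar (⇑Q) u w = 0) (hli : LinearIndependent F ![u, w])
    (P : Sylow p ↥(Cfsg.Omega F ⇑Q)) (hP : ∀ g ∈ P, g ⋆ u = u)
    (hP2 : ∀ g ∈ P, ∃ c : F, g ⋆ w = w + c • u) :
    ZP (P : Subgroup ↥(Cfsg.Omega F ⇑Q)) = X Q u w := by
  have hQP := Qrad_le_sylow C hu P hP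
  have hRP := Rl_le_sylow C P hP hP2
  apply le_antisymm
  · intro z hz
    rw [mem_ZP] at hz
    obtain ⟨hzP, hzc⟩ := hz
    have hzu := hP z hzP
    -- z acts trivially on u^⊥ / u
    have h1 : ∀ t, polar (⇑Q) u t = 0 → ∃ c : F, z ⋆ t = t + c • u := by
      intro t ht
      have h2 := hzc _ (hQP (E_mem_Qrad ht))
      have h3 : z * E Q u t * z⁻¹ = E Q u t := by
        rw [← h2, mul_inv_cancel_right]
      rw [E_conj C z hu ht, hzu] at h3
      have h4 : polar (⇑Q) u (z ⋆ t) = 0 := by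
        conv_lhs => rw [← hzu]
        rw [polar_act, ht]
      exact E_eq_imp C hu0 hu h4 ht h3
    obtain ⟨y, hy, rfl⟩ := (mem_Qrad C hu).mp (mem_Qrad_of_trivial C hu0 hu hzu h1)
    -- commute with E w t
    have h5 : ∀ t, polar (⇑Q) u t = 0 → polar (⇑Q) w t = 0 →
        ∃ c : F, E Q w t ⋆ y = y + c • u := by
      intro t htu htw
      have hmem := hRP (E_mem_Rl_right C hu hw huw htu htw)
      have h2 := hzc _ hmem
      have h3 : E Q w t * E Q u y * (E Q w t)⁻¹ = E Q u y := by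
        rw [h2, mul_inv_cancel_right]
      have hfix : E Q w t ⋆ u = u := (E_mem_Rl_right C hu hw huw htu htw).1
      rw [E_conj C _ hu hy, hfix] at h3
      have h4 : polar (⇑Q) u (E Q w t ⋆ y) = 0 := by
        conv_lhs => rw [← hfix]
        rw [polar_act, hy]
      exact E_eq_imp C hu0 hu h4 hy h3
    -- first: polar w y = 0
    obtain ⟨t0, ht0u, ht0w, ht0⟩ := exists_perp_not_mem C hli
    have hwy : polar (⇑Q) w y = 0 := by
      obtain ⟨c, hc⟩ := h5 t0 ht0u ht0w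
      rw [E_act C hw ht0w] at hc
      by_contra hne
      apply ht0 ((polar (⇑Q) w y)⁻¹ * c) ((polar (⇑Q) w y)⁻¹ * (polar (⇑Q) t0 y + Q t0 * polar (⇑Q) w y))
      have h6 : polar (⇑Q) w y • t0 = c • u + (polar (⇑Q) t0 y + Q t0 * polar (⇑Q) w y) • w := by
        have h7 : polar (⇑Q) w y • t0 = (y + polar (⇑Q) w y • t0 - polar (⇑Q) t0 y • w
            - (Q t0 * polar (⇑Q) w y) • w) - y + (polar (⇑Q) t0 y + Q t0 * polar (⇑Q) w y) • w := by
          module
        rw [h7, hc]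
        module
      have h8 : t0 = (polar (⇑Q) w y)⁻¹ • (polar (⇑Q) w y • t0) := by
        rw [smul_smul, inv_mul_cancel₀ hne, one_smul]
      calc t0 = (polar (⇑Q) w y)⁻¹ • (polar (⇑Q) w y • t0) := h8
        _ = _ := by rw [h6, smul_add, smul_smul, smul_smul]
    -- then y ⊥ {u, w}^⊥
    have hyperp : ∀ t, polar (⇑Q) u t = 0 → polar (⇑Q) w t = 0 → polar (⇑Q) y t = 0 := by
      intro t htu htw
      obtain ⟨c, hc⟩ := h5 t htu htw
      rw [E_act C hw htw, hwy] at hc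
      simp only [zero_smul, add_zero, mul_zero, sub_zero] at hc
      -- y - polar t y • w = y + c • u
      have h6 : polar (⇑Q) t y • w + c • u = 0 := by
        have h7 : polar (⇑Q) t y • w + c • u = (y + c • u) - (y - polar (⇑Q) t y • w) := by module
        rw [h7, hc, sub_self]
      have h8 := (LinearIndependent.pair_iff.mp hli) c (polar (⇑Q) t y) (by rw [add_comm]; exact h6)
      rw [polar_comm, h8.2]
    obtain ⟨α, β, hαβ⟩ := mem_span_pair_of_perp C hli hyperp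
    have hβ : polar (⇑Q) u (β • w) = 0 := by rw [polar_smul_right, huw, smul_zero]
    have : E Q u y = E Q u (β • w) := by
      rw [hαβ, add_comm, E_add_smul C hu hβ]
    rw [this]
    exact E_mem_X u w β
  · intro g hg
    obtain ⟨c, rfl⟩ := (mem_X C hu huw).mp hg
    have hcw : polar (⇑Q) u (c • w) = 0 := by rw [polar_smul_right, huw, smul_zero]
    rw [mem_ZP]
    refine ⟨hQP (E_mem_Qrad hcw), fun k hk => ?_⟩
    have h1 : k * E Q u (c • w) * k⁻¹ = E Q u (c • w) := by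
      obtain ⟨d, hd⟩ := hP2 k hk
      rw [E_conj C k hu hcw, hP k hk, act_smul, hd, smul_add, smul_smul,
        E_add_smul C hu hcw]
    calc k * E Q u (c • w) = (k * E Q u (c • w) * k⁻¹) * k := by group
      _ = E Q u (c • w) * k := by rw [h1]

end Finite

end Cfsg.Agent.Helper5.OAut
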