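import Mathlib
import Cfsg.Agent.Lib.Helper5.OAut5

set_option autoImplicit false
set_option linter.unusedSectionVars false
set_option linter.unusedVariables false

/-!
# Every long root group is the centre of a Sylow subgroup, and conversely
-/

namespace Cfsg.Agent.Helper5.OAut

open Matrix QuadraticMap Cfsg.Agent.Helper13 Cfsg.Agent.Helper43 Module

variable {F : Type*} [Field F] {ι : Type} [Fintype ι] [DecidableEq ι]
  (Q : QuadraticForm F (ι → F))

local infixr:73 " ⋆ " => act _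

/-- `a, b` span a totally singular line -/
def TS (a b : ι → F) : Prop :=
  Q a = 0 ∧ Q b = 0 ∧ polar (⇑Q) a b = 0 ∧ LinearIndependent F ![a, b]

variable {Q}

theorem TS.ne_zero_left {a b : ι → F} (h : TS Q a b) : a ≠ 0 := h.2.2.2.ne_zero 0

theorem TS.ne_zero_right {a b : ι → F} (h : TS Q a b) : b ≠ 0 := h.2.2.2.ne_zero 1

theorem Q_comb {a b : ι → F} (h : TS Q a b) (α β : F) : Q (α • a + β • b) = 0 := by
  rw [QuadraticMap.map_add Q, QuadraticMap.map_smul, QuadraticMap.map_smul, h.1, h.2.1,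
    polar_smul_left, polar_smul_right, h.2.2.1]
  simp

theorem polar_comb {a b : ι → F} (h : TS Q a b) (α β γ δ : F) :
    polar (⇑Q) (α • a + β • b) (γ • a + δ • b) = 0 := by
  have haa : polar (⇑Q) a a = 0 := polar_self_of_sing Q a h.1
  have hbb : polar (⇑Q) b b = 0 := polar_self_of_sing Q b h.2.1
  have hba : polar (⇑Q) b a = 0 := by rw [polar_comm, h.2.2.1]
  simp only [polar_add_left, polar_add_right, polar_smul_left, polar_smul_right, haa, hbb, hba,
    h.2.2.1]
  simp

/-- the effect of a base change of the line on the root elements -/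
theorem E_comb (C : Ctx Q) {a b : ι → F} (h : TS Q a b) (α β γ δ c : F) :
    E Q (α • a + β • b) (c • (γ • a + δ • b)) = E Q a ((c * (α * δ - β * γ)) • b) := by
  have h1 : Q (α • a + β • b) = 0 := Q_comb h α β
  have h2 : polar (⇑Q) (α • a + β • b) (c • (γ • a + δ • b)) = 0 := by
    rw [polar_smul_right, polar_comb h, smul_zero]
  have h3 : polar (⇑Q) a ((c * (α * δ - β * γ)) • b) = 0 := by
    rw [polar_smul_right, h.2.2.1, smul_zero]
  apply Om_ext
  intro x
  rw [E_act C h1 h2, E_act C h.1 h3, QuadraticMap.map_smul, QuadraticMap.map_smul, h.2.1,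
    Q_comb h γ δ]
  simp only [polar_add_left, polar_smul_left, smul_eq_mul, mul_zero, zero_mul, zero_smul,
    sub_zero]
  module

theorem X_eq_of_span (C : Ctx Q) {a b u w : ι → F} (h : TS Q a b) (h' : TS Q u w)
    (hu : ∃ α β : F, u = α • a + β • b) (hw : ∃ γ δ : F, w = γ • a + δ • b) :
    X Q u w = X Q a b := by
  obtain ⟨α, β, rfl⟩ := hu
  obtain ⟨γ, δ, rfl⟩ := hw
  have hdet : α * δ - β * γ ≠ 0 := by
    intro h0
    have hli := LinearIndependent.pair_iff.mp h'.2.2.2
    have e1 : δ • (α • a + β • b) + (-β) • (γ • a + δ • b) = 0 := by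
      have : δ • (α • a + β • b) + (-β) • (γ • a + δ • b) = (α * δ - β * γ) • a := by module
      rw [this, h0, zero_smul]
    have e2 : γ • (α • a + β • b) + (-α) • (γ • a + δ • b) = 0 := by
      have : γ • (α • a + β • b) + (-α) • (γ • a + δ • b) = (-(α * δ - β * γ)) • b := by module
      rw [this, h0, neg_zero, zero_smul]
    have h1 := hli _ _ e1
    have h2 := hli _ _ e2
    have hβ : β = 0 := neg_eq_zero.mp h1.2
    have hα : α = 0 := neg_eq_zero.mp h2.2
    apply h'.ne_zero_left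
    rw [hα, hβ, zero_smul, zero_smul, add_zero]
  apply le_antisymm
  · intro g hg
    obtain ⟨c, rfl⟩ := (mem_X C h'.1 h'.2.2.1).mp hg
    rw [E_comb C h]
    exact E_mem_X a b _
  · intro g hg
    obtain ⟨c, rfl⟩ := (mem_X C h.1 h.2.2.1).mp hg
    have : c = (c * (α * δ - β * γ)⁻¹) * (α * δ - β * γ) := by
      rw [mul_assoc, inv_mul_cancel₀ hdet, mul_one]
    rw [this, ← E_comb C h α β γ δ]
    exact E_mem_X _ _ _

section Finite

variable [Fintype F] {p : ℕ} [Fact p.Prime] [CharP F p]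

/-- the flag data attached to a Sylow subgroup -/
theorem exists_flag (C : Ctx Q) (P : Sylow p ↥(Cfsg.Omega F ⇑Q)) :
    ∃ u w : ι → F, TS Q u w ∧ (∀ g ∈ P, g ⋆ u = u) ∧ (∀ g ∈ P, ∃ c : F, g ⋆ w = w + c • u) := by
  have hn := C.hn
  obtain ⟨u, hu0, hu, hfix⟩ := exists_fixed_singular (p := p) (by omega) P.1 P.2
  obtain ⟨v, hv, huv⟩ := exists_partner C hu0 hu
  obtain ⟨w, hw0, hw, huw, hvw, hfix2⟩ :=
    exists_fixed_second (p := p) (by omega) P.1 P.2 hu huv hfix
  refine ⟨u, w, ⟨hu, hw, huw, ?_⟩, hfix, hfix2⟩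
  rw [LinearIndependent.pair_iff]
  intro s t hst
  have h1 := congrArg (fun x => polar (⇑Q) v x) hst
  simp only [polar_add_right, polar_smul_right, hvw, polar_zero_right, smul_eq_mul, mul_zero,
    add_zero] at h1
  rw [polar_comm, huv, mul_one] at h1
  refine ⟨h1, ?_⟩
  rw [h1, zero_smul, zero_add] at hst
  rcases smul_eq_zero.mp hst with h | h
  · exact h
  · exact absurd h hw0

theorem ZP_of_flag (C : Ctx Q) (P : Sylow p ↥(Cfsg.Omega F ⇑Q)) {u w : ι → F}
    (h : TS Q u w) (h1 : ∀ g ∈ P, g ⋆ u = u) (h2 : ∀ g ∈ P, ∃ c : F, g ⋆ w = w + c • u) :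
    ZP (P : Subgroup ↥(Cfsg.Omega F ⇑Q)) = X Q u w :=
  ZP_sylow C h.ne_zero_left h.1 h.2.1 h.2.2.1 h.2.2.2 P h1 h2

/-- every long root group is the centre of a Sylow subgroup fixing a vector of the line -/
theorem exists_sylow_of_TS (C : Ctx Q) {a b : ι → F} (h : TS Q a b) :
    ∃ (P : Sylow p ↥(Cfsg.Omega F ⇑Q)) (u : ι → F), u ≠ 0 ∧ (∀ g ∈ P, g ⋆ u = u) ∧
      ZP (P : Subgroup ↥(Cfsg.Omega F ⇑Q)) = X Q a b := by
  obtain ⟨P, hP⟩ := (Rl_isPGroup (p := p) C a b).exists_le_sylow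
  obtain ⟨u, w, hts, hf1, hf2⟩ := exists_flag C P
  obtain ⟨t0, ht0a, ht0b, ht0⟩ := exists_perp_not_mem C h.2.2.2
  have hba : polar (⇑Q) b a = 0 := by rw [polar_comm, h.2.2.1]
  have hab' : TS Q b a := ⟨h.2.1, h.1, hba, by
    have := h.2.2.2
    rw [LinearIndependent.pair_iff] at this ⊢
    intro s t hst
    have := this t s (by rw [add_comm]; exact hst)
    exact ⟨this.2, this.1⟩⟩
  -- generic consequence of `E a t ⋆ y = y + c • u'` with `u'` in the span
  have key : ∀ (a' b' : ι → F), TS Q a' b' → (∀ α β : F, t0 ≠ α • a' + β • b') →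
      polar (⇑Q) a' t0 = 0 → ∀ (y : ι → F) (α β : F),
      E Q a' t0 ⋆ y = y + α • a' + β • b' → polar (⇑Q) a' y = 0 := by
    intro a' b' hts' hne hat y α β hy
    rw [E_act C hts'.1 hat] at hy
    by_contra hcon
    apply hne ((polar (⇑Q) a' y)⁻¹ * (α + polar (⇑Q) t0 y + Q t0 * polar (⇑Q) a' y))
      ((polar (⇑Q) a' y)⁻¹ * β)
    have h6 : polar (⇑Q) a' y • t0
        = (α + polar (⇑Q) t0 y + Q t0 * polar (⇑Q) a' y) • a' + β • b' := by
      have h7 : polar (⇑Q) a' y • t0 = (y + polar (⇑Q) a' y • t0 - polar (⇑Q) t0 y • a'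
          - (Q t0 * polar (⇑Q) a' y) • a') - y
          + (polar (⇑Q) t0 y + Q t0 * polar (⇑Q) a' y) • a' := by module
      rw [h7, hy]
      module
    calc t0 = (polar (⇑Q) a' y)⁻¹ • (polar (⇑Q) a' y • t0) := by
          rw [smul_smul, inv_mul_cancel₀ hcon, one_smul]
      _ = _ := by rw [h6, smul_add, smul_smul, smul_smul]
  have ht0' : ∀ α β : F, t0 ≠ α • b + β • a := by
    intro α β hh
    exact ht0 β α (by rw [hh, add_comm])
  have hmemA : ∀ t, polar (⇑Q) a t = 0 → polar (⇑Q) b t = 0 → E Q a t ∈ (P : Subgroup _) :=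
    fun t hta htb => hP (E_mem_Rl_left C h.1 h.2.1 h.2.2.1 hta htb)
  have hmemB : ∀ t, polar (⇑Q) a t = 0 → polar (⇑Q) b t = 0 → E Q b t ∈ (P : Subgroup _) :=
    fun t hta htb => hP (E_mem_Rl_right C h.1 h.2.1 h.2.2.1 hta htb)
  -- u lies in the span
  have hau : polar (⇑Q) a u = 0 :=
    key a b h ht0 ht0a u 0 0 (by rw [hf1 _ (hmemA t0 ht0a ht0b)]; simp)
  have hbu : polar (⇑Q) b u = 0 :=
    key b a hab' ht0' ht0b u 0 0 (by rw [hf1 _ (hmemB t0 ht0a ht0b)]; simp)
  have huperp : ∀ t, polar (⇑Q) a t = 0 → polar (⇑Q) b t = 0 → polar (⇑Q) u t = 0 := by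
    intro t hta htb
    have h1 := hf1 _ (hmemA t hta htb)
    rw [E_act C h.1 hta, hau] at h1
    simp only [zero_smul, add_zero, mul_zero, sub_zero] at h1
    have h2 : polar (⇑Q) t u • a = 0 := by
      have : polar (⇑Q) t u • a = u - (u - polar (⇑Q) t u • a) := by abel
      rw [this, h1, sub_self]
    rcases smul_eq_zero.mp h2 with h3 | h3
    · rw [polar_comm, h3]
    · exact absurd h3 h.ne_zero_left
  obtain ⟨α, β, huab⟩ := mem_span_pair_of_perp C h.2.2.2 huperp
  -- w lies in the span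
  have haw : polar (⇑Q) a w = 0 := by
    obtain ⟨c, hc⟩ := hf2 _ (hmemA t0 ht0a ht0b)
    apply key a b h ht0 ht0a w (c * α) (c * β)
    rw [hc, huab]
    module
  have hbw : polar (⇑Q) b w = 0 := by
    obtain ⟨c, hc⟩ := hf2 _ (hmemB t0 ht0a ht0b)
    apply key b a hab' ht0' ht0b w (c * β) (c * α)
    rw [hc, huab]
    module
  have hwperp : ∀ t, polar (⇑Q) a t = 0 → polar (⇑Q) b t = 0 → polar (⇑Q) w t = 0 := by
    intro t hta htb
    obtain ⟨c, hc⟩ := hf2 _ (hmemA t hta htb)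
    obtain ⟨c', hc'⟩ := hf2 _ (hmemB t hta htb)
    rw [E_act C h.1 hta, haw] at hc
    rw [E_act C h.2.1 htb, hbw] at hc'
    simp only [zero_smul, add_zero, mul_zero, sub_zero] at hc hc'
    by_contra hcon
    have hcon' : polar (⇑Q) t w ≠ 0 := by rwa [polar_comm]
    have h2 : polar (⇑Q) t w • a = (-c) • u := by
      have : polar (⇑Q) t w • a = w - (w - polar (⇑Q) t w • a) := by abel
      rw [this, hc]
      module
    have h3 : polar (⇑Q) t w • b = (-c') • u := by
      have : polar (⇑Q) t w • b = w - (w - polar (⇑Q) t w • b) := by abel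
      rw [this, hc']
      module
    have hli := LinearIndependent.pair_iff.mp h.2.2.2
    -- a and b are both multiples of u: dependent
    have e : (polar (⇑Q) t w * (-c')) • a + (-(polar (⇑Q) t w * (-c))) • b = 0 := by
      have : (polar (⇑Q) t w * (-c')) • a + (-(polar (⇑Q) t w * (-c))) • b
          = (-c') • (polar (⇑Q) t w • a) - (-c) • (polar (⇑Q) t w • b) := by module
      rw [this, h2, h3]
      module
    have h4 := hli _ _ e
    have hc0 : c = 0 := by
      have := neg_eq_zero.mp h4.2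
      rcases mul_eq_zero.mp this with h5 | h5
      · exact absurd h5 hcon'
      · exact neg_eq_zero.mp h5
    rw [hc0, neg_zero, zero_smul] at h2
    rcases smul_eq_zero.mp h2 with h5 | h5
    · exact hcon' h5
    · exact h.ne_zero_left h5
  obtain ⟨γ, δ, hwab⟩ := mem_span_pair_of_perp C h.2.2.2 hwperp
  refine ⟨P, u, hts.ne_zero_left, hf1, ?_⟩
  rw [ZP_of_flag C P hts hf1 hf2]
  exact X_eq_of_span C h hts ⟨α, β, huab⟩ ⟨γ, δ, hwab⟩

end Finite

end Cfsg.Agent.Helper5.OAut
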