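import Mathlib
import Cfsg.Agent.Lib.Helper5.OAut6

set_option autoImplicit false
set_option linter.unusedSectionVars false
set_option linter.unusedVariables false

/-!
# Passing to `PΩ`: automorphisms permute the long root groups
-/

namespace Cfsg.Agent.Helper5.OAut

open Matrix QuadraticMap Cfsg.Agent.Helper13 Cfsg.Agent.Helper43 Module

variable {F : Type*} [Field F] {ι : Type} [Fintype ι] [DecidableEq ι]
  (Q : QuadraticForm F (ι → F))

local infixr:73 " ⋆ " => act _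

/-- the projection `Ω → PΩ` -/
def prj : ↥(Cfsg.Omega F ⇑Q) →* Cfsg.POmega F ⇑Q :=
  QuotientGroup.mk' (Subgroup.center ↥(Cfsg.Omega F ⇑Q))

/-- image of the long root group in `PΩ` -/
def Xb (a b : ι → F) : Subgroup (Cfsg.POmega F ⇑Q) := (X Q a b).map (prj Q)

/-- image of the point radical in `PΩ` -/
def Qb (u : ι → F) : Subgroup (Cfsg.POmega F ⇑Q) := (Qrad Q u).map (prj Q)

/-- image of an Eichler element in `PΩ` -/
noncomputable def eb (u w : ι → F) : Cfsg.POmega F ⇑Q := prj Q (E Q u w)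

variable {Q}

theorem prj_surjective : Function.Surjective (prj Q) := QuotientGroup.mk'_surjective _

theorem prj_eq_one_iff {g : ↥(Cfsg.Omega F ⇑Q)} :
    prj Q g = 1 ↔ g ∈ Subgroup.center ↥(Cfsg.Omega F ⇑Q) := by
  unfold prj
  rw [QuotientGroup.mk'_apply, QuotientGroup.eq_one_iff]

theorem prj_eq_iff {g h : ↥(Cfsg.Omega F ⇑Q)} :
    prj Q g = prj Q h ↔ g⁻¹ * h ∈ Subgroup.center ↥(Cfsg.Omega F ⇑Q) := by
  unfold prj
  rw [QuotientGroup.mk'_apply, QuotientGroup.mk'_apply, QuotientGroup.eq]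

/-- a central element fixing a non-zero vector is trivial -/
theorem center_fix (C : Ctx Q) {z : ↥(Cfsg.Omega F ⇑Q)}
    (hz : z ∈ Subgroup.center ↥(Cfsg.Omega F ⇑Q)) {x : ι → F} (hx : x ≠ 0) (hzx : z ⋆ x = x) :
    z = 1 := by
  obtain ⟨c, hc⟩ := C.hcen z hz
  have h1 : c • x = x := by rw [← hc x]; exact hzx
  have hc1 : c = 1 := by
    have h2 : (c - 1) • x = 0 := by rw [sub_smul, one_smul, h1, sub_self]
    rcases smul_eq_zero.mp h2 with h | h
    · exact sub_eq_zero.mp h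
    · exact absurd h hx
  apply Om_ext
  intro y
  rw [act_one]
  have := hc y
  rw [hc1, one_smul] at this
  exact this

/-- equality in `PΩ` of elements with a common non-zero fixed vector -/
theorem eq_of_prj_eq (C : Ctx Q) {g h : ↥(Cfsg.Omega F ⇑Q)} (hgh : prj Q g = prj Q h)
    {x : ι → F} (hx : x ≠ 0) (hg : g ⋆ x = x) (hh : h ⋆ x = x) : g = h := by
  rw [prj_eq_iff] at hgh
  have h1 : (g⁻¹ * h) ⋆ x = x := by
    rw [act_mul, hh, act_inv_eq_iff, hg]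
  have := center_fix C hgh hx h1
  rw [inv_mul_eq_one] at this
  exact this

theorem mem_Xb {a b : ι → F} {gb : Cfsg.POmega F ⇑Q} :
    gb ∈ Xb Q a b ↔ ∃ g ∈ X Q a b, prj Q g = gb := Iff.rfl

theorem mem_Qb {u : ι → F} {gb : Cfsg.POmega F ⇑Q} :
    gb ∈ Qb Q u ↔ ∃ g ∈ Qrad Q u, prj Q g = gb := Iff.rfl

theorem ZP_map_equiv {G H : Type*} [Group G] [Group H] (φ : G ≃* H) (P : Subgroup G) :
    (ZP P).map φ.toMonoidHom = ZP (P.map φ.toMonoidHom) := by
  ext z'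
  constructor
  · rintro ⟨z, hz0, rfl⟩
    have hz : z ∈ ZP P := hz0
    rw [mem_ZP] at hz ⊢
    refine ⟨Subgroup.mem_map_of_mem _ hz.1, ?_⟩
    rintro u' ⟨u, hu, rfl⟩
    show φ u * φ z = φ z * φ u
    rw [← map_mul, ← map_mul, hz.2 u hu]
  · intro hz'
    rw [mem_ZP] at hz'
    obtain ⟨⟨z, hzP, rfl⟩, hcomm⟩ := hz'
    refine ⟨z, ?_, rfl⟩
    show z ∈ ZP P
    rw [mem_ZP]
    refine ⟨hzP, fun u hu => ?_⟩
    apply φ.injective
    have := hcomm (φ u) (Subgroup.mem_map_of_mem _ hu)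
    rw [map_mul, map_mul]
    exact this

section Finite

variable [Fintype F]

/-- the centre of the image of a Sylow subgroup fixing a vector -/
theorem ZP_map_prj (C : Ctx Q) (P : Subgroup ↥(Cfsg.Omega F ⇑Q)) {u : ι → F} (hu0 : u ≠ 0)
    (hP : ∀ g ∈ P, g ⋆ u = u) : ZP (P.map (prj Q)) = (ZP P).map (prj Q) := by
  ext zb
  constructor
  · intro hz
    rw [mem_ZP] at hz
    obtain ⟨⟨z, hzP, rfl⟩, hcomm⟩ := hz
    refine ⟨z, ?_, rfl⟩
    show z ∈ ZP P
    rw [mem_ZP]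
    refine ⟨hzP, fun g hg => ?_⟩
    have h1 := hcomm _ (Subgroup.mem_map_of_mem _ hg)
    rw [← map_mul, ← map_mul] at h1
    apply eq_of_prj_eq C h1 hu0
    · rw [act_mul, hP z hzP, hP g hg]
    · rw [act_mul, hP g hg, hP z hzP]
  · rintro ⟨z, hz0, rfl⟩
    have hz : z ∈ ZP P := hz0
    rw [mem_ZP] at hz ⊢
    refine ⟨Subgroup.mem_map_of_mem _ hz.1, ?_⟩
    rintro u' ⟨g, hg, rfl⟩
    rw [← map_mul, ← map_mul, hz.2 g hg]

/-- **Part (A)**: every automorphism of `PΩ` permutes the long root groups. -/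
theorem aut_permutes_Xb {p : ℕ} [Fact p.Prime] [CharP F p] (C : Ctx Q) (α : Cfsg.POmega F ⇑Q ≃* Cfsg.POmega F ⇑Q)
    {a b : ι → F} (h : TS Q a b) :
    ∃ a' b' : ι → F, TS Q a' b' ∧ (Xb Q a b).map α.toMonoidHom = Xb Q a' b' := by
  obtain ⟨P, u, hu0, hPu, hZ⟩ := exists_sylow_of_TS (p := p) C h
  let S0 : Sylow p (Cfsg.POmega F ⇑Q) := Sylow.mapSurjective (prj_surjective (Q := Q)) P
  let S1 : Sylow p (Cfsg.POmega F ⇑Q) :=
    Sylow.mapSurjective (f := α.toMonoidHom) α.surjective S0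
  obtain ⟨gb, hgb⟩ := MulAction.exists_smul_eq (Cfsg.POmega F ⇑Q) S0 S1
  obtain ⟨g, rfl⟩ := prj_surjective (Q := Q) gb
  -- S1 is the image of the Sylow subgroup g • P
  have hS1 : (S1 : Subgroup (Cfsg.POmega F ⇑Q))
      = ((g • P : Sylow p ↥(Cfsg.Omega F ⇑Q)) : Subgroup ↥(Cfsg.Omega F ⇑Q)).map (prj Q) := by
    have h1 := congrArg (fun S : Sylow p (Cfsg.POmega F ⇑Q) =>
      (S : Subgroup (Cfsg.POmega F ⇑Q))) hgb
    simp only [Sylow.coe_subgroup_smul, Subgroup.pointwise_smul_def] at h1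
    rw [← h1]
    show ((P : Subgroup ↥(Cfsg.Omega F ⇑Q)).map (prj Q)).map
        (MulAut.conj (prj Q g)).toMonoidHom
      = (((P : Subgroup ↥(Cfsg.Omega F ⇑Q)).map (MulAut.conj g).toMonoidHom)).map (prj Q)
    rw [Subgroup.map_map, Subgroup.map_map]
    congr 1
  obtain ⟨u', w', hts', hf1, hf2⟩ := exists_flag C (g • P)
  have hZ' := ZP_of_flag C (g • P) hts' hf1 hf2
  refine ⟨u', w', hts', ?_⟩
  have e1 : (Xb Q a b).map α.toMonoidHom
      = ZP ((S0 : Subgroup (Cfsg.POmega F ⇑Q)).map α.toMonoidHom) := by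
    rw [← ZP_map_equiv]
    congr 1
    show (X Q a b).map (prj Q) = ZP ((P : Subgroup ↥(Cfsg.Omega F ⇑Q)).map (prj Q))
    rw [ZP_map_prj C _ hu0 hPu, hZ]
  have e2 : (S0 : Subgroup (Cfsg.POmega F ⇑Q)).map α.toMonoidHom
      = (S1 : Subgroup (Cfsg.POmega F ⇑Q)) := rfl
  rw [e1, e2, hS1, ZP_map_prj C _ hts'.ne_zero_left hf1, hZ']
  rfl

end Finite

end Cfsg.Agent.Helper5.OAut
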