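import Mathlib
import Cfsg.Agent.Lib.Helper5.OAut7

set_option autoImplicit false
set_option linter.unusedSectionVars false
set_option linter.unusedVariables false

/-!
# Geometry of the perp of a hyperbolic pair: partners
-/

namespace Cfsg.Agent.Helper5.OAut

open Matrix QuadraticMap Cfsg.Agent.Helper13 Cfsg.Agent.Helper43 Module

variable {F : Type*} [Field F] {ι : Type} [Fintype ι] [DecidableEq ι]
  {Q : QuadraticForm F (ι → F)}

local infixr:73 " ⋆ " => act _

/-- projection to the perp of a hyperbolic pair -/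
theorem NG_proj {u v : ι → F} (hu : Q u = 0) (hv : Q v = 0) (huv : polar (⇑Q) u v = 1)
    (z : ι → F) :
    polar (⇑Q) u (z - polar (⇑Q) v z • u - polar (⇑Q) u z • v) = 0 ∧
    polar (⇑Q) v (z - polar (⇑Q) v z • u - polar (⇑Q) u z • v) = 0 ∧
    ∀ e, polar (⇑Q) e u = 0 → polar (⇑Q) e v = 0 →
      polar (⇑Q) e (z - polar (⇑Q) v z • u - polar (⇑Q) u z • v) = polar (⇑Q) e z := by
  have huu : polar (⇑Q) u u = 0 := polar_self_of_sing Q u hu
  have hvv : polar (⇑Q) v v = 0 := polar_self_of_sing Q v hv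
  have hvu : polar (⇑Q) v u = 1 := by rw [polar_comm, huv]
  refine ⟨?_, ?_, fun e h1 h2 => ?_⟩
  · rw [polar_sub_right, polar_sub_right, polar_smul_right, polar_smul_right, huu, huv]
    simp
  · rw [polar_sub_right, polar_sub_right, polar_smul_right, polar_smul_right, hvv, hvu]
    simp
  · rw [polar_sub_right, polar_sub_right, polar_smul_right, polar_smul_right, h1, h2]
    simp

/-- making a vector singular using a singular vector paired to it with value one -/
theorem NG_singularize {e z : ι → F} (he : Q e = 0) (hez : polar (⇑Q) e z = 1) :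
    Q (z - Q z • e) = 0 := by
  have h1 : z - Q z • e = z + (-(Q z)) • e := by rw [neg_smul, sub_eq_add_neg]
  rw [h1, QuadraticMap.map_add Q z ((-(Q z)) • e), QuadraticMap.map_smul, he, polar_smul_right,
    polar_comm, hez]
  simp

/-- partner of a singular vector inside the perp of a hyperbolic pair -/
theorem NG_part (C : Ctx Q) {u v : ι → F} (hu : Q u = 0) (hv : Q v = 0)
    (huv : polar (⇑Q) u v = 1) {e : ι → F} (he0 : e ≠ 0) (he : Q e = 0)
    (hue : polar (⇑Q) u e = 0) (hve : polar (⇑Q) v e = 0) :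
    ∃ e', Q e' = 0 ∧ polar (⇑Q) u e' = 0 ∧ polar (⇑Q) v e' = 0 ∧ polar (⇑Q) e e' = 1 := by
  have heu : polar (⇑Q) e u = 0 := by rw [polar_comm, hue]
  have hev : polar (⇑Q) e v = 0 := by rw [polar_comm, hve]
  have hee : polar (⇑Q) e e = 0 := polar_self_of_sing Q e he
  obtain ⟨z0, -, hz0⟩ := exists_partner C he0 he
  obtain ⟨h1, h2, h3⟩ := NG_proj hu hv huv z0
  set z := z0 - polar (⇑Q) v z0 • u - polar (⇑Q) u z0 • v with hz
  have hez : polar (⇑Q) e z = 1 := by rw [h3 e heu hev, hz0]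
  refine ⟨z - Q z • e, NG_singularize he hez, ?_, ?_, ?_⟩
  · rw [polar_sub_right, polar_smul_right, h1, hue]; simp
  · rw [polar_sub_right, polar_smul_right, h2, hve]; simp
  · rw [polar_sub_right, polar_smul_right, hez, hee]; simp

/-- partner of a singular vector inside the perp of two orthogonal hyperbolic pairs -/
theorem NG_part2 (C : Ctx Q) {u v a b : ι → F} (hu : Q u = 0) (hv : Q v = 0)
    (huv : polar (⇑Q) u v = 1) (ha : Q a = 0) (hb : Q b = 0) (hab : polar (⇑Q) a b = 1)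
    (hua : polar (⇑Q) u a = 0) (hub : polar (⇑Q) u b = 0) (hva : polar (⇑Q) v a = 0)
    (hvb : polar (⇑Q) v b = 0) {e : ι → F} (he0 : e ≠ 0) (he : Q e = 0)
    (hue : polar (⇑Q) u e = 0) (hve : polar (⇑Q) v e = 0) (hae : polar (⇑Q) a e = 0)
    (hbe : polar (⇑Q) b e = 0) :
    ∃ e', Q e' = 0 ∧ polar (⇑Q) u e' = 0 ∧ polar (⇑Q) v e' = 0 ∧ polar (⇑Q) a e' = 0 ∧
      polar (⇑Q) b e' = 0 ∧ polar (⇑Q) e e' = 1 := by
  have hea : polar (⇑Q) e a = 0 := by rw [polar_comm, hae]
  have heb : polar (⇑Q) e b = 0 := by rw [polar_comm, hbe]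
  have hee : polar (⇑Q) e e = 0 := polar_self_of_sing Q e he
  obtain ⟨z0, hz0, hz0u, hz0v, hz0e⟩ := NG_part C hu hv huv he0 he hue hve
  obtain ⟨h1, h2, h3⟩ := NG_proj ha hb hab z0
  set z := z0 - polar (⇑Q) b z0 • a - polar (⇑Q) a z0 • b with hz
  have hez : polar (⇑Q) e z = 1 := by rw [h3 e hea heb, hz0e]
  have huz : polar (⇑Q) u z = 0 := by rw [h3 u hua hub, hz0u]
  have hvz : polar (⇑Q) v z = 0 := by rw [h3 v hva hvb, hz0v]
  refine ⟨z - Q z • e, NG_singularize he hez, ?_, ?_, ?_, ?_, ?_⟩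
  · rw [polar_sub_right, polar_smul_right, huz, hue]; simp
  · rw [polar_sub_right, polar_smul_right, hvz, hve]; simp
  · rw [polar_sub_right, polar_smul_right, h1, hae]; simp
  · rw [polar_sub_right, polar_smul_right, h2, hbe]; simp
  · rw [polar_sub_right, polar_smul_right, hez, hee]; simp

/-- a non-zero singular vector in the perp of a hyperbolic pair -/
theorem NG_ex [Fintype F] (C : Ctx Q) (u v : ι → F) :
    ∃ w, w ≠ 0 ∧ Q w = 0 ∧ polar (⇑Q) u w = 0 ∧ polar (⇑Q) v w = 0 := by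
  obtain ⟨z, hz0, hz, hzp⟩ := exists_sing_perpK (Q := Q) ![u, v] (by have := C.hn; omega)
  exact ⟨z, hz0, hz, hzp 0, hzp 1⟩

/-- a non-zero singular vector in the perp of four vectors -/
theorem NG_ex4 [Fintype F] (C : Ctx Q) (u v a b : ι → F) :
    ∃ w, w ≠ 0 ∧ Q w = 0 ∧ polar (⇑Q) u w = 0 ∧ polar (⇑Q) v w = 0 ∧ polar (⇑Q) a w = 0 ∧
      polar (⇑Q) b w = 0 := by
  obtain ⟨z, hz0, hz, hzp⟩ := exists_sing_perpK (Q := Q) ![u, v, a, b] (by have := C.hn; omega)
  exact ⟨z, hz0, hz, hzp 0, hzp 1, hzp 2, hzp 3⟩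

end Cfsg.Agent.Helper5.OAut
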