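import Mathlib
import Cfsg.Agent.Lib.Helper5.OAut8

set_option autoImplicit false
set_option linter.unusedSectionVars false
set_option linter.unusedVariables false

/-!
# Coordinates on the point radical `Qb u` by the perp `N` of a hyperbolic pair `u, v`
-/

namespace Cfsg.Agent.Helper5.OAut

open Matrix QuadraticMap Cfsg.Agent.Helper13 Cfsg.Agent.Helper43 Module

variable {F : Type*} [Field F] {ι : Type} [Fintype ι] [DecidableEq ι]
  (Q : QuadraticForm F (ι → F))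

local infixr:73 " ⋆ " => act _

/-- a hyperbolic pair `u, v` with its perp `N` -/
structure Pole (u v : ι → F) (N : Submodule F (ι → F)) : Prop where
  hu : Q u = 0
  hv : Q v = 0
  huv : polar (⇑Q) u v = 1
  hN : ∀ x, x ∈ N ↔ polar (⇑Q) u x = 0 ∧ polar (⇑Q) v x = 0

variable {Q}

namespace Pole

variable {u v : ι → F} {N : Submodule F (ι → F)}

theorem symm (P : Pole Q u v N) : Pole Q v u N :=
  ⟨P.hv, P.hu, by rw [polar_comm, P.huv], fun x => by rw [P.hN x, and_comm]⟩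

theorem hvu (P : Pole Q u v N) : polar (⇑Q) v u = 1 := by rw [polar_comm, P.huv]

theorem huu (P : Pole Q u v N) : polar (⇑Q) u u = 0 := polar_self_of_sing Q u P.hu

theorem hvv (P : Pole Q u v N) : polar (⇑Q) v v = 0 := polar_self_of_sing Q v P.hv

theorem u_ne (P : Pole Q u v N) : u ≠ 0 := by
  rintro rfl
  have := P.huv
  rw [polar_zero_left] at this
  exact zero_ne_one this

theorem v_ne (P : Pole Q u v N) : v ≠ 0 := P.symm.u_ne

theorem hu_of_mem (P : Pole Q u v N) {x : ι → F} (hx : x ∈ N) : polar (⇑Q) u x = 0 :=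
  ((P.hN x).mp hx).1

theorem hv_of_mem (P : Pole Q u v N) {x : ι → F} (hx : x ∈ N) : polar (⇑Q) v x = 0 :=
  ((P.hN x).mp hx).2

theorem hu_of_mem' (P : Pole Q u v N) {x : ι → F} (hx : x ∈ N) : polar (⇑Q) x u = 0 := by
  rw [polar_comm, P.hu_of_mem hx]

theorem hv_of_mem' (P : Pole Q u v N) {x : ι → F} (hx : x ∈ N) : polar (⇑Q) x v = 0 := by
  rw [polar_comm, P.hv_of_mem hx]

/-- the projection to `N` -/
theorem proj_mem (P : Pole Q u v N) (z : ι → F) :
    z - polar (⇑Q) v z • u - polar (⇑Q) u z • v ∈ N := by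
  obtain ⟨h1, h2, -⟩ := NG_proj P.hu P.hv P.huv z
  exact (P.hN _).mpr ⟨h1, h2⟩

theorem eq_zero_of_mem_of_smul (P : Pole Q u v N) {c : F} (h : c • u ∈ N) : c = 0 := by
  have := P.hv_of_mem h
  rw [polar_smul_right, P.hvu, smul_eq_mul, mul_one] at this
  exact this

end Pole

theorem E_fix_left (C : Ctx Q) {u w : ι → F} (hu : Q u = 0) (huw : polar (⇑Q) u w = 0) :
    E Q u w ⋆ u = u := by
  have huu : polar (⇑Q) u u = 0 := polar_self_of_sing Q u hu
  have hwu : polar (⇑Q) w u = 0 := by rw [polar_comm, huw]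
  rw [E_act C hu huw, huu, hwu]
  simp

theorem E_fix_of_perp (C : Ctx Q) {u w x : ι → F} (hu : Q u = 0) (huw : polar (⇑Q) u w = 0)
    (hux : polar (⇑Q) u x = 0) (hwx : polar (⇑Q) w x = 0) : E Q u w ⋆ x = x := by
  rw [E_act C hu huw, hux, hwx]
  simp

theorem eb_mul (C : Ctx Q) {u w w' : ι → F} (hu : Q u = 0) (huw : polar (⇑Q) u w = 0)
    (huw' : polar (⇑Q) u w' = 0) : eb Q u w * eb Q u w' = eb Q u (w + w') := by
  unfold eb
  rw [← map_mul, E_mul C hu huw huw']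

theorem eb_zero (C : Ctx Q) {u : ι → F} (hu : Q u = 0) : eb Q u 0 = 1 := by
  unfold eb
  rw [E_zero C hu, map_one]

variable {u v : ι → F} {N : Submodule F (ι → F)}

/-- every element of the point radical has a coordinate in `N` -/
theorem coord_exists (C : Ctx Q) (P : Pole Q u v N) {g : ↥(Cfsg.Omega F ⇑Q)}
    (hg : g ∈ Qrad Q u) : ∃ w ∈ N, g = E Q u w := by
  obtain ⟨w0, hw0, rfl⟩ := (mem_Qrad C P.hu).mp hg
  have h1 : polar (⇑Q) u (w0 - polar (⇑Q) v w0 • u) = 0 := by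
    rw [polar_sub_right, polar_smul_right, hw0, P.huu]; simp
  have h2 : polar (⇑Q) v (w0 - polar (⇑Q) v w0 • u) = 0 := by
    rw [polar_sub_right, polar_smul_right, P.hvu]; simp
  refine ⟨w0 - polar (⇑Q) v w0 • u, (P.hN _).mpr ⟨h1, h2⟩, ?_⟩
  have := E_add_smul C P.hu h1 (polar (⇑Q) v w0)
  rw [sub_add_cancel] at this
  exact this

theorem E_inj (C : Ctx Q) (P : Pole Q u v N) {w w' : ι → F} (hw : w ∈ N) (hw' : w' ∈ N)
    (h : E Q u w = E Q u w') : w = w' := by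
  obtain ⟨c, hc⟩ := E_eq_imp C P.u_ne P.hu (P.hu_of_mem hw) (P.hu_of_mem hw') h
  have h1 : c • u ∈ N := by
    have : c • u = w - w' := by rw [hc]; abel
    rw [this]
    exact N.sub_mem hw hw'
  rw [P.eq_zero_of_mem_of_smul h1, zero_smul, add_zero] at hc
  exact hc

theorem eb_inj (C : Ctx Q) (P : Pole Q u v N) {w w' : ι → F} (hw : w ∈ N) (hw' : w' ∈ N)
    (h : eb Q u w = eb Q u w') : w = w' := by
  apply E_inj C P hw hw'
  exact eq_of_prj_eq C h P.u_ne (E_fix_left C P.hu (P.hu_of_mem hw))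
    (E_fix_left C P.hu (P.hu_of_mem hw'))

theorem mem_Qb_iff (C : Ctx Q) (P : Pole Q u v N) {gb : Cfsg.POmega F ⇑Q} :
    gb ∈ Qb Q u ↔ ∃ w ∈ N, gb = eb Q u w := by
  rw [mem_Qb]
  constructor
  · rintro ⟨g, hg, rfl⟩
    obtain ⟨w, hw, rfl⟩ := coord_exists C P hg
    exact ⟨w, hw, rfl⟩
  · rintro ⟨w, hw, rfl⟩
    exact ⟨E Q u w, E_mem_Qrad (P.hu_of_mem hw), rfl⟩

theorem mem_Xb_iff (C : Ctx Q) {a b : ι → F} (ha : Q a = 0) (hab : polar (⇑Q) a b = 0)
    {gb : Cfsg.POmega F ⇑Q} : gb ∈ Xb Q a b ↔ ∃ c : F, gb = eb Q a (c • b) := by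
  rw [mem_Xb]
  constructor
  · rintro ⟨g, hg, rfl⟩
    obtain ⟨c, rfl⟩ := (mem_X C ha hab).mp hg
    exact ⟨c, rfl⟩
  · rintro ⟨c, rfl⟩
    exact ⟨E Q a (c • b), E_mem_X a b c, rfl⟩

end Cfsg.Agent.Helper5.OAut
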