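import Mathlib
import Cfsg.Agent.Lib.Helper5.OAut9

set_option autoImplicit false
set_option linter.unusedSectionVars false
set_option linter.unusedVariables false

/-!
# The additive map induced on `N` by an automorphism fixing `Qb u`
-/

namespace Cfsg.Agent.Helper5.OAut

open Matrix QuadraticMap Cfsg.Agent.Helper13 Cfsg.Agent.Helper43 Module

variable {F : Type*} [Field F] {ι : Type} [Fintype ι] [DecidableEq ι]
  {Q : QuadraticForm F (ι → F)} {u v : ι → F} {N : Submodule F (ι → F)}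

local infixr:73 " ⋆ " => act _

theorem Pole.linInd (P : Pole Q u v N) {w : ι → F} (hw : w ∈ N) (hw0 : w ≠ 0) :
    LinearIndependent F ![u, w] := by
  rw [LinearIndependent.pair_iff]
  intro s t hst
  have h1 := congrArg (fun x => polar (⇑Q) v x) hst
  simp only [polar_add_right, polar_smul_right, P.hvu, P.hv_of_mem hw, polar_zero_right,
    smul_eq_mul, mul_one, mul_zero, add_zero] at h1
  rw [h1, zero_smul, zero_add] at hst
  rcases smul_eq_zero.mp hst with h | h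
  · exact ⟨h1, h⟩
  · exact absurd h hw0

theorem Pole.ts (P : Pole Q u v N) {w : ι → F} (hw : w ∈ N) (hw0 : w ≠ 0) (hQ : Q w = 0) :
    TS Q u w :=
  ⟨P.hu, hQ, P.hu_of_mem hw, P.linInd hw hw0⟩

theorem E_ne_one (C : Ctx Q) {a b : ι → F} (h : TS Q a b) : E Q a b ≠ 1 := by
  intro h1
  obtain ⟨x, hx⟩ := polar_prescribe Q C.hQ ![a, b] h.2.2.2 ![1, 0]
  have hxa : polar (⇑Q) a x = 1 := hx 0
  have hxb : polar (⇑Q) b x = 0 := hx 1
  have h2 := congrArg (fun g => g ⋆ x) h1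
  simp only [E_act C h.1 h.2.2.1, hxa, hxb, h.2.1, act_one] at h2
  have h3 : b = 0 := by
    have : x + (1 : F) • b - (0 : F) • a - ((0 : F) * 1) • a = x + b := by module
    rw [this] at h2
    exact add_eq_left.mp h2
  exact h.ne_zero_right h3

section Fin

variable [Fintype F]

/-- a long root group inside `Qb u` is of the form `Xb u w` with `w ∈ N` singular -/
theorem line_in_Qb (C : Ctx Q) (P : Pole Q u v N) {a b : ι → F} (h : TS Q a b)
    (hle : Xb Q a b ≤ Qb Q u) :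
    ∃ w ∈ N, w ≠ 0 ∧ Q w = 0 ∧ Xb Q a b = Xb Q u w := by
  have h1 : eb Q a b ∈ Xb Q a b :=
    (mem_Xb_iff C h.1 h.2.2.1).mpr ⟨1, by rw [one_smul]⟩
  obtain ⟨w, hw, hEq⟩ := (mem_Qb_iff C P).mp (hle h1)
  have huw := P.hu_of_mem hw
  obtain ⟨x, hx0, -, hxa, hxb, hxu, hxw⟩ := NG_ex4 C a b u w
  have hE : E Q a b = E Q u w :=
    eq_of_prj_eq C hEq hx0 (E_fix_of_perp C h.1 h.2.2.1 hxa hxb)
      (E_fix_of_perp C P.hu huw hxu hxw)
  have hw0 : w ≠ 0 := by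
    rintro rfl
    rw [E_zero C P.hu] at hE
    exact E_ne_one C h hE
  have hli := P.linInd hw hw0
  obtain ⟨x1, hx1⟩ := polar_prescribe Q C.hQ ![u, w] hli ![0, 1]
  have hx1u : polar (⇑Q) u x1 = 0 := hx1 0
  have hx1w : polar (⇑Q) w x1 = 1 := hx1 1
  -- `u` lies on the line
  have hu_mem : ∃ α β : F, u = α • a + β • b := by
    have h2 := congrArg (fun g => g ⋆ x1) hE
    simp only [E_act C h.1 h.2.2.1, E_act C P.hu huw, hx1u, hx1w, h.2.1] at h2
    refine ⟨polar (⇑Q) b x1, -polar (⇑Q) a x1, ?_⟩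
    have h3 : u = (x1 + (0 : F) • w) - (x1 + (0 : F) • w - (1 : F) • u - (Q w * 0) • u) := by
      module
    rw [h3, ← h2]
    module
  -- `w` lies on the line
  have hw_mem : ∃ γ δ : F, w = γ • a + δ • b := by
    obtain ⟨α, β, hαβ⟩ := hu_mem
    have h2 := congrArg (fun g => g ⋆ v) hE
    simp only [E_act C h.1 h.2.2.1, E_act C P.hu huw, P.huv, P.hv_of_mem' hw, h.2.1] at h2
    refine ⟨Q w * α - polar (⇑Q) b v, Q w * β + polar (⇑Q) a v, ?_⟩
    have e1 : w - Q w • u = (v + (1 : F) • w - (0 : F) • u - (Q w * 1) • u) - v := by module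
    have e2 : polar (⇑Q) a v • b - polar (⇑Q) b v • a
        = (v + polar (⇑Q) a v • b - polar (⇑Q) b v • a - ((0 : F) * polar (⇑Q) a v) • a) - v := by
      module
    have h4 : w - Q w • u = polar (⇑Q) a v • b - polar (⇑Q) b v • a := by rw [e1, e2, h2]
    have h5 : w = Q w • u + (polar (⇑Q) a v • b - polar (⇑Q) b v • a) := by rw [← h4]; abel
    calc w = Q w • u + (polar (⇑Q) a v • b - polar (⇑Q) b v • a) := h5
      _ = Q w • (α • a + β • b) + (polar (⇑Q) a v • b - polar (⇑Q) b v • a) := by rw [← hαβ]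
      _ = (Q w * α - polar (⇑Q) b v) • a + (Q w * β + polar (⇑Q) a v) • b := by module
  have hQw : Q w = 0 := by
    obtain ⟨γ, δ, rfl⟩ := hw_mem
    exact Q_comb h γ δ
  refine ⟨w, hw, hw0, hQw, ?_⟩
  unfold Xb
  rw [X_eq_of_span C h (P.ts hw hw0 hQw) hu_mem hw_mem]

theorem exists_coord (C : Ctx Q) (P : Pole Q u v N)
    (α : Cfsg.POmega F ⇑Q ≃* Cfsg.POmega F ⇑Q)
    (hα : (Qb Q u).map α.toMonoidHom = Qb Q u) (w : ↥N) :
    ∃ w' : ↥N, α (eb Q u w) = eb Q u w' := by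
  have h1 : α (eb Q u w) ∈ Qb Q u := by
    rw [← hα]
    exact Subgroup.mem_map_of_mem _ ((mem_Qb_iff C P).mpr ⟨w, w.2, rfl⟩)
  obtain ⟨w', hw', h⟩ := (mem_Qb_iff C P).mp h1
  exact ⟨⟨w', hw'⟩, h⟩

/-- the induced map on coordinates, as a plain function -/
noncomputable def fmap0 (C : Ctx Q) (P : Pole Q u v N)
    (α : Cfsg.POmega F ⇑Q ≃* Cfsg.POmega F ⇑Q)
    (hα : (Qb Q u).map α.toMonoidHom = Qb Q u) (w : ↥N) : ↥N :=
  Classical.choose (exists_coord C P α hα w)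

theorem fmap0_spec (C : Ctx Q) (P : Pole Q u v N)
    (α : Cfsg.POmega F ⇑Q ≃* Cfsg.POmega F ⇑Q)
    (hα : (Qb Q u).map α.toMonoidHom = Qb Q u) (w : ↥N) :
    α (eb Q u w) = eb Q u (fmap0 C P α hα w) :=
  Classical.choose_spec (exists_coord C P α hα w)

theorem fmap0_add (C : Ctx Q) (P : Pole Q u v N)
    (α : Cfsg.POmega F ⇑Q ≃* Cfsg.POmega F ⇑Q)
    (hα : (Qb Q u).map α.toMonoidHom = Qb Q u) (w w' : ↥N) :
    fmap0 C P α hα (w + w') = fmap0 C P α hα w + fmap0 C P α hα w' := by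
  apply Subtype.ext
  apply eb_inj C P (fmap0 C P α hα (w + w')).2 (N.add_mem (fmap0 C P α hα w).2
    (fmap0 C P α hα w').2)
  rw [← fmap0_spec, Submodule.coe_add, ← eb_mul C P.hu (P.hu_of_mem w.2) (P.hu_of_mem w'.2),
    map_mul, fmap0_spec C P α hα w, fmap0_spec C P α hα w',
    eb_mul C P.hu (P.hu_of_mem (fmap0 C P α hα w).2) (P.hu_of_mem (fmap0 C P α hα w').2)]

/-- the induced additive map on coordinates -/
noncomputable def fmap (C : Ctx Q) (P : Pole Q u v N)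
    (α : Cfsg.POmega F ⇑Q ≃* Cfsg.POmega F ⇑Q)
    (hα : (Qb Q u).map α.toMonoidHom = Qb Q u) : ↥N →+ ↥N :=
  AddMonoidHom.mk' (fmap0 C P α hα) (fmap0_add C P α hα)

theorem fmap_spec (C : Ctx Q) (P : Pole Q u v N)
    (α : Cfsg.POmega F ⇑Q ≃* Cfsg.POmega F ⇑Q)
    (hα : (Qb Q u).map α.toMonoidHom = Qb Q u) (w : ↥N) :
    α (eb Q u w) = eb Q u (fmap C P α hα w) :=
  fmap0_spec C P α hα w

theorem fmap_injective (C : Ctx Q) (P : Pole Q u v N)
    (α : Cfsg.POmega F ⇑Q ≃* Cfsg.POmega F ⇑Q)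
    (hα : (Qb Q u).map α.toMonoidHom = Qb Q u) : Function.Injective (fmap C P α hα) := by
  intro w w' h
  apply Subtype.ext
  apply eb_inj C P w.2 w'.2
  apply α.injective
  rw [fmap_spec C P α hα, fmap_spec C P α hα, h]

/-- singular lines through `u` are mapped to singular lines through `u` -/
theorem fline {p : ℕ} [Fact p.Prime] [CharP F p] (C : Ctx Q) (P : Pole Q u v N)
    (α : Cfsg.POmega F ⇑Q ≃* Cfsg.POmega F ⇑Q)
    (hα : (Qb Q u).map α.toMonoidHom = Qb Q u) {w : ↥N} (hw0 : w ≠ 0) (hw : Q (w : ι → F) = 0) :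
    Q (fmap C P α hα w : ι → F) = 0 ∧
      (Xb Q u w).map α.toMonoidHom = Xb Q u (fmap C P α hα w) := by
  have hw0' : (w : ι → F) ≠ 0 := fun h => hw0 (Subtype.ext h)
  have hts := P.ts w.2 hw0' hw
  obtain ⟨a', b', hts', hmap⟩ := aut_permutes_Xb (p := p) C α hts
  have hle : Xb Q a' b' ≤ Qb Q u := by
    rw [← hmap, ← hα]
    apply Subgroup.map_mono
    exact Subgroup.map_mono (X_le_Qrad C hts.1 hts.2.2.1)
  obtain ⟨w1, hw1, hw10, hQw1, hX⟩ := line_in_Qb C P hts' hle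
  have h1 : α (eb Q u w) ∈ Xb Q u w1 := by
    rw [← hX, ← hmap]
    apply Subgroup.mem_map_of_mem
    exact (mem_Xb_iff C hts.1 hts.2.2.1).mpr ⟨1, by rw [one_smul]⟩
  rw [fmap_spec C P α hα] at h1
  obtain ⟨c, hc⟩ := (mem_Xb_iff C P.hu (P.hu_of_mem hw1)).mp h1
  have hfw : (fmap C P α hα w : ι → F) = c • w1 :=
    eb_inj C P (fmap C P α hα w).2 (N.smul_mem c hw1) hc
  have hc0 : c ≠ 0 := by
    rintro rfl
    rw [zero_smul] at hfw
    apply hw0
    apply fmap_injective C P α hα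
    rw [map_zero]
    exact Subtype.ext hfw
  have hfw0 : (fmap C P α hα w : ι → F) ≠ 0 := by
    rw [hfw]
    exact smul_ne_zero hc0 hw10
  have hQf : Q (fmap C P α hα w : ι → F) = 0 := by
    rw [hfw, QuadraticMap.map_smul, hQw1, smul_zero]
  refine ⟨hQf, ?_⟩
  rw [hmap, hX]
  unfold Xb
  rw [X_eq_of_span C (P.ts hw1 hw10 hQw1) (P.ts (fmap C P α hα w).2 hfw0 hQf)
    ⟨1, 0, by simp⟩ ⟨0, c, by rw [hfw]; simp⟩]

theorem fmap_hline {p : ℕ} [Fact p.Prime] [CharP F p] (C : Ctx Q) (P : Pole Q u v N)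
    (α : Cfsg.POmega F ⇑Q ≃* Cfsg.POmega F ⇑Q)
    (hα : (Qb Q u).map α.toMonoidHom = Qb Q u) (w : ↥N) (hw : Q (w : ι → F) = 0) (c : F) :
    ∃ c' : F, fmap C P α hα (c • w) = c' • fmap C P α hα w := by
  by_cases hw0 : w = 0
  · subst hw0
    exact ⟨0, by rw [smul_zero, map_zero, smul_zero]⟩
  obtain ⟨hQf, hmap⟩ := fline (p := p) C P α hα hw0 hw
  have h1 : α (eb Q u ((c • w : ↥N) : ι → F)) ∈ Xb Q u (fmap C P α hα w) := by
    rw [← hmap]
    apply Subgroup.mem_map_of_mem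
    exact (mem_Xb_iff C P.hu (P.hu_of_mem w.2)).mpr ⟨c, rfl⟩
  rw [fmap_spec C P α hα] at h1
  obtain ⟨c', hc'⟩ := (mem_Xb_iff C P.hu (P.hu_of_mem (fmap C P α hα w).2)).mp h1
  refine ⟨c', Subtype.ext ?_⟩
  exact eb_inj C P (fmap C P α hα (c • w)).2 (N.smul_mem c' (fmap C P α hα w).2) hc'

theorem fmap_hline' {p : ℕ} [Fact p.Prime] [CharP F p] (C : Ctx Q) (P : Pole Q u v N)
    (α : Cfsg.POmega F ⇑Q ≃* Cfsg.POmega F ⇑Q)
    (hα : (Qb Q u).map α.toMonoidHom = Qb Q u) (w : ↥N) (hw : Q (w : ι → F) = 0) (c' : F) :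
    ∃ c : F, fmap C P α hα (c • w) = c' • fmap C P α hα w := by
  by_cases hw0 : w = 0
  · subst hw0
    exact ⟨0, by rw [smul_zero, map_zero, smul_zero]⟩
  obtain ⟨hQf, hmap⟩ := fline (p := p) C P α hα hw0 hw
  have h1 : eb Q u (c' • (fmap C P α hα w : ι → F)) ∈ (Xb Q u w).map α.toMonoidHom := by
    rw [hmap]
    exact (mem_Xb_iff C P.hu (P.hu_of_mem (fmap C P α hα w).2)).mpr ⟨c', rfl⟩
  obtain ⟨gb, hgb, hgb2⟩ := h1
  obtain ⟨c, rfl⟩ := (mem_Xb_iff C P.hu (P.hu_of_mem w.2)).mp hgb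
  refine ⟨c, Subtype.ext ?_⟩
  have h2 : α (eb Q u ((c • w : ↥N) : ι → F)) = eb Q u (c' • (fmap C P α hα w : ι → F)) := hgb2
  rw [fmap_spec C P α hα] at h2
  exact eb_inj C P (fmap C P α hα (c • w)).2 (N.smul_mem c' (fmap C P α hα w).2) h2

end Fin

end Cfsg.Agent.Helper5.OAut
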