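import Mathlib
import Cfsg.Prelude.Def_LieTypeDatum

/-!
# Automorphisms of `PΩ(Q)` induced by similarities

For `Q : (ι → F) → F`, conjugation by an element of the normalizer of the isometry group `O(Q)` in
`GL` induces an automorphism of `PΩ(Q)`; this gives a homomorphism `Phi`.  We identify the
subgroups `pgoAut`, `poAut`, `psoAut`, `Inn` of `MulAut (PΩ(Q))` as images under `Phi`, and compute
the kernel of `Phi` (scalars) under the hypotheses that `Ω` is perfect and that only scalars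
commute with `Ω`.
-/

set_option autoImplicit false
set_option linter.unusedSectionVars false
set_option linter.unusedSimpArgs false

namespace Cfsg.Agent.Helper5.OrthAut

open Matrix

variable {F : Type*} [Field F] {ι : Type} [Fintype ι] [DecidableEq ι] (Q : (ι → F) → F)

theorem mem_iso_iff (g : GL ι F) :
    g ∈ Cfsg.isometryGroup F Q ↔ ∀ u, Q ((g : Matrix ι ι F) *ᵥ u) = Q u := by
  constructor
  · intro h u; exact h u u
  · intro h u _; exact h u

theorem mem_sim_iff (g : GL ι F) :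
    g ∈ Cfsg.Geo.quadSimilarityGroup (F := F) Q ↔
      ∃ c : Fˣ, ∀ v, Q ((g : Matrix ι ι F) *ᵥ v) = (c : F) * Q v := Iff.rfl

theorem iso_le_sim : Cfsg.isometryGroup F Q ≤ Cfsg.Geo.quadSimilarityGroup (F := F) Q := by
  intro g hg
  exact ⟨1, fun v => by rw [(mem_iso_iff Q g).1 hg v]; simp⟩

/-- The normalizer of `O(Q)` in `GL`. -/
abbrev NO : Subgroup (GL ι F) := Subgroup.normalizer ((Cfsg.isometryGroup F Q : Subgroup (GL ι F)) : Set (GL ι F))

theorem sim_le_NO : Cfsg.Geo.quadSimilarityGroup (F := F) Q ≤ NO Q := by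
  intro g hg
  have key : ∀ (g : GL ι F), g ∈ Cfsg.Geo.quadSimilarityGroup (F := F) Q →
      ∀ s : GL ι F, s ∈ Cfsg.isometryGroup F Q → g * s * g⁻¹ ∈ Cfsg.isometryGroup F Q := by
    intro g hg s hs
    obtain ⟨c, hc⟩ := hg
    rw [mem_iso_iff] at hs ⊢
    intro u
    have h1 : ((g * s * g⁻¹ : GL ι F) : Matrix ι ι F) *ᵥ u =
        (g : Matrix ι ι F) *ᵥ ((s : Matrix ι ι F) *ᵥ (((g⁻¹ : GL ι F) : Matrix ι ι F) *ᵥ u)) := by
      simp [Matrix.mulVec_mulVec, Matrix.mul_assoc]
    rw [h1, hc, hs]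
    have h2 := hc (((g⁻¹ : GL ι F) : Matrix ι ι F) *ᵥ u)
    rw [Matrix.mulVec_mulVec, ← Units.val_mul, mul_inv_cancel, Units.val_one,
      Matrix.one_mulVec] at h2
    exact h2.symm
  rw [Subgroup.mem_normalizer_iff]
  intro s
  constructor
  · exact key g hg s
  · intro h
    have := key g⁻¹ (inv_mem hg) _ h
    simpa [mul_assoc] using this

/-- Conjugation by an element of the normalizer, as an automorphism of `O(Q)`. -/
def conjO (g : ↥(NO Q)) : ↥(Cfsg.isometryGroup F Q) ≃* ↥(Cfsg.isometryGroup F Q) where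
  toFun s := ⟨(g : GL ι F) * s * (g : GL ι F)⁻¹, (Subgroup.mem_normalizer_iff.1 g.2 s).1 s.2⟩
  invFun s := ⟨(g : GL ι F)⁻¹ * s * (g : GL ι F), by
    have := (Subgroup.mem_normalizer_iff.1 (inv_mem g.2) s).1 s.2
    simpa using this⟩
  left_inv s := by
    apply Subtype.ext
    simp [mul_assoc]
  right_inv s := by
    apply Subtype.ext
    simp [mul_assoc]
  map_mul' s t := by
    apply Subtype.ext
    simp [mul_assoc]

theorem conjO_apply (g : ↥(NO Q)) (s : ↥(Cfsg.isometryGroup F Q)) :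
    ((conjO Q g s : ↥(Cfsg.isometryGroup F Q)) : GL ι F) = (g : GL ι F) * s * (g : GL ι F)⁻¹ := rfl

theorem conjO_mem_omega (g : ↥(NO Q)) (s : ↥(Cfsg.isometryGroup F Q)) :
    conjO Q g s ∈ Cfsg.Omega F Q ↔ s ∈ Cfsg.Omega F Q := by
  have h := (Subgroup.characteristic_iff_comap_eq.1
    (inferInstance : (commutator ↥(Cfsg.isometryGroup F Q)).Characteristic)) (conjO Q g)
  have : s ∈ (commutator ↥(Cfsg.isometryGroup F Q)).comap (conjO Q g).toMonoidHom ↔
      s ∈ commutator ↥(Cfsg.isometryGroup F Q) := by rw [h]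
  exact this

/-- Conjugation by an element of the normalizer, as an automorphism of `Ω(Q)`. -/
def conjOm (g : ↥(NO Q)) : ↥(Cfsg.Omega F Q) ≃* ↥(Cfsg.Omega F Q) where
  toFun s := ⟨conjO Q g s, (conjO_mem_omega Q g s).2 s.2⟩
  invFun s := ⟨(conjO Q g).symm s, by
    have := (conjO_mem_omega Q g ((conjO Q g).symm s)).1 (by simp)
    exact this⟩
  left_inv s := by
    apply Subtype.ext
    simp
  right_inv s := by
    apply Subtype.ext
    simp
  map_mul' s t := by
    apply Subtype.ext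
    simp

theorem conjOm_apply (g : ↥(NO Q)) (s : ↥(Cfsg.Omega F Q)) :
    (((conjOm Q g s : ↥(Cfsg.Omega F Q)) : ↥(Cfsg.isometryGroup F Q)) : GL ι F) =
      (g : GL ι F) * ((s : ↥(Cfsg.isometryGroup F Q)) : GL ι F) * (g : GL ι F)⁻¹ := rfl

theorem conjOm_center (g : ↥(NO Q)) :
    (Subgroup.center ↥(Cfsg.Omega F Q)).map (conjOm Q g).toMonoidHom =
      Subgroup.center ↥(Cfsg.Omega F Q) :=
  (Subgroup.characteristic_iff_map_eq.1
    (inferInstance : (Subgroup.center ↥(Cfsg.Omega F Q)).Characteristic)) (conjOm Q g)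

/-- The automorphism of `PΩ(Q)` induced by conjugation. -/
noncomputable def phiFun (g : ↥(NO Q)) : Cfsg.POmega F Q ≃* Cfsg.POmega F Q :=
  QuotientGroup.congr (Subgroup.center ↥(Cfsg.Omega F Q)) (Subgroup.center ↥(Cfsg.Omega F Q))
    (conjOm Q g) (conjOm_center Q g)

theorem phiFun_mk (g : ↥(NO Q)) (s : ↥(Cfsg.Omega F Q)) :
    phiFun Q g (QuotientGroup.mk s) = QuotientGroup.mk (conjOm Q g s) := rfl

theorem conjOm_mul (g h : ↥(NO Q)) (s : ↥(Cfsg.Omega F Q)) :
    conjOm Q (g * h) s = conjOm Q g (conjOm Q h s) := by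
  apply Subtype.ext
  apply Subtype.ext
  rw [conjOm_apply, conjOm_apply, conjOm_apply]
  simp [mul_assoc]

theorem conjOm_one (s : ↥(Cfsg.Omega F Q)) : conjOm Q 1 s = s := by
  apply Subtype.ext
  apply Subtype.ext
  rw [conjOm_apply]
  simp

/-- The homomorphism `N_GL(O(Q)) → Aut(PΩ(Q))`. -/
noncomputable def Phi : ↥(NO Q) →* MulAut (Cfsg.POmega F Q) where
  toFun g := phiFun Q g
  map_one' := by
    apply MulEquiv.ext
    intro x
    induction x using QuotientGroup.induction_on with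
    | H s => rw [phiFun_mk, conjOm_one]; rfl
  map_mul' g h := by
    apply MulEquiv.ext
    intro x
    induction x using QuotientGroup.induction_on with
    | H s =>
      rw [phiFun_mk, conjOm_mul, MulAut.mul_apply, phiFun_mk, phiFun_mk]

theorem Phi_mk (g : ↥(NO Q)) (s : ↥(Cfsg.Omega F Q)) :
    Phi Q g (QuotientGroup.mk s) = QuotientGroup.mk (conjOm Q g s) := rfl


/-- `β` is induced by conjugation by `g` iff it equals `Phi g`. -/
theorem induced_iff (g : ↥(NO Q)) (β : Cfsg.POmega F Q ≃* Cfsg.POmega F Q) :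
    Cfsg.IsInducedBySemilinearPOmega Q (g : GL ι F) (RingEquiv.refl F) β ↔ β = Phi Q g := by
  constructor
  · intro h
    apply MulEquiv.ext
    intro x
    induction x using QuotientGroup.induction_on with
    | H s =>
      rw [Phi_mk]
      apply h s (conjOm Q g s)
      rw [conjOm_apply]
      have : ((((s : ↥(Cfsg.isometryGroup F Q)) : GL ι F) : Matrix ι ι F)).map (RingEquiv.refl F) =
          (((s : ↥(Cfsg.isometryGroup F Q)) : GL ι F) : Matrix ι ι F) := by
        ext i j; simp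
      rw [this]
      simp
  · rintro rfl s s' hs'
    rw [Phi_mk]
    congr 1
    apply Subtype.ext
    apply Subtype.ext
    apply Units.ext
    rw [conjOm_apply, hs']
    have : ((((s : ↥(Cfsg.isometryGroup F Q)) : GL ι F) : Matrix ι ι F)).map (RingEquiv.refl F) =
        (((s : ↥(Cfsg.isometryGroup F Q)) : GL ι F) : Matrix ι ι F) := by
      ext i j; simp
    rw [this]
    simp

/-- The subgroup of `Aut(PΩ)` generated by automorphisms induced by elements of `X ≤ N(O)` is the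
image of `X` under `Phi`. -/
theorem autSubgroupOf_eq_map (X : Subgroup (GL ι F)) (hX : X ≤ NO Q) :
    Cfsg.autSubgroupOf (fun β : Cfsg.POmega F Q ≃* Cfsg.POmega F Q =>
      ∃ g : GL ι F, g ∈ X ∧ Cfsg.IsInducedBySemilinearPOmega Q g (RingEquiv.refl F) β) =
      (X.subgroupOf (NO Q)).map (Phi Q) := by
  have hset : {β : MulAut (Cfsg.POmega F Q) |
      ∃ g : GL ι F, g ∈ X ∧ Cfsg.IsInducedBySemilinearPOmega Q g (RingEquiv.refl F) β} =
      (((X.subgroupOf (NO Q)).map (Phi Q) : Subgroup (MulAut (Cfsg.POmega F Q))) :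
        Set (MulAut (Cfsg.POmega F Q))) := by
    ext β
    constructor
    · rintro ⟨g, hg, hβ⟩
      have := (induced_iff Q ⟨g, hX hg⟩ β).1 hβ
      exact ⟨⟨g, hX hg⟩, hg, this.symm⟩
    · rintro ⟨g, hg, rfl⟩
      exact ⟨g, hg, (induced_iff Q g _).2 rfl⟩
  unfold Cfsg.autSubgroupOf
  rw [hset, Subgroup.closure_eq]

theorem pgoAut_eq :
    Cfsg.pgoAut F Q = ((Cfsg.Geo.quadSimilarityGroup (F := F) Q).subgroupOf (NO Q)).map (Phi Q) :=
  autSubgroupOf_eq_map Q _ (sim_le_NO Q)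

theorem poAut_eq :
    Cfsg.poAut F Q = ((Cfsg.isometryGroup F Q).subgroupOf (NO Q)).map (Phi Q) :=
  autSubgroupOf_eq_map Q _ Subgroup.le_normalizer

theorem psoAut_eq :
    Cfsg.psoAut F Q = ((Cfsg.specialIsometryGL F Q).subgroupOf (NO Q)).map (Phi Q) :=
  autSubgroupOf_eq_map Q _ (le_trans inf_le_left Subgroup.le_normalizer)

/-- `Ω(Q)` as a subgroup of `GL`. -/
def OmGL : Subgroup (GL ι F) := (Cfsg.Omega F Q).map (Cfsg.isometryGroup F Q).subtype

theorem mem_OmGL (g : GL ι F) : g ∈ OmGL Q ↔ ∃ s : ↥(Cfsg.Omega F Q),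
    ((s : ↥(Cfsg.isometryGroup F Q)) : GL ι F) = g := by
  constructor
  · rintro ⟨s, hs, rfl⟩
    exact ⟨⟨s, hs⟩, rfl⟩
  · rintro ⟨s, rfl⟩
    exact ⟨s, s.2, rfl⟩

theorem OmGL_le_iso : OmGL Q ≤ Cfsg.isometryGroup F Q := by
  rintro g ⟨s, _, rfl⟩
  exact s.2

theorem OmGL_le_NO : OmGL Q ≤ NO Q := le_trans (OmGL_le_iso Q) Subgroup.le_normalizer

theorem Phi_omega (s : ↥(Cfsg.Omega F Q)) (h : ((s : ↥(Cfsg.isometryGroup F Q)) : GL ι F) ∈ NO Q) :
    Phi Q ⟨((s : ↥(Cfsg.isometryGroup F Q)) : GL ι F), h⟩ = MulAut.conj (QuotientGroup.mk s) := by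
  apply MulEquiv.ext
  intro x
  induction x using QuotientGroup.induction_on with
  | H t =>
    rw [Phi_mk, MulAut.conj_apply, ← QuotientGroup.mk_inv, ← QuotientGroup.mk_mul,
      ← QuotientGroup.mk_mul]
    congr 1

theorem inn_eq :
    Cfsg.Inn (Cfsg.POmega F Q) = ((OmGL Q).subgroupOf (NO Q)).map (Phi Q) := by
  ext β
  constructor
  · rintro ⟨x, rfl⟩
    induction x using QuotientGroup.induction_on with
    | H s =>
      refine ⟨⟨((s : ↥(Cfsg.isometryGroup F Q)) : GL ι F), OmGL_le_NO Q ((mem_OmGL Q _).2 ⟨s, rfl⟩)⟩,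
        (mem_OmGL Q _).2 ⟨s, rfl⟩, ?_⟩
      exact Phi_omega Q s _
  · rintro ⟨g, hg, rfl⟩
    obtain ⟨s, hs⟩ := (mem_OmGL Q _).1 hg
    have : g = ⟨((s : ↥(Cfsg.isometryGroup F Q)) : GL ι F), hs ▸ g.2⟩ := Subtype.ext hs.symm
    rw [this, Phi_omega]
    exact ⟨_, rfl⟩


section kernel

open scoped commutatorElement

theorem commutatorElement_mul_central_left {G : Type*} [Group G] (s z b : G)
    (hz : ∀ x : G, z * x = x * z) : ⁅s * z, b⁆ = ⁅s, b⁆ := by
  rw [commutatorElement_def, commutatorElement_def, _root_.mul_inv_rev]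
  calc s * z * b * (z⁻¹ * s⁻¹) * b⁻¹ = s * (z * b) * z⁻¹ * s⁻¹ * b⁻¹ := by group
    _ = s * (b * z) * z⁻¹ * s⁻¹ * b⁻¹ := by rw [hz b]
    _ = s * b * s⁻¹ * b⁻¹ := by group

theorem commutatorElement_mul_central_right {G : Type*} [Group G] (a t z : G)
    (hz : ∀ x : G, z * x = x * z) : ⁅a, t * z⁆ = ⁅a, t⁆ := by
  rw [commutatorElement_def, commutatorElement_def, _root_.mul_inv_rev]
  calc a * (t * z) * a⁻¹ * (z⁻¹ * t⁻¹) = a * t * (z * a⁻¹) * z⁻¹ * t⁻¹ := by group
    _ = a * t * (a⁻¹ * z) * z⁻¹ * t⁻¹ := by rw [hz a⁻¹]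
    _ = a * t * a⁻¹ * t⁻¹ := by group

/-- The matrix of an element of `Ω(Q)`. -/
def omat (s : ↥(Cfsg.Omega F Q)) : Matrix ι ι F :=
  (((s : ↥(Cfsg.isometryGroup F Q)) : GL ι F) : Matrix ι ι F)

variable (hperf : commutator ↥(Cfsg.Omega F Q) = ⊤)

include hperf in
/-- If `Ω` is perfect, an automorphism of `Ω` inducing the identity on `PΩ` is the identity. -/
theorem conjOm_eq_self_of_Phi_eq_one (g : ↥(NO Q)) (hg : Phi Q g = 1) (s : ↥(Cfsg.Omega F Q)) :
    conjOm Q g s = s := by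
  have hc : ∀ s : ↥(Cfsg.Omega F Q), s⁻¹ * conjOm Q g s ∈ Subgroup.center ↥(Cfsg.Omega F Q) := by
    intro s
    have h1 : Phi Q g (QuotientGroup.mk s) = QuotientGroup.mk s := by rw [hg]; rfl
    rw [Phi_mk] at h1
    exact QuotientGroup.eq.1 h1.symm
  have hK : (⊤ : Subgroup ↥(Cfsg.Omega F Q)) ≤
      MonoidHom.eqLocus (conjOm Q g).toMonoidHom (MonoidHom.id _) := by
    rw [← hperf, commutator_def, Subgroup.commutator_le]
    intro a _ b _
    change conjOm Q g ⁅a, b⁆ = ⁅a, b⁆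
    rw [map_commutatorElement]
    have ha : conjOm Q g a = a * (a⁻¹ * conjOm Q g a) := by group
    have hb : conjOm Q g b = b * (b⁻¹ * conjOm Q g b) := by group
    rw [ha, hb, commutatorElement_mul_central_left _ _ _
      (fun x => (Subgroup.mem_center_iff.1 (hc a) x).symm),
      commutatorElement_mul_central_right _ _ _
      (fun x => (Subgroup.mem_center_iff.1 (hc b) x).symm)]
  exact hK (Subgroup.mem_top s)

variable (hcent : ∀ Z : Matrix ι ι F, (∀ s : ↥(Cfsg.Omega F Q), Z * omat Q s = omat Q s * Z) →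
  ∃ c : F, Z = c • (1 : Matrix ι ι F))

include hperf hcent in
theorem ker_Phi : (Phi Q).ker = (Cfsg.Geo.scalars ι F).subgroupOf (NO Q) := by
  ext g
  rw [MonoidHom.mem_ker, Subgroup.mem_subgroupOf, Cfsg.Geo.mem_scalars_iff]
  constructor
  · intro hg
    have h1 := conjOm_eq_self_of_Phi_eq_one Q hperf g hg
    have h2 : ∀ s : ↥(Cfsg.Omega F Q), ((g : GL ι F) : Matrix ι ι F) * omat Q s =
        omat Q s * ((g : GL ι F) : Matrix ι ι F) := by
      intro s
      have h3 := congrArg (fun x : ↥(Cfsg.Omega F Q) =>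
        (((x : ↥(Cfsg.isometryGroup F Q)) : GL ι F))) (h1 s)
      simp only [conjOm_apply] at h3
      have h4 : (g : GL ι F) * ((s : ↥(Cfsg.isometryGroup F Q)) : GL ι F) =
          ((s : ↥(Cfsg.isometryGroup F Q)) : GL ι F) * (g : GL ι F) := by
        calc (g : GL ι F) * ((s : ↥(Cfsg.isometryGroup F Q)) : GL ι F)
            = (g : GL ι F) * ((s : ↥(Cfsg.isometryGroup F Q)) : GL ι F) * (g : GL ι F)⁻¹ *
              (g : GL ι F) := by group
          _ = ((s : ↥(Cfsg.isometryGroup F Q)) : GL ι F) * (g : GL ι F) := by rw [h3]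
      have h5 := congrArg (fun x : GL ι F => (x : Matrix ι ι F)) h4
      simpa [omat] using h5
    obtain ⟨c, hc⟩ := hcent _ h2
    rcases isEmpty_or_nonempty ι with hem | hne
    · exact ⟨1, Subsingleton.elim _ _⟩
    · have hc0 : c ≠ 0 := by
        rintro rfl
        have h0 : ((g : GL ι F) : Matrix ι ι F) = 0 := by rw [hc]; simp
        have h1' : ((g : GL ι F) : Matrix ι ι F) * (((g : GL ι F)⁻¹ : GL ι F) : Matrix ι ι F) = 1 := by
          rw [← Units.val_mul, mul_inv_cancel, Units.val_one]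
        rw [h0, zero_mul] at h1'
        exact zero_ne_one h1'
      exact ⟨Units.mk0 c hc0, hc⟩
  · rintro ⟨c, hc⟩
    apply MulEquiv.ext
    intro x
    induction x using QuotientGroup.induction_on with
    | H s =>
      rw [Phi_mk]
      congr 1
      apply Subtype.ext
      apply Subtype.ext
      rw [conjOm_apply]
      have hcomm : (g : GL ι F) * ((s : ↥(Cfsg.isometryGroup F Q)) : GL ι F) =
          ((s : ↥(Cfsg.isometryGroup F Q)) : GL ι F) * (g : GL ι F) := by
        apply Units.ext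
        simp [hc]
      rw [hcomm]; group

end kernel

end Cfsg.Agent.Helper5.OrthAut
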