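import Mathlib
import Cfsg.Agent.Lib.Helper5.OrthAut

/-!
# Multiplier and determinant characters on the similarity group; the quotient `PGO / PSO`
-/

set_option autoImplicit false
set_option linter.unusedSectionVars false
set_option linter.unusedSimpArgs false

namespace Cfsg.Agent.Helper5.OrthAut

open Matrix QuadraticMap

section abstract

/-- Abstract factorisation: a surjection `ψ` from a subgroup `X` of `N`, trivial on the kernel of
`Φ`, descends to the image of `X` under `Φ`. -/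
theorem exists_hom_of_map {N A B : Type*} [Group N] [Group A] [Group B] (Φ : N →* A)
    (X : Subgroup N) (ψ : ↥X →* B) (hψ : Function.Surjective ψ)
    (hK : ∀ x : ↥X, Φ x = 1 → ψ x = 1) (P R : Subgroup A) (hP : P = X.map Φ)
    (hR : R = (ψ.ker.map X.subtype).map Φ) :
    ∃ φ : ↥P →* B, Function.Surjective φ ∧ φ.ker = R.subgroupOf P := by
  subst hP hR
  -- the restriction of Φ to X, onto its image
  let f : ↥X →* ↥(X.map Φ) := Φ.subgroupMap X
  have hf : Function.Surjective f := Φ.subgroupMap_surjective X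
  have hfval : ∀ x : ↥X, ((f x : ↥(X.map Φ)) : A) = Φ x := fun x => rfl
  have hker : f.ker ≤ ψ.ker := by
    intro x hx
    rw [MonoidHom.mem_ker] at hx ⊢
    apply hK
    have := congrArg Subtype.val hx
    rw [hfval] at this
    exact this
  let φ : ↥(X.map Φ) →* B := f.liftOfSurjective hf ⟨ψ, hker⟩
  have hφ : ∀ x : ↥X, φ (f x) = ψ x := fun x =>
    f.liftOfRightInverse_comp_apply _ _ ⟨ψ, hker⟩ x
  refine ⟨φ, ?_, ?_⟩
  · intro b
    obtain ⟨x, rfl⟩ := hψ b
    exact ⟨f x, hφ x⟩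
  · ext y
    obtain ⟨x, rfl⟩ := hf y
    rw [MonoidHom.mem_ker, hφ, Subgroup.mem_subgroupOf, hfval]
    constructor
    · intro hx
      exact ⟨x, ⟨x, hx, rfl⟩, rfl⟩
    · rintro ⟨n, ⟨x', hx', rfl⟩, hn⟩
      -- Φ x' = Φ x, ψ x' = 1
      have h1 : Φ ((x'⁻¹ * x : ↥X) : N) = 1 := by
        simp only [Subgroup.coe_mul, Subgroup.coe_inv, map_mul, map_inv]
        have : Φ ((X.subtype x' : N)) = Φ (x : N) := hn
        rw [← this]
        simp
      have h2 := hK _ h1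
      rw [map_mul, map_inv, MonoidHom.mem_ker.1 hx', inv_one, one_mul] at h2
      exact h2

end abstract


section mult

variable {F : Type*} [Field F] {ι : Type} [Fintype ι] [DecidableEq ι]
  (Q : QuadraticForm F (ι → F))

/-- The similarity group of `Q`. -/
abbrev GO : Subgroup (GL ι F) := Cfsg.Geo.quadSimilarityGroup (F := F) ⇑Q

/-- The matrix of an element of `GO`. -/
abbrev gmat (g : ↥(GO Q)) : Matrix ι ι F := ((g : GL ι F) : Matrix ι ι F)

/-- The multiplier of a similarity. -/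
noncomputable def mult (g : ↥(GO Q)) : Fˣ := Classical.choose ((mem_sim_iff (⇑Q) g).1 g.2)

theorem mult_spec (g : ↥(GO Q)) (v : ι → F) : Q (gmat Q g *ᵥ v) = (mult Q g : F) * Q v :=
  Classical.choose_spec ((mem_sim_iff (⇑Q) g).1 g.2) v

variable (hQ0 : ∃ v : ι → F, Q v ≠ 0)

include hQ0 in
theorem mult_unique (g : ↥(GO Q)) (c : Fˣ) (h : ∀ v, Q (gmat Q g *ᵥ v) = (c : F) * Q v) :
    mult Q g = c := by
  obtain ⟨v, hv⟩ := hQ0
  apply Units.ext
  have h1 := mult_spec Q g v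
  rw [h v] at h1
  exact (mul_right_cancel₀ hv h1).symm

/-- The multiplier homomorphism. -/
noncomputable def multHom : ↥(GO Q) →* Fˣ where
  toFun := mult Q
  map_one' := by
    apply mult_unique Q hQ0
    intro v
    simp [gmat]
  map_mul' g h := by
    apply mult_unique Q hQ0
    intro v
    have : gmat Q (g * h) *ᵥ v = gmat Q g *ᵥ (gmat Q h *ᵥ v) := by
      simp [gmat, Matrix.mulVec_mulVec]
    rw [this, mult_spec, mult_spec, Units.val_mul, mul_assoc]

theorem multHom_apply (g : ↥(GO Q)) : multHom Q hQ0 g = mult Q g := rfl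

theorem polar_sim (g : ↥(GO Q)) (u v : ι → F) :
    polar (⇑Q) (gmat Q g *ᵥ u) (gmat Q g *ᵥ v) = (mult Q g : F) * polar (⇑Q) u v := by
  unfold polar
  rw [← Matrix.mulVec_add, mult_spec, mult_spec, mult_spec]
  ring

/-- The Gram matrix of the polar form. -/
noncomputable def gram : Matrix ι ι F := LinearMap.BilinForm.toMatrix' (polarBilin Q)

theorem polar_eq_gram (u v : ι → F) : polar (⇑Q) u v = u ⬝ᵥ (gram Q *ᵥ v) := by
  have h := Matrix.toBilin'_apply' (gram Q) u v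
  rw [gram, Matrix.toBilin'_toMatrix'] at h
  rw [gram, ← h]
  rfl

theorem gram_sim (g : ↥(GO Q)) :
    (gmat Q g)ᵀ * gram Q * gmat Q g = (mult Q g : F) • gram Q := by
  have key : ∀ u v : ι → F, u ⬝ᵥ (((gmat Q g)ᵀ * gram Q * gmat Q g) *ᵥ v) =
      u ⬝ᵥ (((mult Q g : F) • gram Q) *ᵥ v) := by
    intro u v
    have h1 := polar_sim Q g u v
    rw [polar_eq_gram, polar_eq_gram] at h1
    rw [Matrix.smul_mulVec, dotProduct_smul, smul_eq_mul, ← h1,
      ← Matrix.mulVec_mulVec, ← Matrix.mulVec_mulVec, Matrix.dotProduct_mulVec,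
      Matrix.vecMul_transpose]
  ext i j
  have := key (Pi.single i 1) (Pi.single j 1)
  simpa using this

theorem gram_det_ne_zero (hQ : (polarBilin Q).Nondegenerate) : (gram Q).det ≠ 0 := by
  have h1 : (gram Q).Nondegenerate := by
    rw [gram]
    exact LinearMap.BilinForm.nondegenerate_toMatrix'_iff.2 hQ
  exact (Matrix.nondegenerate_iff_det_ne_zero).1 h1

theorem det_sq (hQ : (polarBilin Q).Nondegenerate) (g : ↥(GO Q)) :
    (gmat Q g).det ^ 2 = (mult Q g : F) ^ (Fintype.card ι) := by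
  have h := congrArg Matrix.det (gram_sim Q g)
  rw [Matrix.det_mul, Matrix.det_mul, Matrix.det_transpose, Matrix.det_smul] at h
  have h0 := gram_det_ne_zero Q hQ
  apply mul_right_cancel₀ h0
  linear_combination h

end mult


section scl

variable {F : Type*} [Field F] {ι : Type} [Fintype ι] [DecidableEq ι]

/-- Scalar matrices as a homomorphism `Fˣ → GL`. -/
def sclHom : Fˣ →* GL ι F := Units.map (Matrix.scalar ι : F →+* Matrix ι ι F).toMonoidHom

theorem sclHom_coe (c : Fˣ) : ((sclHom (ι := ι) c : GL ι F) : Matrix ι ι F) = (c : F) • (1 : Matrix ι ι F) := by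
  simp [sclHom, Matrix.smul_one_eq_diagonal]

theorem sclHom_mem (c : Fˣ) : sclHom (ι := ι) c ∈ Cfsg.Geo.scalars ι F := ⟨c, rfl⟩

theorem exists_sclHom_of_mem {g : GL ι F} (hg : g ∈ Cfsg.Geo.scalars ι F) :
    ∃ c : Fˣ, g = sclHom c := by
  obtain ⟨c, rfl⟩ := hg
  exact ⟨c, rfl⟩

theorem sclHom_mulVec (c : Fˣ) (v : ι → F) :
    ((sclHom (ι := ι) c : GL ι F) : Matrix ι ι F) *ᵥ v = (c : F) • v := by
  rw [sclHom_coe, Matrix.smul_mulVec, Matrix.one_mulVec]

theorem sclHom_det (c : Fˣ) :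
    ((sclHom (ι := ι) c : GL ι F) : Matrix ι ι F).det = (c : F) ^ Fintype.card ι := by
  rw [sclHom_coe, Matrix.det_smul, Matrix.det_one, mul_one]

end scl

section chars

variable {F : Type*} [Field F] {ι : Type} [Fintype ι] [DecidableEq ι]
  (Q : QuadraticForm F (ι → F)) (hQ0 : ∃ v : ι → F, Q v ≠ 0)
  (hQ : (polarBilin Q).Nondegenerate) (k : ℕ) (hcard : Fintype.card ι = 2 * k)

theorem sclHom_mem_GO (c : Fˣ) : sclHom (ι := ι) c ∈ GO Q := by
  refine ⟨c * c, fun v => ?_⟩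
  rw [sclHom_mulVec, QuadraticMap.map_smul, Units.val_mul, smul_eq_mul]

/-- The determinant on `GO`. -/
noncomputable def detHom : ↥(GO Q) →* Fˣ := Matrix.GeneralLinearGroup.det.comp (GO Q).subtype

theorem detHom_coe (g : ↥(GO Q)) : ((detHom Q g : Fˣ) : F) = (gmat Q g).det := rfl

/-- The discriminant character `det / μ^k`. -/
noncomputable def dHom : ↥(GO Q) →* Fˣ where
  toFun g := detHom Q g * (multHom Q hQ0 g ^ k)⁻¹
  map_one' := by simp
  map_mul' g h := by
    rw [map_mul, map_mul, mul_pow, _root_.mul_inv_rev]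
    rw [mul_comm ((multHom Q hQ0 h ^ k)⁻¹), mul_mul_mul_comm]

theorem dHom_coe (g : ↥(GO Q)) :
    ((dHom Q hQ0 k g : Fˣ) : F) = (gmat Q g).det * (((mult Q g : F)) ^ k)⁻¹ := by
  show ((detHom Q g * (multHom Q hQ0 g ^ k)⁻¹ : Fˣ) : F) = _
  rw [Units.val_mul, detHom_coe, Units.val_inv_eq_inv_val, Units.val_pow_eq_pow_val, multHom_apply]

include hQ hcard in
theorem dHom_sq (g : ↥(GO Q)) : dHom Q hQ0 k g = 1 ∨ dHom Q hQ0 k g = -1 := by
  have h1 := det_sq Q hQ g
  rw [hcard] at h1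
  have hmu : ((mult Q g : F)) ^ k ≠ 0 := pow_ne_zero _ (Units.ne_zero _)
  have h2 : ((dHom Q hQ0 k g : Fˣ) : F) * ((dHom Q hQ0 k g : Fˣ) : F) = 1 := by
    rw [dHom_coe]
    field_simp
    rw [h1]; ring
  rcases mul_self_eq_one_iff.1 h2 with h | h
  · left; exact Units.ext h
  · right; exact Units.ext (by rw [h]; simp)

variable (h2 : (2 : F) ≠ 0)

include h2 in
theorem one_ne_neg_one_units : (1 : Fˣ) ≠ -1 := by
  intro h
  have := congrArg (fun u : Fˣ => (u : F)) h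
  simp only [Units.val_one, Units.val_neg] at this
  apply h2
  linear_combination this

open Classical in
/-- The discriminant character with values in `ℤˣ`, as a function. -/
noncomputable def dZfun (g : ↥(GO Q)) : ℤˣ := if dHom Q hQ0 k g = 1 then 1 else -1

theorem dZfun_eq_one_iff (g : ↥(GO Q)) : dZfun Q hQ0 k g = 1 ↔ dHom Q hQ0 k g = 1 := by
  unfold dZfun
  split_ifs with h
  · simp [h]
  · simp [h]

/-- The discriminant character with values in `ℤˣ`. -/
noncomputable def dZ : ↥(GO Q) →* ℤˣ where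
  toFun := dZfun Q hQ0 k
  map_one' := by rw [dZfun_eq_one_iff, map_one]
  map_mul' g h := by
    have hne := one_ne_neg_one_units (F := F) h2
    unfold dZfun
    rcases dHom_sq Q hQ0 hQ k hcard g with hg | hg <;>
    rcases dHom_sq Q hQ0 hQ k hcard h with hh | hh <;>
    simp [map_mul, hg, hh, hne, hne.symm]

theorem dZ_eq_one_iff (g : ↥(GO Q)) :
    dZ Q hQ0 hQ k hcard h2 g = 1 ↔ dHom Q hQ0 k g = 1 :=
  dZfun_eq_one_iff Q hQ0 k g

variable [Fintype F] [DecidableEq F]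

/-- The square class of the multiplier, with values in `ℤˣ`. -/
noncomputable def chiHom : ↥(GO Q) →* ℤˣ :=
  (MulChar.toUnitHom (quadraticChar F)).comp (multHom Q hQ0)

theorem chiHom_eq_one_iff (g : ↥(GO Q)) :
    chiHom Q hQ0 g = 1 ↔ IsSquare ((mult Q g : Fˣ) : F) := by
  rw [← quadraticChar_one_iff_isSquare (Units.ne_zero _)]
  show (MulChar.toUnitHom (quadraticChar F)) (mult Q g) = 1 ↔ _
  rw [← Units.val_inj, MulChar.coe_toUnitHom, Units.val_one]

/-- The character `GO → ℤˣ × ℤˣ`. -/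
noncomputable def psiHom : ↥(GO Q) →* ℤˣ × ℤˣ :=
  (chiHom Q hQ0).prod (dZ Q hQ0 hQ k hcard h2)

theorem psiHom_eq_one_iff (g : ↥(GO Q)) :
    psiHom Q hQ0 hQ k hcard h2 g = 1 ↔
      IsSquare ((mult Q g : Fˣ) : F) ∧ dHom Q hQ0 k g = 1 := by
  rw [← chiHom_eq_one_iff Q hQ0, ← dZ_eq_one_iff Q hQ0 hQ k hcard h2]
  show ((chiHom Q hQ0 g, dZ Q hQ0 hQ k hcard h2 g) : ℤˣ × ℤˣ) = 1 ↔ _
  rw [Prod.ext_iff]
  rfl

/-- The kernel of `psiHom` is `scalars · SO`. -/
theorem psiHom_eq_one_iff' (g : ↥(GO Q)) :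
    psiHom Q hQ0 hQ k hcard h2 g = 1 ↔
      ∃ c : Fˣ, ∃ h : GL ι F, h ∈ Cfsg.specialIsometryGL F ⇑Q ∧ (g : GL ι F) = sclHom c * h := by
  rw [psiHom_eq_one_iff]
  constructor
  · rintro ⟨⟨c, hc⟩, hd⟩
    have hc0 : c ≠ 0 := by
      rintro rfl
      rw [mul_zero] at hc
      exact Units.ne_zero _ hc
    refine ⟨Units.mk0 c hc0, (sclHom (Units.mk0 c hc0))⁻¹ * (g : GL ι F),
      Subgroup.mem_inf.2 ⟨?_, ?_⟩, by group⟩
    · -- isometry
      rw [mem_iso_iff]
      intro v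
      rw [Units.val_mul, ← Matrix.mulVec_mulVec, ← map_inv, sclHom_mulVec,
        QuadraticMap.map_smul]
      have := mult_spec Q g v
      rw [gmat] at this
      rw [this, hc]
      simp only [Units.val_inv_eq_inv_val, Units.val_mk0, smul_eq_mul]
      field_simp
    · -- determinant one
      show Matrix.GeneralLinearGroup.det _ = 1
      apply Units.ext
      rw [map_mul, Units.val_mul, ← map_inv]
      show ((sclHom (ι := ι) (Units.mk0 c hc0)⁻¹ : GL ι F) : Matrix ι ι F).det *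
        ((g : GL ι F) : Matrix ι ι F).det = 1
      rw [sclHom_det, hcard]
      have hd' := congrArg (fun u : Fˣ => (u : F)) hd
      simp only [dHom_coe, Units.val_one] at hd'
      rw [hc] at hd'
      simp only [Units.val_inv_eq_inv_val, Units.val_mk0]
      have hck : (c * c) ^ k ≠ 0 := pow_ne_zero _ (mul_ne_zero hc0 hc0)
      field_simp at hd' ⊢
      rw [gmat] at hd'
      rw [hd', ← pow_mul, mul_comm 2 k, ← mul_pow, mul_one_div_cancel hc0, one_pow]
  · rintro ⟨c, h, ⟨hiso, hdet⟩, hg⟩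
    have hmu : mult Q g = c * c := by
      apply mult_unique Q hQ0
      intro v
      rw [gmat, hg, Units.val_mul, ← Matrix.mulVec_mulVec, sclHom_mulVec, QuadraticMap.map_smul,
        (mem_iso_iff (⇑Q) h).1 hiso v, Units.val_mul, smul_eq_mul]
    refine ⟨⟨(c : F), by rw [hmu, Units.val_mul]⟩, ?_⟩
    apply Units.ext
    rw [dHom_coe, hmu, gmat, hg, Units.val_mul, Matrix.det_mul, sclHom_det, hcard, Units.val_one]
    have hdet' : ((h : GL ι F) : Matrix ι ι F).det = 1 := by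
      have := congrArg (fun u : Fˣ => (u : F)) (MonoidHom.mem_ker.1 hdet)
      simpa using this
    rw [hdet', Units.val_mul]
    have hc0 : (c : F) ≠ 0 := Units.ne_zero _
    field_simp
    ring

end chars

section main

/-- `ℤˣ ≃* Multiplicative (ZMod 2)`. -/
def signEquiv : ℤˣ ≃* Multiplicative (ZMod 2) where
  toFun u := if u = 1 then Multiplicative.ofAdd 0 else Multiplicative.ofAdd 1
  invFun x := if x = Multiplicative.ofAdd 0 then 1 else -1
  left_inv := by decide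
  right_inv := by decide
  map_mul' := by decide

/-- `ℤˣ × ℤˣ ≃* Multiplicative (ZMod 2 × ZMod 2)`. -/
def signEquiv2 : ℤˣ × ℤˣ ≃* Multiplicative (ZMod 2 × ZMod 2) :=
  (MulEquiv.prodCongr signEquiv signEquiv).trans
    (MulEquiv.prodMultiplicative (G := ZMod 2) (H := ZMod 2)).symm

theorem exists_comp_equiv {P B C : Type*} [Group P] [Group B] [Group C] (E : B ≃* C)
    (K : Subgroup P) (h : ∃ φ : P →* B, Function.Surjective φ ∧ φ.ker = K) :
    ∃ φ : P →* C, Function.Surjective φ ∧ φ.ker = K := by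
  obtain ⟨φ, hs, hk⟩ := h
  refine ⟨E.toMonoidHom.comp φ, E.surjective.comp hs, ?_⟩
  rw [← hk]
  ext x
  simp [MonoidHom.mem_ker]

variable {F : Type*} [Field F] [Fintype F] [DecidableEq F] {ι : Type} [Fintype ι] [DecidableEq ι]
  (Q : QuadraticForm F (ι → F))

theorem pgo_mod_pso
    (hperf : commutator ↥(Cfsg.Omega F ⇑Q) = ⊤)
    (hcent : ∀ Z : Matrix ι ι F, (∀ s : ↥(Cfsg.Omega F ⇑Q), Z * omat (⇑Q) s = omat (⇑Q) s * Z) →
      ∃ c : F, Z = c • (1 : Matrix ι ι F))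
    (hQ0 : ∃ v : ι → F, Q v ≠ 0) (hQ : (polarBilin Q).Nondegenerate) (k : ℕ)
    (hcard : Fintype.card ι = 2 * k) (h2 : (2 : F) ≠ 0)
    (hsurj : Function.Surjective (psiHom Q hQ0 hQ k hcard h2)) :
    ∃ φ : ↥(Cfsg.pgoAut F ⇑Q) →* Multiplicative (ZMod 2 × ZMod 2), Function.Surjective φ ∧
      φ.ker = (Cfsg.psoAut F ⇑Q).subgroupOf (Cfsg.pgoAut F ⇑Q) := by
  apply exists_comp_equiv signEquiv2
  set X : Subgroup ↥(NO (⇑Q)) := (GO Q).subgroupOf (NO (⇑Q)) with hX
  let e : ↥X ≃* ↥(GO Q) := Subgroup.subgroupOfEquivOfLe (sim_le_NO (⇑Q))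
  have he : ∀ x : ↥X, ((e x : ↥(GO Q)) : GL ι F) = ((x : ↥(NO (⇑Q))) : GL ι F) := fun x => rfl
  let ψ : ↥X →* ℤˣ × ℤˣ := (psiHom Q hQ0 hQ k hcard h2).comp e.toMonoidHom
  have hψ : ∀ x : ↥X, ψ x = psiHom Q hQ0 hQ k hcard h2 (e x) := fun x => rfl
  have hscl : ∀ c : Fˣ, sclHom (ι := ι) c ∈ NO (⇑Q) := fun c => sim_le_NO (⇑Q) (sclHom_mem_GO Q c)
  have hker := ker_Phi (⇑Q) hperf hcent
  have hPhiScl : ∀ c : Fˣ, Phi (⇑Q) ⟨sclHom c, hscl c⟩ = 1 := by
    intro c
    rw [← MonoidHom.mem_ker, hker, Subgroup.mem_subgroupOf]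
    exact sclHom_mem c
  refine exists_hom_of_map (Phi (⇑Q)) X ψ (hsurj.comp e.surjective) ?_ _ _ (pgoAut_eq (⇑Q)) ?_
  · intro x hx
    rw [← MonoidHom.mem_ker, hker, Subgroup.mem_subgroupOf] at hx
    obtain ⟨c, hc⟩ := exists_sclHom_of_mem hx
    rw [hψ, psiHom_eq_one_iff']
    exact ⟨c, 1, one_mem _, by rw [he, hc, mul_one]⟩
  · rw [psoAut_eq]
    ext β
    constructor
    · rintro ⟨n, hn, rfl⟩
      have hn' : (n : GL ι F) ∈ Cfsg.specialIsometryGL F ⇑Q := hn
      have hnGO : (n : GL ι F) ∈ GO Q := iso_le_sim (⇑Q) (Subgroup.mem_inf.1 hn').1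
      refine ⟨n, ⟨⟨n, Subgroup.mem_subgroupOf.2 hnGO⟩, ?_, rfl⟩, rfl⟩
      show ψ _ = 1
      rw [hψ, psiHom_eq_one_iff']
      exact ⟨1, (n : GL ι F), hn', by rw [he, map_one, one_mul]⟩
    · rintro ⟨n, ⟨x, hx, rfl⟩, rfl⟩
      have hx1 : ψ x = 1 := hx
      rw [hψ, psiHom_eq_one_iff'] at hx1
      obtain ⟨c, h, hh, hxe⟩ := hx1
      rw [he] at hxe
      have hhNO : h ∈ NO (⇑Q) :=
        Subgroup.le_normalizer (Subgroup.mem_inf.1 hh).1
      refine ⟨⟨h, hhNO⟩, hh, ?_⟩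
      have hx' : (X.subtype x : ↥(NO (⇑Q))) = ⟨sclHom c, hscl c⟩ * ⟨h, hhNO⟩ := Subtype.ext hxe
      rw [hx', map_mul, hPhiScl, one_mul]

end main

end Cfsg.Agent.Helper5.OrthAut
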