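import Mathlib
import Cfsg.Agent.Lib.Helper5.OrthAut2
import Cfsg.Agent.Lib.Lead.OmegaCenter
import Cfsg.Agent.Lib.Helper13.OrthSimple
import Cfsg.Agent.Lib.Helper43.SpinorNorm
import Cfsg.Agent.Lib.Helper43.OrthPlus
import Cfsg.Agent.Lib.Helper43.OrthMinus
import Cfsg.Agent.Lib.Lead.POmegaCard

/-!
# `PGO / PSO ≅ C₂ × C₂` for the plus and minus type forms in odd characteristic
-/

set_option autoImplicit false
set_option linter.unusedSectionVars false
set_option linter.unusedSimpArgs false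

namespace Cfsg.Agent.Helper5.OrthAut

open Matrix QuadraticMap Cfsg.Agent.Helper43

section wrappers

variable {F : Type*} [Field F] {ι : Type} [Fintype ι] [DecidableEq ι]
  (Q : QuadraticForm F (ι → F))

theorem hperf_of_hyp [Finite F] (hQ : (polarBilin Q).Nondegenerate) {k : ℕ}
    (e f : Fin k → (ι → F)) (hef : IsHypFamily Q e f) (hk : 3 ≤ k)
    (hn : 5 ≤ Fintype.card ι) : commutator ↥(Cfsg.Omega F ⇑Q) = ⊤ := by
  have h1 := Cfsg.Agent.Helper13.omega_eq_EK Q hQ e f hef hk hn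
  have h2 := Cfsg.Agent.Helper13.EK_perfect Q hQ e f hef hk
  have key : ∀ (H K : Subgroup ↥(Cfsg.isometryGroup F ⇑Q)), H = K →
      commutator ↥K = ⊤ → commutator ↥H = ⊤ := by
    intro H K hHK h
    subst hHK
    exact h
  exact key _ _ h1 h2

theorem hcent_of_hyp {k : ℕ} {e f : Fin k → (ι → F)} (h : IsHypFamily Q e f) (hk : 3 ≤ k)
    (hspan : ∀ a : ι, (∃ i, (Pi.single a 1 : ι → F) = e i) ∨
      (∃ i, (Pi.single a 1 : ι → F) = f i) ∨
      ((∀ i, polar (⇑Q) (e i) (Pi.single a 1) = 0) ∧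
        (∀ i, polar (⇑Q) (f i) (Pi.single a 1) = 0))) :
    ∀ Z : Matrix ι ι F, (∀ s : ↥(Cfsg.Omega F ⇑Q), Z * omat (⇑Q) s = omat (⇑Q) s * Z) →
      ∃ c : F, Z = c • (1 : Matrix ι ι F) := by
  intro Z hZ
  apply Cfsg.Agent.Lead.OmegaCenter.scalar_of_commute Q Z h hk hspan
  rintro M ⟨g, hg, rfl⟩
  exact hZ ⟨g, hg⟩

end wrappers

section refl

variable {F : Type*} [Field F] {ι : Type} [Fintype ι] [DecidableEq ι]
  (Q : QuadraticForm F (ι → F)) (hQ0 : ∃ v : ι → F, Q v ≠ 0)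

/-- An isometry as an element of `GO`. -/
def isoGO (g : ↥(Cfsg.isometryGroup F ⇑Q)) : ↥(GO Q) := ⟨(g : GL ι F), iso_le_sim (⇑Q) g.2⟩

theorem isoGO_mul (g h : ↥(Cfsg.isometryGroup F ⇑Q)) : isoGO Q (g * h) = isoGO Q g * isoGO Q h := rfl

include hQ0 in
theorem mult_isoGO (g : ↥(Cfsg.isometryGroup F ⇑Q)) : mult Q (isoGO Q g) = 1 := by
  apply mult_unique Q hQ0
  intro v
  rw [Units.val_one, one_mul]
  exact (mem_iso_iff (⇑Q) (g : GL ι F)).1 g.2 v

theorem dHom_isoGO (k : ℕ) (g : ↥(Cfsg.isometryGroup F ⇑Q)) :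
    ((dHom Q hQ0 k (isoGO Q g) : Fˣ) : F) = ((g : GL ι F) : Matrix ι ι F).det := by
  rw [dHom_coe, mult_isoGO Q hQ0]
  simp [gmat, isoGO]

theorem hQ0_of_hyp {k : ℕ} {e f : Fin k → (ι → F)} (h : IsHypFamily Q e f) (hk : 1 ≤ k) :
    ∃ v : ι → F, Q v ≠ 0 := by
  let i0 : Fin k := ⟨0, by omega⟩
  refine ⟨e i0 + f i0, ?_⟩
  rw [QuadraticMap.map_add Q, h.qe, h.qf, h.ef, if_pos rfl]
  simp

end refl

section surj

variable {F : Type*} [Field F] [Fintype F] [DecidableEq F] {ι : Type} [Fintype ι] [DecidableEq ι]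
  (Q : QuadraticForm F (ι → F)) (hQ0 : ∃ v : ι → F, Q v ≠ 0)
  (hQ : (polarBilin Q).Nondegenerate) (k : ℕ) (hcard : Fintype.card ι = 2 * k)
  (h2 : (2 : F) ≠ 0)

theorem psiHom_surjective (δ : ↥(GO Q)) (hδ1 : ¬ IsSquare ((mult Q δ : Fˣ) : F))
    (hδ2 : dHom Q hQ0 k δ = 1) (v : ι → F) (hv : Q v ≠ 0) :
    Function.Surjective (psiHom Q hQ0 hQ k hcard h2) := by
  set r : ↥(GO Q) := isoGO Q (reflIso Q hv) with hr
  have hr1 : chiHom Q hQ0 r = 1 := by
    rw [chiHom_eq_one_iff, hr, mult_isoGO Q hQ0, Units.val_one]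
    exact ⟨1, by simp⟩
  have hr2 : dZ Q hQ0 hQ k hcard h2 r = -1 := by
    rcases Int.units_eq_one_or (dZ Q hQ0 hQ k hcard h2 r) with h | h
    · exfalso
      rw [dZ_eq_one_iff] at h
      have h' := congrArg (fun u : Fˣ => (u : F)) h
      simp only [hr, dHom_isoGO, reflIso_coe, reflectionMatrix_det Q hv, Units.val_one] at h'
      apply h2
      linear_combination -h'
    · exact h
  have hd1 : chiHom Q hQ0 δ = -1 := by
    rcases Int.units_eq_one_or (chiHom Q hQ0 δ) with h | h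
    · exfalso
      rw [chiHom_eq_one_iff] at h
      exact hδ1 h
    · exact h
  have hd2 : dZ Q hQ0 hQ k hcard h2 δ = 1 := by
    rw [dZ_eq_one_iff]; exact hδ2
  have hψδ : psiHom Q hQ0 hQ k hcard h2 δ = (-1, 1) := Prod.ext hd1 hd2
  have hψr : psiHom Q hQ0 hQ k hcard h2 r = (1, -1) := Prod.ext hr1 hr2
  rintro ⟨a, b⟩
  rcases Int.units_eq_one_or a with rfl | rfl <;> rcases Int.units_eq_one_or b with rfl | rfl
  · exact ⟨1, map_one _⟩
  · exact ⟨r, hψr⟩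
  · exact ⟨δ, hψδ⟩
  · refine ⟨δ * r, ?_⟩
    rw [map_mul, hψδ, hψr]
    rfl

end surj

section diag

variable {F : Type*} [Field F] {ι : Type} [Fintype ι] [DecidableEq ι]

/-- Invertible diagonal matrices. -/
def diagGL (d : ι → Fˣ) : GL ι F :=
  ⟨Matrix.diagonal (fun i => (d i : F)), Matrix.diagonal (fun i => (((d i)⁻¹ : Fˣ) : F)),
    by rw [Matrix.diagonal_mul_diagonal]; simp,
    by rw [Matrix.diagonal_mul_diagonal]; simp⟩

theorem diagGL_coe (d : ι → Fˣ) :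
    ((diagGL d : GL ι F) : Matrix ι ι F) = Matrix.diagonal (fun i => (d i : F)) := rfl

theorem diagGL_mulVec (d : ι → Fˣ) (v : ι → F) (i : ι) :
    (((diagGL d : GL ι F) : Matrix ι ι F) *ᵥ v) i = (d i : F) * v i := by
  rw [diagGL_coe, Matrix.mulVec_diagonal]

theorem diagGL_det (d : ι → Fˣ) :
    ((diagGL d : GL ι F) : Matrix ι ι F).det = ∏ i, (d i : F) := by
  rw [diagGL_coe, Matrix.det_diagonal]

end diag

section plus

variable {F : Type*} [Field F] [Fintype F]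

theorem two_ne_zero_of_odd_card (hodd : Odd (Fintype.card F)) : (2 : F) ≠ 0 := by
  intro h2
  have h := FiniteField.even_card_of_char_two
    (CharP.ringChar_of_prime_eq_zero Nat.prime_two (by exact_mod_cast h2) : ringChar F = 2)
  rw [← Nat.even_iff, ← Nat.not_odd_iff_even] at h
  exact h hodd

theorem exists_nonsquare_unit (h2 : (2 : F) ≠ 0) : ∃ ν : Fˣ, ¬ IsSquare (ν : F) := by
  have hchar : ringChar F ≠ 2 := by
    intro h
    have : CharP F 2 := ringChar.of_eq h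
    apply h2
    have := CharP.cast_eq_zero F 2
    exact_mod_cast this
  obtain ⟨a, ha⟩ := FiniteField.exists_nonsquare hchar
  have ha0 : a ≠ 0 := by
    rintro rfl
    exact ha ⟨0, by simp⟩
  exact ⟨Units.mk0 a ha0, ha⟩

/-- The similarity `diag(ν, …, ν, 1, …, 1)` of the plus-type form. -/
def deltaPlus (m : ℕ) (ν : Fˣ) : GL (Fin m ⊕ Fin m) F :=
  diagGL (Sum.elim (fun _ => ν) (fun _ => 1))

theorem deltaPlus_sim (m : ℕ) (ν : Fˣ) (v : Fin m ⊕ Fin m → F) :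
    stdPlus F m (((deltaPlus m ν : GL (Fin m ⊕ Fin m) F) : Matrix _ _ F) *ᵥ v) =
      (ν : F) * stdPlus F m v := by
  rw [stdPlus_apply, stdPlus_apply]
  unfold Cfsg.quadFormPlus
  rw [Finset.mul_sum]
  apply Finset.sum_congr rfl
  intro i _
  rw [deltaPlus, diagGL_mulVec, diagGL_mulVec]
  simp only [Sum.elim_inl, Sum.elim_inr, Units.val_one, one_mul]
  ring

theorem deltaPlus_mem (m : ℕ) (ν : Fˣ) : deltaPlus m ν ∈ GO (stdPlus F m) :=
  ⟨ν, deltaPlus_sim m ν⟩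

theorem deltaPlus_det (m : ℕ) (ν : Fˣ) :
    ((deltaPlus m ν : GL (Fin m ⊕ Fin m) F) : Matrix (Fin m ⊕ Fin m) (Fin m ⊕ Fin m) F).det = (ν : F) ^ m := by
  rw [deltaPlus, diagGL_det, Fintype.prod_sum_type]
  simp

theorem pgo_mod_pso_plus (hodd : Odd (Fintype.card F)) {m : ℕ} (hm : 4 ≤ m) :
    ∃ φ : ↥(Cfsg.pgoAut F (Cfsg.quadFormPlus m F)) →* Multiplicative (ZMod 2 × ZMod 2),
      Function.Surjective φ ∧
      φ.ker = (Cfsg.psoAut F (Cfsg.quadFormPlus m F)).subgroupOf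
        (Cfsg.pgoAut F (Cfsg.quadFormPlus m F)) := by
  classical
  have h2 := two_ne_zero_of_odd_card hodd
  have hfam := stdPlus_isHypFamily F m
  have hnd := stdPlus_nondegenerate F m
  have hcard : Fintype.card (Fin m ⊕ Fin m) = 2 * m := by simp; ring
  have hQ0 := hQ0_of_hyp (stdPlus F m) hfam (by omega)
  have hperf := hperf_of_hyp (stdPlus F m) hnd _ _ hfam (by omega) (by rw [hcard]; omega)
  have hcent := hcent_of_hyp (stdPlus F m) hfam (by omega)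
    (Cfsg.Agent.Lead.POmegaCard.hspan_plus m)
  obtain ⟨ν, hν⟩ := exists_nonsquare_unit h2
  obtain ⟨v, hv⟩ := hQ0
  have hmu : mult (stdPlus F m) ⟨deltaPlus m ν, deltaPlus_mem m ν⟩ = ν :=
    mult_unique _ ⟨v, hv⟩ _ _ (deltaPlus_sim m ν)
  have hsurj := psiHom_surjective (stdPlus F m) ⟨v, hv⟩ hnd m hcard h2
    ⟨deltaPlus m ν, deltaPlus_mem m ν⟩ (by rw [hmu]; exact hν)
    (by
      apply Units.ext
      rw [dHom_coe, hmu, Units.val_one]
      show ((deltaPlus m ν : GL (Fin m ⊕ Fin m) F) : Matrix (Fin m ⊕ Fin m) (Fin m ⊕ Fin m) F).det * _ = 1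
      rw [deltaPlus_det]
      exact mul_inv_cancel₀ (pow_ne_zero _ (Units.ne_zero _))) v hv
  exact pgo_mod_pso (stdPlus F m) hperf hcent ⟨v, hv⟩ hnd m hcard h2 hsurj

end plus

section minus

variable {F : Type*} [Field F] [Fintype F]

/-- The matrix of the similarity `diag(ν,…,ν,1,…,1) ⊕ (multiplication by w)` of the minus-type
form. -/
def deltaMinusMat (m : ℕ) (a b : F) (ν : F) (w : F × F) :
    Matrix ((Fin m ⊕ Fin m) ⊕ Fin 2) ((Fin m ⊕ Fin m) ⊕ Fin 2) F :=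
  Matrix.fromBlocks (Matrix.diagonal (Sum.elim (fun _ => ν) (fun _ => 1))) 0 0
    !![w.1, -b * w.2; w.2, w.1 + a * w.2]

theorem deltaMinusMat_det (m : ℕ) (a b ν : F) (w : F × F) :
    (deltaMinusMat m a b ν w).det = ν ^ m * nrm a b w := by
  rw [deltaMinusMat, Matrix.det_fromBlocks_zero₂₁, Matrix.det_diagonal, Fintype.prod_sum_type,
    Matrix.det_fin_two_of]
  simp only [Sum.elim_inl, Sum.elim_inr, Finset.prod_const, Finset.card_univ, Fintype.card_fin,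
    one_pow, mul_one, nrm]
  ring

theorem deltaMinusMat_mulVec_ll (m : ℕ) (a b ν : F) (w : F × F)
    (v : (Fin m ⊕ Fin m) ⊕ Fin 2 → F) (i : Fin m) :
    (deltaMinusMat m a b ν w *ᵥ v) (Sum.inl (Sum.inl i)) = ν * v (Sum.inl (Sum.inl i)) := by
  rw [deltaMinusMat, Matrix.fromBlocks_mulVec]
  simp [Matrix.mulVec_diagonal]

theorem deltaMinusMat_mulVec_lr (m : ℕ) (a b ν : F) (w : F × F)
    (v : (Fin m ⊕ Fin m) ⊕ Fin 2 → F) (i : Fin m) :
    (deltaMinusMat m a b ν w *ᵥ v) (Sum.inl (Sum.inr i)) = v (Sum.inl (Sum.inr i)) := by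
  rw [deltaMinusMat, Matrix.fromBlocks_mulVec]
  simp [Matrix.mulVec_diagonal]

theorem deltaMinusMat_mulVec_r0 (m : ℕ) (a b ν : F) (w : F × F)
    (v : (Fin m ⊕ Fin m) ⊕ Fin 2 → F) :
    (deltaMinusMat m a b ν w *ᵥ v) (Sum.inr 0) =
      w.1 * v (Sum.inr 0) - b * w.2 * v (Sum.inr 1) := by
  rw [deltaMinusMat, Matrix.fromBlocks_mulVec]
  simp [Matrix.mulVec, dotProduct, Fin.sum_univ_two]
  ring

theorem deltaMinusMat_mulVec_r1 (m : ℕ) (a b ν : F) (w : F × F)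
    (v : (Fin m ⊕ Fin m) ⊕ Fin 2 → F) :
    (deltaMinusMat m a b ν w *ᵥ v) (Sum.inr 1) =
      w.2 * v (Sum.inr 0) + (w.1 + a * w.2) * v (Sum.inr 1) := by
  rw [deltaMinusMat, Matrix.fromBlocks_mulVec]
  simp [Matrix.mulVec, dotProduct, Fin.sum_univ_two]

theorem deltaMinusMat_sim (m : ℕ) (a b ν : F) (w : F × F) (hw : nrm a b w = ν)
    (v : (Fin m ⊕ Fin m) ⊕ Fin 2 → F) :
    stdMinus F m a b (deltaMinusMat m a b ν w *ᵥ v) = ν * stdMinus F m a b v := by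
  rw [stdMinus_apply, stdMinus_apply]
  unfold Cfsg.quadFormMinus
  simp only [deltaMinusMat_mulVec_ll, deltaMinusMat_mulVec_lr, deltaMinusMat_mulVec_r0,
    deltaMinusMat_mulVec_r1]
  have hsum : ∑ i : Fin m, ν * v (Sum.inl (Sum.inl i)) * v (Sum.inl (Sum.inr i)) =
      ν * ∑ i : Fin m, v (Sum.inl (Sum.inl i)) * v (Sum.inl (Sum.inr i)) := by
    rw [Finset.mul_sum]
    apply Finset.sum_congr rfl
    intro i _
    ring
  rw [hsum, ← hw]
  unfold nrm
  ring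

/-- The similarity as an element of `GL`. -/
noncomputable def deltaMinus (m : ℕ) (a b : F) (ν : Fˣ) (w : F × F) (hw : nrm a b w = ν) :
    GL ((Fin m ⊕ Fin m) ⊕ Fin 2) F :=
  Matrix.GeneralLinearGroup.mkOfDetNeZero (deltaMinusMat m a b ν w) (by
    rw [deltaMinusMat_det, hw]
    exact mul_ne_zero (pow_ne_zero _ (Units.ne_zero _)) (Units.ne_zero _))

theorem deltaMinus_coe (m : ℕ) (a b : F) (ν : Fˣ) (w : F × F) (hw : nrm a b w = ν) :
    ((deltaMinus m a b ν w hw : GL ((Fin m ⊕ Fin m) ⊕ Fin 2) F) :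
      Matrix ((Fin m ⊕ Fin m) ⊕ Fin 2) ((Fin m ⊕ Fin m) ⊕ Fin 2) F) =
      deltaMinusMat m a b ν w := rfl

theorem deltaMinus_mem (m : ℕ) (a b : F) (ν : Fˣ) (w : F × F) (hw : nrm a b w = ν) :
    deltaMinus m a b ν w hw ∈ GO (stdMinus F m a b) :=
  ⟨ν, fun v => by rw [deltaMinus_coe]; exact deltaMinusMat_sim m a b ν w hw v⟩

theorem pgo_mod_pso_minus (hodd : Odd (Fintype.card F)) {m : ℕ} (hm : 3 ≤ m) (a b : F)
    (hab : ∀ z₁ z₂ : F, z₁ ^ 2 + a * z₁ * z₂ + b * z₂ ^ 2 = 0 → z₁ = 0 ∧ z₂ = 0) :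
    ∃ φ : ↥(Cfsg.pgoAut F (Cfsg.quadFormMinus m F a b)) →* Multiplicative (ZMod 2 × ZMod 2),
      Function.Surjective φ ∧
      φ.ker = (Cfsg.psoAut F (Cfsg.quadFormMinus m F a b)).subgroupOf
        (Cfsg.pgoAut F (Cfsg.quadFormMinus m F a b)) := by
  classical
  have h2 := two_ne_zero_of_odd_card hodd
  have hab' : AnisoPair a b := hab
  have hfam := stdMinus_isHypFamily F m a b
  have hnd := stdMinus_nondegenerate (F := F) m hab'
  have hcard : Fintype.card ((Fin m ⊕ Fin m) ⊕ Fin 2) = 2 * (m + 1) := by simp; ring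
  have hQ0 := hQ0_of_hyp (stdMinus F m a b) hfam (by omega)
  have hperf := hperf_of_hyp (stdMinus F m a b) hnd _ _ hfam (by omega) (by rw [hcard]; omega)
  have hcent := hcent_of_hyp (stdMinus F m a b) hfam (by omega)
    (Cfsg.Agent.Lead.POmegaCard.hspan_minus m a b)
  obtain ⟨ν, hν⟩ := exists_nonsquare_unit h2
  obtain ⟨w, hw⟩ := hab'.exists_nrm_eq (ν : F)
  obtain ⟨v, hv⟩ := hQ0
  have hmu : mult (stdMinus F m a b) ⟨deltaMinus m a b ν w hw, deltaMinus_mem m a b ν w hw⟩ = ν :=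
    mult_unique _ ⟨v, hv⟩ _ _ (fun v => by
      show stdMinus F m a b (deltaMinusMat m a b ν w *ᵥ v) = _
      exact deltaMinusMat_sim m a b ν w hw v)
  have hsurj := psiHom_surjective (stdMinus F m a b) ⟨v, hv⟩ hnd (m + 1) hcard h2
    ⟨deltaMinus m a b ν w hw, deltaMinus_mem m a b ν w hw⟩ (by rw [hmu]; exact hν)
    (by
      apply Units.ext
      rw [dHom_coe, hmu, Units.val_one]
      show (deltaMinusMat m a b ν w).det * _ = 1
      rw [deltaMinusMat_det, hw, ← pow_succ]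
      exact mul_inv_cancel₀ (pow_ne_zero _ (Units.ne_zero _))) v hv
  have := pgo_mod_pso (stdMinus F m a b) hperf hcent ⟨v, hv⟩ hnd (m + 1) hcard h2 hsurj
  rw [coe_stdMinus] at this
  exact this

end minus

end Cfsg.Agent.Helper5.OrthAut
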