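import Mathlib
import Cfsg.Agent.Lib.Helper44.CartanDieudonne
import Cfsg.Agent.Lib.Helper44.ReflParity

/-!
# Lagrangian subspaces and reflections

For a non-degenerate quadratic form in characteristic not two, a subspace `U` is *Lagrangian*
if it equals its own orthogonal.  A reflection changes `dim (U ⊓ W)` by exactly one, for any two
Lagrangian subspaces `U`, `W`.
-/

set_option autoImplicit false
set_option linter.unusedSectionVars false
set_option linter.unusedSimpArgs false

namespace Cfsg.Agent.Helper5.OrthLag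

open Module QuadraticMap Cfsg.Agent.Helper44

variable {K : Type*} [Field K] {V : Type*} [AddCommGroup V] [Module K V]
  (Q : QuadraticForm K V)

/-- A Lagrangian subspace: equal to its own orthogonal for the polar form. -/
def IsLag (U : Submodule K V) : Prop := LinearMap.BilinForm.orthogonal (polarBilin Q) U = U

variable {Q}

theorem IsLag.mem_iff {U : Submodule K V} (hU : IsLag Q U) (x : V) :
    x ∈ U ↔ ∀ u ∈ U, polar Q u x = 0 := by
  conv_lhs => rw [← hU]
  rw [LinearMap.BilinForm.mem_orthogonal_iff]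
  rfl

theorem IsLag.polar_eq_zero {U : Submodule K V} (hU : IsLag Q U) {x y : V} (hx : x ∈ U)
    (hy : y ∈ U) : polar Q x y = 0 := (hU.mem_iff y).1 hy x hx

theorem IsLag.Q_eq_zero (h2 : (2 : K) ≠ 0) {U : Submodule K V} (hU : IsLag Q U) {x : V}
    (hx : x ∈ U) : Q x = 0 := by
  have := hU.polar_eq_zero hx hx
  rw [polar_self_mul] at this
  exact (mul_eq_zero.1 this).resolve_left h2

theorem polarBilin_isRefl : (polarBilin Q).IsRefl := by
  intro x y h
  rw [polarBilin_apply_apply] at h ⊢
  rw [polar_comm]; exact h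

theorem IsLag.two_mul_finrank [FiniteDimensional K V] (hQ : (polarBilin Q).Nondegenerate)
    {U : Submodule K V} (hU : IsLag Q U) : 2 * finrank K U = finrank K V := by
  have h1 := LinearMap.BilinForm.finrank_orthogonal hQ U
  rw [hU] at h1
  have h2 := Submodule.finrank_le U
  omega

theorem orth_inf_eq_sup [FiniteDimensional K V] (hQ : (polarBilin Q).Nondegenerate)
    {U W : Submodule K V} (hU : IsLag Q U) (hW : IsLag Q W) :
    LinearMap.BilinForm.orthogonal (polarBilin Q) (U ⊓ W) = U ⊔ W := by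
  symm
  apply Submodule.eq_of_le_of_finrank_eq
  · intro x hx
    obtain ⟨u, hu, w, hw, rfl⟩ := Submodule.mem_sup.1 hx
    rw [LinearMap.BilinForm.mem_orthogonal_iff]
    intro n hn
    show polarBilin Q n (u + w) = 0
    rw [map_add, polarBilin_apply_apply, polarBilin_apply_apply,
      hU.polar_eq_zero hn.1 hu, hW.polar_eq_zero hn.2 hw, add_zero]
  · have h1 := LinearMap.BilinForm.finrank_orthogonal hQ (U ⊓ W)
    have h2 := Submodule.finrank_sup_add_finrank_inf_eq U W
    have h3 := hU.two_mul_finrank hQ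
    have h4 := hW.two_mul_finrank hQ
    have h5 := Submodule.finrank_le (U ⊓ W)
    omega

/-- Image of a Lagrangian under an invertible similarity is Lagrangian. -/
theorem IsLag.map {U : Submodule K V} (hU : IsLag Q U) (f g : V →ₗ[K] V)
    (hfg : ∀ x, f (g x) = x) (c : K) (hc : c ≠ 0)
    (hf : ∀ x y, polar Q (f x) (f y) = c * polar Q x y) : IsLag Q (U.map f) := by
  unfold IsLag
  ext x
  rw [LinearMap.BilinForm.mem_orthogonal_iff, Submodule.mem_map]
  constructor
  · intro h
    refine ⟨g x, ?_, hfg x⟩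
    rw [hU.mem_iff]
    intro u hu
    have := h (f u) (Submodule.mem_map_of_mem hu)
    change polarBilin Q (f u) x = 0 at this
    rw [polarBilin_apply_apply, ← hfg x, hf] at this
    exact (mul_eq_zero.1 this).resolve_left hc
  · rintro ⟨y, hy, rfl⟩ n hn
    obtain ⟨u, hu, rfl⟩ := Submodule.mem_map.1 hn
    show polarBilin Q (f u) (f y) = 0
    rw [polarBilin_apply_apply, hf, hU.polar_eq_zero hu hy, mul_zero]

theorem reflLin_reflLin (v : V) (hv : Q v ≠ 0) (x : V) : reflLin Q v (reflLin Q v x) = x := by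
  have := reflLin_mul_self Q v hv
  have h := congrArg (fun f : Module.End K V => f x) this
  exact h

theorem polar_reflLin (v : V) (hv : Q v ≠ 0) (x y : V) :
    polar Q (reflLin Q v x) (reflLin Q v y) = polar Q x y :=
  polar_map_of_isometry Q (reflLin Q v) (fun z => Q_reflLin Q v z hv) x y

theorem IsLag.map_refl {U : Submodule K V} (hU : IsLag Q U) (v : V) (hv : Q v ≠ 0) :
    IsLag Q (U.map (reflLin Q v)) :=
  hU.map (reflLin Q v) (reflLin Q v) (reflLin_reflLin v hv) 1 one_ne_zero
    (fun x y => by rw [one_mul, polar_reflLin v hv])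

/-- On the hyperplane `v^⊥`, membership in `W` and in its reflection agree. -/
theorem mem_map_refl_iff_of_polar_eq_zero (W : Submodule K V) (v : V) (hv : Q v ≠ 0) (x : V)
    (hx : polar Q v x = 0) : x ∈ W.map (reflLin Q v) ↔ x ∈ W := by
  have hrx : reflLin Q v x = x := reflLin_of_polar_eq_zero Q v x hx
  constructor
  · rintro ⟨w, hw, hwx⟩
    have : w = x := by
      rw [← reflLin_reflLin v hv w, hwx, hrx]
    rw [← this]; exact hw
  · intro h
    exact ⟨x, h, hrx⟩

/-- The key dichotomy, part 1: not both intersections leave the hyperplane `v^⊥`. -/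
theorem flip_not_both {U W : Submodule K V} (hU : IsLag Q U) (hW : IsLag Q W) (v : V)
    (hv : Q v ≠ 0) {x y : V} (hx : x ∈ U ⊓ W) (hy : y ∈ U ⊓ W.map (reflLin Q v)) :
    polar Q v x = 0 ∨ polar Q v y = 0 := by
  obtain ⟨w, hw, hwy⟩ := hy.2
  have hw' : w = reflLin Q v y := by rw [← hwy, reflLin_reflLin v hv]
  have h1 : polar Q x w = 0 := hW.polar_eq_zero hx.2 hw
  have h2 : polar Q x y = 0 := hU.polar_eq_zero hx.1 hy.1
  rw [hw', reflLin_apply, polar_sub_right, h2, polar_smul_right, zero_sub, neg_eq_zero,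
    smul_eq_mul, polar_comm Q x v] at h1
  rcases mul_eq_zero.1 h1 with h | h
  · rcases mul_eq_zero.1 h with h' | h'
    · exact absurd (inv_eq_zero.1 h') hv
    · right; exact h'
  · left; exact h

/-- The key dichotomy, part 2: at least one intersection leaves the hyperplane `v^⊥`. -/
theorem flip_exists [FiniteDimensional K V] (hQ : (polarBilin Q).Nondegenerate) (h2 : (2 : K) ≠ 0)
    {U W : Submodule K V} (hU : IsLag Q U) (hW : IsLag Q W) (v : V) (hv : Q v ≠ 0)
    (h : ∀ x ∈ U ⊓ W, polar Q v x = 0) :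
    ∃ y ∈ U ⊓ W.map (reflLin Q v), polar Q v y ≠ 0 := by
  have hv' : v ∈ LinearMap.BilinForm.orthogonal (polarBilin Q) (U ⊓ W) := by
    rw [LinearMap.BilinForm.mem_orthogonal_iff]
    intro n hn
    show polarBilin Q n v = 0
    rw [polarBilin_apply_apply, polar_comm]
    exact h n hn
  rw [orth_inf_eq_sup hQ hU hW] at hv'
  obtain ⟨u, hu, w, hw, huw⟩ := Submodule.mem_sup.1 hv'
  have hQu : Q u = 0 := hU.Q_eq_zero h2 hu
  have hQw : Q w = 0 := hW.Q_eq_zero h2 hw
  have hQv : Q v = polar Q u w := by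
    rw [← huw, QuadraticMap.map_add Q u w, hQu, hQw]; ring
  have hvw : polar Q v w = polar Q u w := by
    rw [← huw, polar_add_left, hW.polar_eq_zero hw hw, add_zero]
  have hvu : polar Q v u = polar Q u w := by
    rw [← huw, polar_add_left, hU.polar_eq_zero hu hu, zero_add, polar_comm]
  refine ⟨u, ⟨hu, ⟨-w, W.neg_mem hw, ?_⟩⟩, ?_⟩
  · rw [map_neg, reflLin_apply, hvw, ← hQv, inv_mul_cancel₀ hv, one_smul, ← huw]
    abel
  · rw [hvu, ← hQv]; exact hv

/-- A reflection changes `dim (U ⊓ W)` by exactly one. -/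
theorem flip [FiniteDimensional K V] (hQ : (polarBilin Q).Nondegenerate) (h2 : (2 : K) ≠ 0)
    {U W : Submodule K V} (hU : IsLag Q U) (hW : IsLag Q W) (v : V) (hv : Q v ≠ 0) :
    finrank K ↥(U ⊓ W.map (reflLin Q v)) = finrank K ↥(U ⊓ W) + 1 ∨
      finrank K ↥(U ⊓ W) = finrank K ↥(U ⊓ W.map (reflLin Q v)) + 1 := by
  set φ : V →ₗ[K] K := polarBilin Q v with hφ
  have hφa : ∀ x, φ x = polar Q v x := fun x => rfl
  set E : Submodule K V := U ⊓ W ⊓ LinearMap.ker φ with hE
  have hE' : U ⊓ W.map (reflLin Q v) ⊓ LinearMap.ker φ = E := by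
    ext x
    simp only [Submodule.mem_inf, LinearMap.mem_ker, hE, hφa]
    constructor
    · rintro ⟨⟨h1, h2'⟩, h3⟩
      exact ⟨⟨h1, (mem_map_refl_iff_of_polar_eq_zero W v hv x h3).1 h2'⟩, h3⟩
    · rintro ⟨⟨h1, h2'⟩, h3⟩
      exact ⟨⟨h1, (mem_map_refl_iff_of_polar_eq_zero W v hv x h3).2 h2'⟩, h3⟩
  -- general: A ⊓ ker φ has codimension one in A if φ does not vanish on A
  have hgen : ∀ A : Submodule K V, ∀ x ∈ A, φ x ≠ 0 →
      finrank K ↥A = finrank K ↥(A ⊓ LinearMap.ker φ) + 1 := by
    intro A x hx hφx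
    apply finrank_succ_of_extend _ _ inf_le_left x hx
    · intro hmem
      exact hφx (LinearMap.mem_ker.1 hmem.2)
    · intro z hz
      refine ⟨φ z / φ x, ⟨A.sub_mem hz (A.smul_mem _ hx), ?_⟩⟩
      show φ _ = 0
      rw [map_sub, map_smul, smul_eq_mul, div_mul_cancel₀ _ hφx, sub_self]
  have hgen0 : ∀ A : Submodule K V, (∀ x ∈ A, φ x = 0) → A ⊓ LinearMap.ker φ = A := by
    intro A hA
    apply le_antisymm inf_le_left
    intro x hx
    exact ⟨hx, LinearMap.mem_ker.2 (hA x hx)⟩
  by_cases hcase : ∀ x ∈ U ⊓ W, polar Q v x = 0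
  · left
    obtain ⟨y, hy, hy0⟩ := flip_exists hQ h2 hU hW v hv hcase
    have h1 := hgen _ y hy hy0
    rw [hE'] at h1
    have h2' := hgen0 (U ⊓ W) hcase
    rw [← hE] at h2'
    rw [h1, h2']
  · right
    simp only [not_forall] at hcase
    obtain ⟨x, hx, hx0⟩ := hcase
    have h1 := hgen _ x hx hx0
    rw [← hE] at h1
    have h2' : ∀ y ∈ U ⊓ W.map (reflLin Q v), φ y = 0 := by
      intro y hy
      rcases flip_not_both hU hW v hv hx hy with h | h
      · exact absurd h hx0
      · exact h
    have h3 := hgen0 _ h2'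
    rw [hE'] at h3
    rw [h1, h3]

/-- Product of reflections along a list. -/
noncomputable def rprod (Q : QuadraticForm K V) (l : List V) : V →ₗ[K] V :=
  (l.map (reflLin Q)).prod

theorem rprod_nil : rprod Q ([] : List V) = 1 := rfl

theorem rprod_cons (v : V) (l : List V) : rprod Q (v :: l) = reflLin Q v * rprod Q l := by
  unfold rprod
  rw [List.map_cons, List.prod_cons]

theorem IsLag.map_rprod {W : Submodule K V} (hW : IsLag Q W) :
    ∀ (l : List V), (∀ z ∈ l, Q z ≠ 0) → IsLag Q (W.map (rprod Q l)) := by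
  intro l
  induction l with
  | nil =>
    intro _
    rw [rprod_nil]
    have : W.map (1 : V →ₗ[K] V) = W := Submodule.map_id W
    rw [this]; exact hW
  | cons v l ih =>
    intro hl
    rw [rprod_cons]
    have : W.map (reflLin Q v * rprod Q l) = (W.map (rprod Q l)).map (reflLin Q v) := by
      rw [← Submodule.map_comp]; rfl
    rw [this]
    exact (ih (fun z hz => hl z (List.mem_cons_of_mem _ hz))).map_refl v
      (hl v List.mem_cons_self)

/-- Parity of `dim (U ⊓ g W)` for a product `g` of reflections. -/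
theorem parity [FiniteDimensional K V] (hQ : (polarBilin Q).Nondegenerate) (h2 : (2 : K) ≠ 0)
    {U W : Submodule K V} (hU : IsLag Q U) (hW : IsLag Q W) :
    ∀ (l : List V), (∀ z ∈ l, Q z ≠ 0) →
      (finrank K ↥(U ⊓ W.map (rprod Q l)) + l.length) % 2 = finrank K ↥(U ⊓ W) % 2 := by
  intro l
  induction l with
  | nil =>
    intro _
    rw [rprod_nil]
    have : W.map (1 : V →ₗ[K] V) = W := Submodule.map_id W
    rw [this]; simp
  | cons v l ih =>
    intro hl
    have hl' : ∀ z ∈ l, Q z ≠ 0 := fun z hz => hl z (List.mem_cons_of_mem _ hz)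
    have ih' := ih hl'
    rw [rprod_cons]
    have : W.map (reflLin Q v * rprod Q l) = (W.map (rprod Q l)).map (reflLin Q v) := by
      rw [← Submodule.map_comp]; rfl
    rw [this]
    have hf := flip hQ h2 hU (hW.map_rprod l hl') v (hl v List.mem_cons_self)
    rw [List.length_cons]
    omega

end Cfsg.Agent.Helper5.OrthLag
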