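import Mathlib
import Cfsg.Prelude.Def_LieTypeDatum
import Cfsg.Agent.Lib.Helper5.OrthLag1
import Cfsg.Agent.Lib.Helper14.WittQuad
import Cfsg.Agent.S0792

/-!
# Determinant of an isometry and Lagrangian subspaces; maximal totally singular subspaces
-/

set_option autoImplicit false
set_option linter.unusedSectionVars false
set_option linter.unusedSimpArgs false

namespace Cfsg.Agent.Helper5.OrthLag

open Module QuadraticMap Cfsg.Agent.Helper44

variable {F : Type*} [Field F] {ι : Type} [Fintype ι] [DecidableEq ι]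
  (Q : QuadraticForm F (ι → F))

theorem toLin'_list_refl (l : List (ι → F)) :
    Matrix.toLin' ((l.map (Cfsg.reflectionMatrix (⇑Q))).prod) = rprod Q l := by
  rw [Cfsg.Agent.S0792.toLin'_list_prod, List.map_map]
  unfold rprod
  congr 1
  apply List.map_congr_left
  intro v _
  exact Cfsg.Agent.S0792.toLin'_refl Q v

/-- An isometry has determinant one iff it moves a (any) Lagrangian subspace `U` to a
subspace meeting `U` in even codimension. -/
theorem det_eq_one_iff (h2 : (2 : F) ≠ 0) (hQ : (polarBilin Q).Nondegenerate)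
    (M : Matrix ι ι F) (hM : ∀ u, Q (M.mulVec u) = Q u) (U : Submodule F (ι → F))
    (hU : IsLag Q U) :
    M.det = 1 ↔ Even (finrank F ↥U - finrank F ↥(U ⊓ U.map (Matrix.toLin' M))) := by
  obtain ⟨l, hl, hMl⟩ := Cfsg.Agent.S0792.matrix_cd h2 Q hQ M hM
  have hdet : M.det = (-1) ^ l.length := by
    rw [hMl]; exact Cfsg.Agent.S0792.det_list_prod Q l hl
  have hpar := parity hQ h2 hU hU l hl
  rw [← toLin'_list_refl, ← hMl, inf_idem] at hpar
  have hle : finrank F ↥(U ⊓ U.map (Matrix.toLin' M)) ≤ finrank F ↥U :=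
    Submodule.finrank_mono inf_le_left
  have hne : (-1 : F) ≠ 1 := by
    intro h
    apply h2
    linear_combination -h
  rw [hdet, neg_one_pow_eq_one_iff_even hne, Nat.even_iff, Nat.even_iff]
  omega

variable {Q}

theorem isMaxTS_of_isLag (h2 : (2 : F) ≠ 0) {U : Submodule F (ι → F)} (hU : IsLag Q U) :
    Cfsg.IsMaxTotallySingular (⇑Q) U := by
  refine ⟨fun w hw => hU.Q_eq_zero h2 hw, ?_⟩
  intro W hW hUW
  apply le_antisymm _ hUW
  intro w hw
  rw [hU.mem_iff]
  intro u hu
  have h1 := hW (u + w) (W.add_mem (hUW hu) hw)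
  have h3 := hW u (hUW hu)
  have h4 := hW w hw
  unfold polar
  rw [h1, h3, h4]; ring

/-- A totally singular subspace has dimension at most half. -/
theorem two_mul_finrank_le (hQ : (polarBilin Q).Nondegenerate) {U : Submodule F (ι → F)}
    (hU : Cfsg.Geo.IsTotallySingularQuad (⇑Q) U) :
    2 * finrank F ↥U ≤ finrank F (ι → F) := by
  have hle : U ≤ LinearMap.BilinForm.orthogonal (polarBilin Q) U := by
    intro x hx
    rw [LinearMap.BilinForm.mem_orthogonal_iff]
    intro n hn
    show polarBilin Q n x = 0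
    rw [polarBilin_apply_apply]
    unfold polar
    rw [hU _ (U.add_mem hn hx), hU _ hn, hU _ hx]; ring
  have h1 := LinearMap.BilinForm.finrank_orthogonal hQ U
  have h3 := Submodule.finrank_mono hle
  have h4 := Submodule.finrank_le U
  omega

/-- Given one Lagrangian `U0`, every maximal totally singular subspace is the image of `U0`
under an isometry. -/
theorem exists_isometry_of_isMaxTS (h2 : (2 : F) ≠ 0) (hQ : (polarBilin Q).Nondegenerate)
    {U0 : Submodule F (ι → F)} (hU0 : IsLag Q U0) {U : Submodule F (ι → F)}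
    (hU : Cfsg.IsMaxTotallySingular (⇑Q) U) :
    ∃ g : (ι → F) ≃ₗ[F] (ι → F), (∀ v, Q (g v) = Q v) ∧
      U = U0.map (g : (ι → F) →ₗ[F] (ι → F)) := by
  have hn : finrank F ↥U ≤ finrank F ↥U0 := by
    have h1 := two_mul_finrank_le hQ hU.1
    have h2 := hU0.two_mul_finrank hQ
    omega
  obtain ⟨f, hf⟩ := exists_linearIndependent_of_le_finrank (R := F) (M := ↥U0) hn
  set X : Submodule F (ι → F) := (Submodule.span F (Set.range f)).map U0.subtype with hX
  have hXU0 : X ≤ U0 := by
    rintro _ ⟨x, _, rfl⟩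
    exact x.2
  have hXd : finrank F ↥X = finrank F ↥U := by
    rw [hX, Submodule.finrank_map_subtype_eq, finrank_span_eq_card hf, Fintype.card_fin]
  let φ : ↥U ≃ₗ[F] ↥X := LinearEquiv.ofFinrankEq _ _ hXd.symm
  have hφ : ∀ x : ↥U, Q ((φ x : ↥X) : ι → F) = Q (x : ι → F) := by
    intro x
    rw [hU.1 _ x.2]
    exact hU0.Q_eq_zero h2 (hXU0 (φ x).2)
  obtain ⟨g0, hg0Q, hg0⟩ := Cfsg.Agent.Helper14.Witt.witt Q hQ U X φ hφ
  have hsymQ : ∀ y, Q (g0.symm y) = Q y := by
    intro y
    rw [← hg0Q (g0.symm y), LinearEquiv.apply_symm_apply]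
  refine ⟨g0.symm, hsymQ, ?_⟩
  symm
  apply hU.2
  · rintro _ ⟨u0, hu0, rfl⟩
    show Q (g0.symm u0) = 0
    rw [hsymQ]
    exact hU0.Q_eq_zero h2 hu0
  · intro x hx
    refine ⟨g0 x, ?_, ?_⟩
    · have := hg0 ⟨x, hx⟩
      change g0 x = _ at this
      rw [this]
      exact hXU0 (φ ⟨x, hx⟩).2
    · show g0.symm (g0 x) = x
      exact g0.symm_apply_apply x

end Cfsg.Agent.Helper5.OrthLag
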