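import Mathlib
import Cfsg.Agent.Lib.Helper5.OrthLag2
import Cfsg.Agent.Lib.Helper5.OrthAut2

/-!
# Similarities preserving the two classes of maximal totally singular subspaces
-/

set_option autoImplicit false
set_option linter.unusedSectionVars false
set_option linter.unusedSimpArgs false

namespace Cfsg.Agent.Helper5.OrthLag

open Module QuadraticMap Cfsg.Agent.Helper44 Cfsg.Agent.Helper5.OrthAut

variable {F : Type*} [Field F] {ι : Type} [Fintype ι] [DecidableEq ι]
  (Q : QuadraticForm F (ι → F))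

theorem map_toLin'_mul (A B : Matrix ι ι F) (U : Submodule F (ι → F)) :
    U.map (Matrix.toLin' (A * B)) = (U.map (Matrix.toLin' B)).map (Matrix.toLin' A) := by
  rw [Matrix.toLin'_mul, Submodule.map_comp]

/-- Matrix form: if `A` and `P` are similarities with the same multiplier, `P` stabilises the
Lagrangian `U0`, and `A` moves `U0` to a subspace meeting it in even codimension, then
`det A = det P`. -/
theorem det_eq_of_even (h2 : (2 : F) ≠ 0) (hQ : (polarBilin Q).Nondegenerate)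
    {U0 : Submodule F (ι → F)} (hU0 : IsLag Q U0) (μ : F) (hμ : μ ≠ 0)
    (A P P' : Matrix ι ι F) (hA : ∀ v, Q (A.mulVec v) = μ * Q v)
    (hP : ∀ v, Q (P.mulVec v) = μ * Q v) (hPP' : P * P' = 1)
    (hPU : U0.map (Matrix.toLin' P) = U0) :
    A.det = P.det ↔
      Even (finrank F ↥U0 - finrank F ↥(U0 ⊓ U0.map (Matrix.toLin' A))) := by
  have hP'P : P' * P = 1 := mul_eq_one_comm.1 hPP'
  have hP' : ∀ v, Q (P'.mulVec v) = μ⁻¹ * Q v := by
    intro v
    have := hP (P'.mulVec v)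
    rw [Matrix.mulVec_mulVec, hPP', Matrix.one_mulVec] at this
    rw [this]; field_simp
  have hP'U : U0.map (Matrix.toLin' P') = U0 := by
    conv_lhs => rw [← hPU]
    rw [← map_toLin'_mul, hP'P, Matrix.toLin'_one, Submodule.map_id]
  have hM : ∀ v, Q ((A * P').mulVec v) = Q v := by
    intro v
    rw [← Matrix.mulVec_mulVec, hA, hP']; field_simp
  have hmap : U0.map (Matrix.toLin' (A * P')) = U0.map (Matrix.toLin' A) := by
    rw [map_toLin'_mul, hP'U]
  have key := det_eq_one_iff Q h2 hQ (A * P') hM U0 hU0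
  rw [hmap] at key
  rw [← key, Matrix.det_mul]
  have hdet : P.det * P'.det = 1 := by rw [← Matrix.det_mul, hPP', Matrix.det_one]
  have hPne : P.det ≠ 0 := left_ne_zero_of_mul_eq_one hdet
  constructor
  · intro h; rw [h, hdet]
  · intro h
    have : A.det * P'.det * P.det = P.det := by rw [h, one_mul]
    rw [mul_assoc, mul_comm P'.det, hdet, mul_one] at this
    exact this

/-- Transport along an isometry `g0`. -/
theorem finrank_inf_map_conj (g0 : (ι → F) ≃ₗ[F] (ι → F)) (A : Matrix ι ι F)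
    (U0 : Submodule F (ι → F)) :
    finrank F ↥((U0.map (g0 : (ι → F) →ₗ[F] (ι → F))) ⊓
      (U0.map (g0 : (ι → F) →ₗ[F] (ι → F))).map (Matrix.toLin' A)) =
    finrank F ↥(U0 ⊓ U0.map (Matrix.toLin'
      (LinearMap.toMatrix' (g0.symm : (ι → F) →ₗ[F] (ι → F)) * A *
        LinearMap.toMatrix' (g0 : (ι → F) →ₗ[F] (ι → F))))) := by
  have h1 : (U0 ⊓ U0.map (Matrix.toLin'
      (LinearMap.toMatrix' (g0.symm : (ι → F) →ₗ[F] (ι → F)) * A *
        LinearMap.toMatrix' (g0 : (ι → F) →ₗ[F] (ι → F))))).map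
        (g0 : (ι → F) →ₗ[F] (ι → F)) =
      (U0.map (g0 : (ι → F) →ₗ[F] (ι → F))) ⊓
      (U0.map (g0 : (ι → F) →ₗ[F] (ι → F))).map (Matrix.toLin' A) := by
    rw [Submodule.map_inf _ g0.injective]
    congr 1
    rw [← Submodule.map_comp, ← Submodule.map_comp]
    congr 1
    rw [Matrix.toLin'_mul, Matrix.toLin'_mul, Matrix.toLin'_toMatrix', Matrix.toLin'_toMatrix']
    ext v
    simp
  rw [← h1]
  exact LinearEquiv.finrank_map_eq g0 _

theorem even_of_det_eq (h2 : (2 : F) ≠ 0) (hQ : (polarBilin Q).Nondegenerate)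
    {U0 : Submodule F (ι → F)} (hU0 : IsLag Q U0) (μ : F) (hμ : μ ≠ 0)
    (A P P' : Matrix ι ι F) (hA : ∀ v, Q (A.mulVec v) = μ * Q v)
    (hP : ∀ v, Q (P.mulVec v) = μ * Q v) (hPP' : P * P' = 1)
    (hPU : U0.map (Matrix.toLin' P) = U0) (hdet : A.det = P.det)
    (U : Submodule F (ι → F)) (hU : Cfsg.IsMaxTotallySingular (⇑Q) U) :
    Even (finrank F ↥U - finrank F ↥(U ⊓ U.map (Matrix.toLin' A))) := by
  obtain ⟨g0, hg0Q, rfl⟩ := exists_isometry_of_isMaxTS h2 hQ hU0 hU
  rw [finrank_inf_map_conj, LinearEquiv.finrank_map_eq]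
  set Kk := LinearMap.toMatrix' (g0 : (ι → F) →ₗ[F] (ι → F)) with hKk
  set Kk' := LinearMap.toMatrix' (g0.symm : (ι → F) →ₗ[F] (ι → F)) with hKk'
  have hK1 : ∀ v, Kk.mulVec v = g0 v := by
    intro v
    rw [hKk, ← Matrix.toLin'_apply, Matrix.toLin'_toMatrix']; rfl
  have hK2 : ∀ v, Kk'.mulVec v = g0.symm v := by
    intro v
    rw [hKk', ← Matrix.toLin'_apply, Matrix.toLin'_toMatrix']; rfl
  have hKK : Kk' * Kk = 1 := by
    rw [hKk, hKk', ← LinearMap.toMatrix'_comp]
    have : (g0.symm : (ι → F) →ₗ[F] (ι → F)) ∘ₗ (g0 : (ι → F) →ₗ[F] (ι → F)) = LinearMap.id := by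
      ext v; simp
    rw [this, LinearMap.toMatrix'_id]
  have hsymQ : ∀ y, Q (g0.symm y) = Q y := by
    intro y
    rw [← hg0Q (g0.symm y), LinearEquiv.apply_symm_apply]
  have hA' : ∀ v, Q ((Kk' * A * Kk).mulVec v) = μ * Q v := by
    intro v
    rw [← Matrix.mulVec_mulVec, ← Matrix.mulVec_mulVec, hK2, hsymQ, hA, hK1, hg0Q]
  have hdet' : (Kk' * A * Kk).det = P.det := by
    rw [Matrix.det_mul, Matrix.det_mul, mul_comm Kk'.det, mul_assoc, ← Matrix.det_mul, hKK,
      Matrix.det_one, mul_one, hdet]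
  exact (det_eq_of_even Q h2 hQ hU0 μ hμ _ P P' hA' hP hPP' hPU).1 hdet'

/-- The criterion: a similarity preserves the two classes of maximal totally singular subspaces
iff its determinant equals that of a similarity with the same multiplier stabilising a
Lagrangian subspace. -/
theorem preserves_iff_det (h2 : (2 : F) ≠ 0) (hQ : (polarBilin Q).Nondegenerate)
    {U0 : Submodule F (ι → F)} (hU0 : IsLag Q U0) (μ : F) (hμ : μ ≠ 0)
    (A P P' : Matrix ι ι F) (hA : ∀ v, Q (A.mulVec v) = μ * Q v)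
    (hP : ∀ v, Q (P.mulVec v) = μ * Q v) (hPP' : P * P' = 1)
    (hPU : U0.map (Matrix.toLin' P) = U0) :
    Cfsg.PreservesSingularClasses (⇑Q) A ↔ A.det = P.det := by
  constructor
  · intro h
    have := h U0 (isMaxTS_of_isLag h2 hU0)
    exact (det_eq_of_even Q h2 hQ hU0 μ hμ A P P' hA hP hPP' hPU).2 this
  · intro hdet U hU
    exact even_of_det_eq Q h2 hQ hU0 μ hμ A P P' hA hP hPP' hPU hdet U hU

end Cfsg.Agent.Helper5.OrthLag
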