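import Mathlib
import Cfsg.Agent.Lib.Helper5.OrthLag3
import Cfsg.Agent.Lib.Helper43.OrthMinus

/-!
# Base change of similarities, and the minus-type form over a field where it becomes hyperbolic
-/

set_option autoImplicit false
set_option linter.unusedSectionVars false
set_option linter.unusedSimpArgs false

namespace Cfsg.Agent.Helper5.OrthLag

open Module QuadraticMap Matrix Cfsg.Agent.Helper43 Cfsg.Agent.Helper44 Cfsg.Agent.Helper5.OrthAut

section baseChange

variable {F K : Type*} [Field F] [Field K] (alg : F →+* K) {ι : Type} [Fintype ι] [DecidableEq ι]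
  (QF : QuadraticForm F (ι → F)) (QK : QuadraticForm K (ι → K))

theorem two_mul_Q_eq (w : ι → K) : 2 * QK w = w ⬝ᵥ (gram QK *ᵥ w) := by
  rw [← polar_eq_gram, polar_self_mul]

theorem sim_of_gram (h2 : (2 : K) ≠ 0) (A : Matrix ι ι K) (c : K)
    (hA : Aᵀ * gram QK * A = c • gram QK) (v : ι → K) : QK (A *ᵥ v) = c * QK v := by
  apply mul_left_cancel₀ h2
  rw [two_mul_Q_eq, ← mul_assoc, mul_comm 2 c, mul_assoc, two_mul_Q_eq]
  have : (A *ᵥ v) ⬝ᵥ (gram QK *ᵥ (A *ᵥ v)) = v ⬝ᵥ ((Aᵀ * gram QK * A) *ᵥ v) := by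
    symm
    rw [← Matrix.mulVec_mulVec, ← Matrix.mulVec_mulVec, Matrix.dotProduct_mulVec,
      Matrix.vecMul_transpose]
  rw [this, hA, Matrix.smul_mulVec, dotProduct_smul, smul_eq_mul]

theorem sim_baseChange (h2 : (2 : K) ≠ 0) (hgram : gram QK = (gram QF).map alg)
    (g : ↥(GO QF)) (v : ι → K) :
    QK ((gmat QF g).map alg *ᵥ v) = alg (mult QF g : F) * QK v := by
  apply sim_of_gram QK h2
  have h := gram_sim QF g
  have h' := congrArg (fun M : Matrix ι ι F => M.map alg) h
  simp only [Matrix.map_mul, Matrix.transpose_map] at h'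
  rw [hgram, h']
  ext i j
  simp [Matrix.map_apply, Matrix.smul_apply]

end baseChange

section minusK

variable (K : Type*) [Field K] (m : ℕ) (a b : K)

theorem stdMinus_nondegenerate' (hd : a ^ 2 - 4 * b ≠ 0) :
    (polarBilin (stdMinus K m a b)).Nondegenerate := by
  rw [(Cfsg.Agent.Helper43.polarBilin_isRefl _).nondegenerate_iff_separatingLeft]
  intro v hv
  have h0 := hv (Pi.single (Sum.inr 0) 1)
  rw [polarBilin_apply_apply, polar_stdMinus] at h0
  have h1 := hv (Pi.single (Sum.inr 1) 1)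
  rw [polarBilin_apply_apply, polar_stdMinus] at h1
  simp [Pi.single_apply] at h0 h1
  have hv1 : v (Sum.inr 1) = 0 := by
    have : (a ^ 2 - 4 * b) * v (Sum.inr 1) = 0 := by
      linear_combination a * h0 - 2 * h1
    rcases mul_eq_zero.mp this with h3 | h3
    · exact absurd h3 hd
    · exact h3
  have hv0 : v (Sum.inr 0) = 0 := by
    have : (a ^ 2 - 4 * b) * v (Sum.inr 0) = 0 := by
      linear_combination a * h1 - 2 * b * h0
    rcases mul_eq_zero.mp this with h3 | h3
    · exact absurd h3 hd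
    · exact h3
  funext x
  rcases x with (i | i) | t
  · have := hv (Pi.single (Sum.inl (Sum.inr i)) 1)
    rw [polarBilin_apply_apply, polar_stdMinus] at this
    simpa [Pi.single_apply] using this
  · have := hv (Pi.single (Sum.inl (Sum.inl i)) 1)
    rw [polarBilin_apply_apply, polar_stdMinus] at this
    simpa [Pi.single_apply] using this
  · fin_cases t
    · exact hv0
    · exact hv1

/-- A Lagrangian of the minus-type form over a field containing a root `ω` of
`z² + a z + b`. -/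
def lagMinus (ω : K) : Submodule K ((Fin m ⊕ Fin m) ⊕ Fin 2 → K) where
  carrier := {v | (∀ i, v (Sum.inl (Sum.inr i)) = 0) ∧ v (Sum.inr 0) = ω * v (Sum.inr 1)}
  add_mem' := by
    rintro x y ⟨hx1, hx2⟩ ⟨hy1, hy2⟩
    refine ⟨fun i => ?_, ?_⟩
    · rw [Pi.add_apply, hx1 i, hy1 i, add_zero]
    · rw [Pi.add_apply, Pi.add_apply, hx2, hy2]; ring
  zero_mem' := ⟨fun i => rfl, by simp⟩
  smul_mem' := by
    rintro c x ⟨hx1, hx2⟩
    refine ⟨fun i => ?_, ?_⟩
    · rw [Pi.smul_apply, hx1 i, smul_zero]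
    · rw [Pi.smul_apply, Pi.smul_apply, hx2, smul_eq_mul, smul_eq_mul]; ring

theorem mem_lagMinus (ω : K) (v : (Fin m ⊕ Fin m) ⊕ Fin 2 → K) :
    v ∈ lagMinus K m ω ↔
      (∀ i, v (Sum.inl (Sum.inr i)) = 0) ∧ v (Sum.inr 0) = ω * v (Sum.inr 1) := Iff.rfl

theorem isLag_lagMinus (ω : K) (hω : ω ^ 2 + a * ω + b = 0) (hd : a ^ 2 - 4 * b ≠ 0) :
    IsLag (stdMinus K m a b) (lagMinus K m ω) := by
  unfold IsLag
  ext x
  rw [LinearMap.BilinForm.mem_orthogonal_iff, mem_lagMinus]
  constructor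
  · intro h
    refine ⟨fun i => ?_, ?_⟩
    · have h1 := h (Pi.single (Sum.inl (Sum.inl i)) 1) (by
        refine ⟨fun j => ?_, ?_⟩ <;> simp)
      change polarBilin (stdMinus K m a b) _ x = 0 at h1
      rw [polarBilin_apply_apply, polar_stdMinus] at h1
      simpa [Pi.single_apply] using h1
    · have h1 := h (Sum.elim (0 : Fin m ⊕ Fin m → K) ![ω, 1]) (by
        refine ⟨fun j => ?_, ?_⟩ <;> simp)
      change polarBilin (stdMinus K m a b) _ x = 0 at h1
      rw [polarBilin_apply_apply, polar_stdMinus] at h1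
      simp at h1
      have hne : 2 * ω + a ≠ 0 := by
        intro h0
        apply hd
        linear_combination (2 * ω + a) * h0 - 4 * hω
      have h3 : (2 * ω + a) * (x (Sum.inr 0) - ω * x (Sum.inr 1)) = 0 := by
        linear_combination h1 - 2 * x (Sum.inr 1) * hω
      rcases mul_eq_zero.1 h3 with h4 | h4
      · exact absurd h4 hne
      · exact sub_eq_zero.1 h4
  · rintro ⟨hx1, hx2⟩ n ⟨hn1, hn2⟩
    show polarBilin (stdMinus K m a b) n x = 0
    rw [polarBilin_apply_apply, polar_stdMinus]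
    have hs : (∑ i, (n (Sum.inl (Sum.inl i)) * x (Sum.inl (Sum.inr i)) +
        x (Sum.inl (Sum.inl i)) * n (Sum.inl (Sum.inr i)))) = 0 := by
      apply Finset.sum_eq_zero
      intro j _
      rw [hx1 j, hn1 j]; ring
    rw [hs, hx2, hn2]
    linear_combination 2 * n (Sum.inr 1) * x (Sum.inr 1) * hω

end minusK

end Cfsg.Agent.Helper5.OrthLag
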