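import Mathlib
import Cfsg.Agent.Lib.Helper5.OrthLag9
import Cfsg.Agent.Lib.Helper44.EllBlock
import Cfsg.Agent.Lib.Helper5.OrthAut3

/-!
# Similarities of the minus-type form preserving singular classes over a quadratic extension
-/

set_option autoImplicit false
set_option linter.unusedSectionVars false
set_option linter.unusedSimpArgs false

namespace Cfsg.Agent.Helper5.OrthLag

open Module QuadraticMap Matrix Cfsg.Agent.Helper43 Cfsg.Agent.Helper44 Cfsg.Agent.Helper5.OrthAut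

section gramMinus

variable {F K : Type*} [Field F] [Field K] (alg : F →+* K) (m : ℕ) (a b : F)

theorem gram_stdMinus_map :
    gram (stdMinus K m (alg a) (alg b)) = (gram (stdMinus F m a b)).map alg := by
  ext i j
  rw [Matrix.map_apply, OrthAut.gram, OrthAut.gram, LinearMap.BilinForm.toMatrix'_apply,
    LinearMap.BilinForm.toMatrix'_apply, polarBilin_apply_apply, polarBilin_apply_apply,
    polar_stdMinus, polar_stdMinus]
  rcases i with (i | i) | i <;> rcases j with (j | j) | j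
  all_goals simp [Pi.single_apply]
  have h2 : alg 2 = 2 := map_ofNat alg 2
  fin_cases i <;> fin_cases j <;> simp [h2]

end gramMinus

section squares

variable {F K : Type*} [Field F] [Fintype F] [Field K] [Fintype K] [Algebra F K]

theorem two_ne_zero_of_algebra (h2 : (2 : F) ≠ 0) : (2 : K) ≠ 0 := by
  intro h
  apply h2
  apply (algebraMap F K).injective
  rw [map_ofNat, h, map_zero]

theorem exists_sq_algebraMap (hodd : Odd (Fintype.card F)) (hfr : Module.finrank F K = 2)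
    (x : F) : ∃ c : K, c * c = algebraMap F K x := by
  by_cases hx : x = 0
  · exact ⟨0, by rw [hx, map_zero, mul_zero]⟩
  have hcardK : Fintype.card K = Fintype.card F ^ 2 := by
    rw [Module.card_eq_pow_finrank (K := F) (V := K), hfr]
  have h2F : (2 : F) ≠ 0 := two_ne_zero_of_odd_card hodd
  have h2K : (2 : K) ≠ 0 := two_ne_zero_of_algebra h2F
  have hcharK : ringChar K ≠ 2 := by
    intro h
    apply h2K
    have := ringChar.Nat.cast_ringChar (R := K)
    rw [h] at this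
    exact_mod_cast this
  have hne : algebraMap F K x ≠ 0 := by rwa [Ne, map_eq_zero]
  have hsq : IsSquare (algebraMap F K x) := by
    rw [FiniteField.isSquare_iff hcharK hne]
    obtain ⟨j, hj⟩ := hodd
    have hq : Fintype.card K / 2 = (Fintype.card F - 1) * (j + 1) := by
      rw [hcardK, hj]
      have h3 : (2 * j + 1) ^ 2 = 2 * ((2 * j + 1 - 1) * (j + 1)) + 1 := by
        rw [Nat.add_sub_cancel]; ring
      rw [h3]; omega
    rw [hq, pow_mul, ← map_pow, FiniteField.pow_card_sub_one_eq_one x hx, map_one, one_pow]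
  obtain ⟨c, hc⟩ := hsq
  exact ⟨c, hc.symm⟩

end squares

section minusMain

universe u

variable {F : Type u} [Field F] [Fintype F]

theorem preserves_K_iff (hodd : Odd (Fintype.card F)) (m : ℕ) (a b : F)
    (hab : ∀ z₁ z₂ : F, z₁ ^ 2 + a * z₁ * z₂ + b * z₂ ^ 2 = 0 → z₁ = 0 ∧ z₂ = 0)
    {K : Type*} [Field K] [Algebra F K] (hfr : Module.finrank F K = 2)
    (hQ0 : ∃ v : (Fin m ⊕ Fin m) ⊕ Fin 2 → F, stdMinus F m a b v ≠ 0)
    (g : GL ((Fin m ⊕ Fin m) ⊕ Fin 2) F) (hg : g ∈ GO (stdMinus F m a b)) :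
    Cfsg.PreservesSingularClasses
      (Cfsg.quadFormMinus m K (algebraMap F K a) (algebraMap F K b))
      ((g : Matrix ((Fin m ⊕ Fin m) ⊕ Fin 2) ((Fin m ⊕ Fin m) ⊕ Fin 2) F).map (algebraMap F K)) ↔
      dHom (stdMinus F m a b) hQ0 (m + 1) ⟨g, hg⟩ = 1 := by
  classical
  have : FiniteDimensional F K := Module.finite_of_finrank_pos (by omega)
  have : Finite K := Module.finite_of_finite F
  have := Fintype.ofFinite K
  have h2F : (2 : F) ≠ 0 := two_ne_zero_of_odd_card hodd
  have h2K : (2 : K) ≠ 0 := two_ne_zero_of_algebra h2F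
  obtain ⟨ω, hω⟩ := exists_root_quadratic hfr a b hab
  have hab' : AnisoPair a b := hab
  have hd : (algebraMap F K a) ^ 2 - 4 * algebraMap F K b ≠ 0 := by
    have := hab'.disc_ne_zero'
    intro h
    apply this
    apply (algebraMap F K).injective
    rw [map_sub, map_pow, map_mul, map_ofNat, h, map_zero]
  set μ := mult (stdMinus F m a b) ⟨g, hg⟩ with hμ
  obtain ⟨c, hc⟩ := exists_sq_algebraMap (K := K) hodd hfr (μ : F)
  have hμ0 : algebraMap F K (μ : F) ≠ 0 := by
    rw [Ne, map_eq_zero]; exact Units.ne_zero μ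
  have hc0 : c ≠ 0 := by
    rintro rfl
    rw [mul_zero] at hc
    exact hμ0 hc.symm
  set QK := stdMinus K m (algebraMap F K a) (algebraMap F K b) with hQK
  have hA := sim_baseChange (algebraMap F K) (stdMinus F m a b) QK h2K
    (gram_stdMinus_map (algebraMap F K) m a b) ⟨g, hg⟩
  have hP : ∀ v, QK ((c • (1 : Matrix ((Fin m ⊕ Fin m) ⊕ Fin 2) ((Fin m ⊕ Fin m) ⊕ Fin 2) K)) *ᵥ v) =
      algebraMap F K (μ : F) * QK v := by
    intro v
    rw [Matrix.smul_mulVec, Matrix.one_mulVec, QuadraticMap.map_smul, smul_eq_mul, hc]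
  have hPP' : (c • (1 : Matrix ((Fin m ⊕ Fin m) ⊕ Fin 2) ((Fin m ⊕ Fin m) ⊕ Fin 2) K)) *
      (c⁻¹ • (1 : Matrix ((Fin m ⊕ Fin m) ⊕ Fin 2) ((Fin m ⊕ Fin m) ⊕ Fin 2) K)) = 1 := by
    rw [Matrix.smul_mul, Matrix.one_mul, smul_smul, mul_inv_cancel₀ hc0, one_smul]
  have hPU : (lagMinus K m ω).map (Matrix.toLin'
      (c • (1 : Matrix ((Fin m ⊕ Fin m) ⊕ Fin 2) ((Fin m ⊕ Fin m) ⊕ Fin 2) K))) = lagMinus K m ω := by
    rw [map_smul, Matrix.toLin'_one, Submodule.map_smul _ _ c hc0, Submodule.map_id]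
  have hω' : ω ^ 2 + algebraMap F K a * ω + algebraMap F K b = 0 := hω
  have key := preserves_iff_det QK h2K (stdMinus_nondegenerate' K m _ _ hd)
    (isLag_lagMinus K m _ _ ω hω' hd) (algebraMap F K (μ : F)) hμ0 _ _ _ hA hP hPP' hPU
  rw [hQK, coe_stdMinus] at key
  rw [key, Matrix.det_smul, Matrix.det_one, mul_one, Fintype.card_sum, Fintype.card_sum,
    Fintype.card_fin, Fintype.card_fin]
  have hdet : ((g : Matrix ((Fin m ⊕ Fin m) ⊕ Fin 2) ((Fin m ⊕ Fin m) ⊕ Fin 2) F).map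
      (algebraMap F K)).det = algebraMap F K
        ((g : Matrix ((Fin m ⊕ Fin m) ⊕ Fin 2) ((Fin m ⊕ Fin m) ⊕ Fin 2) F).det) := by
    rw [RingHom.map_det]; rfl
  have hcp : c ^ (m + m + 2) = algebraMap F K ((μ : F) ^ (m + 1)) := by
    rw [map_pow, ← hc, ← pow_two, ← pow_mul]
    congr 1; ring
  rw [hdet, hcp, (algebraMap F K).injective.eq_iff, ← Units.val_inj, dHom_coe, Units.val_one,
    gmat, ← hμ]
  have hne : ((μ : F)) ^ (m + 1) ≠ 0 := pow_ne_zero _ (Units.ne_zero _)
  constructor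
  · intro h; rw [h]; exact mul_inv_cancel₀ hne
  · intro h
    field_simp at h
    exact h

theorem exists_quadratic_extension (a b : F)
    (hab : ∀ z₁ z₂ : F, z₁ ^ 2 + a * z₁ * z₂ + b * z₂ ^ 2 = 0 → z₁ = 0 ∧ z₂ = 0) :
    ∃ (K : Type u) (_ : Field K) (_ : Algebra F K), Module.finrank F K = 2 := by
  classical
  set f : Polynomial F := Polynomial.X ^ 2 + Polynomial.C a * Polynomial.X + Polynomial.C b with hf
  have hdeg : f.natDegree = 2 := by
    rw [hf]; compute_degree!
  have hf0 : f ≠ 0 := by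
    intro h
    rw [h, Polynomial.natDegree_zero] at hdeg
    omega
  have hirr : Irreducible f := by
    apply Polynomial.irreducible_of_degree_le_three_of_not_isRoot
    · rw [hdeg]; decide
    · intro x hx
      rw [Polynomial.IsRoot, hf] at hx
      simp only [Polynomial.eval_add, Polynomial.eval_pow, Polynomial.eval_X, Polynomial.eval_mul,
        Polynomial.eval_C] at hx
      have := hab x 1 (by linear_combination hx)
      exact one_ne_zero this.2
  have : Fact (Irreducible f) := ⟨hirr⟩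
  refine ⟨AdjoinRoot f, inferInstance, inferInstance, ?_⟩
  rw [(AdjoinRoot.powerBasis hf0).finrank, AdjoinRoot.powerBasis_dim, hdeg]

theorem preserves_minus_iff (hodd : Odd (Fintype.card F)) (m : ℕ) (a b : F)
    (hab : ∀ z₁ z₂ : F, z₁ ^ 2 + a * z₁ * z₂ + b * z₂ ^ 2 = 0 → z₁ = 0 ∧ z₂ = 0)
    (hQ0 : ∃ v : (Fin m ⊕ Fin m) ⊕ Fin 2 → F, stdMinus F m a b v ≠ 0)
    (g : GL ((Fin m ⊕ Fin m) ⊕ Fin 2) F) (hg : g ∈ GO (stdMinus F m a b)) :
    Cfsg.PreservesSingularClassesMinus m a b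
      (g : Matrix ((Fin m ⊕ Fin m) ⊕ Fin 2) ((Fin m ⊕ Fin m) ⊕ Fin 2) F) ↔
      dHom (stdMinus F m a b) hQ0 (m + 1) ⟨g, hg⟩ = 1 := by
  constructor
  · rintro ⟨K, hK1, hK2, hfr, h⟩
    exact (preserves_K_iff hodd m a b hab hfr hQ0 g hg).1 h
  · intro h
    obtain ⟨K, hK1, hK2, hfr⟩ := exists_quadratic_extension a b hab
    exact ⟨K, hK1, hK2, hfr, (preserves_K_iff hodd m a b hab hfr hQ0 g hg).2 h⟩

end minusMain

end Cfsg.Agent.Helper5.OrthLag
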