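import Mathlib
import Cfsg.Agent.Lib.Helper5.OrthAut3

/-!
# The index of `Inn(PΩ)` in the image of `SO`
-/

set_option autoImplicit false
set_option linter.unusedSectionVars false
set_option linter.unusedSimpArgs false

namespace Cfsg.Agent.Helper5.OrthAut

open Matrix QuadraticMap Cfsg.Agent.Helper43

section index

variable {F : Type*} [Field F] {ι : Type} [Fintype ι] [DecidableEq ι]
  (Q : QuadraticForm F (ι → F))

/-- The isometry group as a subgroup of `GL`. -/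
abbrev OG : Subgroup (GL ι F) := Cfsg.isometryGroup F ⇑Q

/-- The special isometry group as a subgroup of `GL`. -/
abbrev SOG : Subgroup (GL ι F) := Cfsg.specialIsometryGL F ⇑Q

theorem mem_SOG_iff (g : GL ι F) :
    g ∈ SOG Q ↔ g ∈ OG Q ∧ ((g : GL ι F) : Matrix ι ι F).det = 1 := by
  show g ∈ Cfsg.isometryGroup F ⇑Q ⊓ Cfsg.Geo.specialLinear ι F ↔ _
  rw [Subgroup.mem_inf]
  constructor
  · rintro ⟨h1, h2⟩
    refine ⟨h1, ?_⟩
    have := congrArg (fun u : Fˣ => (u : F)) (MonoidHom.mem_ker.1 h2)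
    simpa using this
  · rintro ⟨h1, h2⟩
    refine ⟨h1, ?_⟩
    show Matrix.GeneralLinearGroup.det g = 1
    apply Units.ext
    simpa using h2

theorem SOG_le_OG : SOG Q ≤ OG Q := inf_le_left

theorem OmGL_le_SOG : OmGL (⇑Q) ≤ SOG Q := by
  intro g hg
  obtain ⟨s, rfl⟩ := (mem_OmGL (⇑Q) g).1 hg
  rw [mem_SOG_iff]
  refine ⟨(s : ↥(Cfsg.isometryGroup F ⇑Q)).2, ?_⟩
  have h1 := Abelianization.commutator_subset_ker
    (Matrix.GeneralLinearGroup.det.comp (Cfsg.isometryGroup F ⇑Q).subtype) s.2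
  have h2 := congrArg (fun u : Fˣ => (u : F)) (MonoidHom.mem_ker.1 h1)
  simpa using h2

theorem relIndex_OmGL_OG : (OmGL (⇑Q)).relIndex (OG Q) = (Cfsg.Omega F ⇑Q).index := by
  unfold Subgroup.relIndex OmGL
  congr 1
  exact Subgroup.comap_map_eq_self_of_injective (Subgroup.subtype_injective _) _

variable (hQ : (polarBilin Q).Nondegenerate)

include hQ in
theorem det_iso (g : GL ι F) (hg : g ∈ OG Q) :
    ((g : GL ι F) : Matrix ι ι F).det = 1 ∨ ((g : GL ι F) : Matrix ι ι F).det = -1 := by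
  by_cases hQ0 : ∃ v : ι → F, Q v ≠ 0
  · have h := det_sq Q hQ (isoGO Q ⟨g, hg⟩)
    rw [mult_isoGO Q hQ0, Units.val_one, one_pow] at h
    apply mul_self_eq_one_iff.1
    rw [← _root_.sq]
    exact h
  · -- Q = 0 and nondegenerate: ι is empty
    simp only [not_exists, not_not] at hQ0
    left
    have hι : IsEmpty ι := by
      by_contra hne
      rw [not_isEmpty_iff] at hne
      obtain ⟨i⟩ := hne
      have h1 : ∀ u v : ι → F, polarBilin Q u v = 0 := by
        intro u v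
        rw [polarBilin_apply_apply]
        unfold polar
        rw [hQ0, hQ0, hQ0]; ring
      have h2 := hQ.1 (Pi.single i 1) (fun v => h1 _ v)
      have := congrFun h2 i
      simp at this
    exact Matrix.det_isEmpty

include hQ in
theorem relIndex_SOG_OG (h2 : (2 : F) ≠ 0) (v : ι → F) (hv : Q v ≠ 0) :
    (SOG Q).relIndex (OG Q) = 2 := by
  unfold Subgroup.relIndex
  rw [Subgroup.index_eq_two_iff]
  refine ⟨reflIso Q hv, fun b => ?_⟩
  have hmem : ∀ x : ↥(OG Q), x ∈ (SOG Q).subgroupOf (OG Q) ↔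
      ((x : GL ι F) : Matrix ι ι F).det = 1 := by
    intro x
    rw [Subgroup.mem_subgroupOf, mem_SOG_iff]
    exact ⟨fun h => h.2, fun h => ⟨x.2, h⟩⟩
  rw [hmem, hmem]
  have hr : (((reflIso Q hv : ↥(Cfsg.isometryGroup F ⇑Q)) : GL ι F) : Matrix ι ι F).det = -1 := by
    rw [reflIso_coe]; exact reflectionMatrix_det Q hv
  have hb := det_iso Q hQ (b : GL ι F) b.2
  have hne : (1 : F) ≠ -1 := by
    intro h; apply h2; linear_combination h
  have hmul : (((b * reflIso Q hv : ↥(OG Q)) : GL ι F) : Matrix ι ι F).det =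
      ((b : GL ι F) : Matrix ι ι F).det * (-1) := by
    rw [Subgroup.coe_mul, Units.val_mul, Matrix.det_mul, hr]
  rw [hmul]
  rcases hb with hb | hb <;> rw [hb]
  · right
    refine ⟨rfl, ?_⟩
    intro h; apply hne; linear_combination -h
  · left
    refine ⟨by ring, ?_⟩
    intro h; exact hne h.symm

include hQ in
theorem relIndex_OmGL_SOG (h2 : (2 : F) ≠ 0) (v : ι → F) (hv : Q v ≠ 0)
    (hidx : (Cfsg.Omega F ⇑Q).index = 4) : (OmGL (⇑Q)).relIndex (SOG Q) = 2 := by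
  have h := Subgroup.relIndex_mul_relIndex _ _ _ (OmGL_le_SOG Q) (SOG_le_OG Q)
  rw [relIndex_SOG_OG Q hQ h2 v hv, relIndex_OmGL_OG, hidx] at h
  omega

end index

section relindex

variable {F : Type*} [Field F] {ι : Type} [Fintype ι] [DecidableEq ι]
  (Q : QuadraticForm F (ι → F))

theorem SOG_le_NO : SOG Q ≤ NO (⇑Q) := le_trans (SOG_le_OG Q) Subgroup.le_normalizer

/-- The restriction of `Phi` to `SO`. -/
noncomputable def fSO : ↥(SOG Q) →* MulAut (Cfsg.POmega F ⇑Q) :=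
  (Phi (⇑Q)).comp (Subgroup.inclusion (SOG_le_NO Q))

theorem fSO_range : (fSO Q).range = Cfsg.psoAut F ⇑Q := by
  rw [psoAut_eq, fSO, MonoidHom.range_comp, Subgroup.inclusion_range]

theorem map_inclusion_subgroupOf {G : Type*} [Group G] {A H K : Subgroup G} (hAH : A ≤ H)
    (hHK : H ≤ K) : (A.subgroupOf H).map (Subgroup.inclusion hHK) = A.subgroupOf K := by
  ext x
  constructor
  · rintro ⟨y, hy, rfl⟩
    exact hy
  · intro hx
    exact ⟨⟨x, hAH hx⟩, hx, rfl⟩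

theorem fSO_map_omega :
    ((OmGL (⇑Q)).subgroupOf (SOG Q)).map (fSO Q) = Cfsg.Inn (Cfsg.POmega F ⇑Q) := by
  rw [inn_eq, fSO, ← Subgroup.map_map, map_inclusion_subgroupOf (OmGL_le_SOG Q)]

variable (hperf : commutator ↥(Cfsg.Omega F ⇑Q) = ⊤)
  (hcent : ∀ Z : Matrix ι ι F, (∀ s : ↥(Cfsg.Omega F ⇑Q), Z * omat (⇑Q) s = omat (⇑Q) s * Z) →
      ∃ c : F, Z = c • (1 : Matrix ι ι F))

include hperf hcent in
theorem fSO_ker : (fSO Q).ker = (Cfsg.Geo.scalars ι F).subgroupOf (SOG Q) := by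
  ext x
  rw [MonoidHom.mem_ker, fSO, MonoidHom.comp_apply, ← MonoidHom.mem_ker,
    ker_Phi (⇑Q) hperf hcent, Subgroup.mem_subgroupOf, Subgroup.mem_subgroupOf]
  rfl

/-- A scalar isometry is `± 1`. -/
theorem scalar_iso (hQ0 : ∃ v : ι → F, Q v ≠ 0) (g : GL ι F) (hg : g ∈ OG Q)
    (hs : g ∈ Cfsg.Geo.scalars ι F) : g = 1 ∨ g = -1 := by
  obtain ⟨c, rfl⟩ := exists_sclHom_of_mem hs
  obtain ⟨v, hv⟩ := hQ0
  have h1 := (mem_iso_iff (⇑Q) _).1 hg v
  rw [sclHom_mulVec, QuadraticMap.map_smul, smul_eq_mul] at h1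
  have h2 : (c : F) * (c : F) = 1 := by
    have := mul_right_cancel₀ hv (h1.trans (one_mul _).symm)
    exact this
  rcases mul_self_eq_one_iff.1 h2 with h | h
  · left
    have : c = 1 := Units.ext h
    rw [this, map_one]
  · right
    have : c = -1 := Units.ext (by rw [h]; simp)
    rw [this]
    apply Units.ext
    rw [sclHom_coe]
    simp

variable (hQ : (polarBilin Q).Nondegenerate)

include hperf hcent hQ in
/-- The index of `Inn(PΩ)` in the image of `SO` is `2` when `-1 ∈ Ω` and `1` otherwise. -/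
theorem relIndex_inn_pso (h2 : (2 : F) ≠ 0) (k : ℕ) (hcard : Fintype.card ι = 2 * k)
    (v : ι → F) (hv : Q v ≠ 0) (hidx : (Cfsg.Omega F ⇑Q).index = 4) :
    ((∃ g : ↥(Cfsg.isometryGroup F ⇑Q), g ∈ Cfsg.Omega F ⇑Q ∧
        ((g : GL ι F) : Matrix ι ι F) = -1) →
      (Cfsg.Inn (Cfsg.POmega F ⇑Q)).relIndex (Cfsg.psoAut F ⇑Q) = 2) ∧
    ((¬ ∃ g : ↥(Cfsg.isometryGroup F ⇑Q), g ∈ Cfsg.Omega F ⇑Q ∧
        ((g : GL ι F) : Matrix ι ι F) = -1) →
      (Cfsg.Inn (Cfsg.POmega F ⇑Q)).relIndex (Cfsg.psoAut F ⇑Q) = 1) := by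
  set ΩS : Subgroup ↥(SOG Q) := (OmGL (⇑Q)).subgroupOf (SOG Q) with hΩS
  have hΩidx : ΩS.index = 2 := relIndex_OmGL_SOG Q hQ h2 v hv hidx
  have hrel : (Cfsg.Inn (Cfsg.POmega F ⇑Q)).relIndex (Cfsg.psoAut F ⇑Q) =
      (ΩS ⊔ (fSO Q).ker).index := by
    rw [← fSO_range, ← fSO_map_omega, MonoidHom.range_eq_map, Subgroup.relIndex_map_map,
      top_sup_eq, Subgroup.relIndex_top_right]
  rw [hrel]
  have hkermem : ∀ x : ↥(SOG Q), x ∈ (fSO Q).ker → (x : GL ι F) = 1 ∨ (x : GL ι F) = -1 := by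
    intro x hx
    rw [fSO_ker Q hperf hcent, Subgroup.mem_subgroupOf] at hx
    exact scalar_iso Q ⟨v, hv⟩ _ (SOG_le_OG Q x.2) hx
  have hnegSO : (-1 : GL ι F) ∈ SOG Q := by
    rw [mem_SOG_iff]
    constructor
    · rw [OG, mem_iso_iff]
      intro u
      rw [Units.val_neg, Units.val_one, Matrix.neg_mulVec, Matrix.one_mulVec,
        QuadraticMap.map_neg]
    · rw [Units.val_neg, Units.val_one, Matrix.det_neg, Matrix.det_one, hcard, mul_one]
      simp
  have hnegker : (⟨-1, hnegSO⟩ : ↥(SOG Q)) ∈ (fSO Q).ker := by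
    rw [fSO_ker Q hperf hcent, Subgroup.mem_subgroupOf]
    have : (-1 : GL ι F) = sclHom (-1) := by
      apply Units.ext
      rw [sclHom_coe]; simp
    show (-1 : GL ι F) ∈ _
    rw [this]
    exact sclHom_mem _
  have hnegmem : (⟨-1, hnegSO⟩ : ↥(SOG Q)) ∈ ΩS ↔
      ∃ g : ↥(Cfsg.isometryGroup F ⇑Q), g ∈ Cfsg.Omega F ⇑Q ∧
        ((g : GL ι F) : Matrix ι ι F) = -1 := by
    rw [hΩS, Subgroup.mem_subgroupOf, mem_OmGL]
    constructor
    · rintro ⟨s, hs⟩
      refine ⟨s, s.2, ?_⟩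
      have h : ((s : ↥(Cfsg.isometryGroup F ⇑Q)) : GL ι F) = -1 := hs
      rw [h]; simp
    · rintro ⟨g, hg, hg1⟩
      refine ⟨⟨g, hg⟩, ?_⟩
      apply Units.ext
      show ((g : GL ι F) : Matrix ι ι F) = _
      rw [hg1]; simp
  constructor
  · intro hneg
    have hle : (fSO Q).ker ≤ ΩS := by
      intro x hx
      rcases hkermem x hx with h | h
      · have : x = 1 := Subtype.ext h
        rw [this]; exact one_mem _
      · have : x = ⟨-1, hnegSO⟩ := Subtype.ext h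
        rw [this]; exact hnegmem.2 hneg
    rw [sup_of_le_left hle, hΩidx]
  · intro hneg
    have hdvd : (ΩS ⊔ (fSO Q).ker).index ∣ 2 := by
      rw [← hΩidx]; exact Subgroup.index_dvd_of_le le_sup_left
    rcases (Nat.dvd_prime Nat.prime_two).1 hdvd with h | h
    · exact h
    · exfalso
      have h3 := Subgroup.relIndex_mul_index (le_sup_left : ΩS ≤ ΩS ⊔ (fSO Q).ker)
      rw [h, hΩidx] at h3
      have h4 : ΩS.relIndex (ΩS ⊔ (fSO Q).ker) = 1 := by omega
      rw [Subgroup.relIndex_eq_one] at h4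
      exact hneg (hnegmem.1 (h4 (le_sup_right (a := ΩS) hnegker)))

end relindex

end Cfsg.Agent.Helper5.OrthAut
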