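import Mathlib
import Cfsg.Agent.Lib.Helper5.OrthAut4
import Cfsg.Agent.Lib.Lead.POmegaCard
import Cfsg.Agent.S0790
import Cfsg.Agent.S0791

/-!
# The index of `Inn(PΩ^±)` in the image of `SO^±`, `q` odd
-/

set_option autoImplicit false
set_option linter.unusedSectionVars false
set_option linter.unusedSimpArgs false

namespace Cfsg.Agent.Helper5.OrthAut

open Matrix QuadraticMap Cfsg.Agent.Helper43

theorem pow_mod_four_eq_three_iff (q m : ℕ) (hq : q % 2 = 1) :
    q ^ m % 4 = 3 ↔ (Odd m ∧ q % 4 = 3) := by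
  have h4 : q % 4 = 1 ∨ q % 4 = 3 := by omega
  rcases h4 with h4 | h4
  · have : q ^ m % 4 = 1 := by
      rw [Nat.pow_mod, h4, one_pow]; rfl
    rw [this, h4]
    simp
  · rcases Nat.even_or_odd' m with ⟨j, rfl | rfl⟩
    · have : q ^ (2 * j) % 4 = 1 := by
        rw [pow_mul, Nat.pow_mod, Nat.pow_mod q 2, h4]
        norm_num
      rw [this]
      constructor
      · intro h; omega
      · rintro ⟨h, _⟩
        exact absurd h (by simp)
    · have : q ^ (2 * j + 1) % 4 = 3 := by
        rw [pow_succ, Nat.mul_mod, pow_mul, Nat.pow_mod, Nat.pow_mod q 2, h4]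
        norm_num
      rw [this]
      simp [h4]

theorem pow_mod_four_eq_one_iff (q m : ℕ) (hq : q % 2 = 1) :
    q ^ m % 4 = 1 ↔ ¬ (Odd m ∧ q % 4 = 3) := by
  rw [← pow_mod_four_eq_three_iff q m hq]
  have : q ^ m % 2 = 1 := by
    rw [Nat.pow_mod, hq, one_pow]; rfl
  omega

section plus

variable {F : Type*} [Field F] [Fintype F]

theorem relIndex_inn_pso_plus (hodd : Odd (Fintype.card F)) {m : ℕ} (hm : 4 ≤ m) :
    ((Odd m ∧ Fintype.card F % 4 = 3) →
      (Cfsg.Inn (Cfsg.POmega F (Cfsg.quadFormPlus m F))).relIndex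
        (Cfsg.psoAut F (Cfsg.quadFormPlus m F)) = 1) ∧
    (¬ (Odd m ∧ Fintype.card F % 4 = 3) →
      (Cfsg.Inn (Cfsg.POmega F (Cfsg.quadFormPlus m F))).relIndex
        (Cfsg.psoAut F (Cfsg.quadFormPlus m F)) = 2) := by
  have h2 := two_ne_zero_of_odd_card hodd
  have hfam := stdPlus_isHypFamily F m
  have hnd := stdPlus_nondegenerate F m
  have hcard : Fintype.card (Fin m ⊕ Fin m) = 2 * m := by simp; ring
  obtain ⟨v, hv⟩ := hQ0_of_hyp (stdPlus F m) hfam (by omega)
  have hperf := hperf_of_hyp (stdPlus F m) hnd _ _ hfam (by omega) (by rw [hcard]; omega)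
  have hcent := hcent_of_hyp (stdPlus F m) hfam (by omega)
    (Cfsg.Agent.Lead.POmegaCard.hspan_plus m)
  have hidx := Cfsg.Agent.Lead.POmegaCard.index_omega_odd h2 (stdPlus F m) hnd
    (by rw [hcard]; omega)
  have hneg := Cfsg.Agent.S0790.result (F := F) rfl hodd m (by omega)
  have hq : Fintype.card F % 2 = 1 := Nat.odd_iff.1 hodd
  have key := relIndex_inn_pso (stdPlus F m) hperf hcent hnd h2 m hcard v hv hidx
  constructor
  · intro h
    apply key.2
    intro hcon
    have := hneg.1 hcon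
    rw [pow_mod_four_eq_one_iff _ _ hq] at this
    exact this h
  · intro h
    apply key.1
    apply hneg.2
    rw [pow_mod_four_eq_one_iff _ _ hq]
    exact h

end plus

section minus

variable {F : Type*} [Field F] [Fintype F]

theorem relIndex_inn_pso_minus (hodd : Odd (Fintype.card F)) {m : ℕ} (hm : 3 ≤ m) (a b : F)
    (hab : ∀ z₁ z₂ : F, z₁ ^ 2 + a * z₁ * z₂ + b * z₂ ^ 2 = 0 → z₁ = 0 ∧ z₂ = 0) :
    ((Even m ∧ Fintype.card F % 4 = 3) →
      (Cfsg.Inn (Cfsg.POmega F (Cfsg.quadFormMinus m F a b))).relIndex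
        (Cfsg.psoAut F (Cfsg.quadFormMinus m F a b)) = 2) ∧
    (¬ (Even m ∧ Fintype.card F % 4 = 3) →
      (Cfsg.Inn (Cfsg.POmega F (Cfsg.quadFormMinus m F a b))).relIndex
        (Cfsg.psoAut F (Cfsg.quadFormMinus m F a b)) = 1) := by
  have h2 := two_ne_zero_of_odd_card hodd
  have hab' : AnisoPair a b := hab
  have hfam := stdMinus_isHypFamily F m a b
  have hnd := stdMinus_nondegenerate (F := F) m hab'
  have hcard : Fintype.card ((Fin m ⊕ Fin m) ⊕ Fin 2) = 2 * (m + 1) := by simp; ring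
  obtain ⟨v, hv⟩ := hQ0_of_hyp (stdMinus F m a b) hfam (by omega)
  have hperf := hperf_of_hyp (stdMinus F m a b) hnd _ _ hfam (by omega) (by rw [hcard]; omega)
  have hcent := hcent_of_hyp (stdMinus F m a b) hfam (by omega)
    (Cfsg.Agent.Lead.POmegaCard.hspan_minus m a b)
  have hidx := Cfsg.Agent.Lead.POmegaCard.index_omega_odd h2 (stdMinus F m a b) hnd
    (by rw [hcard]; omega)
  have hneg := Cfsg.Agent.S0791.result (F := F) rfl hodd (m + 1) (by omega) a b hab
  rw [Nat.add_sub_cancel] at hneg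
  have hq : Fintype.card F % 2 = 1 := Nat.odd_iff.1 hodd
  have key := relIndex_inn_pso (stdMinus F m a b) hperf hcent hnd h2 (m + 1) hcard v hv hidx
  rw [coe_stdMinus] at key
  have hiff : (Odd (m + 1) ∧ Fintype.card F % 4 = 3) ↔ (Even m ∧ Fintype.card F % 4 = 3) := by
    rw [Nat.odd_add_one, Nat.not_odd_iff_even]
  constructor
  · intro h
    apply key.1
    apply hneg.2
    rw [pow_mod_four_eq_three_iff _ _ hq, hiff]
    exact h
  · intro h
    apply key.2
    intro hcon
    have := hneg.1 hcon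
    rw [pow_mod_four_eq_three_iff _ _ hq, hiff] at this
    exact h this

end minus

end Cfsg.Agent.Helper5.OrthAut
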