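import Mathlib
import Cfsg.Agent.Lib.Helper5.OrthAut5
import Cfsg.Agent.Lib.Helper17.Order8Dihedral

/-!
# `PGO / Inn(PΩ)` is dihedral of order 8 when `-1 ∈ Ω`
-/

set_option autoImplicit false
set_option linter.unusedSectionVars false
set_option linter.unusedSimpArgs false

namespace Cfsg.Agent.Helper5.OrthAut

open Matrix QuadraticMap Cfsg.Agent.Helper43

instance inn_normal (X : Type*) [Group X] : (Cfsg.Inn X).Normal := by
  constructor
  rintro _ ⟨g, rfl⟩ α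
  refine ⟨α g, ?_⟩
  ext x
  simp [MulAut.conj_apply, MulAut.mul_apply, MulAut.inv_apply]

section conj

variable {F : Type*} [Field F] {ι : Type} [Fintype ι] [DecidableEq ι]
  (Q : QuadraticForm F (ι → F))

/-- Conjugating a reflection by a similarity gives the reflection in the image vector. -/
theorem sim_conj_refl (g : ↥(GO Q)) (v : ι → F) (hv : Q v ≠ 0)
    (hgv : Q (gmat Q g *ᵥ v) ≠ 0) :
    (g : GL ι F) * ((reflIso Q hv : ↥(Cfsg.isometryGroup F ⇑Q)) : GL ι F) * (g : GL ι F)⁻¹ =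
      ((reflIso Q hgv : ↥(Cfsg.isometryGroup F ⇑Q)) : GL ι F) := by
  apply Units.ext
  apply matrix_ext_mulVec
  intro x
  rw [Units.val_mul, Units.val_mul, reflIso_coe, reflIso_coe, ← Matrix.mulVec_mulVec,
    ← Matrix.mulVec_mulVec, reflectionMatrix_mulVec_eq, reflectionMatrix_mulVec_eq,
    reflLin_apply, reflLin_apply, Matrix.mulVec_sub, Matrix.mulVec_smul, Matrix.mulVec_mulVec,
    ← Units.val_mul, mul_inv_cancel, Units.val_one, Matrix.one_mulVec]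
  set y := (((g : GL ι F)⁻¹ : GL ι F) : Matrix ι ι F) *ᵥ x with hy
  have hx : x = gmat Q g *ᵥ y := by
    rw [hy, gmat, Matrix.mulVec_mulVec, ← Units.val_mul, mul_inv_cancel, Units.val_one,
      Matrix.one_mulVec]
  have h1 : polar (⇑Q) (gmat Q g *ᵥ v) x = (mult Q g : F) * polar (⇑Q) v y := by
    rw [hx, polar_sim]
  have h2 : Q (gmat Q g *ᵥ v) = (mult Q g : F) * Q v := mult_spec Q g v
  congr 2
  show (Q v)⁻¹ * polar (⇑Q) v y = (Q (gmat Q g *ᵥ v))⁻¹ * polar (⇑Q) (gmat Q g *ᵥ v) x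
  rw [h1, h2]
  have hmu : (mult Q g : F) ≠ 0 := Units.ne_zero _
  field_simp

end conj

section dihedral

variable {F : Type*} [Field F] [Fintype F] [DecidableEq F] {ι : Type} [Fintype ι] [DecidableEq ι]
  (Q : QuadraticForm F (ι → F))
  (hperf : commutator ↥(Cfsg.Omega F ⇑Q) = ⊤)
  (hcent : ∀ Z : Matrix ι ι F, (∀ s : ↥(Cfsg.Omega F ⇑Q), Z * omat (⇑Q) s = omat (⇑Q) s * Z) →
      ∃ c : F, Z = c • (1 : Matrix ι ι F))
  (hQ : (polarBilin Q).Nondegenerate) (h2 : (2 : F) ≠ 0)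

include hperf hcent in
/-- If `-1 ∈ Ω`, an isometry inducing an inner automorphism of `PΩ` lies in `Ω`. -/
theorem mem_OmGL_of_Phi_mem_inn (hQ0 : ∃ v : ι → F, Q v ≠ 0)
    (hneg : ∃ g : ↥(Cfsg.isometryGroup F ⇑Q), g ∈ Cfsg.Omega F ⇑Q ∧
        ((g : GL ι F) : Matrix ι ι F) = -1)
    (x : GL ι F) (hx : x ∈ OG Q)
    (h : Phi (⇑Q) ⟨x, Subgroup.le_normalizer hx⟩ ∈ Cfsg.Inn (Cfsg.POmega F ⇑Q)) :
    x ∈ OmGL (⇑Q) := by
  rw [inn_eq] at h
  obtain ⟨w, hw, hwx⟩ := h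
  have hw' : (w : GL ι F) ∈ OmGL (⇑Q) := hw
  have hker : w⁻¹ * ⟨x, Subgroup.le_normalizer hx⟩ ∈ (Phi (⇑Q)).ker := by
    rw [MonoidHom.mem_ker, map_mul, map_inv, hwx, inv_mul_cancel]
  rw [ker_Phi (⇑Q) hperf hcent, Subgroup.mem_subgroupOf] at hker
  have hwO : (w : GL ι F) ∈ OG Q := OmGL_le_iso (⇑Q) hw'
  have hz : (w : GL ι F)⁻¹ * x ∈ OG Q := mul_mem (inv_mem hwO) hx
  have hnegmem : (-1 : GL ι F) ∈ OmGL (⇑Q) := by
    obtain ⟨g, hg, hg1⟩ := hneg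
    rw [mem_OmGL]
    refine ⟨⟨g, hg⟩, ?_⟩
    apply Units.ext
    show ((g : GL ι F) : Matrix ι ι F) = _
    rw [hg1]; simp
  rcases scalar_iso Q hQ0 _ hz hker with h1 | h1
  · have : (w : GL ι F) = x := inv_mul_eq_one.1 h1
    rw [← this]; exact hw'
  · have : x = (w : GL ι F) * (-1) := by rw [← h1]; group
    rw [this]
    exact mul_mem hw' hnegmem

include hQ h2 in
theorem refl_mul_refl_not_mem (hn : 2 ≤ Fintype.card ι) {u v : ι → F} (hu : Q u ≠ 0)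
    (hv : Q v ≠ 0) (hns : ¬ IsSquare (Q u * Q v)) :
    ((reflIso Q hu * reflIso Q hv : ↥(Cfsg.isometryGroup F ⇑Q)) : GL ι F) ∉ OmGL (⇑Q) := by
  intro h
  obtain ⟨s, hs⟩ := (mem_OmGL (⇑Q) _).1 h
  have hs' : (s : ↥(Cfsg.isometryGroup F ⇑Q)) = reflIso Q hu * reflIso Q hv := Subtype.ext hs
  have hθ : theta Q (s : ↥(Cfsg.isometryGroup F ⇑Q)) = 1 :=
    MonoidHom.mem_ker.1 (Abelianization.commutator_subset_ker (theta Q) s.2)
  rw [hs', map_mul] at hθ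
  have heq : theta Q (reflIso Q hu) = theta Q (reflIso Q hv) := by
    have := mul_eq_one_iff_eq_inv.1 hθ
    rw [this, Int.units_inv_eq_self]
  exact hns ((theta_reflIso_eq_iff Q h2 hn hQ hu hv).1 heq)

include h2 in
theorem refl_not_mem {u : ι → F} (hu : Q u ≠ 0) :
    ((reflIso Q hu : ↥(Cfsg.isometryGroup F ⇑Q)) : GL ι F) ∉ OmGL (⇑Q) := by
  intro h
  have h1 := ((mem_SOG_iff Q _).1 (OmGL_le_SOG Q h)).2
  rw [reflIso_coe, reflectionMatrix_det Q hu] at h1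
  apply h2
  linear_combination -h1

theorem inn_le_psoAut : Cfsg.Inn (Cfsg.POmega F ⇑Q) ≤ Cfsg.psoAut F ⇑Q := by
  rw [inn_eq, psoAut_eq]
  apply Subgroup.map_mono
  intro x hx
  exact OmGL_le_SOG Q hx

theorem psoAut_le_pgoAut : Cfsg.psoAut F ⇑Q ≤ Cfsg.pgoAut F ⇑Q := by
  rw [pgoAut_eq, psoAut_eq]
  apply Subgroup.map_mono
  intro x hx
  exact iso_le_sim (⇑Q) (SOG_le_OG Q hx)

/-- The element of `pgoAut` induced by a similarity. -/
noncomputable def pP (g : GL ι F) (hg : g ∈ GO Q) : ↥(Cfsg.pgoAut F ⇑Q) :=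
  ⟨Phi (⇑Q) ⟨g, sim_le_NO (⇑Q) hg⟩, by rw [pgoAut_eq]; exact ⟨_, hg, rfl⟩⟩

theorem pP_coe (g : GL ι F) (hg : g ∈ GO Q) :
    ((pP Q g hg : ↥(Cfsg.pgoAut F ⇑Q)) : MulAut (Cfsg.POmega F ⇑Q)) =
      Phi (⇑Q) ⟨g, sim_le_NO (⇑Q) hg⟩ := rfl

theorem pP_mul (g h : GL ι F) (hg : g ∈ GO Q) (hh : h ∈ GO Q) :
    pP Q (g * h) (mul_mem hg hh) = pP Q g hg * pP Q h hh := by
  apply Subtype.ext
  rw [Subgroup.coe_mul, pP_coe, pP_coe, pP_coe, ← map_mul]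
  rfl

theorem pP_inv (g : GL ι F) (hg : g ∈ GO Q) :
    pP Q g⁻¹ (inv_mem hg) = (pP Q g hg)⁻¹ := by
  apply Subtype.ext
  rw [Subgroup.coe_inv, pP_coe, pP_coe, ← map_inv]
  rfl

theorem pP_one : pP Q 1 (one_mem _) = 1 := by
  apply Subtype.ext
  rw [pP_coe, Subgroup.coe_one, ← map_one (Phi (⇑Q))]
  rfl

/-- The reflection as an element of `GL`. -/
noncomputable abbrev rGL {u : ι → F} (hu : Q u ≠ 0) : GL ι F :=
  ((reflIso Q hu : ↥(Cfsg.isometryGroup F ⇑Q)) : GL ι F)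

theorem rGL_mem_OG {u : ι → F} (hu : Q u ≠ 0) : rGL Q hu ∈ OG Q := (reflIso Q hu).2

theorem rGL_mem_GO {u : ι → F} (hu : Q u ≠ 0) : rGL Q hu ∈ GO Q :=
  iso_le_sim (⇑Q) (rGL_mem_OG Q hu)

theorem rGL_mul_self {u : ι → F} (hu : Q u ≠ 0) : rGL Q hu * rGL Q hu = 1 := by
  have := congrArg (fun x : ↥(Cfsg.isometryGroup F ⇑Q) => (x : GL ι F)) (reflIso_mul_self Q hu)
  exact this

include hperf hcent hQ h2 in
theorem pgo_mod_inn_dihedral (k : ℕ) (hcard : Fintype.card ι = 2 * k)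
    (hidx : (Cfsg.Omega F ⇑Q).index = 4)
    (hneg : ∃ g : ↥(Cfsg.isometryGroup F ⇑Q), g ∈ Cfsg.Omega F ⇑Q ∧
        ((g : GL ι F) : Matrix ι ι F) = -1)
    (hQ0 : ∃ v : ι → F, Q v ≠ 0)
    (hsurj : Function.Surjective (psiHom Q hQ0 hQ k hcard h2))
    (δ : GL ι F) (hδ : δ ∈ GO Q) (hδ1 : ¬ IsSquare ((mult Q ⟨δ, hδ⟩ : Fˣ) : F))
    (u : ι → F) (hu : Q u ≠ 0) :
    ∃ φ : ↥(Cfsg.pgoAut F ⇑Q) →* DihedralGroup 4, Function.Surjective φ ∧
      φ.ker = (Cfsg.Inn (Cfsg.POmega F ⇑Q)).subgroupOf (Cfsg.pgoAut F ⇑Q) := by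
  have hn : 2 ≤ Fintype.card ι := by
    rcases Nat.eq_zero_or_pos k with rfl | hk
    · exfalso
      rw [mul_zero, Fintype.card_eq_zero_iff] at hcard
      apply hu
      have : u = 0 := Subsingleton.elim _ _
      rw [this, QuadraticMap.map_zero]
    · omega
  set P := Cfsg.pgoAut F ⇑Q with hP
  set N : Subgroup ↥P := (Cfsg.Inn (Cfsg.POmega F ⇑Q)).subgroupOf P with hN
  -- the index
  have h4 : (Cfsg.psoAut F ⇑Q).relIndex P = 4 := by
    obtain ⟨φ0, hs0, hk0⟩ := pgo_mod_pso Q hperf hcent hQ0 hQ k hcard h2 hsurj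
    unfold Subgroup.relIndex
    rw [← hk0, Subgroup.index_ker, MonoidHom.range_eq_top.2 hs0, Subgroup.card_top,
      Nat.card_eq_fintype_card]
    rfl
  have h2' : (Cfsg.Inn (Cfsg.POmega F ⇑Q)).relIndex (Cfsg.psoAut F ⇑Q) = 2 :=
    (relIndex_inn_pso Q hperf hcent hQ h2 k hcard u hu hidx).1 hneg
  have h8 : N.index = 8 := by
    have := Subgroup.relIndex_mul_relIndex _ _ _ (inn_le_psoAut Q) (psoAut_le_pgoAut Q)
    rw [h2', h4] at this
    exact this.symm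
  have hT : Nat.card (↥P ⧸ N) = 8 := by rw [← Subgroup.index_eq_card, h8]
  -- membership criterion
  have hmkeq : ∀ a b : ↥P, (QuotientGroup.mk a : ↥P ⧸ N) = QuotientGroup.mk b ↔
      ((a⁻¹ * b : ↥P) : MulAut (Cfsg.POmega F ⇑Q)) ∈ Cfsg.Inn (Cfsg.POmega F ⇑Q) := by
    intro a b
    rw [QuotientGroup.eq, hN, Subgroup.mem_subgroupOf]
  -- classes of reflections
  have hcls_ne : ∀ (x y : ι → F) (hx : Q x ≠ 0) (hy : Q y ≠ 0), ¬ IsSquare (Q x * Q y) →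
      (QuotientGroup.mk (pP Q (rGL Q hx) (rGL_mem_GO Q hx)) : ↥P ⧸ N) ≠
        QuotientGroup.mk (pP Q (rGL Q hy) (rGL_mem_GO Q hy)) := by
    intro x y hx hy hns heq
    rw [hmkeq, ← pP_inv, ← pP_mul, pP_coe] at heq
    have hxy : (rGL Q hx)⁻¹ * rGL Q hy =
        ((reflIso Q hx * reflIso Q hy : ↥(Cfsg.isometryGroup F ⇑Q)) : GL ι F) := by
      rw [Subgroup.coe_mul, inv_eq_of_mul_eq_one_right (rGL_mul_self Q hx)]
    have hmem : (rGL Q hx)⁻¹ * rGL Q hy ∈ OG Q :=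
      mul_mem (inv_mem (rGL_mem_OG Q hx)) (rGL_mem_OG Q hy)
    have := mem_OmGL_of_Phi_mem_inn Q hperf hcent hQ0 hneg _ hmem heq
    rw [hxy] at this
    exact refl_mul_refl_not_mem Q hQ h2 hn hx hy hns this
  have hcls_ne_one : ∀ (x : ι → F) (hx : Q x ≠ 0),
      (QuotientGroup.mk (pP Q (rGL Q hx) (rGL_mem_GO Q hx)) : ↥P ⧸ N) ≠ 1 := by
    intro x hx heq
    rw [← QuotientGroup.mk_one, hmkeq, mul_one, ← pP_inv, pP_coe] at heq
    have hmem : (rGL Q hx)⁻¹ ∈ OG Q := inv_mem (rGL_mem_OG Q hx)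
    have := mem_OmGL_of_Phi_mem_inn Q hperf hcent hQ0 hneg _ hmem heq
    rw [inv_eq_of_mul_eq_one_right (rGL_mul_self Q hx)] at this
    exact refl_not_mem Q h2 hx this
  have hcls_order : ∀ (x : ι → F) (hx : Q x ≠ 0),
      orderOf (QuotientGroup.mk (pP Q (rGL Q hx) (rGL_mem_GO Q hx)) : ↥P ⧸ N) = 2 := by
    intro x hx
    apply orderOf_eq_prime
    · rw [pow_two, ← QuotientGroup.mk_mul, ← pP_mul]
      have : pP Q (rGL Q hx * rGL Q hx) (mul_mem (rGL_mem_GO Q hx) (rGL_mem_GO Q hx)) = 1 := by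
        rw [← pP_one]
        congr 1
        exact rGL_mul_self Q hx
      rw [this, QuotientGroup.mk_one]
    · exact hcls_ne_one x hx
  -- the vector δ u
  have hδu : Q ((δ : Matrix ι ι F) *ᵥ u) ≠ 0 := by
    have := mult_spec Q ⟨δ, hδ⟩ u
    rw [gmat] at this
    rw [this]
    exact mul_ne_zero (Units.ne_zero _) hu
  have hns : ¬ IsSquare (Q ((δ : Matrix ι ι F) *ᵥ u) * Q u) := by
    have := mult_spec Q ⟨δ, hδ⟩ u
    rw [gmat] at this
    rw [this]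
    intro hsq
    apply hδ1
    obtain ⟨r, hr⟩ := hsq
    refine ⟨r / Q u, ?_⟩
    field_simp
    linear_combination hr
  have hconj : pP Q δ hδ * pP Q (rGL Q hu) (rGL_mem_GO Q hu) * (pP Q δ hδ)⁻¹ =
      pP Q (rGL Q hδu) (rGL_mem_GO Q hδu) := by
    rw [← pP_inv, ← pP_mul, ← pP_mul]
    congr 1
    exact sim_conj_refl Q ⟨δ, hδ⟩ u hu hδu
  -- non-abelian
  have hna : ¬ ∀ x y : ↥P ⧸ N, x * y = y * x := by
    intro hab
    apply hcls_ne _ _ hδu hu hns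
    rw [← hconj, QuotientGroup.mk_mul, QuotientGroup.mk_mul, QuotientGroup.mk_inv,
      hab (QuotientGroup.mk (pP Q δ hδ))]
    group
  rcases Cfsg.Agent.Helper17.order8_dihedral_or_unique_involution hT hna with ⟨⟨e⟩⟩ | ⟨z, hz, hzu⟩
  · refine ⟨e.toMonoidHom.comp (QuotientGroup.mk' N),
      e.surjective.comp (QuotientGroup.mk'_surjective N), ?_⟩
    ext x
    rw [MonoidHom.mem_ker, MonoidHom.comp_apply]
    show e (QuotientGroup.mk' N x) = 1 ↔ _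
    rw [MulEquiv.map_eq_one_iff, ← MonoidHom.mem_ker, QuotientGroup.ker_mk']
  · exfalso
    apply hcls_ne _ _ hδu hu hns
    rw [hzu _ (hcls_order _ hδu), hzu _ (hcls_order _ hu)]

end dihedral

end Cfsg.Agent.Helper5.OrthAut
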