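import Mathlib
import Cfsg.Agent.Lib.Helper5.OrthAut6

/-!
# `PGO^± / Inn(PΩ^±)`: Klein four or dihedral of order 8
-/

set_option autoImplicit false
set_option linter.unusedSectionVars false
set_option linter.unusedSimpArgs false

namespace Cfsg.Agent.Helper5.OrthAut

open Matrix QuadraticMap Cfsg.Agent.Helper43

section plus

variable {F : Type*} [Field F] [Fintype F]

theorem pgo_mod_inn_plus (hodd : Odd (Fintype.card F)) {m : ℕ} (hm : 4 ≤ m) :
    ((Odd m ∧ Fintype.card F % 4 = 3) →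
      (∃ φ : ↥(Cfsg.pgoAut F (Cfsg.quadFormPlus m F)) →* Multiplicative (ZMod 2 × ZMod 2),
        Function.Surjective φ ∧
        φ.ker = (Cfsg.Inn (Cfsg.POmega F (Cfsg.quadFormPlus m F))).subgroupOf
          (Cfsg.pgoAut F (Cfsg.quadFormPlus m F)))) ∧
    (¬ (Odd m ∧ Fintype.card F % 4 = 3) →
      (∃ φ : ↥(Cfsg.pgoAut F (Cfsg.quadFormPlus m F)) →* DihedralGroup 4,
        Function.Surjective φ ∧
        φ.ker = (Cfsg.Inn (Cfsg.POmega F (Cfsg.quadFormPlus m F))).subgroupOf
          (Cfsg.pgoAut F (Cfsg.quadFormPlus m F)))) := by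
  classical
  have hrel := relIndex_inn_pso_plus hodd hm
  constructor
  · intro h
    have h1 := hrel.1 h
    have heq : Cfsg.Inn (Cfsg.POmega F (Cfsg.quadFormPlus m F)) =
        Cfsg.psoAut F (Cfsg.quadFormPlus m F) :=
      le_antisymm (inn_le_psoAut (stdPlus F m)) (Subgroup.relIndex_eq_one.1 h1)
    rw [heq]
    exact pgo_mod_pso_plus hodd hm
  · intro h
    have h2 := two_ne_zero_of_odd_card hodd
    have hfam := stdPlus_isHypFamily F m
    have hnd := stdPlus_nondegenerate F m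
    have hcard : Fintype.card (Fin m ⊕ Fin m) = 2 * m := by simp; ring
    have hQ0 := hQ0_of_hyp (stdPlus F m) hfam (by omega)
    have hperf := hperf_of_hyp (stdPlus F m) hnd _ _ hfam (by omega) (by rw [hcard]; omega)
    have hcent := hcent_of_hyp (stdPlus F m) hfam (by omega)
      (Cfsg.Agent.Lead.POmegaCard.hspan_plus m)
    have hidx := Cfsg.Agent.Lead.POmegaCard.index_omega_odd h2 (stdPlus F m) hnd
      (by rw [hcard]; omega)
    have hq : Fintype.card F % 2 = 1 := Nat.odd_iff.1 hodd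
    have hneg := (Cfsg.Agent.S0790.result (F := F) rfl hodd m (by omega)).2
      ((pow_mod_four_eq_one_iff _ _ hq).2 h)
    obtain ⟨ν, hν⟩ := exists_nonsquare_unit h2
    obtain ⟨v, hv⟩ := hQ0
    have hmu : mult (stdPlus F m) ⟨deltaPlus m ν, deltaPlus_mem m ν⟩ = ν :=
      mult_unique _ ⟨v, hv⟩ _ _ (deltaPlus_sim m ν)
    have hsurj := psiHom_surjective (stdPlus F m) ⟨v, hv⟩ hnd m hcard h2
      ⟨deltaPlus m ν, deltaPlus_mem m ν⟩ (by rw [hmu]; exact hν)
      (by
        apply Units.ext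
        rw [dHom_coe, hmu, Units.val_one]
        show ((deltaPlus m ν : GL (Fin m ⊕ Fin m) F) :
          Matrix (Fin m ⊕ Fin m) (Fin m ⊕ Fin m) F).det * _ = 1
        rw [deltaPlus_det]
        exact mul_inv_cancel₀ (pow_ne_zero _ (Units.ne_zero _))) v hv
    exact pgo_mod_inn_dihedral (stdPlus F m) hperf hcent hnd h2 m hcard hidx hneg ⟨v, hv⟩ hsurj
      (deltaPlus m ν) (deltaPlus_mem m ν) (by rw [hmu]; exact hν) v hv

end plus

section minus

variable {F : Type*} [Field F] [Fintype F]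

theorem pgo_mod_inn_minus (hodd : Odd (Fintype.card F)) {m : ℕ} (hm : 3 ≤ m) (a b : F)
    (hab : ∀ z₁ z₂ : F, z₁ ^ 2 + a * z₁ * z₂ + b * z₂ ^ 2 = 0 → z₁ = 0 ∧ z₂ = 0) :
    ((Even m ∧ Fintype.card F % 4 = 3) →
      (∃ φ : ↥(Cfsg.pgoAut F (Cfsg.quadFormMinus m F a b)) →* DihedralGroup 4,
        Function.Surjective φ ∧
        φ.ker = (Cfsg.Inn (Cfsg.POmega F (Cfsg.quadFormMinus m F a b))).subgroupOf
          (Cfsg.pgoAut F (Cfsg.quadFormMinus m F a b)))) ∧
    (¬ (Even m ∧ Fintype.card F % 4 = 3) →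
      (∃ φ : ↥(Cfsg.pgoAut F (Cfsg.quadFormMinus m F a b)) →*
          Multiplicative (ZMod 2 × ZMod 2),
        Function.Surjective φ ∧
        φ.ker = (Cfsg.Inn (Cfsg.POmega F (Cfsg.quadFormMinus m F a b))).subgroupOf
          (Cfsg.pgoAut F (Cfsg.quadFormMinus m F a b)))) := by
  classical
  have hrel := relIndex_inn_pso_minus hodd hm a b hab
  constructor
  · intro h
    have h2 := two_ne_zero_of_odd_card hodd
    have hab' : AnisoPair a b := hab
    have hfam := stdMinus_isHypFamily F m a b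
    have hnd := stdMinus_nondegenerate (F := F) m hab'
    have hcard : Fintype.card ((Fin m ⊕ Fin m) ⊕ Fin 2) = 2 * (m + 1) := by simp; ring
    have hQ0 := hQ0_of_hyp (stdMinus F m a b) hfam (by omega)
    have hperf := hperf_of_hyp (stdMinus F m a b) hnd _ _ hfam (by omega) (by rw [hcard]; omega)
    have hcent := hcent_of_hyp (stdMinus F m a b) hfam (by omega)
      (Cfsg.Agent.Lead.POmegaCard.hspan_minus m a b)
    have hidx := Cfsg.Agent.Lead.POmegaCard.index_omega_odd h2 (stdMinus F m a b) hnd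
      (by rw [hcard]; omega)
    have hq : Fintype.card F % 2 = 1 := Nat.odd_iff.1 hodd
    have hneg0 := Cfsg.Agent.S0791.result (F := F) rfl hodd (m + 1) (by omega) a b hab
    rw [Nat.add_sub_cancel] at hneg0
    have hiff : (Odd (m + 1) ∧ Fintype.card F % 4 = 3) ↔ (Even m ∧ Fintype.card F % 4 = 3) := by
      rw [Nat.odd_add_one, Nat.not_odd_iff_even]
    have hneg := hneg0.2 ((pow_mod_four_eq_three_iff _ _ hq).2 (hiff.2 h))
    rw [← coe_stdMinus] at hneg
    obtain ⟨ν, hν⟩ := exists_nonsquare_unit h2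
    obtain ⟨w, hw⟩ := hab'.exists_nrm_eq (ν : F)
    obtain ⟨v, hv⟩ := hQ0
    have hmu : mult (stdMinus F m a b)
        ⟨deltaMinus m a b ν w hw, deltaMinus_mem m a b ν w hw⟩ = ν :=
      mult_unique _ ⟨v, hv⟩ _ _ (fun v => by
        show stdMinus F m a b (deltaMinusMat m a b ν w *ᵥ v) = _
        exact deltaMinusMat_sim m a b ν w hw v)
    have hsurj := psiHom_surjective (stdMinus F m a b) ⟨v, hv⟩ hnd (m + 1) hcard h2
      ⟨deltaMinus m a b ν w hw, deltaMinus_mem m a b ν w hw⟩ (by rw [hmu]; exact hν)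
      (by
        apply Units.ext
        rw [dHom_coe, hmu, Units.val_one]
        show (deltaMinusMat m a b ν w).det * _ = 1
        rw [deltaMinusMat_det, hw, ← pow_succ]
        exact mul_inv_cancel₀ (pow_ne_zero _ (Units.ne_zero _))) v hv
    have := pgo_mod_inn_dihedral (stdMinus F m a b) hperf hcent hnd h2 (m + 1) hcard hidx hneg
      ⟨v, hv⟩ hsurj (deltaMinus m a b ν w hw) (deltaMinus_mem m a b ν w hw)
      (by rw [hmu]; exact hν) v hv
    rw [coe_stdMinus] at this
    exact this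
  · intro h
    have h1 := hrel.2 h
    have hle := inn_le_psoAut (stdMinus F m a b)
    rw [coe_stdMinus] at hle
    have heq : Cfsg.Inn (Cfsg.POmega F (Cfsg.quadFormMinus m F a b)) =
        Cfsg.psoAut F (Cfsg.quadFormMinus m F a b) :=
      le_antisymm hle (Subgroup.relIndex_eq_one.1 h1)
    rw [heq]
    exact pgo_mod_pso_minus hodd hm a b hab

end minus

end Cfsg.Agent.Helper5.OrthAut
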