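import Mathlib
import Cfsg.Agent.Lib.Helper5.OrthAut6

/-!
# The inner-diagonal group modulo inner automorphisms, generic form
-/

set_option autoImplicit false
set_option linter.unusedSectionVars false
set_option linter.unusedSimpArgs false

namespace Cfsg.Agent.Helper5.OrthAut

open Matrix QuadraticMap Cfsg.Agent.Helper43

section abstract4

theorem exists_of_equiv {P B : Type*} [Group P] [Group B] (N : Subgroup P) [N.Normal]
    (e : P ⧸ N ≃* B) : ∃ φ : P →* B, Function.Surjective φ ∧ φ.ker = N := by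
  refine ⟨e.toMonoidHom.comp (QuotientGroup.mk' N),
    e.surjective.comp (QuotientGroup.mk'_surjective N), ?_⟩
  ext x
  rw [MonoidHom.mem_ker, MonoidHom.comp_apply]
  show e (QuotientGroup.mk' N x) = 1 ↔ _
  rw [MulEquiv.map_eq_one_iff, ← MonoidHom.mem_ker, QuotientGroup.ker_mk']

theorem exists_hom_of_cyclic {P : Type*} [Group P] (N : Subgroup P) [N.Normal] (n : ℕ)
    (hT : Nat.card (P ⧸ N) = n) (hc : IsCyclic (P ⧸ N)) :
    ∃ φ : P →* Multiplicative (ZMod n), Function.Surjective φ ∧ φ.ker = N := by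
  subst hT
  exact exists_of_equiv N (zmodCyclicMulEquiv hc).symm

theorem exists_hom_of_klein {P : Type*} [Group P] (N : Subgroup P) [N.Normal]
    (hT : Nat.card (P ⧸ N) = 4) (hc : ¬ IsCyclic (P ⧸ N)) :
    ∃ φ : P →* Multiplicative (ZMod 2 × ZMod 2), Function.Surjective φ ∧ φ.ker = N := by
  have hexp : Monoid.exponent (P ⧸ N) = 2 :=
    (not_isCyclic_iff_exponent_eq_prime Nat.prime_two (by rw [hT]; norm_num)).1 hc
  have : IsKleinFour (P ⧸ N) := ⟨hT, hexp⟩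
  obtain ⟨e⟩ := IsKleinFour.nonempty_mulEquiv (G₁ := P ⧸ N)
    (G₂ := Multiplicative (ZMod 2 × ZMod 2))
  exact exists_of_equiv N e

theorem not_isCyclic_of_three {G : Type*} [Group G] [Finite G] (t z : G) (ht : t * t = 1)
    (hz : z * z = 1) (ht1 : t ≠ 1) (hz1 : z ≠ 1) (htz : t ≠ z) : ¬ IsCyclic G := by
  classical
  intro hc
  have := Fintype.ofFinite G
  have h := IsCyclic.card_pow_eq_one_le (α := G) (n := 2) (by norm_num)
  have hsub : ({1, t, z} : Finset G) ⊆ Finset.univ.filter (fun a => a ^ 2 = 1) := by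
    intro x hx
    simp only [Finset.mem_insert, Finset.mem_singleton] at hx
    rw [Finset.mem_filter]
    refine ⟨Finset.mem_univ _, ?_⟩
    rcases hx with rfl | rfl | rfl
    · simp
    · rw [pow_two, ht]
    · rw [pow_two, hz]
  have h3 : ({1, t, z} : Finset G).card = 3 := by
    rw [Finset.card_eq_three]
    exact ⟨1, t, z, ht1.symm, hz1.symm, htz, rfl⟩
  have := Finset.card_le_card hsub
  omega

end abstract4

section inndiag

variable {F : Type*} [Field F] [Fintype F] [DecidableEq F] {ι : Type} [Fintype ι] [DecidableEq ι]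
  (Q : QuadraticForm F (ι → F))
  (hQ0 : ∃ v : ι → F, Q v ≠ 0) (k : ℕ)

/-- Similarities with trivial discriminant character `det / μ^k`. -/
noncomputable def GO1 : Subgroup (GL ι F) := ((dHom Q hQ0 k).ker).map (GO Q).subtype

theorem mem_GO1 (g : GL ι F) :
    g ∈ GO1 Q hQ0 k ↔ ∃ hg : g ∈ GO Q, dHom Q hQ0 k ⟨g, hg⟩ = 1 := by
  constructor
  · rintro ⟨x, hx, rfl⟩
    exact ⟨x.2, hx⟩
  · rintro ⟨hg, h⟩
    exact ⟨⟨g, hg⟩, h, rfl⟩

theorem GO1_le_GO : GO1 Q hQ0 k ≤ GO Q := by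
  intro g hg
  exact ((mem_GO1 Q hQ0 k g).1 hg).1

theorem SOG_le_GO1 : SOG Q ≤ GO1 Q hQ0 k := by
  intro g hg
  rw [mem_SOG_iff] at hg
  rw [mem_GO1]
  refine ⟨iso_le_sim (⇑Q) hg.1, ?_⟩
  apply Units.ext
  have h1 := dHom_isoGO Q hQ0 k ⟨g, hg.1⟩
  have h2 : ((g : GL ι F) : Matrix ι ι F).det = 1 := hg.2
  rw [Units.val_one]
  exact h1.trans h2

/-- The inner-diagonal group: image of `GO1`. -/
noncomputable def inD : Subgroup (MulAut (Cfsg.POmega F ⇑Q)) :=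
  ((GO1 Q hQ0 k).subgroupOf (NO (⇑Q))).map (Phi (⇑Q))

theorem psoAut_le_inD : Cfsg.psoAut F ⇑Q ≤ inD Q hQ0 k := by
  rw [psoAut_eq, inD]
  apply Subgroup.map_mono
  intro x hx
  exact SOG_le_GO1 Q hQ0 k hx

theorem inn_le_inD : Cfsg.Inn (Cfsg.POmega F ⇑Q) ≤ inD Q hQ0 k :=
  le_trans (inn_le_psoAut Q) (psoAut_le_inD Q hQ0 k)

/-- The element of `inD` induced by `g ∈ GO1`. -/
noncomputable def pD (g : GL ι F) (hg : g ∈ GO1 Q hQ0 k) : ↥(inD Q hQ0 k) :=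
  ⟨Phi (⇑Q) ⟨g, sim_le_NO (⇑Q) (GO1_le_GO Q hQ0 k hg)⟩, ⟨_, hg, rfl⟩⟩

theorem pD_coe (g : GL ι F) (hg : g ∈ GO1 Q hQ0 k) :
    ((pD Q hQ0 k g hg : ↥(inD Q hQ0 k)) : MulAut (Cfsg.POmega F ⇑Q)) =
      Phi (⇑Q) ⟨g, sim_le_NO (⇑Q) (GO1_le_GO Q hQ0 k hg)⟩ := rfl

theorem pD_mul (g h : GL ι F) (hg : g ∈ GO1 Q hQ0 k) (hh : h ∈ GO1 Q hQ0 k) :
    pD Q hQ0 k (g * h) (mul_mem hg hh) = pD Q hQ0 k g hg * pD Q hQ0 k h hh := by
  apply Subtype.ext
  rw [Subgroup.coe_mul, pD_coe, pD_coe, pD_coe, ← map_mul]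
  rfl

theorem pD_inv (g : GL ι F) (hg : g ∈ GO1 Q hQ0 k) :
    pD Q hQ0 k g⁻¹ (inv_mem hg) = (pD Q hQ0 k g hg)⁻¹ := by
  apply Subtype.ext
  rw [Subgroup.coe_inv, pD_coe, pD_coe, ← map_inv]
  rfl

theorem pD_one : pD Q hQ0 k 1 (one_mem _) = 1 := by
  apply Subtype.ext
  rw [pD_coe, Subgroup.coe_one, ← map_one (Phi (⇑Q))]
  rfl

end inndiag

end Cfsg.Agent.Helper5.OrthAut
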