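import Mathlib
import Cfsg.Agent.Lib.Helper5.OrthLag4

/-!
# The inner-diagonal group modulo inner automorphisms: `C₂`, `C₄` or `C₂ × C₂`
-/

set_option autoImplicit false
set_option linter.unusedSectionVars false
set_option linter.unusedSimpArgs false

namespace Cfsg.Agent.Helper5.OrthAut

open Matrix QuadraticMap Cfsg.Agent.Helper43

section structure5

variable {F : Type*} [Field F] [Fintype F] [DecidableEq F] {ι : Type} [Fintype ι] [DecidableEq ι]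
  (Q : QuadraticForm F (ι → F))
  (hperf : commutator ↥(Cfsg.Omega F ⇑Q) = ⊤)
  (hcent : ∀ Z : Matrix ι ι F, (∀ s : ↥(Cfsg.Omega F ⇑Q), Z * omat (⇑Q) s = omat (⇑Q) s * Z) →
      ∃ c : F, Z = c • (1 : Matrix ι ι F))
  (hQ : (polarBilin Q).Nondegenerate) (h2 : (2 : F) ≠ 0)
  (hQ0 : ∃ v : ι → F, Q v ≠ 0) (k : ℕ) (hcard : Fintype.card ι = 2 * k)

include hperf hcent in
theorem Phi_scalar (c : GL ι F) (hc : c ∈ Cfsg.Geo.scalars ι F) (hcN : c ∈ NO (⇑Q)) :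
    Phi (⇑Q) ⟨c, hcN⟩ = 1 := by
  rw [← MonoidHom.mem_ker, ker_Phi (⇑Q) hperf hcent, Subgroup.mem_subgroupOf]
  exact hc

include hperf hcent hQ0 in
/-- A similarity inducing an inner automorphism has square multiplier. -/
theorem isSquare_mult_of_Phi_mem_inn (g : GL ι F) (hg : g ∈ GO Q)
    (h : Phi (⇑Q) ⟨g, sim_le_NO (⇑Q) hg⟩ ∈ Cfsg.Inn (Cfsg.POmega F ⇑Q)) :
    IsSquare ((mult Q ⟨g, hg⟩ : Fˣ) : F) := by
  rw [inn_eq] at h
  obtain ⟨w, hw, hwx⟩ := h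
  have hw' : (w : GL ι F) ∈ OmGL (⇑Q) := hw
  have hker : w⁻¹ * ⟨g, sim_le_NO (⇑Q) hg⟩ ∈ (Phi (⇑Q)).ker := by
    rw [MonoidHom.mem_ker, map_mul, map_inv, hwx, inv_mul_cancel]
  rw [ker_Phi (⇑Q) hperf hcent, Subgroup.mem_subgroupOf] at hker
  obtain ⟨c, hc⟩ := exists_sclHom_of_mem hker
  have hwO : (w : GL ι F) ∈ OG Q := OmGL_le_iso (⇑Q) hw'
  have hg' : g = (w : GL ι F) * sclHom c := by
    rw [← hc]
    show g = (w : GL ι F) * ((w : GL ι F)⁻¹ * g)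
    group
  have hmu : mult Q ⟨g, hg⟩ = c * c := by
    apply mult_unique Q hQ0
    intro v
    rw [gmat]
    show Q (((g : GL ι F) : Matrix ι ι F) *ᵥ v) = _
    rw [hg', Units.val_mul, ← Matrix.mulVec_mulVec, (mem_iso_iff (⇑Q) _).1 hwO, sclHom_mulVec,
      QuadraticMap.map_smul, Units.val_mul, smul_eq_mul]
  rw [hmu, Units.val_mul]
  exact ⟨_, rfl⟩

include hperf hcent hQ h2 hcard in
theorem relIndex_pso_inD
    (hsurj : Function.Surjective (psiHom Q hQ0 hQ k hcard h2)) :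
    (Cfsg.psoAut F ⇑Q).relIndex (inD Q hQ0 k) = 2 := by
  set X : Subgroup ↥(NO (⇑Q)) := (GO1 Q hQ0 k).subgroupOf (NO (⇑Q)) with hX
  let e : ↥X →* ↥(GO Q) := MonoidHom.codRestrict ((NO (⇑Q)).subtype.comp X.subtype) (GO Q)
    (fun x => GO1_le_GO Q hQ0 k x.2)
  have he : ∀ x : ↥X, ((e x : ↥(GO Q)) : GL ι F) = ((x : ↥(NO (⇑Q))) : GL ι F) := fun x => rfl
  have hed : ∀ x : ↥X, dHom Q hQ0 k (e x) = 1 := by
    intro x
    obtain ⟨hg, h⟩ := (mem_GO1 Q hQ0 k _).1 x.2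
    exact h
  let ψ : ↥X →* ℤˣ := (chiHom Q hQ0).comp e
  have hψ : ∀ x : ↥X, ψ x = chiHom Q hQ0 (e x) := fun x => rfl
  have hscl : ∀ c : Fˣ, sclHom (ι := ι) c ∈ NO (⇑Q) := fun c => sim_le_NO (⇑Q) (sclHom_mem_GO Q c)
  have hker := ker_Phi (⇑Q) hperf hcent
  have hPhiScl : ∀ c : Fˣ, Phi (⇑Q) ⟨sclHom c, hscl c⟩ = 1 := fun c =>
    Phi_scalar Q hperf hcent _ (sclHom_mem c) _
  have hpsi : ∀ x : ↥X, ψ x = 1 ↔ psiHom Q hQ0 hQ k hcard h2 (e x) = 1 := by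
    intro x
    rw [psiHom_eq_one_iff, hψ, chiHom_eq_one_iff]
    exact ⟨fun h => ⟨h, hed x⟩, fun h => h.1⟩
  have hψsurj : Function.Surjective ψ := by
    intro a
    rcases Int.units_eq_one_or a with rfl | rfl
    · exact ⟨1, map_one _⟩
    · obtain ⟨g, hg⟩ := hsurj (-1, 1)
      have hg1 : chiHom Q hQ0 g = -1 := congrArg Prod.fst hg
      have hg2 : dZ Q hQ0 hQ k hcard h2 g = 1 := congrArg Prod.snd hg
      rw [dZ_eq_one_iff] at hg2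
      have hgmem : (g : GL ι F) ∈ GO1 Q hQ0 k := (mem_GO1 Q hQ0 k _).2 ⟨g.2, hg2⟩
      refine ⟨⟨⟨(g : GL ι F), sim_le_NO (⇑Q) g.2⟩, hgmem⟩, ?_⟩
      rw [hψ]
      have : e ⟨⟨(g : GL ι F), sim_le_NO (⇑Q) g.2⟩, hgmem⟩ = g := Subtype.ext rfl
      rw [this, hg1]
  obtain ⟨φ, hφs, hφk⟩ := exists_hom_of_map (Phi (⇑Q)) X ψ hψsurj (by
      intro x hx
      rw [← MonoidHom.mem_ker, hker, Subgroup.mem_subgroupOf] at hx
      obtain ⟨c, hc⟩ := exists_sclHom_of_mem hx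
      rw [hpsi, psiHom_eq_one_iff']
      exact ⟨c, 1, one_mem _, by rw [he, hc, mul_one]⟩)
    (inD Q hQ0 k) (Cfsg.psoAut F ⇑Q) rfl (by
      rw [psoAut_eq]
      ext β
      constructor
      · rintro ⟨n, hn, rfl⟩
        have hn' : (n : GL ι F) ∈ SOG Q := hn
        have hn1 : (n : GL ι F) ∈ GO1 Q hQ0 k := SOG_le_GO1 Q hQ0 k hn'
        refine ⟨n, ⟨⟨n, Subgroup.mem_subgroupOf.2 hn1⟩, ?_, rfl⟩, rfl⟩
        show ψ _ = 1
        rw [hpsi, psiHom_eq_one_iff']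
        exact ⟨1, (n : GL ι F), hn', by rw [he, map_one, one_mul]⟩
      · rintro ⟨n, ⟨x, hx, rfl⟩, rfl⟩
        have hx1 : ψ x = 1 := hx
        rw [hpsi, psiHom_eq_one_iff'] at hx1
        obtain ⟨c, h, hh, hxe⟩ := hx1
        rw [he] at hxe
        have hhNO : h ∈ NO (⇑Q) :=
          Subgroup.le_normalizer (Subgroup.mem_inf.1 hh).1
        refine ⟨⟨h, hhNO⟩, hh, ?_⟩
        have hx' : (X.subtype x : ↥(NO (⇑Q))) = ⟨sclHom c, hscl c⟩ * ⟨h, hhNO⟩ := Subtype.ext hxe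
        rw [hx', map_mul, hPhiScl, one_mul])
  unfold Subgroup.relIndex
  rw [← hφk, Subgroup.index_ker, MonoidHom.range_eq_top.2 hφs, Subgroup.card_top,
    Nat.card_eq_fintype_card]
  rfl

include hperf hcent hQ h2 hcard in
theorem index_inn_inD (hidx : (Cfsg.Omega F ⇑Q).index = 4)
    (hsurj : Function.Surjective (psiHom Q hQ0 hQ k hcard h2)) (u : ι → F) (hu : Q u ≠ 0) :
    ((∃ g : ↥(Cfsg.isometryGroup F ⇑Q), g ∈ Cfsg.Omega F ⇑Q ∧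
        ((g : GL ι F) : Matrix ι ι F) = -1) →
      ((Cfsg.Inn (Cfsg.POmega F ⇑Q)).subgroupOf (inD Q hQ0 k)).index = 4) ∧
    ((¬ ∃ g : ↥(Cfsg.isometryGroup F ⇑Q), g ∈ Cfsg.Omega F ⇑Q ∧
        ((g : GL ι F) : Matrix ι ι F) = -1) →
      ((Cfsg.Inn (Cfsg.POmega F ⇑Q)).subgroupOf (inD Q hQ0 k)).index = 2) := by
  have h1 := relIndex_pso_inD Q hperf hcent hQ h2 hQ0 k hcard hsurj
  have h3 := Subgroup.relIndex_mul_relIndex _ _ _ (inn_le_psoAut Q) (psoAut_le_inD Q hQ0 k)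
  have h4 := relIndex_inn_pso Q hperf hcent hQ h2 k hcard u hu hidx
  constructor
  · intro hneg
    rw [h4.1 hneg, h1] at h3
    exact h3.symm
  · intro hneg
    rw [h4.2 hneg, h1] at h3
    exact h3.symm

include hperf hcent hQ h2 hcard in
/-- If `-1 ∉ Ω`, the quotient is `C₂`. -/
theorem inD_mod_inn_two (hidx : (Cfsg.Omega F ⇑Q).index = 4)
    (hsurj : Function.Surjective (psiHom Q hQ0 hQ k hcard h2)) (u : ι → F) (hu : Q u ≠ 0)
    (hneg : ¬ ∃ g : ↥(Cfsg.isometryGroup F ⇑Q), g ∈ Cfsg.Omega F ⇑Q ∧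
        ((g : GL ι F) : Matrix ι ι F) = -1) :
    ∃ φ : ↥(inD Q hQ0 k) →* Multiplicative (ZMod 2), Function.Surjective φ ∧
      φ.ker = (Cfsg.Inn (Cfsg.POmega F ⇑Q)).subgroupOf (inD Q hQ0 k) := by
  have hi := (index_inn_inD Q hperf hcent hQ h2 hQ0 k hcard hidx hsurj u hu).2 hneg
  have hT : Nat.card (↥(inD Q hQ0 k) ⧸
      (Cfsg.Inn (Cfsg.POmega F ⇑Q)).subgroupOf (inD Q hQ0 k)) = 2 := by
    rw [← Subgroup.index_eq_card, hi]
  have : Fact (Nat.Prime 2) := ⟨Nat.prime_two⟩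
  exact exists_hom_of_cyclic _ 2 hT (isCyclic_of_prime_card hT)

end structure5

end Cfsg.Agent.Helper5.OrthAut
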