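import Mathlib
import Cfsg.Agent.Lib.Helper5.OrthLag5

/-!
# The inner-diagonal group modulo inner automorphisms: the order four cases
-/

set_option autoImplicit false
set_option linter.unusedSectionVars false
set_option linter.unusedSimpArgs false

namespace Cfsg.Agent.Helper5.OrthAut

open Matrix QuadraticMap Cfsg.Agent.Helper43

section order4

variable {F : Type*} [Field F] [Fintype F] [DecidableEq F] {ι : Type} [Fintype ι] [DecidableEq ι]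
  (Q : QuadraticForm F (ι → F))
  (hperf : commutator ↥(Cfsg.Omega F ⇑Q) = ⊤)
  (hcent : ∀ Z : Matrix ι ι F, (∀ s : ↥(Cfsg.Omega F ⇑Q), Z * omat (⇑Q) s = omat (⇑Q) s * Z) →
      ∃ c : F, Z = c • (1 : Matrix ι ι F))
  (hQ : (polarBilin Q).Nondegenerate) (h2 : (2 : F) ≠ 0)
  (hQ0 : ∃ v : ι → F, Q v ≠ 0) (k : ℕ) (hcard : Fintype.card ι = 2 * k)

theorem Q_sim_ne_zero (γ : GL ι F) (hγ : γ ∈ GO Q) (u : ι → F) (hu : Q u ≠ 0) :
    Q ((γ : Matrix ι ι F) *ᵥ u) ≠ 0 := by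
  have := mult_spec Q ⟨γ, hγ⟩ u
  rw [gmat] at this
  rw [this]
  exact mul_ne_zero (Units.ne_zero _) hu

theorem not_isSquare_Q_mul (γ : GL ι F) (hγ : γ ∈ GO Q)
    (hγ1 : ¬ IsSquare ((mult Q ⟨γ, hγ⟩ : Fˣ) : F)) (u : ι → F) (hu : Q u ≠ 0) :
    ¬ IsSquare (Q u * Q ((γ : Matrix ι ι F) *ᵥ u)) := by
  have := mult_spec Q ⟨γ, hγ⟩ u
  rw [gmat] at this
  rw [this]
  intro hsq
  apply hγ1
  obtain ⟨r, hr⟩ := hsq
  refine ⟨r / Q u, ?_⟩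
  field_simp
  linear_combination hr

include hperf hcent hQ h2 in
theorem refl_pair_not_inn (hn : 2 ≤ Fintype.card ι)
    (hneg : ∃ g : ↥(Cfsg.isometryGroup F ⇑Q), g ∈ Cfsg.Omega F ⇑Q ∧
        ((g : GL ι F) : Matrix ι ι F) = -1)
    {u v : ι → F} (hu : Q u ≠ 0) (hv : Q v ≠ 0) (hns : ¬ IsSquare (Q u * Q v))
    (hmem : rGL Q hu * rGL Q hv ∈ NO (⇑Q)) :
    Phi (⇑Q) ⟨rGL Q hu * rGL Q hv, hmem⟩ ∉ Cfsg.Inn (Cfsg.POmega F ⇑Q) := by
  intro h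
  have hO : rGL Q hu * rGL Q hv ∈ OG Q := mul_mem (rGL_mem_OG Q hu) (rGL_mem_OG Q hv)
  have := mem_OmGL_of_Phi_mem_inn Q hperf hcent ⟨u, hu⟩ hneg _ hO h
  exact refl_mul_refl_not_mem Q hQ h2 hn hu hv hns this

theorem rGL_mul_mem_SOG {u v : ι → F} (hu : Q u ≠ 0) (hv : Q v ≠ 0) :
    rGL Q hu * rGL Q hv ∈ SOG Q := by
  rw [mem_SOG_iff]
  refine ⟨mul_mem (rGL_mem_OG Q hu) (rGL_mem_OG Q hv), ?_⟩
  rw [Units.val_mul, Matrix.det_mul, reflIso_coe, reflIso_coe, reflectionMatrix_det Q hu,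
    reflectionMatrix_det Q hv]
  ring

include hQ hcard h2 in
theorem dHom_refl {u : ι → F} (hu : Q u ≠ 0) :
    dHom Q hQ0 k ⟨rGL Q hu, rGL_mem_GO Q hu⟩ = -1 := by
  apply Units.ext
  have := dHom_isoGO Q hQ0 k (reflIso Q hu)
  rw [reflIso_coe, reflectionMatrix_det Q hu] at this
  rw [Units.val_neg, Units.val_one, ← this]
  rfl

theorem card_two_le (u : ι → F) (hu : Q u ≠ 0) (hcard : Fintype.card ι = 2 * k) :
    2 ≤ Fintype.card ι := by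
  rcases Nat.eq_zero_or_pos k with rfl | hk
  · exfalso
    rw [mul_zero, Fintype.card_eq_zero_iff] at hcard
    apply hu
    have : u = 0 := Subsingleton.elim _ _
    rw [this, QuadraticMap.map_zero]
  · omega

include hperf hcent hQ h2 hcard in
/-- If `-1 ∈ Ω` and there is a similarity `γ` with non-square multiplier, scalar square and
discriminant character `-1`, the quotient is cyclic of order four. -/
theorem inD_mod_inn_four (hidx : (Cfsg.Omega F ⇑Q).index = 4)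
    (hsurj : Function.Surjective (psiHom Q hQ0 hQ k hcard h2)) (u : ι → F) (hu : Q u ≠ 0)
    (hneg : ∃ g : ↥(Cfsg.isometryGroup F ⇑Q), g ∈ Cfsg.Omega F ⇑Q ∧
        ((g : GL ι F) : Matrix ι ι F) = -1)
    (γ : GL ι F) (hγ : γ ∈ GO Q) (hγ1 : ¬ IsSquare ((mult Q ⟨γ, hγ⟩ : Fˣ) : F))
    (hγ2 : γ * γ ∈ Cfsg.Geo.scalars ι F) (hγ3 : dHom Q hQ0 k ⟨γ, hγ⟩ ≠ 1) :
    ∃ φ : ↥(inD Q hQ0 k) →* Multiplicative (ZMod 4), Function.Surjective φ ∧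
      φ.ker = (Cfsg.Inn (Cfsg.POmega F ⇑Q)).subgroupOf (inD Q hQ0 k) := by
  have hn := card_two_le Q k u hu hcard
  have hi := (index_inn_inD Q hperf hcent hQ h2 hQ0 k hcard hidx hsurj u hu).1 hneg
  set P := inD Q hQ0 k with hP
  set N : Subgroup ↥P := (Cfsg.Inn (Cfsg.POmega F ⇑Q)).subgroupOf P with hN
  have hT : Nat.card (↥P ⧸ N) = 4 := by rw [← Subgroup.index_eq_card, hi]
  have : Finite (↥P ⧸ N) := Nat.finite_of_card_ne_zero (by rw [hT]; norm_num)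
  have hmk1 : ∀ a : ↥P, (QuotientGroup.mk a : ↥P ⧸ N) = 1 ↔
      (a : MulAut (Cfsg.POmega F ⇑Q)) ∈ Cfsg.Inn (Cfsg.POmega F ⇑Q) := by
    intro a
    rw [QuotientGroup.eq_one_iff, hN, Subgroup.mem_subgroupOf]
  have hv := Q_sim_ne_zero Q γ hγ u hu
  have hns := not_isSquare_Q_mul Q γ hγ hγ1 u hu
  have hdγ : dHom Q hQ0 k ⟨γ, hγ⟩ = -1 :=
    (dHom_sq Q hQ0 hQ k hcard ⟨γ, hγ⟩).resolve_left hγ3
  have hdr := dHom_refl Q hQ h2 hQ0 k hcard hu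
  have hgGO : rGL Q hu * γ ∈ GO Q := mul_mem (rGL_mem_GO Q hu) hγ
  have hgGO1 : rGL Q hu * γ ∈ GO1 Q hQ0 k := by
    rw [mem_GO1]
    refine ⟨hgGO, ?_⟩
    have : (⟨rGL Q hu * γ, hgGO⟩ : ↥(GO Q)) = ⟨rGL Q hu, rGL_mem_GO Q hu⟩ * ⟨γ, hγ⟩ := rfl
    rw [this, map_mul, hdγ, hdr]
    simp
  have hconj := sim_conj_refl Q ⟨γ, hγ⟩ u hu hv
  have hconj' : γ * rGL Q hu = rGL Q hv * γ := by
    have : γ * rGL Q hu * γ⁻¹ = rGL Q hv := hconj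
    rw [← this]; group
  have hgg : (rGL Q hu * γ) * (rGL Q hu * γ) = (rGL Q hu * rGL Q hv) * (γ * γ) := by
    calc (rGL Q hu * γ) * (rGL Q hu * γ) = rGL Q hu * (γ * rGL Q hu) * γ := by group
      _ = rGL Q hu * (rGL Q hv * γ) * γ := by rw [hconj']
      _ = (rGL Q hu * rGL Q hv) * (γ * γ) := by group
  set t : ↥P ⧸ N := QuotientGroup.mk (pD Q hQ0 k _ hgGO1) with ht
  have ht2 : ¬ t ^ 2 ^ 1 = 1 := by
    rw [pow_one, pow_two, ht, ← QuotientGroup.mk_mul, ← pD_mul, hmk1, pD_coe]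
    intro hmem
    have hsN : rGL Q hu * rGL Q hv ∈ NO (⇑Q) :=
      Subgroup.le_normalizer (mul_mem (rGL_mem_OG Q hu) (rGL_mem_OG Q hv))
    have hcN : γ * γ ∈ NO (⇑Q) := sim_le_NO (⇑Q) (mul_mem hγ hγ)
    have heq : (⟨(rGL Q hu * γ) * (rGL Q hu * γ),
        sim_le_NO (⇑Q) (GO1_le_GO Q hQ0 k (mul_mem hgGO1 hgGO1))⟩ : ↥(NO (⇑Q))) =
        ⟨rGL Q hu * rGL Q hv, hsN⟩ * ⟨γ * γ, hcN⟩ := Subtype.ext hgg
    rw [heq, map_mul, Phi_scalar Q hperf hcent _ hγ2 hcN, mul_one] at hmem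
    exact refl_pair_not_inn Q hperf hcent hQ h2 hn hneg hu hv hns hsN hmem
  have ht4 : t ^ 2 ^ (1 + 1) = 1 := by
    have := pow_card_eq_one' (G := ↥P ⧸ N) (x := t)
    rw [hT] at this
    exact this
  have hord : orderOf t = Nat.card (↥P ⧸ N) := by
    rw [hT, orderOf_eq_prime_pow ht2 ht4]
    norm_num
  exact exists_hom_of_cyclic N 4 hT (isCyclic_of_orderOf_eq_card t hord)

include hperf hcent hQ h2 hcard in
/-- If `-1 ∈ Ω` and there is a similarity `γ` with non-square multiplier, scalar square and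
trivial discriminant character, the quotient is a Klein four-group. -/
theorem inD_mod_inn_klein (hidx : (Cfsg.Omega F ⇑Q).index = 4)
    (hsurj : Function.Surjective (psiHom Q hQ0 hQ k hcard h2)) (u : ι → F) (hu : Q u ≠ 0)
    (hneg : ∃ g : ↥(Cfsg.isometryGroup F ⇑Q), g ∈ Cfsg.Omega F ⇑Q ∧
        ((g : GL ι F) : Matrix ι ι F) = -1)
    (γ : GL ι F) (hγ : γ ∈ GO Q) (hγ1 : ¬ IsSquare ((mult Q ⟨γ, hγ⟩ : Fˣ) : F))
    (hγ2 : γ * γ ∈ Cfsg.Geo.scalars ι F) (hγ3 : dHom Q hQ0 k ⟨γ, hγ⟩ = 1) :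
    ∃ φ : ↥(inD Q hQ0 k) →* Multiplicative (ZMod 2 × ZMod 2), Function.Surjective φ ∧
      φ.ker = (Cfsg.Inn (Cfsg.POmega F ⇑Q)).subgroupOf (inD Q hQ0 k) := by
  have hn := card_two_le Q k u hu hcard
  have hi := (index_inn_inD Q hperf hcent hQ h2 hQ0 k hcard hidx hsurj u hu).1 hneg
  set P := inD Q hQ0 k with hP
  set N : Subgroup ↥P := (Cfsg.Inn (Cfsg.POmega F ⇑Q)).subgroupOf P with hN
  have hT : Nat.card (↥P ⧸ N) = 4 := by rw [← Subgroup.index_eq_card, hi]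
  have : Finite (↥P ⧸ N) := Nat.finite_of_card_ne_zero (by rw [hT]; norm_num)
  have hmk1 : ∀ a : ↥P, (QuotientGroup.mk a : ↥P ⧸ N) = 1 ↔
      (a : MulAut (Cfsg.POmega F ⇑Q)) ∈ Cfsg.Inn (Cfsg.POmega F ⇑Q) := by
    intro a
    rw [QuotientGroup.eq_one_iff, hN, Subgroup.mem_subgroupOf]
  have hv := Q_sim_ne_zero Q γ hγ u hu
  have hns := not_isSquare_Q_mul Q γ hγ hγ1 u hu
  have hγGO1 : γ ∈ GO1 Q hQ0 k := (mem_GO1 Q hQ0 k γ).2 ⟨hγ, hγ3⟩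
  have hsSO : rGL Q hu * rGL Q hv ∈ SOG Q := rGL_mul_mem_SOG Q hu hv
  have hsGO1 : rGL Q hu * rGL Q hv ∈ GO1 Q hQ0 k := SOG_le_GO1 Q hQ0 k hsSO
  have hsN : rGL Q hu * rGL Q hv ∈ NO (⇑Q) :=
    Subgroup.le_normalizer (mul_mem (rGL_mem_OG Q hu) (rGL_mem_OG Q hv))
  set t : ↥P ⧸ N := QuotientGroup.mk (pD Q hQ0 k γ hγGO1) with ht
  set z : ↥P ⧸ N := QuotientGroup.mk (pD Q hQ0 k _ hsGO1) with hz
  have htt : t * t = 1 := by
    rw [ht, ← QuotientGroup.mk_mul, ← pD_mul, hmk1, pD_coe,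
      Phi_scalar Q hperf hcent _ hγ2]
    exact one_mem _
  have hzz : z * z = 1 := by
    rw [hz, ← QuotientGroup.mk_mul, ← pD_mul, hmk1, pD_coe, inn_eq]
    have hidx2 : ((OmGL (⇑Q)).subgroupOf (SOG Q)).index = 2 :=
      relIndex_OmGL_SOG Q hQ h2 u hu hidx
    have := Subgroup.mul_self_mem_of_index_two hidx2 ⟨_, hsSO⟩
    rw [Subgroup.mem_subgroupOf] at this
    exact ⟨⟨_, _⟩, this, rfl⟩
  have ht1 : t ≠ 1 := by
    rw [ht, Ne, hmk1, pD_coe]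
    intro hmem
    exact hγ1 (isSquare_mult_of_Phi_mem_inn Q hperf hcent hQ0 γ hγ hmem)
  have hz1 : z ≠ 1 := by
    rw [hz, Ne, hmk1, pD_coe]
    exact refl_pair_not_inn Q hperf hcent hQ h2 hn hneg hu hv hns _
  have htz : t ≠ z := by
    intro h
    have h1 : t⁻¹ * z = 1 := by rw [h, inv_mul_cancel]
    rw [ht, hz, ← QuotientGroup.mk_inv, ← QuotientGroup.mk_mul, ← pD_inv, ← pD_mul, hmk1,
      pD_coe] at h1
    have hmemGO : γ⁻¹ * (rGL Q hu * rGL Q hv) ∈ GO Q :=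
      mul_mem (inv_mem hγ) (iso_le_sim (⇑Q) (mul_mem (rGL_mem_OG Q hu) (rGL_mem_OG Q hv)))
    have hsq := isSquare_mult_of_Phi_mem_inn Q hperf hcent hQ0 _ hmemGO h1
    apply hγ1
    have hm : mult Q ⟨γ⁻¹ * (rGL Q hu * rGL Q hv), hmemGO⟩ = (mult Q ⟨γ, hγ⟩)⁻¹ := by
      have e1 : (⟨γ⁻¹ * (rGL Q hu * rGL Q hv), hmemGO⟩ : ↥(GO Q)) =
          (⟨γ, hγ⟩ : ↥(GO Q))⁻¹ * isoGO Q (reflIso Q hu * reflIso Q hv) := rfl
      rw [e1, ← multHom_apply Q hQ0, map_mul, map_inv, multHom_apply, multHom_apply,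
        mult_isoGO Q hQ0, mul_one]
    rw [hm, Units.val_inv_eq_inv_val] at hsq
    obtain ⟨r, hr⟩ := hsq
    refine ⟨r⁻¹, ?_⟩
    rw [← _root_.mul_inv_rev, ← hr, inv_inv]
  exact exists_hom_of_klein N hT (not_isCyclic_of_three t z htt hzz ht1 hz1 htz)

end order4

end Cfsg.Agent.Helper5.OrthAut
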