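import Mathlib
import Cfsg.Agent.Lib.Helper5.OrthLag3
import Cfsg.Agent.Lib.Helper5.OrthLag6
import Cfsg.Agent.Lib.Helper5.OrthAut7

/-!
# `Inndiag(PΩ⁺) / Inn`, `q` odd
-/

set_option autoImplicit false
set_option linter.unusedSectionVars false
set_option linter.unusedSimpArgs false

namespace Cfsg.Agent.Helper5.OrthAut

open Matrix QuadraticMap Cfsg.Agent.Helper43 Cfsg.Agent.Helper5.OrthLag

section plusLag

variable (F : Type*) [Field F] (m : ℕ)

/-- The standard Lagrangian of the plus-type form: vectors with vanishing second half. -/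
def lagPlus : Submodule F (Fin m ⊕ Fin m → F) where
  carrier := {v | ∀ i, v (Sum.inr i) = 0}
  add_mem' := by
    intro a b ha hb i
    rw [Pi.add_apply, ha i, hb i, add_zero]
  zero_mem' := fun i => rfl
  smul_mem' := by
    intro c a ha i
    rw [Pi.smul_apply, ha i, smul_zero]

theorem mem_lagPlus (v : Fin m ⊕ Fin m → F) : v ∈ lagPlus F m ↔ ∀ i, v (Sum.inr i) = 0 := Iff.rfl

theorem isLag_lagPlus : IsLag (stdPlus F m) (lagPlus F m) := by
  unfold IsLag
  ext x
  rw [LinearMap.BilinForm.mem_orthogonal_iff, mem_lagPlus]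
  constructor
  · intro h i
    have h1 := h (Pi.single (Sum.inl i) 1) (by
      intro j
      simp)
    change polarBilin (stdPlus F m) _ x = 0 at h1
    rw [polarBilin_apply_apply, polar_stdPlus] at h1
    simpa [Pi.single_apply] using h1
  · intro h n hn
    show polarBilin (stdPlus F m) n x = 0
    rw [polarBilin_apply_apply, polar_stdPlus]
    apply Finset.sum_eq_zero
    intro j _
    rw [h j, (mem_lagPlus F m n).1 hn j]
    ring

variable {F m}

theorem lagPlus_map_delta (ν : Fˣ) :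
    (lagPlus F m).map (Matrix.toLin'
      ((deltaPlus m ν : GL (Fin m ⊕ Fin m) F) : Matrix (Fin m ⊕ Fin m) (Fin m ⊕ Fin m) F)) =
      lagPlus F m := by
  apply le_antisymm
  · rintro _ ⟨v, hv, rfl⟩ i
    rw [Matrix.toLin'_apply, deltaPlus, diagGL_mulVec, hv i, mul_zero]
  · intro v hv
    refine ⟨fun a => ((Sum.elim (fun _ => ν⁻¹) (fun _ => 1) a : Fˣ) : F) * v a, ?_, ?_⟩
    · intro i
      show _ * v (Sum.inr i) = 0
      rw [hv i, mul_zero]
    · funext a
      rw [Matrix.toLin'_apply, deltaPlus, diagGL_mulVec]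
      rcases a with i | i <;> simp

end plusLag

section gamma

variable {F : Type*} [Field F] (m : ℕ)

/-- The matrix `[[0, ν], [1, 0]]`. -/
def gammaMat (ν : F) : Matrix (Fin m ⊕ Fin m) (Fin m ⊕ Fin m) F :=
  Matrix.fromBlocks 0 (ν • 1) 1 0

theorem gammaMat_mul_self (ν : F) : gammaMat m ν * gammaMat m ν = ν • 1 := by
  unfold gammaMat
  rw [Matrix.fromBlocks_multiply]
  simp only [Matrix.zero_mul, Matrix.mul_zero, Matrix.mul_one, Matrix.one_mul, zero_add, add_zero]
  rw [← Matrix.fromBlocks_one, Matrix.fromBlocks_smul, smul_zero]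

theorem gammaMat_mulVec_inl (ν : F) (v : Fin m ⊕ Fin m → F) (i : Fin m) :
    (gammaMat m ν *ᵥ v) (Sum.inl i) = ν * v (Sum.inr i) := by
  unfold gammaMat
  rw [Matrix.fromBlocks_mulVec]
  simp [Matrix.smul_mulVec]

theorem gammaMat_mulVec_inr (ν : F) (v : Fin m ⊕ Fin m → F) (i : Fin m) :
    (gammaMat m ν *ᵥ v) (Sum.inr i) = v (Sum.inl i) := by
  unfold gammaMat
  rw [Matrix.fromBlocks_mulVec]
  simp

/-- The similarity `[[0, ν], [1, 0]]` of the plus-type form. -/
noncomputable def gammaPlus (ν : Fˣ) : GL (Fin m ⊕ Fin m) F :=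
  ⟨gammaMat m (ν : F), (ν : F)⁻¹ • gammaMat m (ν : F), by
    rw [Matrix.mul_smul, gammaMat_mul_self, smul_smul, inv_mul_cancel₀ (Units.ne_zero ν), one_smul],
   by
    rw [Matrix.smul_mul, gammaMat_mul_self, smul_smul, inv_mul_cancel₀ (Units.ne_zero ν),
      one_smul]⟩

theorem gammaPlus_coe (ν : Fˣ) :
    ((gammaPlus m ν : GL (Fin m ⊕ Fin m) F) : Matrix (Fin m ⊕ Fin m) (Fin m ⊕ Fin m) F) =
      gammaMat m (ν : F) := rfl

theorem gammaPlus_sim (ν : Fˣ) (v : Fin m ⊕ Fin m → F) :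
    stdPlus F m (((gammaPlus m ν : GL (Fin m ⊕ Fin m) F) : Matrix _ _ F) *ᵥ v) =
      (ν : F) * stdPlus F m v := by
  rw [stdPlus_apply, stdPlus_apply, gammaPlus_coe]
  unfold Cfsg.quadFormPlus
  rw [Finset.mul_sum]
  apply Finset.sum_congr rfl
  intro i _
  rw [gammaMat_mulVec_inl, gammaMat_mulVec_inr]
  ring

theorem gammaPlus_mem (ν : Fˣ) : gammaPlus m ν ∈ GO (stdPlus F m) :=
  ⟨ν, gammaPlus_sim m ν⟩

theorem gammaPlus_sq_mem (ν : Fˣ) :
    gammaPlus m ν * gammaPlus m ν ∈ Cfsg.Geo.scalars (Fin m ⊕ Fin m) F := by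
  have : gammaPlus m ν * gammaPlus m ν = sclHom ν := by
    apply Units.ext
    rw [Units.val_mul, gammaPlus_coe, gammaMat_mul_self, sclHom_coe]
  rw [this]
  exact sclHom_mem ν

theorem lagPlus_inf_gamma (ν : Fˣ) :
    lagPlus F m ⊓ (lagPlus F m).map (Matrix.toLin' (gammaMat m (ν : F))) = ⊥ := by
  rw [eq_bot_iff]
  rintro v ⟨hv, ⟨w, hw, rfl⟩⟩
  rw [Submodule.mem_bot]
  funext a
  rcases a with i | i
  · rw [Matrix.toLin'_apply, gammaMat_mulVec_inl, hw i, mul_zero]; rfl
  · exact hv i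

end gamma

end Cfsg.Agent.Helper5.OrthAut
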