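import Mathlib
import Cfsg.Agent.Lib.Helper5.OrthLag7

/-!
# `Inndiag(PΩ⁺) / Inn`, `q` odd: the main theorem
-/

set_option autoImplicit false
set_option linter.unusedSectionVars false
set_option linter.unusedSimpArgs false

namespace Cfsg.Agent.Helper5.OrthAut

open Matrix QuadraticMap Cfsg.Agent.Helper43 Cfsg.Agent.Helper5.OrthLag

section plus

variable {F : Type*} [Field F] [Fintype F] [DecidableEq F] (m : ℕ)

theorem deltaPlus_inv_mul (ν : Fˣ) :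
    ((deltaPlus m ν : GL (Fin m ⊕ Fin m) F) : Matrix (Fin m ⊕ Fin m) (Fin m ⊕ Fin m) F) *
      (((deltaPlus m ν)⁻¹ : GL (Fin m ⊕ Fin m) F) : Matrix (Fin m ⊕ Fin m) (Fin m ⊕ Fin m) F) = 1 := by
  rw [← Units.val_mul, mul_inv_cancel, Units.val_one]

/-- A similarity of the plus-type form preserves the two classes of maximal totally singular
subspaces iff its discriminant character is trivial. -/
theorem preserves_iff_dHom_plus (h2 : (2 : F) ≠ 0) (hQ0 : ∃ v : Fin m ⊕ Fin m → F, stdPlus F m v ≠ 0)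
    (g : GL (Fin m ⊕ Fin m) F) (hg : g ∈ GO (stdPlus F m)) :
    Cfsg.PreservesSingularClasses (Cfsg.quadFormPlus m F)
      (g : Matrix (Fin m ⊕ Fin m) (Fin m ⊕ Fin m) F) ↔ dHom (stdPlus F m) hQ0 m ⟨g, hg⟩ = 1 := by
  set μ := mult (stdPlus F m) ⟨g, hg⟩ with hμ
  have hA : ∀ v, stdPlus F m ((g : Matrix (Fin m ⊕ Fin m) (Fin m ⊕ Fin m) F) *ᵥ v) =
      (μ : F) * stdPlus F m v := mult_spec (stdPlus F m) ⟨g, hg⟩
  have key := preserves_iff_det (stdPlus F m) h2 (stdPlus_nondegenerate F m) (isLag_lagPlus F m)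
    (μ : F) (Units.ne_zero μ) (g : Matrix (Fin m ⊕ Fin m) (Fin m ⊕ Fin m) F)
    ((deltaPlus m μ : GL (Fin m ⊕ Fin m) F) : Matrix (Fin m ⊕ Fin m) (Fin m ⊕ Fin m) F)
    (((deltaPlus m μ)⁻¹ : GL (Fin m ⊕ Fin m) F) : Matrix (Fin m ⊕ Fin m) (Fin m ⊕ Fin m) F)
    hA (deltaPlus_sim m μ) (deltaPlus_inv_mul m μ) (lagPlus_map_delta μ)
  rw [coe_stdPlus] at key
  rw [key, deltaPlus_det, ← Units.val_inj, dHom_coe, Units.val_one, gmat, ← hμ]
  have hne : ((μ : F)) ^ m ≠ 0 := pow_ne_zero _ (Units.ne_zero _)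
  constructor
  · intro h; rw [h]; exact mul_inv_cancel₀ hne
  · intro h
    field_simp at h
    exact h

theorem inndiag_eq_inD_plus (h2 : (2 : F) ≠ 0)
    (hQ0 : ∃ v : Fin m ⊕ Fin m → F, stdPlus F m v ≠ 0) :
    Cfsg.inndiagPOmegaPlus m F = inD (stdPlus F m) hQ0 m := by
  unfold Cfsg.inndiagPOmegaPlus inD
  rw [← autSubgroupOf_eq_map (⇑(stdPlus F m)) (GO1 (stdPlus F m) hQ0 m)
    (le_trans (GO1_le_GO (stdPlus F m) hQ0 m) (sim_le_NO _))]
  congr 1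
  funext β
  apply propext
  unfold Cfsg.IsInnerDiagonalAutPOmegaPlus
  constructor
  · rintro ⟨g, hg, hpres, hind⟩
    exact ⟨g, (mem_GO1 _ hQ0 m g).2 ⟨hg, (preserves_iff_dHom_plus m h2 hQ0 g hg).1 hpres⟩, hind⟩
  · rintro ⟨g, hg, hind⟩
    obtain ⟨hgGO, hd⟩ := (mem_GO1 _ hQ0 m g).1 hg
    exact ⟨g, hgGO, (preserves_iff_dHom_plus m h2 hQ0 g hgGO).2 hd, hind⟩

theorem dHom_gammaPlus (h2 : (2 : F) ≠ 0)
    (hQ0 : ∃ v : Fin m ⊕ Fin m → F, stdPlus F m v ≠ 0) (ν : Fˣ) :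
    dHom (stdPlus F m) hQ0 m ⟨gammaPlus m ν, gammaPlus_mem m ν⟩ = 1 ↔ Even m := by
  have hmu : mult (stdPlus F m) ⟨gammaPlus m ν, gammaPlus_mem m ν⟩ = ν :=
    mult_unique _ hQ0 _ _ (gammaPlus_sim m ν)
  have key := det_eq_of_even (stdPlus F m) h2 (stdPlus_nondegenerate F m) (isLag_lagPlus F m)
    (ν : F) (Units.ne_zero ν) (gammaMat m (ν : F))
    ((deltaPlus m ν : GL (Fin m ⊕ Fin m) F) : Matrix (Fin m ⊕ Fin m) (Fin m ⊕ Fin m) F)
    (((deltaPlus m ν)⁻¹ : GL (Fin m ⊕ Fin m) F) : Matrix (Fin m ⊕ Fin m) (Fin m ⊕ Fin m) F)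
    (gammaPlus_sim m ν) (deltaPlus_sim m ν) (deltaPlus_inv_mul m ν) (lagPlus_map_delta ν)
  rw [lagPlus_inf_gamma, finrank_bot, Nat.sub_zero] at key
  have hfr : Module.finrank F ↥(lagPlus F m) = m := by
    have := (isLag_lagPlus F m).two_mul_finrank (stdPlus_nondegenerate F m)
    rw [Module.finrank_pi, Fintype.card_sum, Fintype.card_fin] at this
    omega
  rw [hfr, deltaPlus_det] at key
  rw [← key, ← Units.val_inj, dHom_coe, Units.val_one, gmat, hmu]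
  show (gammaMat m (ν : F)).det * _ = 1 ↔ _
  have hne : ((ν : F)) ^ m ≠ 0 := pow_ne_zero _ (Units.ne_zero _)
  constructor
  · intro h
    field_simp at h
    exact h
  · intro h; rw [h]; exact mul_inv_cancel₀ hne

end plus

section main

variable {F : Type*} [Field F] [Fintype F]

theorem inndiag_mod_inn_plus (hodd : Odd (Fintype.card F)) {m : ℕ} (hm : 4 ≤ m) :
    ((Odd m ∧ Fintype.card F % 4 = 3) →
      (∃ φ : ↥(Cfsg.inndiagPOmegaPlus m F) →* Multiplicative (ZMod 2), Function.Surjective φ ∧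
        φ.ker = (Cfsg.Inn (Cfsg.POmega F (Cfsg.quadFormPlus m F))).subgroupOf
          (Cfsg.inndiagPOmegaPlus m F))) ∧
    ((Odd m ∧ Fintype.card F % 4 = 1) →
      (∃ φ : ↥(Cfsg.inndiagPOmegaPlus m F) →* Multiplicative (ZMod 4), Function.Surjective φ ∧
        φ.ker = (Cfsg.Inn (Cfsg.POmega F (Cfsg.quadFormPlus m F))).subgroupOf
          (Cfsg.inndiagPOmegaPlus m F))) ∧
    (Even m →
      (∃ φ : ↥(Cfsg.inndiagPOmegaPlus m F) →* Multiplicative (ZMod 2 × ZMod 2),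
        Function.Surjective φ ∧
        φ.ker = (Cfsg.Inn (Cfsg.POmega F (Cfsg.quadFormPlus m F))).subgroupOf
          (Cfsg.inndiagPOmegaPlus m F))) := by
  classical
  have h2 := two_ne_zero_of_odd_card hodd
  have hfam := stdPlus_isHypFamily F m
  have hnd := stdPlus_nondegenerate F m
  have hcard : Fintype.card (Fin m ⊕ Fin m) = 2 * m := by simp; ring
  have hQ0 := hQ0_of_hyp (stdPlus F m) hfam (by omega)
  have hperf := hperf_of_hyp (stdPlus F m) hnd _ _ hfam (by omega) (by rw [hcard]; omega)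
  have hcent := hcent_of_hyp (stdPlus F m) hfam (by omega)
    (Cfsg.Agent.Lead.POmegaCard.hspan_plus m)
  have hidx := Cfsg.Agent.Lead.POmegaCard.index_omega_odd h2 (stdPlus F m) hnd
    (by rw [hcard]; omega)
  have hq : Fintype.card F % 2 = 1 := Nat.odd_iff.1 hodd
  have hnegiff := Cfsg.Agent.S0790.result (F := F) rfl hodd m (by omega)
  obtain ⟨ν, hν⟩ := exists_nonsquare_unit h2
  obtain ⟨v, hv⟩ := hQ0
  have hmu : mult (stdPlus F m) ⟨deltaPlus m ν, deltaPlus_mem m ν⟩ = ν :=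
    mult_unique _ ⟨v, hv⟩ _ _ (deltaPlus_sim m ν)
  have hsurj := psiHom_surjective (stdPlus F m) ⟨v, hv⟩ hnd m hcard h2
    ⟨deltaPlus m ν, deltaPlus_mem m ν⟩ (by rw [hmu]; exact hν)
    (by
      apply Units.ext
      rw [dHom_coe, hmu, Units.val_one]
      show ((deltaPlus m ν : GL (Fin m ⊕ Fin m) F) :
        Matrix (Fin m ⊕ Fin m) (Fin m ⊕ Fin m) F).det * _ = 1
      rw [deltaPlus_det]
      exact mul_inv_cancel₀ (pow_ne_zero _ (Units.ne_zero _))) v hv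
  have hmuγ : mult (stdPlus F m) ⟨gammaPlus m ν, gammaPlus_mem m ν⟩ = ν :=
    mult_unique _ ⟨v, hv⟩ _ _ (gammaPlus_sim m ν)
  rw [inndiag_eq_inD_plus m h2 ⟨v, hv⟩]
  refine ⟨?_, ?_, ?_⟩
  · intro h
    have hneg : ¬ ∃ g : ↥(Cfsg.isometryGroup F ⇑(stdPlus F m)), g ∈ Cfsg.Omega F ⇑(stdPlus F m) ∧
        ((g : GL (Fin m ⊕ Fin m) F) : Matrix (Fin m ⊕ Fin m) (Fin m ⊕ Fin m) F) = -1 := by
      intro hcon
      have := hnegiff.1 hcon
      rw [pow_mod_four_eq_one_iff _ _ hq] at this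
      exact this h
    exact inD_mod_inn_two (stdPlus F m) hperf hcent hnd h2 ⟨v, hv⟩ m hcard hidx hsurj v hv hneg
  · intro h
    have hneg : ∃ g : ↥(Cfsg.isometryGroup F ⇑(stdPlus F m)), g ∈ Cfsg.Omega F ⇑(stdPlus F m) ∧
        ((g : GL (Fin m ⊕ Fin m) F) : Matrix (Fin m ⊕ Fin m) (Fin m ⊕ Fin m) F) = -1 := by
      apply hnegiff.2
      rw [pow_mod_four_eq_one_iff _ _ hq]
      rintro ⟨_, h3⟩
      omega
    refine inD_mod_inn_four (stdPlus F m) hperf hcent hnd h2 ⟨v, hv⟩ m hcard hidx hsurj v hv hneg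
      (gammaPlus m ν) (gammaPlus_mem m ν) (by rw [hmuγ]; exact hν) (gammaPlus_sq_mem m ν) ?_
    rw [Ne, dHom_gammaPlus m h2 ⟨v, hv⟩ ν, Nat.not_even_iff_odd]
    exact h.1
  · intro h
    have hneg : ∃ g : ↥(Cfsg.isometryGroup F ⇑(stdPlus F m)), g ∈ Cfsg.Omega F ⇑(stdPlus F m) ∧
        ((g : GL (Fin m ⊕ Fin m) F) : Matrix (Fin m ⊕ Fin m) (Fin m ⊕ Fin m) F) = -1 := by
      apply hnegiff.2
      rw [pow_mod_four_eq_one_iff _ _ hq]
      rintro ⟨h3, _⟩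
      exact (Nat.not_even_iff_odd.2 h3) h
    exact inD_mod_inn_klein (stdPlus F m) hperf hcent hnd h2 ⟨v, hv⟩ m hcard hidx hsurj v hv hneg
      (gammaPlus m ν) (gammaPlus_mem m ν) (by rw [hmuγ]; exact hν) (gammaPlus_sq_mem m ν)
      ((dHom_gammaPlus m h2 ⟨v, hv⟩ ν).2 h)

end main

end Cfsg.Agent.Helper5.OrthAut
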