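import Mathlib
import Cfsg.Agent.Lib.Helper5.OrthLag8
import Cfsg.Agent.Lib.Helper5.OrthLag10

/-!
# `Inndiag(PΩ⁻) / Inn`, `q` odd
-/

set_option autoImplicit false
set_option linter.unusedSectionVars false
set_option linter.unusedSimpArgs false

namespace Cfsg.Agent.Helper5.OrthAut

open Matrix QuadraticMap Cfsg.Agent.Helper43 Cfsg.Agent.Helper5.OrthLag

section gammaMinus

variable {F : Type*} [Field F] (m : ℕ) (a b : F)

/-- The similarity `z ↦ λ z̄` of the binary norm form, `λ = w`. -/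
def sMat (w : F × F) : Matrix (Fin 2) (Fin 2) F := !![w.1, a * w.1 + b * w.2; w.2, -w.1]

theorem sMat_mul_self (w : F × F) : sMat a b w * sMat a b w = nrm a b w • 1 := by
  ext i j
  fin_cases i <;> fin_cases j <;>
    simp [sMat, Matrix.mul_apply, Fin.sum_univ_two, nrm] <;> ring

theorem sMat_det (w : F × F) : (sMat a b w).det = - nrm a b w := by
  rw [sMat, Matrix.det_fin_two_of, nrm]; ring

/-- The matrix `[[0, ν], [1, 0]] ⊕ (z ↦ w z̄)`. -/
def gammaMinusMat (ν : F) (w : F × F) :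
    Matrix ((Fin m ⊕ Fin m) ⊕ Fin 2) ((Fin m ⊕ Fin m) ⊕ Fin 2) F :=
  Matrix.fromBlocks (gammaMat m ν) 0 0 (sMat a b w)

theorem gammaMinusMat_mul_self (ν : F) (w : F × F) (hw : nrm a b w = ν) :
    gammaMinusMat m a b ν w * gammaMinusMat m a b ν w = ν • 1 := by
  unfold gammaMinusMat
  rw [Matrix.fromBlocks_multiply]
  simp only [Matrix.zero_mul, Matrix.mul_zero, zero_add, add_zero]
  rw [gammaMat_mul_self, sMat_mul_self, hw]
  conv_rhs => rw [← Matrix.fromBlocks_one, Matrix.fromBlocks_smul, smul_zero, smul_zero]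

theorem gammaMinusMat_det (ν : F) (w : F × F) :
    (gammaMinusMat m a b ν w).det = (gammaMat m ν).det * (- nrm a b w) := by
  rw [gammaMinusMat, Matrix.det_fromBlocks_zero₂₁, sMat_det]

theorem gammaMinusMat_mulVec_ll (ν : F) (w : F × F)
    (v : (Fin m ⊕ Fin m) ⊕ Fin 2 → F) (i : Fin m) :
    (gammaMinusMat m a b ν w *ᵥ v) (Sum.inl (Sum.inl i)) = ν * v (Sum.inl (Sum.inr i)) := by
  rw [gammaMinusMat, Matrix.fromBlocks_mulVec]
  simp only [Sum.elim_inl, Matrix.zero_mulVec, add_zero]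
  exact gammaMat_mulVec_inl m ν (v ∘ Sum.inl) i

theorem gammaMinusMat_mulVec_lr (ν : F) (w : F × F)
    (v : (Fin m ⊕ Fin m) ⊕ Fin 2 → F) (i : Fin m) :
    (gammaMinusMat m a b ν w *ᵥ v) (Sum.inl (Sum.inr i)) = v (Sum.inl (Sum.inl i)) := by
  rw [gammaMinusMat, Matrix.fromBlocks_mulVec]
  simp only [Sum.elim_inl, Matrix.zero_mulVec, add_zero]
  exact gammaMat_mulVec_inr m ν (v ∘ Sum.inl) i

theorem gammaMinusMat_mulVec_r0 (ν : F) (w : F × F)
    (v : (Fin m ⊕ Fin m) ⊕ Fin 2 → F) :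
    (gammaMinusMat m a b ν w *ᵥ v) (Sum.inr 0) =
      w.1 * v (Sum.inr 0) + (a * w.1 + b * w.2) * v (Sum.inr 1) := by
  rw [gammaMinusMat, Matrix.fromBlocks_mulVec]
  simp [sMat, Matrix.mulVec, dotProduct, Fin.sum_univ_two]

theorem gammaMinusMat_mulVec_r1 (ν : F) (w : F × F)
    (v : (Fin m ⊕ Fin m) ⊕ Fin 2 → F) :
    (gammaMinusMat m a b ν w *ᵥ v) (Sum.inr 1) =
      w.2 * v (Sum.inr 0) - w.1 * v (Sum.inr 1) := by
  rw [gammaMinusMat, Matrix.fromBlocks_mulVec]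
  simp [sMat, Matrix.mulVec, dotProduct, Fin.sum_univ_two]
  ring

theorem gammaMinusMat_sim (ν : F) (w : F × F) (hw : nrm a b w = ν)
    (v : (Fin m ⊕ Fin m) ⊕ Fin 2 → F) :
    stdMinus F m a b (gammaMinusMat m a b ν w *ᵥ v) = ν * stdMinus F m a b v := by
  rw [stdMinus_apply, stdMinus_apply]
  unfold Cfsg.quadFormMinus
  simp only [gammaMinusMat_mulVec_ll, gammaMinusMat_mulVec_lr, gammaMinusMat_mulVec_r0,
    gammaMinusMat_mulVec_r1]
  have hsum : ∑ i : Fin m, ν * v (Sum.inl (Sum.inr i)) * v (Sum.inl (Sum.inl i)) =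
      ν * ∑ i : Fin m, v (Sum.inl (Sum.inl i)) * v (Sum.inl (Sum.inr i)) := by
    rw [Finset.mul_sum]
    apply Finset.sum_congr rfl
    intro i _
    ring
  rw [hsum, ← hw]
  unfold nrm
  ring

/-- The similarity as an element of `GL`. -/
noncomputable def gammaMinus (ν : Fˣ) (w : F × F) (hw : nrm a b w = ν) :
    GL ((Fin m ⊕ Fin m) ⊕ Fin 2) F :=
  ⟨gammaMinusMat m a b ν w, (ν : F)⁻¹ • gammaMinusMat m a b ν w, by
    rw [Matrix.mul_smul, gammaMinusMat_mul_self m a b _ w hw, smul_smul,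
      inv_mul_cancel₀ (Units.ne_zero ν), one_smul],
   by
    rw [Matrix.smul_mul, gammaMinusMat_mul_self m a b _ w hw, smul_smul,
      inv_mul_cancel₀ (Units.ne_zero ν), one_smul]⟩

theorem gammaMinus_coe (ν : Fˣ) (w : F × F) (hw : nrm a b w = ν) :
    ((gammaMinus m a b ν w hw : GL ((Fin m ⊕ Fin m) ⊕ Fin 2) F) :
      Matrix ((Fin m ⊕ Fin m) ⊕ Fin 2) ((Fin m ⊕ Fin m) ⊕ Fin 2) F) =
      gammaMinusMat m a b ν w := rfl

theorem gammaMinus_mem (ν : Fˣ) (w : F × F) (hw : nrm a b w = ν) :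
    gammaMinus m a b ν w hw ∈ GO (stdMinus F m a b) :=
  ⟨ν, fun v => by rw [gammaMinus_coe]; exact gammaMinusMat_sim m a b ν w hw v⟩

theorem gammaMinus_sq_mem (ν : Fˣ) (w : F × F) (hw : nrm a b w = ν) :
    gammaMinus m a b ν w hw * gammaMinus m a b ν w hw ∈
      Cfsg.Geo.scalars ((Fin m ⊕ Fin m) ⊕ Fin 2) F := by
  have : gammaMinus m a b ν w hw * gammaMinus m a b ν w hw = sclHom ν := by
    apply Units.ext
    rw [Units.val_mul, gammaMinus_coe, gammaMinusMat_mul_self m a b _ w hw, sclHom_coe]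
  rw [this]
  exact sclHom_mem ν

end gammaMinus

end Cfsg.Agent.Helper5.OrthAut
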