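import Mathlib
import Cfsg.Agent.Lib.Helper5.OrthLag11

/-!
# `Inndiag(PΩ⁻) / Inn`, `q` odd: the main theorem
-/

set_option autoImplicit false
set_option linter.unusedSectionVars false
set_option linter.unusedSimpArgs false

namespace Cfsg.Agent.Helper5.OrthAut

open Matrix QuadraticMap Cfsg.Agent.Helper43 Cfsg.Agent.Helper5.OrthLag

section detGamma

variable {F : Type*} [Field F] [Fintype F] [DecidableEq F] (m : ℕ)

theorem det_gammaMat_eq_iff (h2 : (2 : F) ≠ 0) (ν : Fˣ) :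
    (gammaMat m (ν : F)).det = (ν : F) ^ m ↔ Even m := by
  have key := det_eq_of_even (stdPlus F m) h2 (stdPlus_nondegenerate F m) (isLag_lagPlus F m)
    (ν : F) (Units.ne_zero ν) (gammaMat m (ν : F))
    ((deltaPlus m ν : GL (Fin m ⊕ Fin m) F) : Matrix (Fin m ⊕ Fin m) (Fin m ⊕ Fin m) F)
    (((deltaPlus m ν)⁻¹ : GL (Fin m ⊕ Fin m) F) : Matrix (Fin m ⊕ Fin m) (Fin m ⊕ Fin m) F)
    (gammaPlus_sim m ν) (deltaPlus_sim m ν) (deltaPlus_inv_mul m ν) (lagPlus_map_delta ν)
  rw [lagPlus_inf_gamma, finrank_bot, Nat.sub_zero] at key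
  have hfr : Module.finrank F ↥(lagPlus F m) = m := by
    have := (isLag_lagPlus F m).two_mul_finrank (stdPlus_nondegenerate F m)
    rw [Module.finrank_pi, Fintype.card_sum, Fintype.card_fin] at this
    omega
  rw [hfr, deltaPlus_det] at key
  exact key

end detGamma

section minusMain

universe u

variable {F : Type u} [Field F] [Fintype F]

theorem inndiag_minus_aux (hodd : Odd (Fintype.card F)) (m : ℕ) (a b : F)
    (hab : ∀ z₁ z₂ : F, z₁ ^ 2 + a * z₁ * z₂ + b * z₂ ^ 2 = 0 → z₁ = 0 ∧ z₂ = 0)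
    (hQ0 : ∃ v : (Fin m ⊕ Fin m) ⊕ Fin 2 → F, stdMinus F m a b v ≠ 0) :
    Cfsg.autSubgroupOf (fun β : Cfsg.POmega F ⇑(stdMinus F m a b) ≃*
        Cfsg.POmega F ⇑(stdMinus F m a b) =>
      ∃ g : GL ((Fin m ⊕ Fin m) ⊕ Fin 2) F,
        g ∈ Cfsg.Geo.quadSimilarityGroup (F := F) ⇑(stdMinus F m a b) ∧
        Cfsg.PreservesSingularClassesMinus m a b
          (g : Matrix ((Fin m ⊕ Fin m) ⊕ Fin 2) ((Fin m ⊕ Fin m) ⊕ Fin 2) F) ∧
        Cfsg.IsInducedBySemilinearPOmega ⇑(stdMinus F m a b) g (RingEquiv.refl F) β) =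
      inD (stdMinus F m a b) hQ0 (m + 1) := by
  classical
  unfold inD
  rw [← autSubgroupOf_eq_map (⇑(stdMinus F m a b)) (GO1 (stdMinus F m a b) hQ0 (m + 1))
    (le_trans (GO1_le_GO (stdMinus F m a b) hQ0 (m + 1)) (sim_le_NO _))]
  congr 1
  funext β
  apply propext
  constructor
  · rintro ⟨g, hg, hpres, hind⟩
    exact ⟨g, (mem_GO1 _ hQ0 (m + 1) g).2
      ⟨hg, (preserves_minus_iff hodd m a b hab hQ0 g hg).1 hpres⟩, hind⟩
  · rintro ⟨g, hg, hind⟩
    obtain ⟨hgGO, hd⟩ := (mem_GO1 _ hQ0 (m + 1) g).1 hg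
    exact ⟨g, hgGO, (preserves_minus_iff hodd m a b hab hQ0 g hgGO).2 hd, hind⟩

theorem inndiag_mod_inn_minus (hodd : Odd (Fintype.card F)) {m : ℕ} (hm : 3 ≤ m) (a b : F)
    (hab : ∀ z₁ z₂ : F, z₁ ^ 2 + a * z₁ * z₂ + b * z₂ ^ 2 = 0 → z₁ = 0 ∧ z₂ = 0) :
    ((Even m ∧ Fintype.card F % 4 = 3) →
      (∃ φ : ↥(Cfsg.inndiagPOmegaMinus m F a b) →* Multiplicative (ZMod 4),
        Function.Surjective φ ∧
        φ.ker = (Cfsg.Inn (Cfsg.POmega F (Cfsg.quadFormMinus m F a b))).subgroupOf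
          (Cfsg.inndiagPOmegaMinus m F a b))) ∧
    (¬ (Even m ∧ Fintype.card F % 4 = 3) →
      (∃ φ : ↥(Cfsg.inndiagPOmegaMinus m F a b) →* Multiplicative (ZMod 2),
        Function.Surjective φ ∧
        φ.ker = (Cfsg.Inn (Cfsg.POmega F (Cfsg.quadFormMinus m F a b))).subgroupOf
          (Cfsg.inndiagPOmegaMinus m F a b))) := by
  classical
  have h2 := two_ne_zero_of_odd_card hodd
  have hab' : AnisoPair a b := hab
  have hfam := stdMinus_isHypFamily F m a b
  have hnd := stdMinus_nondegenerate (F := F) m hab'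
  have hcard : Fintype.card ((Fin m ⊕ Fin m) ⊕ Fin 2) = 2 * (m + 1) := by simp; ring
  have hQ0 := hQ0_of_hyp (stdMinus F m a b) hfam (by omega)
  have hperf := hperf_of_hyp (stdMinus F m a b) hnd _ _ hfam (by omega) (by rw [hcard]; omega)
  have hcent := hcent_of_hyp (stdMinus F m a b) hfam (by omega)
    (Cfsg.Agent.Lead.POmegaCard.hspan_minus m a b)
  have hidx := Cfsg.Agent.Lead.POmegaCard.index_omega_odd h2 (stdMinus F m a b) hnd
    (by rw [hcard]; omega)
  have hq : Fintype.card F % 2 = 1 := Nat.odd_iff.1 hodd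
  have hneg0 := Cfsg.Agent.S0791.result (F := F) rfl hodd (m + 1) (by omega) a b hab
  rw [Nat.add_sub_cancel] at hneg0
  have hiff : (Odd (m + 1) ∧ Fintype.card F % 4 = 3) ↔ (Even m ∧ Fintype.card F % 4 = 3) := by
    rw [Nat.odd_add_one, Nat.not_odd_iff_even]
  rw [← coe_stdMinus] at hneg0
  obtain ⟨ν, hν⟩ := exists_nonsquare_unit h2
  obtain ⟨w, hw⟩ := hab'.exists_nrm_eq (ν : F)
  obtain ⟨v, hv⟩ := hQ0
  have hmu : mult (stdMinus F m a b)
      ⟨deltaMinus m a b ν w hw, deltaMinus_mem m a b ν w hw⟩ = ν :=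
    mult_unique _ ⟨v, hv⟩ _ _ (fun v => by
      show stdMinus F m a b (deltaMinusMat m a b ν w *ᵥ v) = _
      exact deltaMinusMat_sim m a b ν w hw v)
  have hsurj := psiHom_surjective (stdMinus F m a b) ⟨v, hv⟩ hnd (m + 1) hcard h2
    ⟨deltaMinus m a b ν w hw, deltaMinus_mem m a b ν w hw⟩ (by rw [hmu]; exact hν)
    (by
      apply Units.ext
      rw [dHom_coe, hmu, Units.val_one]
      show (deltaMinusMat m a b ν w).det * _ = 1
      rw [deltaMinusMat_det, hw, ← pow_succ]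
      exact mul_inv_cancel₀ (pow_ne_zero _ (Units.ne_zero _))) v hv
  have hmuγ : mult (stdMinus F m a b)
      ⟨gammaMinus m a b ν w hw, gammaMinus_mem m a b ν w hw⟩ = ν :=
    mult_unique _ ⟨v, hv⟩ _ _ (fun v => by
      show stdMinus F m a b (gammaMinusMat m a b ν w *ᵥ v) = _
      exact gammaMinusMat_sim m a b ν w hw v)
  have haux := inndiag_minus_aux hodd m a b hab ⟨v, hv⟩
  constructor
  · intro h
    have hneg := hneg0.2 ((pow_mod_four_eq_three_iff _ _ hq).2 (hiff.2 h))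
    have key := inD_mod_inn_four (stdMinus F m a b) hperf hcent hnd h2 ⟨v, hv⟩ (m + 1) hcard hidx
      hsurj v hv hneg (gammaMinus m a b ν w hw) (gammaMinus_mem m a b ν w hw)
      (by rw [hmuγ]; exact hν) (gammaMinus_sq_mem m a b ν w hw) (by
        intro h1
        have h1' := congrArg (fun u : Fˣ => (u : F)) h1
        simp only [dHom_coe, Units.val_one, hmuγ] at h1'
        have hdet : (gmat (stdMinus F m a b)
            ⟨gammaMinus m a b ν w hw, gammaMinus_mem m a b ν w hw⟩).det =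
            (ν : F) ^ m * (-(ν : F)) := by
          show (gammaMinusMat m a b ν w).det = _
          rw [gammaMinusMat_det, hw, (det_gammaMat_eq_iff m h2 ν).2 h.1]
        rw [hdet] at h1'
        have hne : ((ν : F)) ^ (m + 1) ≠ 0 := pow_ne_zero _ (Units.ne_zero _)
        field_simp at h1'
        apply h2
        have hne' : ((ν : F)) ^ m * (ν : F) ≠ 0 := mul_ne_zero (pow_ne_zero _ (Units.ne_zero _))
          (Units.ne_zero _)
        have : ((ν : F) ^ m * (ν : F)) * 2 = 0 := by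
          rw [pow_succ] at h1'
          linear_combination -h1'
        exact (mul_eq_zero.1 this).resolve_left hne')
    rw [← haux, coe_stdMinus] at key
    exact key
  · intro h
    have hneg : ¬ ∃ g : ↥(Cfsg.isometryGroup F ⇑(stdMinus F m a b)),
        g ∈ Cfsg.Omega F ⇑(stdMinus F m a b) ∧
        ((g : GL ((Fin m ⊕ Fin m) ⊕ Fin 2) F) :
          Matrix ((Fin m ⊕ Fin m) ⊕ Fin 2) ((Fin m ⊕ Fin m) ⊕ Fin 2) F) = -1 := by
      intro hcon
      have := hneg0.1 hcon
      rw [pow_mod_four_eq_three_iff _ _ hq, hiff] at this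
      exact h this
    have key := inD_mod_inn_two (stdMinus F m a b) hperf hcent hnd h2 ⟨v, hv⟩ (m + 1) hcard hidx
      hsurj v hv hneg
    rw [← haux, coe_stdMinus] at key
    exact key

end minusMain

end Cfsg.Agent.Helper5.OrthAut
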