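import Mathlib
import Cfsg.Prelude.Def_LieTypeDatum
import Cfsg.Agent.Lib.Helper5.OrthLag2
import Cfsg.Agent.S0786

/-!
# Totally singular Lagrangians and reflections, in every characteristic

`IsTSLag Q U`: `U` equals its own orthogonal for the polar form and `Q` vanishes on `U`.  In
characteristic two this is stronger than `IsLag`.  A reflection changes `dim (U ⊓ W)` by exactly
one for totally singular Lagrangians, so that a product of `k` reflections preserves the two
classes of maximal totally singular subspaces iff `k` is even.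
-/

set_option autoImplicit false
set_option linter.unusedSectionVars false
set_option linter.unusedSimpArgs false
set_option linter.unusedVariables false

namespace Cfsg.Agent.Helper5.OrthPar

open Module QuadraticMap Cfsg.Agent.Helper44 Cfsg.Agent.Helper5.OrthLag

section general

variable {K : Type*} [Field K] {V : Type*} [AddCommGroup V] [Module K V]
  {Q : QuadraticForm K V}

/-- a totally singular Lagrangian subspace -/
def IsTSLag (Q : QuadraticForm K V) (U : Submodule K V) : Prop :=
  IsLag Q U ∧ ∀ x ∈ U, Q x = 0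

theorem IsTSLag.map_refl {U : Submodule K V} (hU : IsTSLag Q U) (v : V) (hv : Q v ≠ 0) :
    IsTSLag Q (U.map (reflLin Q v)) := by
  refine ⟨hU.1.map_refl v hv, ?_⟩
  rintro _ ⟨u, hu, rfl⟩
  rw [Q_reflLin Q v u hv]
  exact hU.2 u hu

/-- at least one intersection leaves the hyperplane `v^⊥` (every characteristic) -/
theorem flip_exists' [FiniteDimensional K V] (hQ : (polarBilin Q).Nondegenerate)
    {U W : Submodule K V} (hU : IsTSLag Q U) (hW : IsTSLag Q W) (v : V) (hv : Q v ≠ 0)
    (h : ∀ x ∈ U ⊓ W, polar Q v x = 0) :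
    ∃ y ∈ U ⊓ W.map (reflLin Q v), polar Q v y ≠ 0 := by
  have hv' : v ∈ LinearMap.BilinForm.orthogonal (polarBilin Q) (U ⊓ W) := by
    rw [LinearMap.BilinForm.mem_orthogonal_iff]
    intro n hn
    show polarBilin Q n v = 0
    rw [polarBilin_apply_apply, polar_comm]
    exact h n hn
  rw [orth_inf_eq_sup hQ hU.1 hW.1] at hv'
  obtain ⟨u, hu, w, hw, huw⟩ := Submodule.mem_sup.1 hv'
  have hQu : Q u = 0 := hU.2 u hu
  have hQw : Q w = 0 := hW.2 w hw
  have hQv : Q v = polar Q u w := by
    rw [← huw, QuadraticMap.map_add Q u w, hQu, hQw]; ring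
  have hvw : polar Q v w = polar Q u w := by
    rw [← huw, polar_add_left, hW.1.polar_eq_zero hw hw, add_zero]
  have hvu : polar Q v u = polar Q u w := by
    rw [← huw, polar_add_left, hU.1.polar_eq_zero hu hu, zero_add, polar_comm]
  refine ⟨u, ⟨hu, ⟨-w, W.neg_mem hw, ?_⟩⟩, ?_⟩
  · rw [map_neg, reflLin_apply, hvw, ← hQv, inv_mul_cancel₀ hv, one_smul, ← huw]
    abel
  · rw [hvu, ← hQv]; exact hv

/-- A reflection changes `dim (U ⊓ W)` by exactly one (every characteristic). -/
theorem flip' [FiniteDimensional K V] (hQ : (polarBilin Q).Nondegenerate)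
    {U W : Submodule K V} (hU : IsTSLag Q U) (hW : IsTSLag Q W) (v : V) (hv : Q v ≠ 0) :
    finrank K ↥(U ⊓ W.map (reflLin Q v)) = finrank K ↥(U ⊓ W) + 1 ∨
      finrank K ↥(U ⊓ W) = finrank K ↥(U ⊓ W.map (reflLin Q v)) + 1 := by
  set φ : V →ₗ[K] K := polarBilin Q v with hφ
  have hφa : ∀ x, φ x = polar Q v x := fun x => rfl
  set E : Submodule K V := U ⊓ W ⊓ LinearMap.ker φ with hE
  have hE' : U ⊓ W.map (reflLin Q v) ⊓ LinearMap.ker φ = E := by
    ext x
    simp only [Submodule.mem_inf, LinearMap.mem_ker, hE, hφa]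
    constructor
    · rintro ⟨⟨h1, h2'⟩, h3⟩
      exact ⟨⟨h1, (mem_map_refl_iff_of_polar_eq_zero W v hv x h3).1 h2'⟩, h3⟩
    · rintro ⟨⟨h1, h2'⟩, h3⟩
      exact ⟨⟨h1, (mem_map_refl_iff_of_polar_eq_zero W v hv x h3).2 h2'⟩, h3⟩
  have hgen : ∀ A : Submodule K V, ∀ x ∈ A, φ x ≠ 0 →
      finrank K ↥A = finrank K ↥(A ⊓ LinearMap.ker φ) + 1 := by
    intro A x hx hφx
    apply finrank_succ_of_extend _ _ inf_le_left x hx
    · intro hmem
      exact hφx (LinearMap.mem_ker.1 hmem.2)
    · intro z hz
      refine ⟨φ z / φ x, ⟨A.sub_mem hz (A.smul_mem _ hx), ?_⟩⟩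
      show φ _ = 0
      rw [map_sub, map_smul, smul_eq_mul, div_mul_cancel₀ _ hφx, sub_self]
  have hgen0 : ∀ A : Submodule K V, (∀ x ∈ A, φ x = 0) → A ⊓ LinearMap.ker φ = A := by
    intro A hA
    apply le_antisymm inf_le_left
    intro x hx
    exact ⟨hx, LinearMap.mem_ker.2 (hA x hx)⟩
  by_cases hcase : ∀ x ∈ U ⊓ W, polar Q v x = 0
  · left
    obtain ⟨y, hy, hy0⟩ := flip_exists' hQ hU hW v hv hcase
    have h1 := hgen _ y hy hy0
    rw [hE'] at h1
    have h2' := hgen0 (U ⊓ W) hcase
    rw [← hE] at h2'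
    rw [h1, h2']
  · right
    simp only [not_forall] at hcase
    obtain ⟨x, hx, hx0⟩ := hcase
    have h1 := hgen _ x hx hx0
    rw [← hE] at h1
    have h2' : ∀ y ∈ U ⊓ W.map (reflLin Q v), φ y = 0 := by
      intro y hy
      rcases flip_not_both hU.1 hW.1 v hv hx hy with h | h
      · exact absurd h hx0
      · exact h
    have h3 := hgen0 _ h2'
    rw [hE'] at h3
    rw [h1, h3]

theorem IsTSLag.map_rprod {W : Submodule K V} (hW : IsTSLag Q W) :
    ∀ (l : List V), (∀ z ∈ l, Q z ≠ 0) → IsTSLag Q (W.map (rprod Q l)) := by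
  intro l
  induction l with
  | nil =>
    intro _
    rw [rprod_nil]
    have : W.map (1 : V →ₗ[K] V) = W := Submodule.map_id W
    rw [this]; exact hW
  | cons v l ih =>
    intro hl
    rw [rprod_cons]
    have : W.map (reflLin Q v * rprod Q l) = (W.map (rprod Q l)).map (reflLin Q v) := by
      rw [← Submodule.map_comp]; rfl
    rw [this]
    exact (ih (fun z hz => hl z (List.mem_cons_of_mem _ hz))).map_refl v
      (hl v List.mem_cons_self)

/-- Parity of `dim (U ⊓ g W)` for a product `g` of reflections (every characteristic). -/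
theorem parity' [FiniteDimensional K V] (hQ : (polarBilin Q).Nondegenerate)
    {U W : Submodule K V} (hU : IsTSLag Q U) (hW : IsTSLag Q W) :
    ∀ (l : List V), (∀ z ∈ l, Q z ≠ 0) →
      (finrank K ↥(U ⊓ W.map (rprod Q l)) + l.length) % 2 = finrank K ↥(U ⊓ W) % 2 := by
  intro l
  induction l with
  | nil =>
    intro _
    rw [rprod_nil]
    have : W.map (1 : V →ₗ[K] V) = W := Submodule.map_id W
    rw [this]; simp
  | cons v l ih =>
    intro hl
    have hl' : ∀ z ∈ l, Q z ≠ 0 := fun z hz => hl z (List.mem_cons_of_mem _ hz)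
    have ih' := ih hl'
    rw [rprod_cons]
    have : W.map (reflLin Q v * rprod Q l) = (W.map (rprod Q l)).map (reflLin Q v) := by
      rw [← Submodule.map_comp]; rfl
    rw [this]
    have hf := flip' hQ hU (hW.map_rprod l hl') v (hl v List.mem_cons_self)
    rw [List.length_cons]
    omega

/-- a totally singular subspace lies in its orthogonal -/
theorem le_orthogonal_of_ts {U : Submodule K V} (hU : ∀ x ∈ U, Q x = 0) :
    U ≤ LinearMap.BilinForm.orthogonal (polarBilin Q) U := by
  intro x hx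
  rw [LinearMap.BilinForm.mem_orthogonal_iff]
  intro n hn
  show polarBilin Q n x = 0
  rw [polarBilin_apply_apply]
  unfold polar
  rw [hU _ (U.add_mem hn hx), hU _ hn, hU _ hx]; ring

/-- Once one totally singular Lagrangian exists, every maximal totally singular subspace is a
totally singular Lagrangian. -/
theorem isTSLag_of_max [FiniteDimensional K V] (hQ : (polarBilin Q).Nondegenerate)
    {U0 : Submodule K V} (hU0 : IsTSLag Q U0) {U : Submodule K V}
    (hU : ∀ x ∈ U, Q x = 0)
    (hmax : ∀ W : Submodule K V, (∀ x ∈ W, Q x = 0) → U ≤ W → W = U) : IsTSLag Q U := by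
  refine ⟨?_, hU⟩
  have hle := le_orthogonal_of_ts hU
  by_contra hne
  have hne' : U ≠ LinearMap.BilinForm.orthogonal (polarBilin Q) U := fun h => hne h.symm
  have hlt : U < LinearMap.BilinForm.orthogonal (polarBilin Q) U := lt_of_le_of_ne hle hne'
  have hfr := Submodule.finrank_lt_finrank_of_lt hlt
  have h1 := LinearMap.BilinForm.finrank_orthogonal hQ U
  have h0 := hU0.1.two_mul_finrank hQ
  -- `(U0 ⊔ U)^⊥ = U0 ⊓ U^⊥`
  have hperp : LinearMap.BilinForm.orthogonal (polarBilin Q) (U0 ⊔ U) =
      U0 ⊓ LinearMap.BilinForm.orthogonal (polarBilin Q) U := by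
    ext x
    rw [Submodule.mem_inf, LinearMap.BilinForm.mem_orthogonal_iff,
      LinearMap.BilinForm.mem_orthogonal_iff]
    constructor
    · intro h
      refine ⟨?_, fun n hn => h n (Submodule.mem_sup_right hn)⟩
      rw [hU0.1.mem_iff]
      intro u hu
      have := h u (Submodule.mem_sup_left hu)
      exact this
    · rintro ⟨hx0, hxU⟩ n hn
      obtain ⟨u0, hu0, u, hu, rfl⟩ := Submodule.mem_sup.1 hn
      show polarBilin Q (u0 + u) x = 0
      rw [map_add, LinearMap.add_apply]
      have e1 : polarBilin Q u0 x = 0 := by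
        rw [polarBilin_apply_apply]; exact hU0.1.polar_eq_zero hu0 hx0
      have e2 : polarBilin Q u x = 0 := hxU u hu
      rw [e1, e2, add_zero]
  have h2 := LinearMap.BilinForm.finrank_orthogonal hQ (U0 ⊔ U)
  rw [hperp] at h2
  have h3 := Submodule.finrank_sup_add_finrank_inf_eq U0 U
  have h4 := Submodule.finrank_le (U0 ⊔ U)
  have h5 := Submodule.finrank_le U
  -- `U0 ⊓ U < U0 ⊓ U^⊥`
  have hle2 : U0 ⊓ U ≤ U0 ⊓ LinearMap.BilinForm.orthogonal (polarBilin Q) U :=
    inf_le_inf_left _ hle
  have hlt2 : finrank K ↥(U0 ⊓ U) <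
      finrank K ↥(U0 ⊓ LinearMap.BilinForm.orthogonal (polarBilin Q) U) := by omega
  have hne2 : ¬ (U0 ⊓ LinearMap.BilinForm.orthogonal (polarBilin Q) U ≤ U0 ⊓ U) := by
    intro hcon
    have := Submodule.finrank_mono hcon
    omega
  obtain ⟨x, hx, hxn⟩ := Set.not_subset.1 hne2
  have hx0 : x ∈ U0 := hx.1
  have hxp : x ∈ LinearMap.BilinForm.orthogonal (polarBilin Q) U := hx.2
  have hxU : x ∉ U := fun h => hxn ⟨hx0, h⟩
  have hQx : Q x = 0 := hU0.2 x hx0
  have hW : ∀ y ∈ U ⊔ Submodule.span K {x}, Q y = 0 := by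
    intro y hy
    obtain ⟨u, hu, z, hz, rfl⟩ := Submodule.mem_sup.1 hy
    obtain ⟨c, rfl⟩ := Submodule.mem_span_singleton.1 hz
    have hp : polar Q u (c • x) = 0 := by
      rw [polar_smul_right]
      have : polarBilin Q u x = 0 := (LinearMap.BilinForm.mem_orthogonal_iff.1 hxp) u hu
      rw [polarBilin_apply_apply] at this
      rw [this, smul_zero]
    have hsum : Q (u + c • x) = Q u + Q (c • x) + polar Q u (c • x) := by
      unfold polar; ring
    rw [hsum, hp, hU u hu, QuadraticMap.map_smul, hQx, smul_zero, add_zero, add_zero]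
  have := hmax _ hW le_sup_left
  apply hxU
  rw [← this]
  exact Submodule.mem_sup_right (Submodule.mem_span_singleton_self x)

end general

section matrix

variable {K : Type*} [Field K] {ι : Type} [Fintype ι] [DecidableEq ι]
  (Q : QuadraticForm K (ι → K))

theorem isTSLag_of_isMaxTS (hQ : (polarBilin Q).Nondegenerate)
    {U0 : Submodule K (ι → K)} (hU0 : IsTSLag Q U0) {U : Submodule K (ι → K)}
    (hU : Cfsg.IsMaxTotallySingular (⇑Q) U) : IsTSLag Q U :=
  isTSLag_of_max hQ hU0 hU.1 hU.2

theorem isMaxTS_of_isTSLag {U : Submodule K (ι → K)} (hU : IsTSLag Q U) :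
    Cfsg.IsMaxTotallySingular (⇑Q) U := by
  refine ⟨hU.2, ?_⟩
  intro W hW hUW
  apply le_antisymm _ hUW
  intro w hw
  rw [hU.1.mem_iff]
  intro u hu
  have h1 := hW (u + w) (W.add_mem (hUW hu) hw)
  have h3 := hW u (hUW hu)
  have h4 := hW w hw
  unfold polar
  rw [h1, h3, h4]; ring

/-- A product of `k` reflections preserves the two classes of maximal totally singular subspaces
iff `k` is even (every characteristic; needs one totally singular Lagrangian). -/
theorem preserves_list_iff (hQ : (polarBilin Q).Nondegenerate)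
    {U0 : Submodule K (ι → K)} (hU0 : IsTSLag Q U0)
    (l : List (ι → K)) (hl : ∀ z ∈ l, Q z ≠ 0) :
    Cfsg.PreservesSingularClasses (⇑Q) ((l.map (Cfsg.reflectionMatrix (⇑Q))).prod) ↔
      Even l.length := by
  have key : ∀ U : Submodule K (ι → K), IsTSLag Q U →
      (Cfsg.SameParityClass U (Cfsg.imageSubmodule
        ((l.map (Cfsg.reflectionMatrix (⇑Q))).prod) U) ↔ Even l.length) := by
    intro U hU
    have hpar := parity' hQ hU hU l hl
    rw [inf_idem] at hpar
    unfold Cfsg.SameParityClass Cfsg.imageSubmodule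
    rw [toLin'_list_refl]
    have hle : finrank K ↥(U ⊓ U.map (rprod Q l)) ≤ finrank K ↥U :=
      Submodule.finrank_mono inf_le_left
    rw [Nat.even_iff, Nat.even_iff]
    omega
  constructor
  · intro h
    exact (key U0 hU0).1 (h U0 (isMaxTS_of_isTSLag Q hU0))
  · intro h U hU
    exact (key U (isTSLag_of_isMaxTS Q hQ hU0 hU)).2 h

end matrix

end Cfsg.Agent.Helper5.OrthPar
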