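import Mathlib
import Cfsg.Agent.Lib.Helper5.OrthPar
import Cfsg.Agent.Lib.Helper5.OrthLag10
import Cfsg.Agent.Lib.Helper40.AutPOmFieldMain

/-!
# The minus-type form: products of reflections and the two classes over a quadratic extension
(every characteristic)
-/

set_option autoImplicit false
set_option linter.unusedSectionVars false
set_option linter.unusedSimpArgs false
set_option linter.unusedVariables false

namespace Cfsg.Agent.Helper5.OMF

open Module QuadraticMap Matrix Cfsg.Agent.Helper43 Cfsg.Agent.Helper44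
  Cfsg.Agent.Helper5.OrthAut Cfsg.Agent.Helper5.OrthLag Cfsg.Agent.Helper5.OrthPar
  Cfsg.Agent.Helper40.AutPOm

section K

variable (K : Type*) [Field K] (m : ℕ) (a b : K)

theorem isTSLag_lagMinus (ω : K) (hω : ω ^ 2 + a * ω + b = 0) (hd : a ^ 2 - 4 * b ≠ 0) :
    IsTSLag (stdMinus K m a b) (lagMinus K m ω) := by
  refine ⟨isLag_lagMinus K m a b ω hω hd, ?_⟩
  rintro v ⟨hv1, hv2⟩
  rw [stdMinus_apply]
  unfold Cfsg.quadFormMinus
  have hs : (∑ i, v (Sum.inl (Sum.inl i)) * v (Sum.inl (Sum.inr i))) = 0 := by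
    apply Finset.sum_eq_zero
    intro j _
    rw [hv1 j, mul_zero]
  rw [hs, hv2]
  linear_combination (v (Sum.inr 1)) ^ 2 * hω

end K

section smul

variable {K : Type*} [Field K] {ι : Type} [Fintype ι] [DecidableEq ι]

theorem imageSubmodule_smul (c : K) (hc : c ≠ 0) (M : Matrix ι ι K) (U : Submodule K (ι → K)) :
    Cfsg.imageSubmodule (c • M) U = Cfsg.imageSubmodule M U := by
  unfold Cfsg.imageSubmodule
  rw [map_smul, Submodule.map_smul _ _ c hc]

theorem preserves_smul_iff (Q : (ι → K) → K) (c : K) (hc : c ≠ 0) (M : Matrix ι ι K) :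
    Cfsg.PreservesSingularClasses Q (c • M) ↔ Cfsg.PreservesSingularClasses Q M := by
  unfold Cfsg.PreservesSingularClasses
  simp only [imageSubmodule_smul c hc]

end smul

section bc

variable {F₀ : Type*} [Field F₀] {F : Type*} [Field F]

theorem isBC_stdMinus (m : ℕ) (emb : F₀ →+* F) (a b : F₀) :
    IsBC emb ⇑(stdMinus F₀ m a b) ⇑(stdMinus F m (emb a) (emb b)) := by
  intro v
  rw [stdMinus_apply, stdMinus_apply]
  unfold Cfsg.quadFormMinus
  simp [mapV, map_add, map_pow, map_sum, map_mul]

theorem map_list_refl {ι : Type} [Fintype ι] [DecidableEq ι] (emb : F₀ →+* F)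
    (Q₀ : (ι → F₀) → F₀) (Q : (ι → F) → F) (hB : IsBC emb Q₀ Q) (l : List (ι → F₀)) :
    ((l.map (Cfsg.reflectionMatrix Q₀)).prod).map emb =
      ((l.map (mapV emb)).map (Cfsg.reflectionMatrix Q)).prod := by
  rw [map_list_prod_matrix, List.map_map, List.map_map]
  congr 1
  apply List.map_congr_left
  intro w _
  exact hB.reflectionMatrix w

end bc

section main

universe u

variable {F : Type u} [Field F] [Fintype F]

/-- over a quadratic extension `K`: a scalar multiple of a product of `k` reflections of the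
minus-type form preserves the two classes iff `k` is even -/
theorem preserves_K_list_iff (m : ℕ) (a b : F)
    (hab : ∀ z₁ z₂ : F, z₁ ^ 2 + a * z₁ * z₂ + b * z₂ ^ 2 = 0 → z₁ = 0 ∧ z₂ = 0)
    {K : Type*} [Field K] [Algebra F K] (hfr : Module.finrank F K = 2)
    (l : List ((Fin m ⊕ Fin m) ⊕ Fin 2 → F)) (hl : ∀ w ∈ l, Cfsg.quadFormMinus m F a b w ≠ 0)
    (c : F) (hc : c ≠ 0) :
    Cfsg.PreservesSingularClasses
      (Cfsg.quadFormMinus m K (algebraMap F K a) (algebraMap F K b))
      ((c • (l.map (Cfsg.reflectionMatrix (Cfsg.quadFormMinus m F a b))).prod).map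
        (algebraMap F K)) ↔ Even l.length := by
  classical
  have : FiniteDimensional F K := Module.finite_of_finrank_pos (by omega)
  have : Finite K := Module.finite_of_finite F
  have := Fintype.ofFinite K
  obtain ⟨ω, hω⟩ := exists_root_quadratic hfr a b hab
  have hab' : AnisoPair a b := hab
  have hd : (algebraMap F K a) ^ 2 - 4 * algebraMap F K b ≠ 0 := by
    have := hab'.disc_ne_zero'
    intro h
    apply this
    apply (algebraMap F K).injective
    rw [map_sub, map_pow, map_mul, map_ofNat, h, map_zero]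
  have hω' : ω ^ 2 + algebraMap F K a * ω + algebraMap F K b = 0 := hω
  have hB := isBC_stdMinus m (algebraMap F K) a b
  rw [← coe_stdMinus, ← coe_stdMinus] at *
  have hmap : ((c • (l.map (Cfsg.reflectionMatrix ⇑(stdMinus F m a b))).prod).map
      (algebraMap F K)) = algebraMap F K c •
        ((l.map (mapV (algebraMap F K))).map (Cfsg.reflectionMatrix
          ⇑(stdMinus K m (algebraMap F K a) (algebraMap F K b)))).prod := by
    rw [← map_list_refl (algebraMap F K) _ _ hB l]
    ext i j
    simp [Matrix.map_apply, Matrix.smul_apply]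
  rw [hmap, preserves_smul_iff _ _ (by rw [Ne, map_eq_zero]; exact hc)]
  have hl' : ∀ z ∈ l.map (mapV (algebraMap F K)),
      stdMinus K m (algebraMap F K a) (algebraMap F K b) z ≠ 0 := by
    intro z hz
    obtain ⟨w, hw, rfl⟩ := List.mem_map.1 hz
    have h1 : stdMinus K m (algebraMap F K a) (algebraMap F K b) (mapV (algebraMap F K) w) =
        algebraMap F K (stdMinus F m a b w) := hB w
    rw [h1, Ne, map_eq_zero]
    exact hl w hw
  have key := preserves_list_iff (stdMinus K m (algebraMap F K a) (algebraMap F K b))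
    (stdMinus_nondegenerate' K m _ _ hd) (isTSLag_lagMinus K m _ _ ω hω' hd) _ hl'
  rw [key, List.length_map]

/-- a scalar multiple of a product of `k` reflections of the minus-type form preserves the two
classes (over a quadratic extension) iff `k` is even -/
theorem preserves_minus_list_iff (m : ℕ) (a b : F)
    (hab : ∀ z₁ z₂ : F, z₁ ^ 2 + a * z₁ * z₂ + b * z₂ ^ 2 = 0 → z₁ = 0 ∧ z₂ = 0)
    (l : List ((Fin m ⊕ Fin m) ⊕ Fin 2 → F)) (hl : ∀ w ∈ l, Cfsg.quadFormMinus m F a b w ≠ 0)
    (c : F) (hc : c ≠ 0) :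
    Cfsg.PreservesSingularClassesMinus m a b
      (c • (l.map (Cfsg.reflectionMatrix (Cfsg.quadFormMinus m F a b))).prod) ↔
        Even l.length := by
  constructor
  · rintro ⟨K, hK1, hK2, hfr, h⟩
    exact (preserves_K_list_iff m a b hab hfr l hl c hc).1 h
  · intro h
    obtain ⟨K, hK1, hK2, hfr⟩ := exists_quadratic_extension a b hab
    exact ⟨K, hK1, hK2, hfr, (preserves_K_list_iff m a b hab hfr l hl c hc).2 h⟩

end main

end Cfsg.Agent.Helper5.OMF
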