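import Mathlib
import Cfsg.Agent.Lib.Helper5.OMFClass
import Cfsg.Agent.Lib.Helper43.OMin3
import Cfsg.Agent.Lib.Lead.POmegaCard

/-!
# `Inndiag(PΩ⁻) = Inn` in characteristic two
-/

set_option autoImplicit false
set_option linter.unusedSectionVars false
set_option linter.unusedSimpArgs false
set_option linter.unusedVariables false

namespace Cfsg.Agent.Helper5.OMF

open Module QuadraticMap Matrix Cfsg.Agent.Helper43 Cfsg.Agent.Helper44
  Cfsg.Agent.Helper5.OrthAut Cfsg.Agent.Helper5.OrthLag Cfsg.Agent.Helper5.OrthPar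
  Cfsg.Agent.Helper40.AutPOm

universe u

variable {F : Type u} [Field F] [Fintype F]

local notation "MM" m => Matrix ((Fin m ⊕ Fin m) ⊕ Fin 2) ((Fin m ⊕ Fin m) ⊕ Fin 2) F

theorem card_Im (m : ℕ) : Fintype.card ((Fin m ⊕ Fin m) ⊕ Fin 2) = 2 * m + 2 := by
  simp; ring

/-- an isometry outside `Ω` in characteristic two is an odd product of reflections -/
theorem mem_omega_of_even_char2 (h2 : (2 : F) = 0) {m : ℕ} (hm : 2 ≤ m) (a b : F)
    (hab : AnisoPair a b) (h : ↥(Cfsg.isometryGroup F ⇑(stdMinus F m a b)))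
    (l : List ((Fin m ⊕ Fin m) ⊕ Fin 2 → F)) (hl : ∀ w ∈ l, stdMinus F m a b w ≠ 0)
    (hM : ((h : GL ((Fin m ⊕ Fin m) ⊕ Fin 2) F) : MM m) =
      (l.map (Cfsg.reflectionMatrix ⇑(stdMinus F m a b))).prod) :
    h ∈ Cfsg.Omega F ⇑(stdMinus F m a b) ↔ Even l.length := by
  classical
  have hnd := stdMinus_nondegenerate (F := F) m hab
  have hcard := card_Im m
  have hexc : Fintype.card F ≠ 2 ∨ Fintype.card ((Fin m ⊕ Fin m) ⊕ Fin 2) ≠ 4 := by
    right; rw [hcard]; intro h4; omega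
  have hidx := Cfsg.Agent.Lead.POmegaCard.index_omega_even h2 (stdMinus F m a b) hnd
    (by rw [hcard]; omega) hexc
  obtain ⟨v, hv⟩ := hQ0_of_hyp (stdMinus F m a b) (stdMinus_isHypFamily F m a b) (by omega)
  constructor
  · intro hmem
    exact (Cfsg.Agent.S0789.mem_Rplus_iff _ hnd h l hl hM).1
      (Cfsg.Agent.Helper43.OMin.omega_le_Rplus _ hnd hexc hmem)
  · intro hev
    by_contra hnot
    set ρ := Cfsg.Agent.S0792.reflG (stdMinus F m a b) v hv with hρ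
    have hρn : ρ ∉ Cfsg.Omega F ⇑(stdMinus F m a b) :=
      Cfsg.Agent.Helper43.OMin.refl_not_mem_omega _ hnd hexc v hv ρ rfl
    have hmul : h * ρ ∈ Cfsg.Omega F ⇑(stdMinus F m a b) := by
      rw [Subgroup.mul_mem_iff_of_index_two hidx]
      exact ⟨fun h' => absurd h' hnot, fun h' => absurd h' hρn⟩
    have h3 := Cfsg.Agent.Helper43.OMin.omega_le_Rplus _ hnd hexc hmul
    have h4 := (Cfsg.Agent.S0789.mem_Rplus_iff _ hnd (h * ρ) (l ++ [v]) (by
      intro w hw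
      rcases List.mem_append.1 hw with hw | hw
      · exact hl w hw
      · rw [List.mem_singleton] at hw
        rw [hw]; exact hv) (by
      rw [Subgroup.coe_mul, Units.val_mul, hM, List.map_append, List.prod_append]
      simp [hρ, Cfsg.Agent.S0792.coe_reflG])).1 h3
    rw [List.length_append, List.length_singleton] at h4
    rw [Nat.even_add_one] at h4
    exact h4 hev

/-- characteristic two: a similarity preserves the two classes iff it is a scalar times an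
element of `Ω` -/
theorem preserves_iff_char2 (h2 : (2 : F) = 0) {m : ℕ} (hm : 2 ≤ m) (a b : F)
    (hab : ∀ z₁ z₂ : F, z₁ ^ 2 + a * z₁ * z₂ + b * z₂ ^ 2 = 0 → z₁ = 0 ∧ z₂ = 0)
    (g : GL ((Fin m ⊕ Fin m) ⊕ Fin 2) F) (hg : g ∈ GO (stdMinus F m a b)) :
    Cfsg.PreservesSingularClassesMinus m a b (g : MM m) ↔
      ∃ (c : Fˣ) (s : GL ((Fin m ⊕ Fin m) ⊕ Fin 2) F), s ∈ OmGL ⇑(stdMinus F m a b) ∧
        g = sclHom c * s := by
  classical
  have hab' : AnisoPair a b := hab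
  have hnd := stdMinus_nondegenerate (F := F) m hab'
  have hcard := card_Im m
  have hexc : Fintype.card F ≠ 2 ∨ Fintype.card ((Fin m ⊕ Fin m) ⊕ Fin 2) ≠ 4 := by
    right; rw [hcard]; intro h4; omega
  constructor
  · intro hP
    have hchar : ringChar F = 2 := by
      have : CharP F 2 := CharTwo.of_one_ne_zero_of_two_eq_zero one_ne_zero h2
      exact ringChar.eq F 2
    obtain ⟨c, hc⟩ := FiniteField.isSquare_of_char_two hchar
      ((mult (stdMinus F m a b) ⟨g, hg⟩ : Fˣ) : F)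
    have hc0 : c ≠ 0 := by
      rintro rfl
      rw [mul_zero] at hc
      exact Units.ne_zero _ hc
    set cU : Fˣ := Units.mk0 c hc0 with hcU
    set hh : GL ((Fin m ⊕ Fin m) ⊕ Fin 2) F := (sclHom cU)⁻¹ * g with hhdef
    have hhiso : hh ∈ Cfsg.isometryGroup F ⇑(stdMinus F m a b) := by
      rw [mem_iso_iff]
      intro v
      have h1 : ((hh : GL _ F) : MM m) *ᵥ v =
          (c⁻¹ : F) • ((g : MM m) *ᵥ v) := by
        rw [hhdef, Units.val_mul, ← map_inv, sclHom_coe, Matrix.smul_mul, Matrix.one_mul,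
          Matrix.smul_mulVec]
        rfl
      rw [h1, QuadraticMap.map_smul]
      have h3 := mult_spec (stdMinus F m a b) ⟨g, hg⟩ v
      change stdMinus F m a b ((g : MM m) *ᵥ v) = _ at h3
      rw [h3, hc, smul_eq_mul]
      field_simp
    obtain ⟨l, hl, hMl⟩ := Cfsg.Agent.S0786.matrix_cd_all (stdMinus F m a b) hnd hexc
      ((hh : GL _ F) : MM m) (fun u => (mem_iso_iff _ hh).1 hhiso u)
    have hgM : (g : MM m) = c • (l.map (Cfsg.reflectionMatrix
        (Cfsg.quadFormMinus m F a b))).prod := by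
      rw [← coe_stdMinus, ← hMl, hhdef, Units.val_mul, ← map_inv, sclHom_coe, Matrix.smul_mul,
        Matrix.one_mul, smul_smul]
      have : c * ((cU⁻¹ : Fˣ) : F) = 1 := by
        rw [Units.val_inv_eq_inv_val, hcU, Units.val_mk0, mul_inv_cancel₀ hc0]
      rw [this, one_smul]
    rw [hgM] at hP
    have hev := (preserves_minus_list_iff m a b hab l (by
      intro w hw
      rw [← coe_stdMinus]; exact hl w hw) c hc0).1 hP
    have hmem := (mem_omega_of_even_char2 h2 hm a b hab' ⟨hh, hhiso⟩ l hl hMl).2 hev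
    refine ⟨cU, hh, (mem_OmGL _ _).2 ⟨⟨⟨hh, hhiso⟩, hmem⟩, rfl⟩, ?_⟩
    rw [hhdef, ← mul_assoc, mul_inv_cancel, one_mul]
  · rintro ⟨c, s, hs, rfl⟩
    obtain ⟨s', hs'⟩ := (mem_OmGL _ _).1 hs
    obtain ⟨l, hl, hMl⟩ := Cfsg.Agent.S0786.matrix_cd_all (stdMinus F m a b) hnd hexc
      ((s : GL _ F) : MM m) (fun u => by
        rw [← hs']
        exact (mem_iso_iff _ _).1 (s' : ↥(Cfsg.isometryGroup F ⇑(stdMinus F m a b))).2 u)
    have hev := (mem_omega_of_even_char2 h2 hm a b hab'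
      (s' : ↥(Cfsg.isometryGroup F ⇑(stdMinus F m a b))) l hl (by rw [hs']; exact hMl)).1 s'.2
    have hgM : ((sclHom c * s : GL _ F) : MM m) = (c : F) • (l.map
        (Cfsg.reflectionMatrix (Cfsg.quadFormMinus m F a b))).prod := by
      rw [← coe_stdMinus, ← hMl, Units.val_mul, sclHom_coe, Matrix.smul_mul, Matrix.one_mul]
    rw [hgM]
    exact (preserves_minus_list_iff m a b hab l (by
      intro w hw
      rw [← coe_stdMinus]; exact hl w hw) c (Units.ne_zero c)).2 hev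

/-- the standing facts about `Ω` of the minus-type form -/
theorem minus_hperf {m : ℕ} (hm : 3 ≤ m) (a b : F) (hab : AnisoPair a b) :
    commutator ↥(Cfsg.Omega F ⇑(stdMinus F m a b)) = ⊤ :=
  hperf_of_hyp (stdMinus F m a b) (stdMinus_nondegenerate (F := F) m hab) _ _
    (stdMinus_isHypFamily F m a b) hm (by rw [card_Im]; omega)

theorem minus_hcent {m : ℕ} (hm : 3 ≤ m) (a b : F) :
    ∀ Z : MM m, (∀ s : ↥(Cfsg.Omega F ⇑(stdMinus F m a b)),
      Z * omat (⇑(stdMinus F m a b)) s = omat (⇑(stdMinus F m a b)) s * Z) →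
      ∃ c : F, Z = c • (1 : MM m) :=
  hcent_of_hyp (stdMinus F m a b) (stdMinus_isHypFamily F m a b) hm
    (Cfsg.Agent.Lead.POmegaCard.hspan_minus m a b)

theorem Phi_scl_mul {m : ℕ} (hm : 3 ≤ m) (a b : F) (hab : AnisoPair a b) (c : Fˣ)
    (s : GL ((Fin m ⊕ Fin m) ⊕ Fin 2) F) (hs : s ∈ NO ⇑(stdMinus F m a b))
    (hcs : sclHom c * s ∈ NO ⇑(stdMinus F m a b)) :
    Phi ⇑(stdMinus F m a b) ⟨sclHom c * s, hcs⟩ = Phi ⇑(stdMinus F m a b) ⟨s, hs⟩ := by
  have hc : sclHom (ι := (Fin m ⊕ Fin m) ⊕ Fin 2) c ∈ NO ⇑(stdMinus F m a b) :=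
    sim_le_NO _ (sclHom_mem_GO (stdMinus F m a b) c)
  have h1 : (⟨sclHom c * s, hcs⟩ : ↥(NO ⇑(stdMinus F m a b))) = ⟨sclHom c, hc⟩ * ⟨s, hs⟩ := rfl
  have h2 : Phi ⇑(stdMinus F m a b) ⟨sclHom c, hc⟩ = 1 := by
    have hk := ker_Phi ⇑(stdMinus F m a b) (minus_hperf hm a b hab) (minus_hcent hm a b)
    have : (⟨sclHom c, hc⟩ : ↥(NO ⇑(stdMinus F m a b))) ∈ (Phi ⇑(stdMinus F m a b)).ker := by
      rw [hk, Subgroup.mem_subgroupOf]
      exact sclHom_mem c
    exact this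
  rw [h1, map_mul, h2, one_mul]

theorem inndiag_char2_aux (h2 : (2 : F) = 0) {m : ℕ} (hm : 3 ≤ m) (a b : F)
    (hab : ∀ z₁ z₂ : F, z₁ ^ 2 + a * z₁ * z₂ + b * z₂ ^ 2 = 0 → z₁ = 0 ∧ z₂ = 0) :
    Cfsg.autSubgroupOf (fun β : Cfsg.POmega F ⇑(stdMinus F m a b) ≃*
        Cfsg.POmega F ⇑(stdMinus F m a b) =>
      ∃ g : GL ((Fin m ⊕ Fin m) ⊕ Fin 2) F,
        g ∈ Cfsg.Geo.quadSimilarityGroup (F := F) ⇑(stdMinus F m a b) ∧
        Cfsg.PreservesSingularClassesMinus m a b (g : MM m) ∧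
        Cfsg.IsInducedBySemilinearPOmega ⇑(stdMinus F m a b) g (RingEquiv.refl F) β) =
      Cfsg.Inn (Cfsg.POmega F ⇑(stdMinus F m a b)) := by
  classical
  have hab' : AnisoPair a b := hab
  apply le_antisymm
  · unfold Cfsg.autSubgroupOf
    rw [Subgroup.closure_le]
    rintro β ⟨g, hg, hP, hind⟩
    have hβ := (induced_iff _ ⟨g, sim_le_NO _ hg⟩ β).1 hind
    obtain ⟨c, s, hs, hgs⟩ := (preserves_iff_char2 h2 (by omega) a b hab g hg).1 hP
    subst hgs
    have h3 := Phi_scl_mul hm a b hab' c s (OmGL_le_NO _ hs) (sim_le_NO _ hg)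
    rw [SetLike.mem_coe, hβ, h3, inn_eq]
    exact Subgroup.mem_map_of_mem _ (show (⟨s, OmGL_le_NO _ hs⟩ : ↥(NO ⇑(stdMinus F m a b))) ∈
      (OmGL ⇑(stdMinus F m a b)).subgroupOf (NO ⇑(stdMinus F m a b)) from hs)
  · intro β hβ
    rw [inn_eq] at hβ
    obtain ⟨g, hg, rfl⟩ := hβ
    have hg' : g.1 ∈ OmGL ⇑(stdMinus F m a b) := hg
    have hgGO : g.1 ∈ GO (stdMinus F m a b) := iso_le_sim _ (OmGL_le_iso _ hg')
    have hP : Cfsg.PreservesSingularClassesMinus m a b ((g.1 : GL _ F) : MM m) :=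
      (preserves_iff_char2 h2 (by omega) a b hab g.1 hgGO).2
        ⟨1, g.1, hg', by rw [map_one, one_mul]⟩
    apply Subgroup.subset_closure
    exact ⟨g.1, hgGO, hP, (induced_iff _ g _).2 rfl⟩

/-- characteristic two: `Inndiag(PΩ⁻) = Inn` -/
theorem inndiag_minus_eq_inn_char2 (h2 : (2 : F) = 0) {m : ℕ} (hm : 3 ≤ m) (a b : F)
    (hab : ∀ z₁ z₂ : F, z₁ ^ 2 + a * z₁ * z₂ + b * z₂ ^ 2 = 0 → z₁ = 0 ∧ z₂ = 0) :
    Cfsg.inndiagPOmegaMinus m F a b =
      Cfsg.Inn (Cfsg.POmega F (Cfsg.quadFormMinus m F a b)) := by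
  have key := inndiag_char2_aux h2 hm a b hab
  rw [coe_stdMinus] at key
  exact key

end Cfsg.Agent.Helper5.OMF
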