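import Mathlib
import Cfsg.Agent.Lib.Helper5.OMFChar2
import Cfsg.Agent.Lib.Helper40.AutPOmKer

/-!
# Rigidity data for the minus-type form; the order of the standard field automorphisms
-/

set_option autoImplicit false
set_option linter.unusedSectionVars false
set_option linter.unusedSimpArgs false
set_option linter.unusedVariables false

namespace Cfsg.Agent.Helper5.OMF

open Module QuadraticMap Matrix Cfsg.Agent.Helper43 Cfsg.Agent.Helper44
  Cfsg.Agent.Helper5.OrthAut Cfsg.Agent.Helper5.OrthLag Cfsg.Agent.Helper5.OrthPar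
  Cfsg.Agent.Helper40.AutPOm Cfsg.Agent.Helper13

universe u

variable {F : Type u} [Field F] [Fintype F]

theorem rigData_minus {m : ℕ} (hm : 3 ≤ m) (a b : F) (hab : AnisoPair a b) :
    RigData (stdMinus F m a b) := by
  have hfam := stdMinus_isHypFamily F m a b
  have hnd := stdMinus_nondegenerate (F := F) m hab
  have hΩ := omega_eq_EK (stdMinus F m a b) hnd _ _ hfam hm (by rw [card_Im]; omega)
  refine ⟨minus_hcent hm a b, ?_, ?_⟩
  · intro u w hu huw
    rw [hΩ]
    exact eichO_mem_EK _ u w hu huw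
  · refine ⟨Pi.single (Sum.inl (Sum.inl ⟨0, by omega⟩)) 1,
      Pi.single (Sum.inl (Sum.inl ⟨1, by omega⟩)) 1,
      Pi.single (Sum.inl (Sum.inr ⟨0, by omega⟩)) 1, hfam.qe _, hfam.qe _, hfam.ee _ _, ?_, ?_,
      ?_, ?_, ?_⟩
    · rw [hfam.ef, if_pos rfl]
    · rw [hfam.ef, if_neg]
      intro h
      have := congrArg Fin.val h
      simp at this
    · intro h
      have := congrFun h (Sum.inl (Sum.inl ⟨1, by omega⟩))
      simp at this
    · intro σ
      funext i
      by_cases hi : i = Sum.inl (Sum.inl ⟨0, by omega⟩)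
      · rw [hi, Pi.single_eq_same, map_one]
      · rw [Pi.single_eq_of_ne hi, map_zero]
    · intro σ
      funext i
      by_cases hi : i = Sum.inl (Sum.inl ⟨1, by omega⟩)
      · rw [hi, Pi.single_eq_same, map_one]
      · rw [Pi.single_eq_of_ne hi, map_zero]

/-- the field automorphisms of a form with rigidity data: injectivity on `QAut` -/
theorem fieldAutPOm_injective {ι : Type} [Fintype ι] [DecidableEq ι]
    {Q : QuadraticForm F (ι → F)} (D : RigData Q) :
    Function.Injective (fieldAutHom (⇑Q)) := by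
  rw [injective_iff_map_eq_one]
  intro σ hσ
  apply D.rigid σ 1
  rw [map_one, ← fieldAutHom_apply, hσ]

/-- (C1) -/
theorem orderOf_fieldAutPOm_minus {m : ℕ} (hm : 3 ≤ m) (a b : F)
    (hab : ∀ z₁ z₂ : F, z₁ ^ 2 + a * z₁ * z₂ + b * z₂ ^ 2 = 0 → z₁ = 0 ∧ z₂ = 0)
    (σ : F ≃+* F) (hσQ : σ ∈ QAut ⇑(stdMinus F m a b)) :
    orderOf (fieldAutPOm ⇑(stdMinus F m a b) ⟨σ, hσQ⟩) = orderOf σ := by
  rw [← fieldAutHom_apply,
    orderOf_injective _ (fieldAutPOm_injective (rigData_minus hm a b hab))]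
  exact Subgroup.orderOf_mk σ hσQ

end Cfsg.Agent.Helper5.OMF
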