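import Mathlib
import Cfsg.Agent.Lib.Helper5.OMFRig
import Cfsg.Agent.Lib.Helper40.AutPOmCoset
import Cfsg.Agent.Lib.Helper62.OMFL

/-!
# The coset theorem for the minus-type form in standard position (all characteristics)
-/

set_option autoImplicit false
set_option linter.unusedSectionVars false
set_option linter.unusedSimpArgs false
set_option linter.unusedVariables false

namespace Cfsg.Agent.Helper5.OMF

open Matrix QuadraticMap Cfsg.Agent.Helper43 Cfsg.Agent.Helper5.OrthAut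
  Cfsg.Agent.Helper40.AutPOm Cfsg.Agent.Helper40.H90
  Cfsg.Agent.Helper40.AutPSLNorm Cfsg.Agent.Helper40.FixK Cfsg.Agent.Helper40.LangO

section Gen

variable {F : Type*} [Field F] {ι : Type} [Fintype ι] [DecidableEq ι]
  (Q : QuadraticForm F (ι → F))

local notation "Mι" => Matrix ι ι F

/-- partial norms in `GO`, for `σ` in `QAut` -/
noncomputable def nrmGOq (σ : ↥(QAut ⇑Q)) (g : ↥(GO Q)) : ℕ → ↥(GO Q)
  | 0 => 1
  | k + 1 => g * sigmaGO (⇑Q) σ (nrmGOq σ g k)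

theorem nrmGOq_coe (σ : ↥(QAut ⇑Q)) (g : ↥(GO Q)) (k : ℕ) :
    (((nrmGOq Q σ g k : ↥(GO Q)) : GL ι F) : Mι) = nrmI σ.1 ((g.1 : GL ι F) : Mι) k := by
  induction k with
  | zero => rfl
  | succ k ih =>
    show (((g * sigmaGO (⇑Q) σ (nrmGOq Q σ g k) : ↥(GO Q)) : GL ι F) : Mι) =
      ((g.1 : GL ι F) : Mι) * smI σ.1 (nrmI σ.1 ((g.1 : GL ι F) : Mι) k)
    rw [← ih]
    rfl

theorem pow_PhiGO_mul_fieldq (σ : ↥(QAut ⇑Q)) (g : ↥(GO Q)) (k : ℕ) :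
    (PhiGO (⇑Q) g * fieldAutPOm (⇑Q) σ : MulAut (Cfsg.POmega F ⇑Q)) ^ k =
      PhiGO (⇑Q) (nrmGOq Q σ g k) * fieldAutPOm (⇑Q) (σ ^ k) := by
  induction k with
  | zero =>
    show (1 : MulAut (Cfsg.POmega F ⇑Q)) =
      PhiGO (⇑Q) (1 : ↥(GO Q)) * fieldAutPOm (⇑Q) (σ ^ 0)
    rw [map_one, pow_zero, fieldAutPOm_one, mul_one]
  | succ k ih =>
    rw [pow_succ', ih, pow_succ', fieldAutPOm_mul]
    show PhiGO (⇑Q) g * fieldAutPOm (⇑Q) σ *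
        (PhiGO (⇑Q) (nrmGOq Q σ g k) * fieldAutPOm (⇑Q) (σ ^ k)) =
      PhiGO (⇑Q) (g * sigmaGO (⇑Q) σ (nrmGOq Q σ g k)) *
        (fieldAutPOm (⇑Q) σ * fieldAutPOm (⇑Q) (σ ^ k))
    rw [map_mul]
    calc PhiGO (⇑Q) g * fieldAutPOm (⇑Q) σ *
          (PhiGO (⇑Q) (nrmGOq Q σ g k) * fieldAutPOm (⇑Q) (σ ^ k))
        = PhiGO (⇑Q) g * (fieldAutPOm (⇑Q) σ * PhiGO (⇑Q) (nrmGOq Q σ g k)) *
            fieldAutPOm (⇑Q) (σ ^ k) := by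
          simp only [mul_assoc]
      _ = PhiGO (⇑Q) g * (PhiGO (⇑Q) (sigmaGO (⇑Q) σ (nrmGOq Q σ g k)) *
            fieldAutPOm (⇑Q) σ) * fieldAutPOm (⇑Q) (σ ^ k) := by
          rw [fieldAutPOm_mul_PhiGO]
      _ = _ := by simp only [mul_assoc]

/-- the generic coset statement: a Lang-type hypothesis gives conjugacy -/
theorem coset_conj_of_lang [Finite F] [Nonempty ι]
    (hperf : commutator ↥(Cfsg.Omega F ⇑Q) = ⊤)
    (hcent : ∀ Z : Matrix ι ι F, (∀ s : ↥(Cfsg.Omega F ⇑Q), Z * omat (⇑Q) s = omat (⇑Q) s * Z) →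
      ∃ c : F, Z = c • (1 : Matrix ι ι F))
    (σ : ↥(QAut ⇑Q)) {r : ℕ} (hr : 0 < r)
    (hσ : orderOf σ.1 = r)
    (hlang : ∀ (G : Mι) (μ : Fˣ), (∀ v, Q (G *ᵥ v) = (μ : F) * Q v) → nrmI σ.1 G r = 1 →
      ∃ H H' : Mι, H * H' = 1 ∧ H' * H = 1 ∧ G * smI σ.1 H = H ∧
        ∃ ν : Fˣ, ∀ v, Q (H *ᵥ v) = (ν : F) * Q v)
    (g : ↥(GO Q))
    (hpow : (PhiGO (⇑Q) g * fieldAutPOm (⇑Q) σ : MulAut (Cfsg.POmega F ⇑Q)) ^ r = 1) :
    ∃ h : ↥(GO Q), PhiGO (⇑Q) g * fieldAutPOm (⇑Q) σ =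
      PhiGO (⇑Q) h * fieldAutPOm (⇑Q) σ * (PhiGO (⇑Q) h)⁻¹ := by
  obtain ⟨i0⟩ := ‹Nonempty ι›
  have hσr1 : σ.1 ^ r = 1 := by rw [← hσ]; exact pow_orderOf_eq_one σ.1
  have hσr : σ ^ r = 1 := Subtype.ext hσr1
  rw [pow_PhiGO_mul_fieldq, hσr, fieldAutPOm_one, mul_one, PhiGO_eq_one_iff Q hperf hcent,
    Cfsg.Geo.mem_scalars_iff] at hpow
  obtain ⟨c, hc⟩ := hpow
  rw [nrmGOq_coe] at hc
  set gM : Mι := ((g.1 : GL ι F) : Mι) with hgM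
  have hgg' : gM * (((g.1)⁻¹ : GL ι F) : Mι) = 1 := by
    rw [hgM, ← Units.val_mul, mul_inv_cancel, Units.val_one]
  -- `c` is fixed by `σ`
  have hcfix : Units.map (σ.1 : F →* F) c = c := by
    have h2' : nrmI σ.1 gM (r + 1) = gM * smI σ.1 (nrmI σ.1 gM r) := rfl
    have h3 := nrmI_succ' σ.1 gM r
    rw [hσr1] at h3
    have h4 : smI (1 : F ≃+* F) gM = gM := rfl
    rw [h4, h2', hc, smI_smul_one, Matrix.mul_smul, Matrix.mul_one, Matrix.smul_mul, Matrix.one_mul]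
      at h3
    have h6 : (σ.1 (c : F) - (c : F)) • gM = 0 := by rw [sub_smul, h3, sub_self]
    have h7 : (σ.1 (c : F) - (c : F)) • (gM * (((g.1)⁻¹ : GL ι F) : Mι)) = 0 := by
      rw [← Matrix.smul_mul, h6, Matrix.zero_mul]
    rw [hgg'] at h7
    have h8 := congrFun (congrFun h7 i0) i0
    rw [Matrix.smul_apply, Matrix.one_apply_eq, smul_eq_mul, mul_one, Matrix.zero_apply] at h8
    apply Units.ext
    exact sub_eq_zero.1 h8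
  have hcfix' : Units.map (σ.1 : F →* F) c⁻¹ = c⁻¹ := by rw [map_inv, hcfix]
  obtain ⟨l, hl⟩ := nrm_surj σ.1 hr hσ c⁻¹ hcfix'
  have hN : nrmI σ.1 ((l : F) • gM) r = 1 := by
    rw [nrmI_smul, hl, hc, smul_smul, ← Units.val_mul, inv_mul_cancel, Units.val_one, one_smul]
  -- the multiplier of `l • g`
  have hG : ∀ v, Q (((l : F) • gM) *ᵥ v) = ((l * l * mult Q g : Fˣ) : F) * Q v := by
    intro v
    rw [Matrix.smul_mulVec, QuadraticMap.map_smul, mult_spec Q g v, smul_eq_mul, Units.val_mul,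
      Units.val_mul]
    ring
  obtain ⟨H, H', hH1, hH2, hH3, ν, hν⟩ := hlang _ _ hG hN
  let HC : ↥(GO Q) := ⟨⟨H, H', hH1, hH2⟩, ⟨ν, hν⟩⟩
  refine ⟨HC, ?_⟩
  have h1 : g * sigmaGO (⇑Q) σ HC * scGO Q l = HC := by
    apply Subtype.ext
    apply Units.ext
    show gM * smI σ.1 H * (((scGO Q l : ↥(GO Q)) : GL ι F) : Mι) = H
    rw [scGO_coe, Matrix.mul_smul, Matrix.mul_one, ← Matrix.smul_mul]
    exact hH3
  have h9 : PhiGO (⇑Q) g = PhiGO (⇑Q) HC *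
      (PhiGO (⇑Q) (sigmaGO (⇑Q) σ HC))⁻¹ := by
    have h2' := congrArg (PhiGO (⇑Q)) h1
    rw [map_mul, map_mul, PhiGO_scGO Q hperf hcent, mul_one] at h2'
    rw [← h2']
    group
  have h11 : fieldAutPOm (⇑Q) σ * (PhiGO (⇑Q) HC)⁻¹ =
      (PhiGO (⇑Q) (sigmaGO (⇑Q) σ HC))⁻¹ * fieldAutPOm (⇑Q) σ := by
    rw [eq_inv_mul_iff_mul_eq, ← mul_assoc, ← fieldAutPOm_mul_PhiGO, mul_assoc, mul_inv_cancel,
      mul_one]
  rw [mul_assoc (PhiGO (⇑Q) HC), h11, ← mul_assoc, ← h9]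

end Gen

/-- (C2) -/
theorem coset_conj_minus {F : Type*} [Field F] [Fintype F] {m : ℕ} (hm : 3 ≤ m) (a b : F)
    (hab : ∀ z₁ z₂ : F, z₁ ^ 2 + a * z₁ * z₂ + b * z₂ ^ 2 = 0 → z₁ = 0 ∧ z₂ = 0)
    (σ : F ≃+* F) (ha : σ a = a) (hb : σ b = b) (hσQ : σ ∈ QAut ⇑(stdMinus F m a b))
    {r : ℕ} (hr : 0 < r) (hσ : orderOf σ = r) (g : ↥(GO (stdMinus F m a b)))
    (hpow : (PhiGO ⇑(stdMinus F m a b) g * fieldAutPOm ⇑(stdMinus F m a b) ⟨σ, hσQ⟩) ^ r = 1) :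
    ∃ h : ↥(GO (stdMinus F m a b)),
      PhiGO ⇑(stdMinus F m a b) g * fieldAutPOm ⇑(stdMinus F m a b) ⟨σ, hσQ⟩ =
        PhiGO ⇑(stdMinus F m a b) h * fieldAutPOm ⇑(stdMinus F m a b) ⟨σ, hσQ⟩ *
          (PhiGO ⇑(stdMinus F m a b) h)⁻¹ := by
  have : Nonempty ((Fin m ⊕ Fin m) ⊕ Fin 2) := ⟨Sum.inr 0⟩
  refine coset_conj_of_lang (stdMinus F m a b) (minus_hperf hm a b hab) (minus_hcent hm a b)
    ⟨σ, hσQ⟩ hr hσ ?_ g hpow
  intro G μ hG hN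
  have hG' : ∀ v, Cfsg.quadFormMinus m F a b (G *ᵥ v) = (μ : F) * Cfsg.quadFormMinus m F a b v := by
    intro v
    have := hG v
    rwa [stdMinus_apply, stdMinus_apply] at this
  obtain ⟨H, H', h1, h2, h3, ν, hν⟩ :=
    Cfsg.Agent.Helper62.OMF.lang_minus m a b hab σ ha hb hr hσ G μ hG' hN
  refine ⟨H, H', h1, h2, h3, ν, ?_⟩
  intro v
  rw [stdMinus_apply, stdMinus_apply]
  exact hν v

end Cfsg.Agent.Helper5.OMF
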