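import Mathlib
import Cfsg.Agent.Lib.Helper5.OMFChar2
import Cfsg.Agent.Lib.Helper5.OrthLag12
import Cfsg.Agent.Lib.Helper40.OrthEvenTwist

/-!
# `Inndiag(PΩ⁻)` as the image of the class-preserving similarities (every characteristic);
the index-two fix-up; compatibility with subfields
-/

set_option autoImplicit false
set_option linter.unusedSectionVars false
set_option linter.unusedSimpArgs false
set_option linter.unusedVariables false

namespace Cfsg.Agent.Helper5.OMF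

open Module QuadraticMap Matrix Cfsg.Agent.Helper43 Cfsg.Agent.Helper44
  Cfsg.Agent.Helper5.OrthAut Cfsg.Agent.Helper5.OrthLag Cfsg.Agent.Helper5.OrthPar
  Cfsg.Agent.Helper40.AutPOm

universe u

section bc

variable {F₀ : Type*} [Field F₀] {F : Type*} [Field F] {ι : Type} [Fintype ι] [DecidableEq ι]

/-- base change of similarities, every characteristic -/
theorem emb_sim (emb : F₀ →+* F) (Q₀ : QuadraticForm F₀ (ι → F₀)) (Q : QuadraticForm F (ι → F))
    (hB : IsBC emb ⇑Q₀ ⇑Q) (g₀ : GL ι F₀) (hg₀ : g₀ ∈ GO Q₀) (v : ι → F) :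
    Q (((g₀ : Matrix ι ι F₀).map emb) *ᵥ v) = emb (mult Q₀ ⟨g₀, hg₀⟩ : F₀) * Q v := by
  have key : Q.comp (Matrix.toLin' ((g₀ : Matrix ι ι F₀).map emb)) =
      (emb (mult Q₀ ⟨g₀, hg₀⟩ : F₀)) • Q := by
    apply Cfsg.Agent.Helper40.OrthEven.ext_rational emb
    intro w
    rw [QuadraticMap.comp_apply, Matrix.toLin'_apply, ← mapV_mulVec, _root_.smul_apply, hB, hB,
      smul_eq_mul, ← map_mul]
    congr 1
    exact mult_spec Q₀ ⟨g₀, hg₀⟩ w
  have := congrArg (fun q : QuadraticForm F (ι → F) => q v) key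
  simpa [QuadraticMap.comp_apply, Matrix.toLin'_apply] using this

theorem emb_mem_GO' (emb : F₀ →+* F) (Q₀ : QuadraticForm F₀ (ι → F₀)) (Q : QuadraticForm F (ι → F))
    (hB : IsBC emb ⇑Q₀ ⇑Q) (g₀ : GL ι F₀) (hg₀ : g₀ ∈ GO Q₀) :
    Matrix.GeneralLinearGroup.map emb g₀ ∈ GO Q := by
  refine ⟨Units.map (emb : F₀ →* F) (mult Q₀ ⟨g₀, hg₀⟩), fun v => ?_⟩
  exact emb_sim emb Q₀ Q hB g₀ hg₀ v

end bc

variable {F : Type u} [Field F] [Fintype F]

local notation "MM" m => Matrix ((Fin m ⊕ Fin m) ⊕ Fin 2) ((Fin m ⊕ Fin m) ⊕ Fin 2) F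
local notation "GG" m => GL ((Fin m ⊕ Fin m) ⊕ Fin 2) F

theorem two_eq_zero_of_not_odd (h : ¬ Odd (Fintype.card F)) : (2 : F) = 0 := by
  rw [Nat.not_odd_iff_even, Nat.even_iff] at h
  have h1 := FiniteField.even_card_iff_char_two.2 h
  have : CharP F 2 := by
    have := ringChar.charP F
    rwa [h1] at this
  exact CharTwo.two_eq_zero

/-- characteristic two: a similarity is a scalar times an isometry -/
theorem exists_scl_mul_iso_char2 (h2 : (2 : F) = 0) {ι : Type} [Fintype ι] [DecidableEq ι]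
    (Q : QuadraticForm F (ι → F)) (g : GL ι F) (hg : g ∈ GO Q) :
    ∃ (c : Fˣ) (h : GL ι F), h ∈ Cfsg.isometryGroup F ⇑Q ∧ g = sclHom c * h := by
  have hchar : ringChar F = 2 := by
    have : CharP F 2 := CharTwo.of_one_ne_zero_of_two_eq_zero one_ne_zero h2
    exact ringChar.eq F 2
  obtain ⟨c, hc⟩ := FiniteField.isSquare_of_char_two hchar ((mult Q ⟨g, hg⟩ : Fˣ) : F)
  have hc0 : c ≠ 0 := by
    rintro rfl
    rw [mul_zero] at hc
    exact Units.ne_zero _ hc
  refine ⟨Units.mk0 c hc0, (sclHom (Units.mk0 c hc0))⁻¹ * g, ?_, ?_⟩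
  · rw [mem_iso_iff]
    intro v
    have h1 : (((sclHom (Units.mk0 c hc0))⁻¹ * g : GL ι F) : Matrix ι ι F) *ᵥ v =
        (c⁻¹ : F) • ((g : Matrix ι ι F) *ᵥ v) := by
      rw [Units.val_mul, ← map_inv, sclHom_coe, Matrix.smul_mul, Matrix.one_mul,
        Matrix.smul_mulVec]
      rfl
    rw [h1, QuadraticMap.map_smul]
    have h3 := mult_spec Q ⟨g, hg⟩ v
    change Q ((g : Matrix ι ι F) *ᵥ v) = _ at h3
    rw [h3, hc, smul_eq_mul]
    field_simp
  · rw [← mul_assoc, mul_inv_cancel, one_mul]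

/-- every characteristic: `Inndiag` of the minus form is the image of the class-preserving
similarities -/
theorem mem_inndiag_std_iff {m : ℕ} (hm : 3 ≤ m) (a b : F)
    (hab : ∀ z₁ z₂ : F, z₁ ^ 2 + a * z₁ * z₂ + b * z₂ ^ 2 = 0 → z₁ = 0 ∧ z₂ = 0)
    (β : MulAut (Cfsg.POmega F ⇑(stdMinus F m a b))) :
    β ∈ Cfsg.autSubgroupOf (fun β : Cfsg.POmega F ⇑(stdMinus F m a b) ≃*
        Cfsg.POmega F ⇑(stdMinus F m a b) =>
      ∃ g : GL ((Fin m ⊕ Fin m) ⊕ Fin 2) F,
        g ∈ Cfsg.Geo.quadSimilarityGroup (F := F) ⇑(stdMinus F m a b) ∧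
        Cfsg.PreservesSingularClassesMinus m a b (g : MM m) ∧
        Cfsg.IsInducedBySemilinearPOmega ⇑(stdMinus F m a b) g (RingEquiv.refl F) β) ↔
    ∃ g : ↥(GO (stdMinus F m a b)),
      Cfsg.PreservesSingularClassesMinus m a b ((g : GG m) : MM m) ∧
        β = PhiGO ⇑(stdMinus F m a b) g := by
  classical
  have hab' : AnisoPair a b := hab
  constructor
  · intro hβ
    by_cases hodd : Odd (Fintype.card F)
    · have hQ0 := hQ0_of_hyp (stdMinus F m a b) (stdMinus_isHypFamily F m a b) (by omega)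
      rw [inndiag_minus_aux hodd m a b hab hQ0] at hβ
      obtain ⟨g, hg, rfl⟩ := hβ
      have hg' : g.1 ∈ GO1 (stdMinus F m a b) hQ0 (m + 1) := hg
      obtain ⟨hgGO, hd⟩ := (mem_GO1 _ hQ0 (m + 1) g.1).1 hg'
      exact ⟨⟨g.1, hgGO⟩, (preserves_minus_iff hodd m a b hab hQ0 g.1 hgGO).2 hd, rfl⟩
    · have h2 := two_eq_zero_of_not_odd hodd
      rw [inndiag_char2_aux h2 hm a b hab, inn_eq] at hβ
      obtain ⟨g, hg, rfl⟩ := hβ
      have hg' : g.1 ∈ OmGL ⇑(stdMinus F m a b) := hg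
      have hgGO : g.1 ∈ GO (stdMinus F m a b) := iso_le_sim _ (OmGL_le_iso _ hg')
      exact ⟨⟨g.1, hgGO⟩, (preserves_iff_char2 h2 (by omega) a b hab g.1 hgGO).2
        ⟨1, g.1, hg', by rw [map_one, one_mul]⟩, rfl⟩
  · rintro ⟨g, hP, rfl⟩
    apply Subgroup.subset_closure
    exact ⟨g.1, g.2, hP, (induced_iff _ ⟨g.1, sim_le_NO _ g.2⟩ _).2 rfl⟩

/-- every characteristic: a similarity, or its product with a reflection, preserves the classes -/
theorem preserves_or_mul_refl {m : ℕ} (hm : 3 ≤ m) (a b : F)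
    (hab : ∀ z₁ z₂ : F, z₁ ^ 2 + a * z₁ * z₂ + b * z₂ ^ 2 = 0 → z₁ = 0 ∧ z₂ = 0)
    (H ρ : ↥(GO (stdMinus F m a b))) (u : (Fin m ⊕ Fin m) ⊕ Fin 2 → F)
    (hu : stdMinus F m a b u ≠ 0)
    (hρ : ((ρ : GG m) : MM m) = Cfsg.reflectionMatrix ⇑(stdMinus F m a b) u) :
    Cfsg.PreservesSingularClassesMinus m a b ((H : GG m) : MM m) ∨
      Cfsg.PreservesSingularClassesMinus m a b (((H * ρ : ↥(GO (stdMinus F m a b))) : GG m) : MM m) := by
  classical
  have hab' : AnisoPair a b := hab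
  have hnd := stdMinus_nondegenerate (F := F) m hab'
  have hcard := card_Im m
  by_cases hodd : Odd (Fintype.card F)
  · have h2 := two_ne_zero_of_odd_card hodd
    have hQ0 := hQ0_of_hyp (stdMinus F m a b) (stdMinus_isHypFamily F m a b) (by omega)
    have hcard' : Fintype.card ((Fin m ⊕ Fin m) ⊕ Fin 2) = 2 * (m + 1) := by rw [hcard]; ring
    rw [preserves_minus_iff hodd m a b hab hQ0 _ H.2,
      preserves_minus_iff hodd m a b hab hQ0 _ (H * ρ).2]
    have e1 : (⟨(H : GG m), H.2⟩ : ↥(GO (stdMinus F m a b))) = H := rfl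
    have e2 : (⟨((H * ρ : ↥(GO (stdMinus F m a b))) : GG m), (H * ρ).2⟩ :
        ↥(GO (stdMinus F m a b))) = H * ρ := rfl
    rw [e1, e2, ← dZ_eq_one_iff (stdMinus F m a b) hQ0 hnd (m + 1) hcard' h2,
      ← dZ_eq_one_iff (stdMinus F m a b) hQ0 hnd (m + 1) hcard' h2, map_mul]
    have hρ1 : dZ (stdMinus F m a b) hQ0 hnd (m + 1) hcard' h2 ρ = -1 := by
      rcases Int.units_eq_one_or (dZ (stdMinus F m a b) hQ0 hnd (m + 1) hcard' h2 ρ) with h | h
      · exfalso
        rw [dZ_eq_one_iff] at h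
        have h' := congrArg (fun u : Fˣ => (u : F)) h
        simp only [dHom_coe, Units.val_one] at h'
        have hmu : mult (stdMinus F m a b) ρ = 1 := by
          apply mult_unique _ hQ0
          intro v
          rw [Units.val_one, one_mul]
          show stdMinus F m a b (((ρ : GG m) : MM m) *ᵥ v) = _
          rw [hρ, Cfsg.Agent.Helper13.reflectionMatrix_mulVec, ← Cfsg.Agent.Helper44.reflLin_apply,
            Cfsg.Agent.Helper44.Q_reflLin _ u v hu]
        rw [hmu, Units.val_one, one_pow, inv_one, mul_one] at h'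
        have hdet : (gmat (stdMinus F m a b) ρ).det = -1 := by
          show (((ρ : GG m) : MM m)).det = -1
          rw [hρ]
          exact reflectionMatrix_det (stdMinus F m a b) hu
        rw [hdet] at h'
        apply h2
        linear_combination -h'
      · exact h
    rw [hρ1]
    rcases Int.units_eq_one_or (dZ (stdMinus F m a b) hQ0 hnd (m + 1) hcard' h2 H) with h | h
    · left; exact h
    · right; rw [h]; rfl
  · have h2 := two_eq_zero_of_not_odd hodd
    have hexc : Fintype.card F ≠ 2 ∨ Fintype.card ((Fin m ⊕ Fin m) ⊕ Fin 2) ≠ 4 := by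
      right; rw [hcard]; intro h4; omega
    have hidx := Cfsg.Agent.Lead.POmegaCard.index_omega_even h2 (stdMinus F m a b) hnd
      (by rw [hcard]; omega) hexc
    obtain ⟨c, h, hh, hHc⟩ := exists_scl_mul_iso_char2 h2 (stdMinus F m a b) H.1 H.2
    have hρiso : (ρ : GG m) ∈ Cfsg.isometryGroup F ⇑(stdMinus F m a b) := by
      rw [mem_iso_iff]
      intro v
      show stdMinus F m a b (((ρ : GG m) : MM m) *ᵥ v) = _
      rw [hρ, Cfsg.Agent.Helper13.reflectionMatrix_mulVec, ← Cfsg.Agent.Helper44.reflLin_apply,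
        Cfsg.Agent.Helper44.Q_reflLin _ u v hu]
    have hρn : (⟨(ρ : GG m), hρiso⟩ : ↥(Cfsg.isometryGroup F ⇑(stdMinus F m a b))) ∉
        Cfsg.Omega F ⇑(stdMinus F m a b) :=
      Cfsg.Agent.Helper43.OMin.refl_not_mem_omega _ hnd hexc u hu _ hρ
    by_cases hmem : (⟨h, hh⟩ : ↥(Cfsg.isometryGroup F ⇑(stdMinus F m a b))) ∈
        Cfsg.Omega F ⇑(stdMinus F m a b)
    · left
      exact (preserves_iff_char2 h2 (by omega) a b hab H.1 H.2).2
        ⟨c, h, (mem_OmGL _ _).2 ⟨⟨⟨h, hh⟩, hmem⟩, rfl⟩, hHc⟩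
    · right
      have hmul : (⟨h, hh⟩ : ↥(Cfsg.isometryGroup F ⇑(stdMinus F m a b))) * ⟨(ρ : GG m), hρiso⟩ ∈
          Cfsg.Omega F ⇑(stdMinus F m a b) := by
        rw [Subgroup.mul_mem_iff_of_index_two hidx]
        exact ⟨fun h' => absurd h' hmem, fun h' => absurd h' hρn⟩
      refine (preserves_iff_char2 h2 (by omega) a b hab _ (H * ρ).2).2
        ⟨c, h * (ρ : GG m), (mem_OmGL _ _).2 ⟨⟨_, hmul⟩, rfl⟩, ?_⟩
      show (H : GG m) * (ρ : GG m) = _
      rw [hHc, mul_assoc]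

end Cfsg.Agent.Helper5.OMF
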