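import Mathlib
import Cfsg.Agent.Lib.Helper5.OAut10
import Cfsg.Agent.Lib.Helper16.OSemi

set_option autoImplicit false
set_option linter.unusedSectionVars false
set_option linter.unusedVariables false

/-!
# The induced map on `N` is a semisimilitude
-/

namespace Cfsg.Agent.Helper5.OAut

open Matrix QuadraticMap Cfsg.Agent.Helper13 Cfsg.Agent.Helper43 Module

variable {F : Type*} [Field F] {ι : Type} [Fintype ι] [DecidableEq ι]
  (Q : QuadraticForm F (ι → F))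

local infixr:73 " ⋆ " => act _

/-- the restriction of `Q` to a submodule -/
def QN (N : Submodule F (ι → F)) : QuadraticForm F ↥N := Q.comp N.subtype

/-- the geometric facts about the perp of a hyperbolic pair `u, v` -/
structure NGeo (u v : ι → F) : Prop where
  non : ∀ {e e' : ι → F}, e ≠ 0 → e' ≠ 0 → Q e = 0 → Q e' = 0 → polar (⇑Q) u e = 0 →
    polar (⇑Q) v e = 0 → polar (⇑Q) u e' = 0 → polar (⇑Q) v e' = 0 →
    ∃ t, Q t = 0 ∧ polar (⇑Q) u t = 0 ∧ polar (⇑Q) v t = 0 ∧ polar (⇑Q) e t ≠ 0 ∧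
      polar (⇑Q) e' t ≠ 0
  conn : ∀ {w w' : ι → F}, w ≠ 0 → w' ≠ 0 → Q w = 0 → Q w' = 0 → polar (⇑Q) u w = 0 →
    polar (⇑Q) v w = 0 → polar (⇑Q) u w' = 0 → polar (⇑Q) v w' = 0 →
    ∃ z, Q z = 0 ∧ polar (⇑Q) u z = 0 ∧ polar (⇑Q) v z = 0 ∧ polar (⇑Q) z w = 0 ∧
      polar (⇑Q) z w' = 0 ∧ (∀ c : F, z ≠ c • w) ∧ (∀ c : F, z ≠ c • w')
  span : ∀ {x : ι → F}, polar (⇑Q) u x = 0 → polar (⇑Q) v x = 0 →
    x ∈ Submodule.span F {w : ι → F | Q w = 0 ∧ polar (⇑Q) u w = 0 ∧ polar (⇑Q) v w = 0}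
  perp : ∀ {e : ι → F}, e ≠ 0 → Q e = 0 → polar (⇑Q) u e = 0 → polar (⇑Q) v e = 0 →
    ∀ {x : ι → F}, polar (⇑Q) u x = 0 → polar (⇑Q) v x = 0 → polar (⇑Q) e x = 0 →
    x ∈ Submodule.span F {z : ι → F | Q z = 0 ∧ polar (⇑Q) u z = 0 ∧ polar (⇑Q) v z = 0 ∧
      polar (⇑Q) e z = 0}

variable {Q}

theorem NGeo.symm {u v : ι → F} (G : NGeo Q u v) : NGeo Q v u where
  non := fun he0 he0' he he' h1 h2 h3 h4 => by
    obtain ⟨t, ht, h5, h6, h7⟩ := G.non he0 he0' he he' h2 h1 h4 h3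
    exact ⟨t, ht, h6, h5, h7⟩
  conn := fun hw0 hw0' hw hw' h1 h2 h3 h4 => by
    obtain ⟨z, hz, h5, h6, h7⟩ := G.conn hw0 hw0' hw hw' h2 h1 h4 h3
    exact ⟨z, hz, h6, h5, h7⟩
  span := by
    intro x h1 h2
    have := G.span h2 h1
    refine Submodule.span_mono ?_ this
    rintro w ⟨h3, h4, h5⟩
    exact ⟨h3, h5, h4⟩
  perp := by
    intro e he0 he h1 h2 x h3 h4 h5
    have := G.perp he0 he h2 h1 h4 h3 h5
    refine Submodule.span_mono ?_ this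
    rintro w ⟨h6, h7, h8, h9⟩
    exact ⟨h6, h8, h7, h9⟩

theorem QN_apply {N : Submodule F (ι → F)} (x : ↥N) : QN Q N x = Q (x : ι → F) := rfl

theorem polar_QN {N : Submodule F (ι → F)} (x y : ↥N) :
    polar (⇑(QN Q N)) x y = polar (⇑Q) (x : ι → F) (y : ι → F) := rfl

/-- transporting span membership to a submodule -/
theorem span_subtype_of {V : Type*} [AddCommGroup V] [Module F V] {N : Submodule F V}
    {S : Set V} (hS : S ⊆ N) {x : V} (hx : x ∈ Submodule.span F S) (hxN : x ∈ N) :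
    (⟨x, hxN⟩ : ↥N) ∈ Submodule.span F {w : ↥N | (w : V) ∈ S} := by
  have h1 : Submodule.span F S = (Submodule.span F {w : ↥N | (w : V) ∈ S}).map N.subtype := by
    rw [Submodule.map_span]
    congr 1
    ext y
    constructor
    · intro hy
      exact ⟨⟨y, hS hy⟩, hy, rfl⟩
    · rintro ⟨w, hw, rfl⟩
      exact hw
  rw [h1] at hx
  obtain ⟨y, hy, hyx⟩ := hx
  have : y = ⟨x, hxN⟩ := Subtype.ext hyx
  rw [← this]
  exact hy

variable {u v : ι → F} {N : Submodule F (ι → F)}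

theorem hexN [Fintype F] (C : Ctx Q) (P : Pole Q u v N) :
    ∃ w : ↥N, w ≠ 0 ∧ QN Q N w = 0 := by
  obtain ⟨w, hw0, hw, h1, h2⟩ := NG_ex C u v
  exact ⟨⟨w, (P.hN w).mpr ⟨h1, h2⟩⟩, fun h => hw0 (congrArg Subtype.val h), hw⟩

theorem hspanN (P : Pole Q u v N) (G : NGeo Q u v) :
    Submodule.span F {w : ↥N | QN Q N w = 0} = ⊤ := by
  rw [eq_top_iff]
  rintro ⟨x, hx⟩ -
  have h1 := G.span (P.hu_of_mem hx) (P.hv_of_mem hx)
  have h2 := span_subtype_of (N := N)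
    (S := {w : ι → F | Q w = 0 ∧ polar (⇑Q) u w = 0 ∧ polar (⇑Q) v w = 0})
    (fun w hw => (P.hN w).mpr hw.2) h1 hx
  refine Submodule.span_mono ?_ h2
  intro w hw
  exact hw.1

theorem hconnN (P : Pole Q u v N) (G : NGeo Q u v) :
    ∀ w w' : ↥N, w ≠ 0 → w' ≠ 0 → QN Q N w = 0 → QN Q N w' = 0 →
      ∃ z : ↥N, QN Q N z = 0 ∧ polar (⇑(QN Q N)) z w = 0 ∧ polar (⇑(QN Q N)) z w' = 0 ∧
        (∀ c : F, z ≠ c • w) ∧ (∀ c : F, z ≠ c • w') := by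
  intro w w' hw0 hw0' hw hw'
  obtain ⟨z, hz, h1, h2, h3, h4, h5, h6⟩ := G.conn
    (fun h => hw0 (Subtype.ext h)) (fun h => hw0' (Subtype.ext h)) hw hw'
    (P.hu_of_mem w.2) (P.hv_of_mem w.2) (P.hu_of_mem w'.2) (P.hv_of_mem w'.2)
  refine ⟨⟨z, (P.hN z).mpr ⟨h1, h2⟩⟩, hz, h3, h4, fun c h => h5 c ?_, fun c h => h6 c ?_⟩
  · exact congrArg Subtype.val h
  · exact congrArg Subtype.val h

theorem hpartN (C : Ctx Q) (P : Pole Q u v N) :
    ∀ e : ↥N, e ≠ 0 → QN Q N e = 0 → ∃ e' : ↥N, QN Q N e' = 0 ∧ polar (⇑(QN Q N)) e e' = 1 := by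
  intro e he0 he
  obtain ⟨e', he', h1, h2, h3⟩ := NG_part C P.hu P.hv P.huv
    (fun h => he0 (Subtype.ext h)) he (P.hu_of_mem e.2) (P.hv_of_mem e.2)
  exact ⟨⟨e', (P.hN e').mpr ⟨h1, h2⟩⟩, he', h3⟩

theorem hperpN (P : Pole Q u v N) (G : NGeo Q u v) :
    ∀ e : ↥N, e ≠ 0 → QN Q N e = 0 → ∀ x : ↥N, polar (⇑(QN Q N)) e x = 0 →
      x ∈ Submodule.span F {z : ↥N | QN Q N z = 0 ∧ polar (⇑(QN Q N)) e z = 0} := by
  rintro e he0 he ⟨x, hx⟩ hex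
  have h1 := G.perp (fun h => he0 (Subtype.ext h)) he (P.hu_of_mem e.2) (P.hv_of_mem e.2)
    (P.hu_of_mem hx) (P.hv_of_mem hx) hex
  have h2 := span_subtype_of (N := N)
    (S := {z : ι → F | Q z = 0 ∧ polar (⇑Q) u z = 0 ∧ polar (⇑Q) v z = 0 ∧
      polar (⇑Q) (e : ι → F) z = 0})
    (fun w hw => (P.hN w).mpr ⟨hw.2.1, hw.2.2.1⟩) h1 hx
  refine Submodule.span_mono ?_ h2
  intro w hw
  exact ⟨hw.1, hw.2.2.2⟩

theorem hnonN (P : Pole Q u v N) (G : NGeo Q u v) :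
    ∀ e e' : ↥N, e ≠ 0 → e' ≠ 0 → QN Q N e = 0 → QN Q N e' = 0 →
      ∃ t : ↥N, QN Q N t = 0 ∧ polar (⇑(QN Q N)) e t ≠ 0 ∧ polar (⇑(QN Q N)) e' t ≠ 0 := by
  intro e e' he0 he0' he he'
  obtain ⟨t, ht, h1, h2, h3, h4⟩ := G.non
    (fun h => he0 (Subtype.ext h)) (fun h => he0' (Subtype.ext h)) he he'
    (P.hu_of_mem e.2) (P.hv_of_mem e.2) (P.hu_of_mem e'.2) (P.hv_of_mem e'.2)
  exact ⟨⟨t, (P.hN t).mpr ⟨h1, h2⟩⟩, ht, h3, h4⟩

section Fin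

variable [Fintype F]

/-- the induced map is semilinear -/
theorem fmap_semilinear {p : ℕ} [Fact p.Prime] [CharP F p] (C : Ctx Q) (P : Pole Q u v N)
    (G : NGeo Q u v) (α : Cfsg.POmega F ⇑Q ≃* Cfsg.POmega F ⇑Q)
    (hα : (Qb Q u).map α.toMonoidHom = Qb Q u) :
    ∃ σ : F ≃+* F, ∀ (c : F) (w : ↥N), fmap C P α hα (c • w) = σ c • fmap C P α hα w :=
  Cfsg.Agent.Helper16.OSemi.semilinear_of_singular_lines (QN Q N) (hexN C P) (hspanN P G)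
    (hconnN P G) (fmap C P α hα) (fmap_injective C P α hα)
    (fun w hw c => fmap_hline (p := p) C P α hα w hw c)
    (fun w hw c' => fmap_hline' (p := p) C P α hα w hw c')

theorem fmap_sing {p : ℕ} [Fact p.Prime] [CharP F p] (C : Ctx Q) (P : Pole Q u v N)
    (α : Cfsg.POmega F ⇑Q ≃* Cfsg.POmega F ⇑Q)
    (hα : (Qb Q u).map α.toMonoidHom = Qb Q u) (w : ↥N) (hw : QN Q N w = 0) :
    QN Q N (fmap C P α hα w) = 0 := by
  by_cases hw0 : w = 0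
  · subst hw0
    rw [map_zero, map_zero]
  · exact (fline (p := p) C P α hα hw0 hw).1

/-- the induced map is a semisimilitude -/
theorem fmap_semisim {p : ℕ} [Fact p.Prime] [CharP F p] (C : Ctx Q) (P : Pole Q u v N)
    (G : NGeo Q u v) (α : Cfsg.POmega F ⇑Q ≃* Cfsg.POmega F ⇑Q)
    (hα : (Qb Q u).map α.toMonoidHom = Qb Q u) (σ : F ≃+* F)
    (hσ : ∀ (c : F) (w : ↥N), fmap C P α hα (c • w) = σ c • fmap C P α hα w) :
    ∃ μ : F, ∀ w : ↥N, Q (fmap C P α hα w : ι → F) = μ * σ (Q (w : ι → F)) :=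
  Cfsg.Agent.Helper16.OSemi.semisim_of_singular (QN Q N) (fmap C P α hα) σ hσ
    (fmap_sing (p := p) C P α hα) (hspanN P G) (hpartN C P) (hperpN P G) (hnonN P G)

end Fin

/-- a semisimilitude scales the polar form -/
theorem polar_of_semisim {N : Submodule F (ι → F)} (f : ↥N →+ ↥N) (σ : F ≃+* F) (μ : F)
    (hμ : ∀ w : ↥N, Q (f w : ι → F) = μ * σ (Q (w : ι → F))) (x y : ↥N) :
    polar (⇑Q) (f x : ι → F) (f y : ι → F)
      = μ * σ (polar (⇑Q) (x : ι → F) (y : ι → F)) := by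
  have h1 := hμ (x + y)
  rw [map_add, Submodule.coe_add, Submodule.coe_add] at h1
  unfold polar
  rw [h1, hμ x, hμ y, map_sub, map_sub]
  ring

end Cfsg.Agent.Helper5.OAut
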