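import Mathlib
import Cfsg.Agent.Lib.Helper5.OAut11

set_option autoImplicit false
set_option linter.unusedSectionVars false
set_option linter.unusedVariables false

/-!
# Comparing the maps induced on `N` from the two poles `u` and `v`
-/

namespace Cfsg.Agent.Helper5.OAut

open Matrix QuadraticMap Cfsg.Agent.Helper13 Cfsg.Agent.Helper43 Module

variable {F : Type*} [Field F] {ι : Type} [Fintype ι] [DecidableEq ι]
  {Q : QuadraticForm F (ι → F)} {u v : ι → F} {N : Submodule F (ι → F)}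

local infixr:73 " ⋆ " => act _

/-- `E u w` and `E v w` commute for singular `w` perpendicular to `u, v` -/
theorem E_comm_of_common (C : Ctx Q) {u v w : ι → F} (hu : Q u = 0) (hv : Q v = 0)
    (hw : Q w = 0) (huw : polar (⇑Q) u w = 0) (hvw : polar (⇑Q) v w = 0) :
    E Q u w * E Q v w = E Q v w * E Q u w := by
  have hwu : polar (⇑Q) w u = 0 := by rw [polar_comm, huw]
  have hwv : polar (⇑Q) w v = 0 := by rw [polar_comm, hvw]
  rw [E_swap C hu hw huw, E_swap C hv hw hvw,
    E_mul C hw (by rw [polar_neg_right, hwu, neg_zero]) (by rw [polar_neg_right, hwv, neg_zero]),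
    E_mul C hw (by rw [polar_neg_right, hwv, neg_zero]) (by rw [polar_neg_right, hwu, neg_zero]),
    add_comm]

section Fin

variable [Fintype F]

/-- commuting elements of the two opposite radicals have proportional coordinates -/
theorem prop_of_comm (C : Ctx Q) (P : Pole Q u v N) {a b : ι → F} (ha : a ∈ N) (hb : b ∈ N)
    (hQa : Q a = 0) (hQb : Q b = 0) (ha0 : a ≠ 0)
    (hcomm : eb Q u a * eb Q v b = eb Q v b * eb Q u a) : ∃ c : F, b = c • a := by
  have hua := P.hu_of_mem ha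
  have hva := P.hv_of_mem ha
  have hub := P.hu_of_mem hb
  have hvb := P.hv_of_mem hb
  obtain ⟨x0, hx0, -, h1, h2, h3, h4⟩ := NG_ex4 C u v a b
  have hE : E Q u a * E Q v b = E Q v b * E Q u a := by
    have hc : prj Q (E Q u a * E Q v b) = prj Q (E Q v b * E Q u a) := by
      rw [map_mul, map_mul]
      exact hcomm
    apply eq_of_prj_eq C hc hx0
    · rw [act_mul, E_fix_of_perp C P.hv hvb h2 h4, E_fix_of_perp C P.hu hua h1 h3]
    · rw [act_mul, E_fix_of_perp C P.hu hua h1 h3, E_fix_of_perp C P.hv hvb h2 h4]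
  obtain ⟨x, hx, hux, hvx, hax⟩ := NG_part C P.hu P.hv P.huv ha0 hQa hua hva
  have hbu : polar (⇑Q) b u = 0 := by rw [polar_comm, hub]
  have hbv : polar (⇑Q) b v = 0 := by rw [polar_comm, hvb]
  have hau : polar (⇑Q) a u = 0 := by rw [polar_comm, hua]
  have hav : polar (⇑Q) a v = 0 := by rw [polar_comm, hva]
  have k1 : E Q v b ⋆ x = x - polar (⇑Q) b x • v := by
    rw [E_act C P.hv hvb, hvx, hQb]; module
  have k2 : E Q u a ⋆ x = x - u := by
    rw [E_act C P.hu hua, hux, hQa, hax]; module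
  have k3 : E Q u a ⋆ v = v + a := by
    rw [E_act C P.hu hua, P.huv, hQa, hav]; module
  have k4 : E Q v b ⋆ u = u + b := by
    rw [E_act C P.hv hvb, P.hvu, hQb, hbu]; module
  have h5 := congrArg (fun g => g ⋆ x) hE
  simp only [act_mul] at h5
  rw [k1, k2, act_sub, act_sub, act_smul, k2, k3, k1, k4] at h5
  refine ⟨polar (⇑Q) b x, ?_⟩
  have h6 : b - polar (⇑Q) b x • a
      = (x - u - polar (⇑Q) b x • (v + a)) - (x - polar (⇑Q) b x • v - (u + b)) := by module
  rw [h5, sub_self, sub_eq_zero] at h6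
  exact h6

/-- two additive semilinear injections, proportional on singular vectors, are proportional -/
theorem prop_const {V : Type*} [AddCommGroup V] [Module F V] (q : QuadraticForm F V)
    (hex : ∃ w : V, w ≠ 0 ∧ q w = 0)
    (hspan : Submodule.span F {w : V | q w = 0} = ⊤)
    (hconn : ∀ w w' : V, w ≠ 0 → w' ≠ 0 → q w = 0 → q w' = 0 →
      ∃ z : V, q z = 0 ∧ polar q z w = 0 ∧ polar q z w' = 0 ∧
        (∀ c : F, z ≠ c • w) ∧ (∀ c : F, z ≠ c • w'))
    (f f' : V →+ V) (σ σ' : F ≃+* F) (hinj : Function.Injective f)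
    (hinj' : Function.Injective f')
    (hσ : ∀ (c : F) (w : V), f (c • w) = σ c • f w)
    (hσ' : ∀ (c : F) (w : V), f' (c • w) = σ' c • f' w)
    (hprop : ∀ w, q w = 0 → ∃ c : F, f' w = c • f w) :
    ∃ κ : F, ∀ w, f' w = κ • f w := by
  have hline' : ∀ w, q w = 0 → ∀ c' : F, ∃ c : F, f (c • w) = c' • f w :=
    fun w _ c' => ⟨σ.symm c', by rw [hσ, σ.apply_symm_apply]⟩
  have step1 : ∀ {w z : V}, q w = 0 → q z = 0 → w ≠ 0 → polar q z w = 0 →
      (∀ c : F, z ≠ c • w) → ∀ {c1 c2 : F}, f' w = c1 • f w → f' z = c2 • f z → c1 = c2 := by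
    intro w z hw hz hw0 hp hzw c1 c2 h1 h2
    have hzw' : q (z + w) = 0 := by
      rw [QuadraticMap.map_add q z w, hz, hw, hp]; simp
    obtain ⟨c3, h3⟩ := hprop (z + w) hzw'
    rw [map_add, map_add, h1, h2, smul_add] at h3
    have h4 : (c2 - c3) • f z + (c1 - c3) • f w = 0 := by
      have : (c2 - c3) • f z + (c1 - c3) • f w
          = (c2 • f z + c1 • f w) - (c3 • f z + c3 • f w) := by module
      rw [this, h3, sub_self]
    obtain ⟨e1, e2⟩ := Cfsg.Agent.Helper16.OSemi.indep_image q f hinj hline' hw hz hw0 hzw h4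
    rw [sub_eq_zero] at e1 e2
    rw [e2, e1]
  obtain ⟨w0, hw00, hw0⟩ := hex
  obtain ⟨κ, hκ⟩ := hprop w0 hw0
  have hsing : ∀ w, q w = 0 → f' w = κ • f w := by
    intro w hw
    by_cases hw1 : w = 0
    · subst hw1; simp
    obtain ⟨c, hc⟩ := hprop w hw
    obtain ⟨z, hz, hp, hp', hzw, hzw'⟩ := hconn w w0 hw1 hw00 hw hw0
    obtain ⟨cz, hcz⟩ := hprop z hz
    have e1 := step1 hw hz hw1 hp hzw hc hcz
    have e2 := step1 hw0 hz hw00 hp' hzw' hκ hcz
    rw [hc, e1, ← e2]
  have hκ0 : κ ≠ 0 := by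
    rintro rfl
    rw [zero_smul] at hκ
    exact hw00 (hinj' (by rw [hκ, map_zero]))
  have hfw0 : f w0 ≠ 0 := fun h => hw00 (hinj (by rw [h, map_zero]))
  have hσσ : ∀ c, σ' c = σ c := by
    intro c
    have h1 : q (c • w0) = 0 := by rw [QuadraticMap.map_smul, hw0, smul_zero]
    have h2 := hsing (c • w0) h1
    rw [hσ', hσ, hκ, smul_smul, smul_smul] at h2
    have h3 : (σ' c * κ - κ * σ c) • f w0 = 0 := by rw [sub_smul, h2, sub_self]
    rcases smul_eq_zero.mp h3 with h | h
    · have : σ' c * κ = σ c * κ := by rw [mul_comm (σ c)]; exact sub_eq_zero.mp h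
      exact mul_right_cancel₀ hκ0 this
    · exact absurd h hfw0
  refine ⟨κ, fun w => ?_⟩
  have hw : w ∈ Submodule.span F {w : V | q w = 0} := by rw [hspan]; trivial
  induction hw using Submodule.span_induction with
  | mem x hx => exact hsing x hx
  | zero => simp
  | add x y _ _ hx hy => rw [map_add, map_add, hx, hy, smul_add]
  | smul c x _ hx => rw [hσ', hσ, hx, hσσ, smul_comm]

/-- the basic relation between the two coordinate maps -/
theorem rel_one (C : Ctx Q) (P : Pole Q u v N) (α : Cfsg.POmega F ⇑Q ≃* Cfsg.POmega F ⇑Q)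
    {w w' a b : ι → F} (hw : w ∈ N) (hw' : w' ∈ N) (ha : a ∈ N) (hb : b ∈ N)
    (hQw : Q w = 0) (hQw' : Q w' = 0) (hww' : polar (⇑Q) w w' = 1) (hQa : Q a = 0)
    (hQb : Q b = 0) (ha0 : a ≠ 0) (h1 : α (eb Q u w) = eb Q u a)
    (h2 : α (eb Q v w') = eb Q v b) : polar (⇑Q) a b = 1 := by
  have huw := P.hu_of_mem hw
  have hvw := P.hv_of_mem hw
  have huw' := P.hu_of_mem hw'
  have hvw' := P.hv_of_mem hw'
  have hua := P.hu_of_mem ha
  have hva := P.hv_of_mem ha
  have hub := P.hu_of_mem hb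
  have hvb := P.hv_of_mem hb
  have hwu := P.hu_of_mem' hw
  have hwv := P.hv_of_mem' hw
  have hw'u := P.hu_of_mem' hw'
  have hw'v := P.hv_of_mem' hw'
  have hau := P.hu_of_mem' ha
  have hav := P.hv_of_mem' ha
  have hbu := P.hu_of_mem' hb
  have hbv := P.hv_of_mem' hb
  have hw'w : polar (⇑Q) w' w = 1 := by rw [polar_comm, hww']
  have hww : polar (⇑Q) w w = 0 := polar_self_of_sing Q w hQw
  have haa : polar (⇑Q) a a = 0 := polar_self_of_sing Q a hQa
  set t := polar (⇑Q) a b with ht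
  have hba : polar (⇑Q) b a = t := by rw [polar_comm]
  -- the relation in `Ω`
  set g := E Q u w * E Q v w' * E Q u w with hg
  have j2 : E Q v w' ⋆ u = u + w' := by
    rw [E_act C P.hv hvw', P.hvu, hQw', hw'u]; module
  have j3 : E Q u w ⋆ w' = w' - u := by
    rw [E_act C P.hu huw, huw', hww', hQw]; module
  have j4 : E Q u w ⋆ w = w := by
    rw [E_act C P.hu huw, huw, hww, hQw]; module
  have j5 : E Q v w' ⋆ w = w - v := by
    rw [E_act C P.hv hvw', hvw, hw'w, hQw']; module
  have j6 : E Q u w ⋆ v = v + w := by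
    rw [E_act C P.hu huw, P.huv, hQw, hwv]; module
  have hgu : g ⋆ u = w' := by
    rw [hg, act_mul, act_mul, E_fix_left C P.hu huw, j2, act_add, E_fix_left C P.hu huw, j3]
    abel
  have hgw : g ⋆ w = -v := by
    rw [hg, act_mul, act_mul, j4, j5, act_sub, j4, j6]
    abel
  have hrel : g * E Q u w * g⁻¹ = E Q v w' := by
    rw [E_conj C g P.hu huw, hgu, hgw, ← E_swap C P.hv hQw' hvw']
  -- apply `α`
  set g1 := E Q u a * E Q v b * E Q u a with hg1
  have hαg : α (prj Q g) = prj Q g1 := by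
    rw [hg, hg1, map_mul, map_mul, map_mul, map_mul, map_mul, map_mul]
    change α (eb Q u w) * α (eb Q v w') * α (eb Q u w) = eb Q u a * eb Q v b * eb Q u a
    rw [h1, h2]
  have h3 : prj Q (g1 * E Q u a * g1⁻¹) = prj Q (E Q v b) := by
    have := congrArg (fun x => α (prj Q x)) hrel
    simp only [map_mul, map_inv] at this
    rw [hαg] at this
    change prj Q g1 * α (eb Q u w) * (prj Q g1)⁻¹ = α (eb Q v w') at this
    rw [h1, h2] at this
    rw [map_mul, map_mul, map_inv]
    exact this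
  rw [E_conj C g1 P.hu hua] at h3
  have k3 : E Q u a ⋆ v = v + a := by
    rw [E_act C P.hu hua, P.huv, hQa, hav]; module
  have k4 : E Q v b ⋆ u = u + b := by
    rw [E_act C P.hv hvb, P.hvu, hQb, hbu]; module
  have k5 : E Q u a ⋆ b = b - t • u := by
    rw [E_act C P.hu hua, hub, hQa, ← ht]; module
  have k6 : E Q u a ⋆ a = a := by
    rw [E_act C P.hu hua, hua, haa, hQa]; module
  have k7 : E Q v b ⋆ a = a - t • v := by
    rw [E_act C P.hv hvb, hva, hba, hQb]; module
  have hg1u : g1 ⋆ u = u + (b - t • u) := by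
    rw [hg1, act_mul, act_mul, E_fix_left C P.hu hua, k4, act_add, E_fix_left C P.hu hua, k5]
  have hg1a : g1 ⋆ a = a - t • (v + a) := by
    rw [hg1, act_mul, act_mul, k6, k7, act_sub, act_smul, k6, k3]
  have hQp : Q (g1 ⋆ u) = 0 := by rw [Q_act, P.hu]
  have hpq : polar (⇑Q) (g1 ⋆ u) (g1 ⋆ a) = 0 := by rw [polar_act, hua]
  have hQq : Q (g1 ⋆ a) = 0 := by rw [Q_act, hQa]
  -- equality in `Ω`
  obtain ⟨x0, hx0, -, hx1, hx2, hx3, hx4⟩ := NG_ex4 C u v a b
  have hEq : E Q (g1 ⋆ u) (g1 ⋆ a) = E Q v b := by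
    apply eq_of_prj_eq C h3 hx0
    · apply E_fix_of_perp C hQp hpq
      · rw [hg1u, polar_add_left, polar_sub_left, polar_smul_left, hx1, hx4]; simp
      · rw [hg1a, polar_sub_left, polar_smul_left, polar_add_left, hx3, hx2]; simp
    · exact E_fix_of_perp C P.hv hvb hx2 hx4
  have h4 := congrArg (fun x => x ⋆ v) hEq
  simp only [E_fix_left C P.hv hvb] at h4
  rw [E_act C hQp hpq, hQq] at h4
  have hpv : polar (⇑Q) (g1 ⋆ u) v = 1 - t := by
    rw [hg1u, polar_add_left, polar_sub_left, polar_smul_left, P.huv, hbv]; simp; ring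
  have hqv : polar (⇑Q) (g1 ⋆ a) v = 0 := by
    rw [hg1a, polar_sub_left, polar_smul_left, polar_add_left, hav, P.hvv]; simp
  rw [hpv, hqv] at h4
  have h5 : (1 - t) • (g1 ⋆ a) = 0 := by
    have : (1 - t) • (g1 ⋆ a)
        = (v + (1 - t) • (g1 ⋆ a) - (0 : F) • (g1 ⋆ u) - ((0 : F) * (1 - t)) • (g1 ⋆ u)) - v := by
      module
    rw [this, h4, sub_self]
  rcases smul_eq_zero.mp h5 with h | h
  · rw [sub_eq_zero] at h
    exact h.symm
  · exfalso
    rw [hg1a] at h
    have h6 := congrArg (fun x => polar (⇑Q) u x) h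
    simp only [polar_sub_right, polar_smul_right, polar_add_right, hua, P.huv, polar_zero_right,
      smul_eq_mul] at h6
    have ht0 : t = 0 := by
      have : (0 : F) - t * (1 + 0) = -t := by ring
      rw [this, neg_eq_zero] at h6
      exact h6
    rw [ht0, zero_smul, sub_zero] at h
    exact ha0 h

end Fin

end Cfsg.Agent.Helper5.OAut
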