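import Mathlib
import Cfsg.Agent.Lib.Helper5.OAut12

set_option autoImplicit false
set_option linter.unusedSectionVars false
set_option linter.unusedVariables false

/-!
# The semisimilitude data of a normalised automorphism
-/

namespace Cfsg.Agent.Helper5.OAut

open Matrix QuadraticMap Cfsg.Agent.Helper13 Cfsg.Agent.Helper43 Module

variable {F : Type*} [Field F] {ι : Type} [Fintype ι] [DecidableEq ι]
  {Q : QuadraticForm F (ι → F)} {u v : ι → F} {N : Submodule F (ι → F)}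

local infixr:73 " ⋆ " => act _

variable [Fintype F]

/-- the two coordinate maps are proportional on singular vectors -/
theorem fmap_prop_sing {p : ℕ} [Fact p.Prime] [CharP F p] (C : Ctx Q) (P : Pole Q u v N)
    (α : Cfsg.POmega F ⇑Q ≃* Cfsg.POmega F ⇑Q)
    (hαu : (Qb Q u).map α.toMonoidHom = Qb Q u) (hαv : (Qb Q v).map α.toMonoidHom = Qb Q v)
    (w : ↥N) (hw : QN Q N w = 0) :
    ∃ c : F, fmap C P.symm α hαv w = c • fmap C P α hαu w := by
  by_cases hw0 : w = 0
  · subst hw0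
    exact ⟨0, by rw [map_zero, map_zero, smul_zero]⟩
  have hw' : Q (w : ι → F) = 0 := hw
  have h1 : eb Q u w * eb Q v w = eb Q v w * eb Q u w := by
    unfold eb
    rw [← map_mul, ← map_mul,
      E_comm_of_common C P.hu P.hv hw' (P.hu_of_mem w.2) (P.hv_of_mem w.2)]
  have h2 := congrArg α h1
  rw [map_mul, map_mul, fmap_spec C P α hαu, fmap_spec C P.symm α hαv] at h2
  have hf0 : (fmap C P α hαu w : ι → F) ≠ 0 := by
    intro h
    apply hw0
    apply fmap_injective C P α hαu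
    rw [map_zero]
    exact Subtype.ext h
  obtain ⟨c, hc⟩ := prop_of_comm C P (fmap C P α hαu w).2 (fmap C P.symm α hαv w).2
    (fmap_sing (p := p) C P α hαu w hw) (fmap_sing (p := p) C P.symm α hαv w hw) hf0 h2
  exact ⟨c, Subtype.ext hc⟩

/-- the semisimilitude data of an automorphism fixing `Qb u` and `Qb v` -/
theorem exists_semi {p : ℕ} [Fact p.Prime] [CharP F p] (C : Ctx Q) (P : Pole Q u v N)
    (G : NGeo Q u v) (α : Cfsg.POmega F ⇑Q ≃* Cfsg.POmega F ⇑Q)
    (hαu : (Qb Q u).map α.toMonoidHom = Qb Q u) (hαv : (Qb Q v).map α.toMonoidHom = Qb Q v) :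
    ∃ (σ : F ≃+* F) (μ : F) (f : ↥N →+ ↥N), μ ≠ 0 ∧ Function.Injective f ∧
      (∀ (c : F) (w : ↥N), f (c • w) = σ c • f w) ∧
      (∀ w : ↥N, Q (f w : ι → F) = μ * σ (Q (w : ι → F))) ∧
      (∀ w : ↥N, α (eb Q u w) = eb Q u (f w)) ∧
      (∀ w : ↥N, α (eb Q v w) = eb Q v (μ⁻¹ • (f w : ι → F))) := by
  obtain ⟨σ, hσ⟩ := fmap_semilinear (p := p) C P G α hαu
  obtain ⟨σ', hσ'⟩ := fmap_semilinear (p := p) C P.symm G.symm α hαv
  obtain ⟨μ, hμ⟩ := fmap_semisim (p := p) C P G α hαu σ hσ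
  obtain ⟨κ, hκ⟩ := prop_const (QN Q N) (hexN C P) (hspanN P G) (hconnN P G)
    (fmap C P α hαu) (fmap C P.symm α hαv) σ σ' (fmap_injective C P α hαu)
    (fmap_injective C P.symm α hαv) hσ hσ' (fmap_prop_sing (p := p) C P α hαu hαv)
  -- the relation `κ μ = 1`
  obtain ⟨w, hw0, hw⟩ := hexN C P
  obtain ⟨w', hw', hww'⟩ := hpartN C P w hw0 hw
  have hfw0 : (fmap C P α hαu w : ι → F) ≠ 0 := by
    intro h
    apply hw0
    apply fmap_injective C P α hαu
    rw [map_zero]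
    exact Subtype.ext h
  have hrel := rel_one C P α w.2 w'.2 (fmap C P α hαu w).2 (fmap C P.symm α hαv w').2 hw hw' hww'
    (fmap_sing (p := p) C P α hαu w hw) (fmap_sing (p := p) C P.symm α hαv w' hw') hfw0
    (fmap_spec C P α hαu w) (fmap_spec C P.symm α hαv w')
  rw [hκ w', Submodule.coe_smul, polar_smul_right,
    polar_of_semisim (fmap C P α hαu) σ μ hμ w w'] at hrel
  have hww'2 : polar (⇑Q) (w : ι → F) (w' : ι → F) = 1 := hww'
  rw [hww'2, map_one, mul_one, smul_eq_mul] at hrel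
  have hμ0 : μ ≠ 0 := by
    rintro rfl
    rw [mul_zero] at hrel
    exact zero_ne_one hrel
  have hκμ : κ = μ⁻¹ := eq_inv_of_mul_eq_one_left hrel
  refine ⟨σ, μ, fmap C P α hαu, hμ0, fmap_injective C P α hαu, hσ, hμ, fmap_spec C P α hαu, ?_⟩
  intro w
  rw [fmap_spec C P.symm α hαv, hκ w, hκμ]
  rfl

end Cfsg.Agent.Helper5.OAut
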