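import Mathlib
import Cfsg.Agent.Lib.Helper5.OAut13

set_option autoImplicit false
set_option linter.unusedSectionVars false
set_option linter.unusedVariables false

/-!
# Assembling the semisimilitude `L` of the whole space
-/

namespace Cfsg.Agent.Helper5.OAut

open Matrix QuadraticMap Cfsg.Agent.Helper13 Cfsg.Agent.Helper43 Module

variable {F : Type*} [Field F] {ι : Type} [Fintype ι] [DecidableEq ι]
  {Q : QuadraticForm F (ι → F)} {u v : ι → F} {N : Submodule F (ι → F)}

local infixr:73 " ⋆ " => act _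

namespace Pole

/-- the projection to `N` as a function -/
def prN (P : Pole Q u v N) (x : ι → F) : ↥N :=
  ⟨x - polar (⇑Q) v x • u - polar (⇑Q) u x • v, P.proj_mem x⟩

theorem prN_add (P : Pole Q u v N) (x y : ι → F) : P.prN (x + y) = P.prN x + P.prN y := by
  apply Subtype.ext
  show x + y - polar (⇑Q) v (x + y) • u - polar (⇑Q) u (x + y) • v
    = (x - polar (⇑Q) v x • u - polar (⇑Q) u x • v) + (y - polar (⇑Q) v y • u - polar (⇑Q) u y • v)
  rw [polar_add_right, polar_add_right]
  module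

theorem prN_smul (P : Pole Q u v N) (c : F) (x : ι → F) : P.prN (c • x) = c • P.prN x := by
  apply Subtype.ext
  show c • x - polar (⇑Q) v (c • x) • u - polar (⇑Q) u (c • x) • v
    = c • (x - polar (⇑Q) v x • u - polar (⇑Q) u x • v)
  rw [polar_smul_right, polar_smul_right, smul_eq_mul, smul_eq_mul]
  module

theorem decomp (P : Pole Q u v N) (x : ι → F) :
    x = polar (⇑Q) v x • u + polar (⇑Q) u x • v + (P.prN x : ι → F) := by
  show x = polar (⇑Q) v x • u + polar (⇑Q) u x • v
    + (x - polar (⇑Q) v x • u - polar (⇑Q) u x • v)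
  module

theorem Q_decomp (P : Pole Q u v N) (A B : F) {n : ι → F} (hn : n ∈ N) :
    Q (A • u + B • v + n) = A * B + Q n := by
  have h1 : Q (A • u + B • v) = A * B := by
    rw [QuadraticMap.map_add Q (A • u) (B • v), QuadraticMap.map_smul, QuadraticMap.map_smul,
      P.hu, P.hv, polar_smul_left, polar_smul_right, P.huv]
    simp
  rw [QuadraticMap.map_add Q (A • u + B • v) n, h1, polar_add_left, polar_smul_left,
    polar_smul_left, P.hu_of_mem hn, P.hv_of_mem hn]
  simp

theorem polar_u_decomp (P : Pole Q u v N) (A B : F) {n : ι → F} (hn : n ∈ N) :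
    polar (⇑Q) u (A • u + B • v + n) = B := by
  rw [polar_add_right, polar_add_right, polar_smul_right, polar_smul_right, P.huu, P.huv,
    P.hu_of_mem hn]
  simp

theorem polar_v_decomp (P : Pole Q u v N) (A B : F) {n : ι → F} (hn : n ∈ N) :
    polar (⇑Q) v (A • u + B • v + n) = A := by
  rw [polar_add_right, polar_add_right, polar_smul_right, polar_smul_right, P.hvv, P.hvu,
    P.hv_of_mem hn]
  simp

theorem prN_u (P : Pole Q u v N) : P.prN u = 0 := by
  apply Subtype.ext
  show u - polar (⇑Q) v u • u - polar (⇑Q) u u • v = 0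
  rw [P.hvu, P.huu]
  module

theorem prN_v (P : Pole Q u v N) : P.prN v = 0 := by
  apply Subtype.ext
  show v - polar (⇑Q) v v • u - polar (⇑Q) u v • v = 0
  rw [P.hvv, P.huv]
  module

theorem prN_mem (P : Pole Q u v N) (w : ↥N) : P.prN (w : ι → F) = w := by
  apply Subtype.ext
  show (w : ι → F) - polar (⇑Q) v (w : ι → F) • u - polar (⇑Q) u (w : ι → F) • v = w
  rw [P.hv_of_mem w.2, P.hu_of_mem w.2]
  module

end Pole

/-- the semisimilitude of the whole space extending `f` -/
theorem exists_L [Fintype F] (P : Pole Q u v N) (σ : F ≃+* F) (μ : F) (hμ0 : μ ≠ 0)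
    (f : ↥N →+ ↥N) (hinj : Function.Injective f)
    (hσ : ∀ (c : F) (w : ↥N), f (c • w) = σ c • f w)
    (hμ : ∀ w : ↥N, Q (f w : ι → F) = μ * σ (Q (w : ι → F))) :
    ∃ L : (ι → F) ≃+ (ι → F), (∀ (c : F) (x : ι → F), L (c • x) = σ c • L x) ∧
      (∀ x, Q (L x) = μ * σ (Q x)) ∧ L u = μ • u ∧ L v = v ∧
      ∀ w : ↥N, L (w : ι → F) = (f w : ι → F) := by
  let Lf : (ι → F) → (ι → F) := fun x =>
    (μ * σ (polar (⇑Q) v x)) • u + σ (polar (⇑Q) u x) • v + (f (P.prN x) : ι → F)
  have hadd : ∀ x y, Lf (x + y) = Lf x + Lf y := by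
    intro x y
    show (μ * σ (polar (⇑Q) v (x + y))) • u + σ (polar (⇑Q) u (x + y)) • v
        + (f (P.prN (x + y)) : ι → F)
      = ((μ * σ (polar (⇑Q) v x)) • u + σ (polar (⇑Q) u x) • v + (f (P.prN x) : ι → F))
        + ((μ * σ (polar (⇑Q) v y)) • u + σ (polar (⇑Q) u y) • v + (f (P.prN y) : ι → F))
    rw [polar_add_right, polar_add_right, map_add, map_add, P.prN_add, map_add,
      Submodule.coe_add]
    module
  have hsm : ∀ (c : F) x, Lf (c • x) = σ c • Lf x := by
    intro c x
    show (μ * σ (polar (⇑Q) v (c • x))) • u + σ (polar (⇑Q) u (c • x)) • v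
        + (f (P.prN (c • x)) : ι → F)
      = σ c • ((μ * σ (polar (⇑Q) v x)) • u + σ (polar (⇑Q) u x) • v + (f (P.prN x) : ι → F))
    rw [polar_smul_right, polar_smul_right, smul_eq_mul, smul_eq_mul, map_mul, map_mul,
      P.prN_smul, hσ, Submodule.coe_smul]
    module
  have hQ : ∀ x, Q (Lf x) = μ * σ (Q x) := by
    intro x
    show Q ((μ * σ (polar (⇑Q) v x)) • u + σ (polar (⇑Q) u x) • v + (f (P.prN x) : ι → F))
      = μ * σ (Q x)
    rw [P.Q_decomp _ _ (f (P.prN x)).2, hμ]
    conv_rhs => rw [P.decomp x, P.Q_decomp _ _ (P.prN x).2]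
    rw [map_add, map_mul]
    ring
  let La : (ι → F) →+ (ι → F) := AddMonoidHom.mk' Lf hadd
  have hLa : ∀ x, La x = Lf x := fun x => rfl
  have hinjL : Function.Injective La := by
    rw [injective_iff_map_eq_zero]
    intro x hx
    rw [hLa] at hx
    have h1 : polar (⇑Q) u (Lf x) = σ (polar (⇑Q) u x) := P.polar_u_decomp _ _ (f (P.prN x)).2
    have h2 : polar (⇑Q) v (Lf x) = μ * σ (polar (⇑Q) v x) :=
      P.polar_v_decomp _ _ (f (P.prN x)).2
    rw [hx, polar_zero_right] at h1 h2
    have h3 : polar (⇑Q) u x = 0 := by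
      have := h1.symm
      rwa [map_eq_zero_iff σ σ.injective] at this
    have h4 : polar (⇑Q) v x = 0 := by
      rcases mul_eq_zero.mp h2.symm with h | h
      · exact absurd h hμ0
      · rwa [map_eq_zero_iff σ σ.injective] at h
    have h5 : (f (P.prN x) : ι → F) = 0 := by
      have : Lf x = (μ * σ (polar (⇑Q) v x)) • u + σ (polar (⇑Q) u x) • v
        + (f (P.prN x) : ι → F) := rfl
      rw [hx, h3, h4, map_zero, mul_zero, zero_smul, zero_smul, zero_add, zero_add] at this
      exact this.symm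
    have h6 : P.prN x = 0 := by
      apply hinj
      rw [map_zero]
      exact Subtype.ext h5
    have h7 := P.decomp x
    rw [h3, h4, h6, zero_smul, zero_smul, zero_add, zero_add] at h7
    exact h7
  have hsurjL : Function.Surjective La := Finite.injective_iff_surjective.mp hinjL
  refine ⟨AddEquiv.ofBijective La ⟨hinjL, hsurjL⟩, hsm, hQ, ?_, ?_, ?_⟩
  · show (μ * σ (polar (⇑Q) v u)) • u + σ (polar (⇑Q) u u) • v + (f (P.prN u) : ι → F) = μ • u
    rw [P.hvu, P.huu, P.prN_u, map_zero, map_one, map_zero]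
    simp
  · show (μ * σ (polar (⇑Q) v v)) • u + σ (polar (⇑Q) u v) • v + (f (P.prN v) : ι → F) = v
    rw [P.hvv, P.huv, P.prN_v, map_zero, map_one, map_zero]
    simp
  · intro w
    show (μ * σ (polar (⇑Q) v (w : ι → F))) • u + σ (polar (⇑Q) u (w : ι → F)) • v
      + (f (P.prN (w : ι → F)) : ι → F) = (f w : ι → F)
    rw [P.hv_of_mem w.2, P.hu_of_mem w.2, P.prN_mem, map_zero]
    simp

end Cfsg.Agent.Helper5.OAut
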