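import Mathlib
import Cfsg.Agent.Lib.Helper5.OAut14
import Cfsg.Agent.Lib.Helper16.OSemiAut

set_option autoImplicit false
set_option linter.unusedSectionVars false
set_option linter.unusedVariables false

/-!
# A normalised automorphism is induced by a semisimilitude
-/

namespace Cfsg.Agent.Helper5.OAut

open Matrix QuadraticMap Cfsg.Agent.Helper13 Cfsg.Agent.Helper43 Module

variable {F : Type*} [Field F] {ι : Type} [Fintype ι] [DecidableEq ι]
  {Q : QuadraticForm F (ι → F)} {u v : ι → F} {N : Submodule F (ι → F)}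

local infixr:73 " ⋆ " => act _

/-- a semisimilitude scales the polar form -/
theorem polar_semisim (L : (ι → F) ≃+ (ι → F)) (σ : F ≃+* F) (μ : F)
    (hμ : ∀ x, Q (L x) = μ * σ (Q x)) (x y : ι → F) :
    polar (⇑Q) (L x) (L y) = μ * σ (polar (⇑Q) x y) := by
  have h1 := hμ (x + y)
  rw [map_add] at h1
  unfold polar
  rw [h1, hμ x, hμ y, map_sub, map_sub]
  ring

/-- conjugating an Eichler element by a semisimilitude -/
theorem semi_conj (C : Ctx Q) (L : (ι → F) ≃+ (ι → F)) (σ : F ≃+* F) (μ : F) (hμ0 : μ ≠ 0)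
    (hL : ∀ (c : F) (x : ι → F), L (c • x) = σ c • L x)
    (hμ : ∀ x, Q (L x) = μ * σ (Q x)) {a b : ι → F} (ha : Q a = 0)
    (hab : polar (⇑Q) a b = 0) (x : ι → F) :
    E Q (L a) (μ⁻¹ • L b) ⋆ (L x) = L (E Q a b ⋆ x) := by
  have hQLa : Q (L a) = 0 := by rw [hμ, ha, map_zero, mul_zero]
  have hpol : polar (⇑Q) (L a) (μ⁻¹ • L b) = 0 := by
    rw [polar_smul_right, polar_semisim L σ μ hμ, hab, map_zero, mul_zero, smul_zero]
  have s1 : polar (⇑Q) (L a) (L x) = μ * σ (polar (⇑Q) a x) := polar_semisim L σ μ hμ a x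
  have s2 : polar (⇑Q) (μ⁻¹ • L b) (L x) = σ (polar (⇑Q) b x) := by
    rw [polar_smul_left, polar_semisim L σ μ hμ, smul_eq_mul, ← mul_assoc,
      inv_mul_cancel₀ hμ0, one_mul]
  have s3 : Q (μ⁻¹ • L b) = μ⁻¹ * σ (Q b) := by
    rw [QuadraticMap.map_smul, hμ, smul_eq_mul]
    field_simp
  rw [E_act C hQLa hpol, E_act C ha hab, s1, s2, s3, map_sub, map_sub, map_add, hL, hL, hL,
    map_mul, smul_smul]
  have e1 : μ * σ (polar (⇑Q) a x) * μ⁻¹ = σ (polar (⇑Q) a x) := by field_simp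
  have e2 : μ⁻¹ * σ (Q b) * (μ * σ (polar (⇑Q) a x)) = σ (Q b) * σ (polar (⇑Q) a x) := by
    field_simp
  rw [e1, e2]

variable [Fintype F]

/-- an automorphism fixing `Qb u` and `Qb v` lies in `PΓO` -/
theorem mem_gamma_of_normalised {p : ℕ} [Fact p.Prime] [CharP F p] (C : Ctx Q)
    (P : Pole Q u v N) (G : NGeo Q u v) (hgen : Qrad Q u ⊔ Qrad Q v = ⊤)
    (α : Cfsg.POmega F ⇑Q ≃* Cfsg.POmega F ⇑Q)
    (hαu : (Qb Q u).map α.toMonoidHom = Qb Q u) (hαv : (Qb Q v).map α.toMonoidHom = Qb Q v) :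
    α ∈ Cfsg.gammaPOmega F ⇑Q := by
  obtain ⟨σ, μ, f, hμ0, hinj, hσ, hμ, hfu, hfv⟩ := exists_semi (p := p) C P G α hαu hαv
  obtain ⟨L, hL, hLQ, hLu, hLv, hLw⟩ := exists_L P σ μ hμ0 f hinj hσ hμ
  set β : MulAut (Cfsg.POmega F ⇑Q) :=
    Cfsg.Agent.Helper16.OSemiAut.semiAut (⇑Q) σ L hL (Units.mk0 μ hμ0) hLQ with hβ
  have hβmem : β ∈ Cfsg.gammaPOmega F ⇑Q :=
    Cfsg.Agent.Helper16.OSemiAut.semiAut_mem_gamma (⇑Q) σ L hL (Units.mk0 μ hμ0) hLQ
  -- agreement on `Qb u`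
  have hβu : ∀ w : ↥N, β (eb Q u w) = eb Q u (f w) := by
    intro w
    have huw := P.hu_of_mem w.2
    have h1 : E Q (L u) (μ⁻¹ • L (w : ι → F)) = E Q u (f w) := by
      rw [hLu, hLw, E_smul_left C P.hu (by rw [polar_smul_right, P.hu_of_mem (f w).2, smul_zero]),
        smul_smul, mul_inv_cancel₀ hμ0, one_smul]
    apply Cfsg.Agent.Helper16.OSemiAut.semiAut_spec (⇑Q) σ L hL (Units.mk0 μ hμ0) hLQ
      (E Q u w) (E Q u (f w))
    intro x
    have := semi_conj C L σ μ hμ0 hL hLQ P.hu huw x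
    rw [h1] at this
    exact this
  have hβv : ∀ w : ↥N, β (eb Q v w) = eb Q v (μ⁻¹ • (f w : ι → F)) := by
    intro w
    have hvw := P.hv_of_mem w.2
    have h1 : E Q (L v) (μ⁻¹ • L (w : ι → F)) = E Q v (μ⁻¹ • (f w : ι → F)) := by
      rw [hLv, hLw]
    apply Cfsg.Agent.Helper16.OSemiAut.semiAut_spec (⇑Q) σ L hL (Units.mk0 μ hμ0) hLQ
      (E Q v w) (E Q v (μ⁻¹ • (f w : ι → F)))
    intro x
    have := semi_conj C L σ μ hμ0 hL hLQ P.hv hvw x
    rw [h1] at this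
    exact this
  -- generation
  have hle : Qb Q u ⊔ Qb Q v ≤ MonoidHom.eqLocus α.toMonoidHom β.toMonoidHom := by
    apply sup_le
    · intro gb hgb
      obtain ⟨w, hw, rfl⟩ := (mem_Qb_iff C P).mp hgb
      show α (eb Q u w) = β (eb Q u w)
      rw [hfu ⟨w, hw⟩, hβu ⟨w, hw⟩]
    · intro gb hgb
      obtain ⟨w, hw, rfl⟩ := (mem_Qb_iff C P.symm).mp hgb
      show α (eb Q v w) = β (eb Q v w)
      rw [hfv ⟨w, hw⟩, hβv ⟨w, hw⟩]
  have htop : Qb Q u ⊔ Qb Q v = ⊤ := by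
    unfold Qb
    rw [← Subgroup.map_sup, hgen, ← MonoidHom.range_eq_map, MonoidHom.range_eq_top]
    exact prj_surjective
  have hαβ : α = β := by
    apply MulEquiv.ext
    intro x
    have : x ∈ Qb Q u ⊔ Qb Q v := by rw [htop]; trivial
    exact hle this
  rw [hαβ]
  exact hβmem

end Cfsg.Agent.Helper5.OAut
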