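import Mathlib
import Cfsg.Agent.Lib.Helper5.OAut15

set_option autoImplicit false
set_option linter.unusedSectionVars false
set_option linter.unusedVariables false

/-!
# Removing the normalisation: `PΓO` is the full automorphism group
-/

namespace Cfsg.Agent.Helper5.OAut

open Matrix QuadraticMap Cfsg.Agent.Helper13 Cfsg.Agent.Helper43 Module

variable {F : Type*} [Field F] {ι : Type} [Fintype ι] [DecidableEq ι]
  {Q : QuadraticForm F (ι → F)}

local infixr:73 " ⋆ " => act _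

/-- the point radical only depends on the point -/
theorem Qrad_smul (C : Ctx Q) {u : ι → F} (hu : Q u = 0) {c : F} (hc : c ≠ 0) :
    Qrad Q (c • u) = Qrad Q u := by
  unfold Qrad
  congr 1
  ext g
  constructor
  · rintro ⟨w, hw, rfl⟩
    rw [polar_smul_left, smul_eq_mul] at hw
    have hw' : polar (⇑Q) u w = 0 := by
      rcases mul_eq_zero.mp hw with h | h
      · exact absurd h hc
      · exact h
    exact ⟨c • w, by rw [polar_smul_right, hw', smul_zero], E_smul_left C hu hw' c⟩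
  · rintro ⟨w, hw, rfl⟩
    refine ⟨c⁻¹ • w, by rw [polar_smul_left, polar_smul_right, hw, smul_zero, smul_zero], ?_⟩
    rw [E_smul_left C hu (by rw [polar_smul_right, hw, smul_zero]), smul_smul,
      mul_inv_cancel₀ hc, one_smul]

theorem Qb_smul (C : Ctx Q) {u : ι → F} (hu : Q u = 0) {c : F} (hc : c ≠ 0) :
    Qb Q (c • u) = Qb Q u := by
  unfold Qb
  rw [Qrad_smul C hu hc]

/-- conjugating the point radical -/
theorem Qrad_conj (C : Ctx Q) {u : ι → F} (hu : Q u = 0) (g : ↥(Cfsg.Omega F ⇑Q)) :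
    (Qrad Q u).map (MulAut.conj g).toMonoidHom = Qrad Q (g ⋆ u) := by
  unfold Qrad
  rw [MonoidHom.map_closure]
  congr 1
  ext h
  constructor
  · rintro ⟨h0, ⟨w, hw, rfl⟩, rfl⟩
    refine ⟨g ⋆ w, by rw [polar_act, hw], ?_⟩
    show g * E Q u w * g⁻¹ = _
    rw [E_conj C g hu hw]
  · rintro ⟨w, hw, rfl⟩
    have hw' : polar (⇑Q) u (g⁻¹ ⋆ w) = 0 := by
      rw [← polar_act g, act_act_inv, hw]
    refine ⟨E Q u (g⁻¹ ⋆ w), ⟨g⁻¹ ⋆ w, hw', rfl⟩, ?_⟩
    show g * E Q u (g⁻¹ ⋆ w) * g⁻¹ = _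
    rw [E_conj C g hu hw', act_act_inv]

theorem Qb_conj (C : Ctx Q) {u : ι → F} (hu : Q u = 0) (g : ↥(Cfsg.Omega F ⇑Q)) :
    (Qb Q u).map (MulAut.conj (prj Q g)).toMonoidHom = Qb Q (g ⋆ u) := by
  unfold Qb
  rw [← Qrad_conj C hu g, Subgroup.map_map, Subgroup.map_map]
  congr 1

variable [Fintype F]

/-- opposite point radicals meet trivially -/
theorem Qb_inf_eq_bot (C : Ctx Q) {u v : ι → F} (hu : Q u = 0) (hv : Q v = 0)
    (huv : polar (⇑Q) u v ≠ 0) : Qb Q u ⊓ Qb Q v = ⊥ := by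
  rw [eq_bot_iff]
  rintro gb ⟨h1, h2⟩
  obtain ⟨g1, hg1, rfl⟩ := mem_Qb.mp h1
  obtain ⟨g2, hg2, hg12⟩ := mem_Qb.mp h2
  obtain ⟨w, hw, rfl⟩ := (mem_Qrad C hu).mp hg1
  obtain ⟨w', hw', rfl⟩ := (mem_Qrad C hv).mp hg2
  obtain ⟨x0, hx0, -, k1, k2, k3, k4⟩ := NG_ex4 C u w v w'
  have hE : E Q v w' = E Q u w :=
    eq_of_prj_eq C hg12 hx0 (E_fix_of_perp C hv hw' k3 k4) (E_fix_of_perp C hu hw k1 k2)
  have h3 : E Q u w ⋆ v = v := by rw [← hE, E_fix_left C hv hw']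
  rw [E_act C hu hw] at h3
  have h4 : w = ((polar (⇑Q) u v)⁻¹ * (polar (⇑Q) w v + Q w * polar (⇑Q) u v)) • u := by
    have h5 : polar (⇑Q) u v • w = (polar (⇑Q) w v + Q w * polar (⇑Q) u v) • u := by
      have : polar (⇑Q) u v • w - (polar (⇑Q) w v + Q w * polar (⇑Q) u v) • u
          = (v + polar (⇑Q) u v • w - polar (⇑Q) w v • u - (Q w * polar (⇑Q) u v) • u) - v := by
        module
      rw [h3, sub_self, sub_eq_zero] at this
      exact this
    rw [mul_smul, ← h5, smul_smul, inv_mul_cancel₀ huv, one_smul]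
  have h6 : E Q u w = 1 := by
    have h7 := E_add_smul C hu (polar_zero_right Q u)
      ((polar (⇑Q) u v)⁻¹ * (polar (⇑Q) w v + Q w * polar (⇑Q) u v))
    rw [zero_add, ← h4, E_zero C hu] at h7
    exact h7
  show prj Q (E Q u w) ∈ (⊥ : Subgroup _)
  rw [h6, map_one]
  exact Subgroup.mem_bot.mpr rfl

/-- the point radical is not trivial -/
theorem Qb_ne_bot (C : Ctx Q) {u : ι → F} (hu0 : u ≠ 0) (hu : Q u = 0) : Qb Q u ≠ ⊥ := by
  obtain ⟨v, hv, huv⟩ := exists_partner C hu0 hu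
  have P : Pole Q u v (perpK Q ![u, v]) :=
    ⟨hu, hv, huv, fun x => by
      rw [mem_perpK]
      constructor
      · intro h
        exact ⟨h 0, h 1⟩
      · rintro ⟨h1, h2⟩ i
        fin_cases i
        · exact h1
        · exact h2⟩
  obtain ⟨w, hw0, hw, h1, h2⟩ := NG_ex C u v
  have hwN : w ∈ perpK Q ![u, v] := (P.hN w).mpr ⟨h1, h2⟩
  intro hbot
  have h3 : eb Q u w ∈ Qb Q u := (mem_Qb_iff C P).mpr ⟨w, hwN, rfl⟩
  rw [hbot, Subgroup.mem_bot, ← eb_zero C hu] at h3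
  exact hw0 (eb_inj C P hwN (Submodule.zero_mem _) h3)

/-- perpendicular point radicals meet non-trivially -/
theorem Qb_inf_ne_bot (C : Ctx Q) {u v : ι → F} (hu0 : u ≠ 0) (hv0 : v ≠ 0) (hu : Q u = 0)
    (hv : Q v = 0) (huv : polar (⇑Q) u v = 0) : Qb Q u ⊓ Qb Q v ≠ ⊥ := by
  by_cases hdep : ∃ c : F, v = c • u
  · obtain ⟨c, rfl⟩ := hdep
    have hc : c ≠ 0 := by
      rintro rfl
      exact hv0 (zero_smul _ _)
    rw [Qb_smul C hu hc, inf_idem]
    exact Qb_ne_bot C hu0 hu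
  · have hli : LinearIndependent F ![u, v] := by
      rw [LinearIndependent.pair_iff]
      intro s t hst
      by_cases ht : t = 0
      · subst ht
        rw [zero_smul, add_zero] at hst
        rcases smul_eq_zero.mp hst with h | h
        · exact ⟨h, rfl⟩
        · exact absurd h hu0
      · exfalso
        apply hdep
        refine ⟨-(t⁻¹ * s), ?_⟩
        have h1 : t • v = -(s • u) := by rw [eq_neg_iff_add_eq_zero, add_comm]; exact hst
        have h2 : v = t⁻¹ • (t • v) := by rw [smul_smul, inv_mul_cancel₀ ht, one_smul]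
        rw [h2, h1, smul_neg, smul_smul, neg_smul]
    have hts : TS Q u v := ⟨hu, hv, huv, hli⟩
    intro hbot
    have h1 : eb Q u v ∈ Qb Q u ⊓ Qb Q v := by
      refine ⟨⟨E Q u v, E_mem_Qrad huv, rfl⟩, ⟨E Q u v, ?_, rfl⟩⟩
      rw [E_swap C hu hv huv]
      exact E_mem_Qrad (by rw [polar_neg_right, polar_comm, huv, neg_zero])
    rw [hbot, Subgroup.mem_bot] at h1
    have h2 : prj Q (E Q u v) = prj Q 1 := by rw [map_one]; exact h1
    have h3 := eq_of_prj_eq C h2 hu0 (E_fix_left C hu huv) (act_one u)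
    exact E_ne_one C hts h3

/-- **`Aut(PΩ) = PΓO`**, from Theorem P, generation, and the geometry of `N`. -/
theorem gamma_eq_top {p : ℕ} [Fact p.Prime] [CharP F p] (C : Ctx Q)
    (hG : ∀ u v : ι → F, Q u = 0 → Q v = 0 → polar (⇑Q) u v = 1 → NGeo Q u v)
    (hgen : ∀ u v : ι → F, Q u = 0 → Q v = 0 → polar (⇑Q) u v = 1 →
      Qrad Q u ⊔ Qrad Q v = ⊤)
    (hmove : ∀ u v u1 v1 : ι → F, u ≠ 0 → Q u = 0 → Q v = 0 → polar (⇑Q) u v ≠ 0 → u1 ≠ 0 →
      Q u1 = 0 → Q v1 = 0 → polar (⇑Q) u1 v1 ≠ 0 →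
      ∃ (g : ↥(Cfsg.Omega F ⇑Q)) (c d : F), c ≠ 0 ∧ d ≠ 0 ∧ act Q g u1 = c • u ∧
        act Q g v1 = d • v)
    (hP : ∀ (α : Cfsg.POmega F ⇑Q ≃* Cfsg.POmega F ⇑Q) (u : ι → F), u ≠ 0 → Q u = 0 →
      ∃ u' : ι → F, u' ≠ 0 ∧ Q u' = 0 ∧ (Qb Q u).map α.toMonoidHom = Qb Q u') :
    Cfsg.gammaPOmega F ⇑Q = ⊤ := by
  rw [eq_top_iff]
  intro α _
  obtain ⟨u, hu0, hu, -⟩ := exists_sing_perpK (Q := Q) (k := 0) (fun i => i.elim0)
    (by have := C.hn; omega)
  obtain ⟨v, hv, huv⟩ := exists_partner C hu0 hu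
  have P : Pole Q u v (perpK Q ![u, v]) :=
    ⟨hu, hv, huv, fun x => by
      rw [mem_perpK]
      constructor
      · intro h
        exact ⟨h 0, h 1⟩
      · rintro ⟨h1, h2⟩ i
        fin_cases i
        · exact h1
        · exact h2⟩
  obtain ⟨u1, hu10, hu1, hαu⟩ := hP α u hu0 hu
  obtain ⟨v1, hv10, hv1, hαv⟩ := hP α v P.v_ne hv
  have huv1 : polar (⇑Q) u1 v1 ≠ 0 := by
    intro h0
    apply Qb_inf_ne_bot C hu10 hv10 hu1 hv1 h0
    rw [← hαu, ← hαv, ← Subgroup.map_inf _ _ _ α.injective,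
      Qb_inf_eq_bot C hu hv (by rw [huv]; exact one_ne_zero), Subgroup.map_bot]
  obtain ⟨g, c, d, hc, hd, hgu, hgv⟩ :=
    hmove u v u1 v1 hu0 hu hv (by rw [huv]; exact one_ne_zero) hu10 hu1 hv1 huv1
  set α' : MulAut (Cfsg.POmega F ⇑Q) := MulAut.conj (prj Q g) * α with hα'
  have h1 : (Qb Q u).map (α' : Cfsg.POmega F ⇑Q ≃* Cfsg.POmega F ⇑Q).toMonoidHom = Qb Q u := by
    have : (Qb Q u).map (α' : Cfsg.POmega F ⇑Q ≃* Cfsg.POmega F ⇑Q).toMonoidHom
        = ((Qb Q u).map α.toMonoidHom).map (MulAut.conj (prj Q g)).toMonoidHom := by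
      rw [Subgroup.map_map]
      rfl
    rw [this, hαu, Qb_conj C hu1, hgu, Qb_smul C hu hc]
  have h2 : (Qb Q v).map (α' : Cfsg.POmega F ⇑Q ≃* Cfsg.POmega F ⇑Q).toMonoidHom = Qb Q v := by
    have : (Qb Q v).map (α' : Cfsg.POmega F ⇑Q ≃* Cfsg.POmega F ⇑Q).toMonoidHom
        = ((Qb Q v).map α.toMonoidHom).map (MulAut.conj (prj Q g)).toMonoidHom := by
      rw [Subgroup.map_map]
      rfl
    rw [this, hαv, Qb_conj C hv1, hgv, Qb_smul C hv hd]
  have h3 : α' ∈ Cfsg.gammaPOmega F ⇑Q :=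
    mem_gamma_of_normalised (p := p) C P (hG u v hu hv huv) (hgen u v hu hv huv) α' h1 h2
  have h4 : MulAut.conj (prj Q g) ∈ Cfsg.gammaPOmega F ⇑Q :=
    Cfsg.Agent.Helper16.OSemiAut.inn_le_gamma Q ⟨prj Q g, rfl⟩
  have h5 : α = (MulAut.conj (prj Q g))⁻¹ * α' := by rw [hα', inv_mul_cancel_left]
  rw [h5]
  exact Subgroup.mul_mem _ (Subgroup.inv_mem _ h4) h3

end Cfsg.Agent.Helper5.OAut
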