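import Mathlib
import Cfsg.Agent.Lib.Helper5.OAut8

set_option autoImplicit false
set_option linter.unusedSectionVars false
set_option linter.unusedVariables false

/-!
# `e^⊥ ∩ N` is spanned by its singular vectors
-/

namespace Cfsg.Agent.Helper5.OAut

open Matrix QuadraticMap Cfsg.Agent.Helper13 Cfsg.Agent.Helper43 Module

variable {F : Type*} [Field F] [Fintype F] {ι : Type} [Fintype ι] [DecidableEq ι]
  {Q : QuadraticForm F (ι → F)}

theorem NG_perp' (C : Ctx Q) {u v : ι → F} (hu : Q u = 0) (hv : Q v = 0)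
    (huv : polar (⇑Q) u v = 1) {e : ι → F} (he0 : e ≠ 0) (he : Q e = 0)
    (hue : polar (⇑Q) u e = 0) (hve : polar (⇑Q) v e = 0) {x : ι → F}
    (hux : polar (⇑Q) u x = 0) (hvx : polar (⇑Q) v x = 0) (hex : polar (⇑Q) e x = 0) :
    x ∈ Submodule.span F {z : ι → F | Q z = 0 ∧ polar (⇑Q) u z = 0 ∧ polar (⇑Q) v z = 0 ∧
      polar (⇑Q) e z = 0} := by
  have hee : polar (⇑Q) e e = 0 := polar_self_of_sing Q e he
  obtain ⟨e', he', hue', hve', hee'⟩ := NG_part C hu hv huv he0 he hue hve
  have he'e : polar (⇑Q) e' e = 1 := by rw [polar_comm, hee']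
  have he'e' : polar (⇑Q) e' e' = 0 := polar_self_of_sing Q e' he'
  obtain ⟨s, hs0, hs, hus, hvs, hes, he's⟩ := NG_ex4 C u v e e'
  obtain ⟨s', hs', hus', hvs', hes', he's', hss'⟩ :=
    NG_part2 C hu hv huv he he' hee' hue hue' hve hve' hs0 hs hus hvs hes he's
  have hs's : polar (⇑Q) s' s = 1 := by rw [polar_comm, hss']
  have hss : polar (⇑Q) s s = 0 := polar_self_of_sing Q s hs
  have hs's' : polar (⇑Q) s' s' = 0 := polar_self_of_sing Q s' hs'
  have hse : polar (⇑Q) s e = 0 := by rw [polar_comm, hes]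
  have hs'e : polar (⇑Q) s' e = 0 := by rw [polar_comm, hes']
  -- `y = x - polar e' x • e`
  set y := x - polar (⇑Q) e' x • e with hy
  have huy : polar (⇑Q) u y = 0 := by
    rw [hy, polar_sub_right, polar_smul_right, hux, hue]; simp
  have hvy : polar (⇑Q) v y = 0 := by
    rw [hy, polar_sub_right, polar_smul_right, hvx, hve]; simp
  have hey : polar (⇑Q) e y = 0 := by
    rw [hy, polar_sub_right, polar_smul_right, hex, hee]; simp
  -- `y' = y - polar s' y • s - polar s y • s'`
  obtain ⟨k1, k2, k3⟩ := NG_proj hs hs' hss' y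
  set y' := y - polar (⇑Q) s' y • s - polar (⇑Q) s y • s' with hy'
  have huy' : polar (⇑Q) u y' = 0 := by
    rw [k3 u hus hus', huy]
  have hvy' : polar (⇑Q) v y' = 0 := by
    rw [k3 v hvs hvs', hvy]
  have hey' : polar (⇑Q) e y' = 0 := by
    rw [k3 e hes hes', hey]
  have hy's : polar (⇑Q) y' s = 0 := by rw [polar_comm, k1]
  have hy's' : polar (⇑Q) y' s' = 0 := by rw [polar_comm, k2]
  -- the singular vector `z`
  set z := y' + (s - Q y' • s') with hz
  have hQz : Q z = 0 := by
    have h1 : Q (s - Q y' • s') = -Q y' := by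
      have : s - Q y' • s' = s + (-(Q y')) • s' := by rw [neg_smul, sub_eq_add_neg]
      rw [this, QuadraticMap.map_add Q s ((-(Q y')) • s'), QuadraticMap.map_smul, hs, hs',
        polar_smul_right, hss']
      simp
    rw [hz, QuadraticMap.map_add Q y' (s - Q y' • s'), h1, polar_sub_right, polar_smul_right,
      hy's, hy's']
    simp
  have hut : polar (⇑Q) u (s - Q y' • s') = 0 := by
    rw [polar_sub_right, polar_smul_right, hus, hus']; simp
  have hvt : polar (⇑Q) v (s - Q y' • s') = 0 := by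
    rw [polar_sub_right, polar_smul_right, hvs, hvs']; simp
  have het : polar (⇑Q) e (s - Q y' • s') = 0 := by
    rw [polar_sub_right, polar_smul_right, hes, hes']; simp
  have huz : polar (⇑Q) u z = 0 := by
    rw [hz, polar_add_right, huy', hut, add_zero]
  have hvz : polar (⇑Q) v z = 0 := by
    rw [hz, polar_add_right, hvy', hvt, add_zero]
  have hez : polar (⇑Q) e z = 0 := by
    rw [hz, polar_add_right, hey', het, add_zero]
  have hx : x = polar (⇑Q) e' x • e + z + (polar (⇑Q) s' y - 1) • s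
      + (polar (⇑Q) s y + Q y') • s' := by
    rw [hz, hy', hy]
    module
  rw [hx]
  refine Submodule.add_mem _ (Submodule.add_mem _ (Submodule.add_mem _ ?_ ?_) ?_) ?_
  · exact Submodule.smul_mem _ _ (Submodule.subset_span ⟨he, hue, hve, hee⟩)
  · exact Submodule.subset_span ⟨hQz, huz, hvz, hez⟩
  · exact Submodule.smul_mem _ _ (Submodule.subset_span ⟨hs, hus, hvs, hes⟩)
  · exact Submodule.smul_mem _ _ (Submodule.subset_span ⟨hs', hus', hvs', hes'⟩)

end Cfsg.Agent.Helper5.OAut
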