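import Mathlib
import Cfsg.Agent.Lib.Helper5.OAut16
import Cfsg.Agent.Lib.Helper5.OAut17
import Cfsg.Agent.Lib.Helper70.OAutNGConn
import Cfsg.Agent.Lib.Helper16.OAutNGNon
import Cfsg.Agent.Lib.Helper23.OAutNGSpan
import Cfsg.Agent.Lib.Helper13.OAutNGMove
import Cfsg.Agent.Lib.Helper13.OAutBRP
import Cfsg.Agent.Lib.Helper76.OAutBRG
import Cfsg.Agent.Lib.Helper23.OAutBRC
import Cfsg.Agent.Lib.Helper5.OrthAut3

set_option autoImplicit false
set_option linter.unusedSectionVars false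
set_option linter.unusedVariables false

/-!
# `Aut(PΩ) = PΓO`: final assembly
-/

namespace Cfsg.Agent.Helper5.OAut

open Matrix QuadraticMap Cfsg.Agent.Helper13 Cfsg.Agent.Helper43 Module

variable {F : Type*} [Field F] [Fintype F] {ι : Type} [Fintype ι] [DecidableEq ι]
  {Q : QuadraticForm F (ι → F)}

theorem nGeo (C : Ctx Q) {u v : ι → F} (hu : Q u = 0) (hv : Q v = 0)
    (huv : polar (⇑Q) u v = 1) : NGeo Q u v where
  non := fun he0 he0' he he' h1 h2 h3 h4 =>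
    Cfsg.Agent.Helper16.OAutNG.NG_non C hu hv huv he0 he0' he he' h1 h2 h3 h4
  conn := fun hw0 hw0' hw hw' h1 h2 h3 h4 =>
    Cfsg.Agent.Helper70.OAutNG.NG_conn C hu hv huv hw0 hw0' hw hw' h1 h2 h3 h4
  span := fun h1 h2 => Cfsg.Agent.Helper23.OAutNG.NG_span C hu hv huv h1 h2
  perp := fun he0 he h1 h2 _ h3 h4 h5 => NG_perp' C hu hv huv he0 he h1 h2 h3 h4 h5

/-- **`Aut(PΩ(Q)) = PΓO(Q)`** for a form satisfying `Ctx` and `NoSmallMax`. -/
theorem gamma_eq_top' (C : Ctx Q) (hbad : Cfsg.Agent.Helper13.OrthPermE.NoSmallMax Q) :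
    Cfsg.gammaPOmega F ⇑Q = ⊤ := by
  have : Fact (ringChar F).Prime := ⟨CharP.char_is_prime F (ringChar F)⟩
  exact gamma_eq_top (p := ringChar F) C
    (fun u v hu hv huv => nGeo C hu hv huv)
    (fun u v hu hv huv => Cfsg.Agent.Helper76.OAutBR.Qrad_sup_eq_top C hu hv huv)
    (fun u v u1 v1 hu0 hu hv huv hu10 hu1 hv1 huv1 =>
      Cfsg.Agent.Helper13.OAutNG.NG_move C hu0 hu hv huv hu10 hu1 hv1 huv1)
    (fun α u hu0 hu => Cfsg.Agent.Helper13.OAutBR.thP_Qb C hbad α hu0 hu)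

theorem gamma_odd (hodd : Odd (Fintype.card F)) {m : ℕ} (hm : 3 ≤ m) :
    Cfsg.gammaPOmega F (Cfsg.quadFormOdd m F) = ⊤ := by
  have h2 : (2 : F) ≠ 0 := Cfsg.Agent.Helper5.OrthAut.two_ne_zero_of_odd_card hodd
  have := gamma_eq_top' (Cfsg.Agent.Helper23.OAutBR.ctx_odd h2 hm)
    (Cfsg.Agent.Helper13.OrthPermE.noSmall_odd h2 hm)
  rw [coe_stdOdd] at this
  exact this

theorem gamma_plus {m : ℕ} (hm : 5 ≤ m) :
    Cfsg.gammaPOmega F (Cfsg.quadFormPlus m F) = ⊤ := by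
  have := gamma_eq_top' (Cfsg.Agent.Helper23.OAutBR.ctx_plus (F := F) hm)
    (Cfsg.Agent.Helper13.OrthPermE.noSmall_plus hm)
  rw [coe_stdPlus] at this
  exact this

theorem gamma_minus {m : ℕ} (hm : 3 ≤ m) (a b : F)
    (hab : ∀ z₁ z₂ : F, z₁ ^ 2 + a * z₁ * z₂ + b * z₂ ^ 2 = 0 → z₁ = 0 ∧ z₂ = 0) :
    Cfsg.gammaPOmega F (Cfsg.quadFormMinus m F a b) = ⊤ := by
  have hab' : AnisoPair a b := hab
  have := gamma_eq_top' (Cfsg.Agent.Helper23.OAutBR.ctx_minus hm hab')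
    (Cfsg.Agent.Helper13.OrthPermE.noSmall_minus hm hab')
  rw [coe_stdMinus] at this
  exact this

end Cfsg.Agent.Helper5.OAut
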