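import Mathlib
import Cfsg.Agent.Lib.Helper5.OMFInn
import Cfsg.Agent.Lib.Helper40.OrthEvenCoset
import Cfsg.Agent.Lib.Helper43.OMFT1
import Cfsg.Agent.Lib.Helper13.OMFT2
import Cfsg.Agent.Lib.Helper5.OMFCoset
import Cfsg.Agent.S2696

/-!
# The coset theorem for the minus-type form
-/

set_option autoImplicit false
set_option linter.unusedSectionVars false
set_option linter.unusedSimpArgs false
set_option linter.unusedVariables false

namespace Cfsg.Agent.Helper5.OMF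

open Module QuadraticMap Matrix Cfsg.Agent.Helper43 Cfsg.Agent.Helper44
  Cfsg.Agent.Helper5.OrthAut Cfsg.Agent.Helper5.OrthLag Cfsg.Agent.Helper5.OrthPar
  Cfsg.Agent.Helper40.AutPOm Cfsg.Agent.Helper40.OrthEven
  Cfsg.Agent.Helper43.OMF Cfsg.Agent.Helper13.OMF

universe u

variable {F : Type u} [Field F] [Fintype F]

local notation "MM" m => Matrix ((Fin m ⊕ Fin m) ⊕ Fin 2) ((Fin m ⊕ Fin m) ⊕ Fin 2) F
local notation "GG" m => GL ((Fin m ⊕ Fin m) ⊕ Fin 2) F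

/-- the reflection in a `σ`-fixed vector is `σ`-fixed -/
theorem rGO_sigma' {ι : Type} [Fintype ι] [DecidableEq ι] (Q : QuadraticForm F (ι → F))
    (σ : F ≃+* F) (hσQ : σ ∈ QAut ⇑Q) {w : ι → F} (hw : Q w ≠ 0)
    (hσw : ∀ j, σ (w j) = w j) :
    sigmaGO (⇑Q) ⟨σ, hσQ⟩ (rGO Q hw) = rGO Q hw := by
  apply Subtype.ext
  apply Units.ext
  show (Cfsg.reflectionMatrix (⇑Q) w).map σ = Cfsg.reflectionMatrix (⇑Q) w
  have hB : IsBC (σ : F →+* F) ⇑Q ⇑Q := fun v => hσQ v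
  have h1 := hB.reflectionMatrix w
  have h2 : mapV (σ : F →+* F) w = w := by
    funext j
    exact hσw j
  rw [h2] at h1
  exact h1

/-- the inner-diagonal group of the minus form (in terms of `stdMinus`) -/
noncomputable def inDm (m : ℕ) (a b : F) :
    Subgroup (MulAut (Cfsg.POmega F ⇑(stdMinus F m a b))) :=
  Cfsg.autSubgroupOf (fun β : Cfsg.POmega F ⇑(stdMinus F m a b) ≃*
        Cfsg.POmega F ⇑(stdMinus F m a b) =>
      ∃ g : GL ((Fin m ⊕ Fin m) ⊕ Fin 2) F,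
        g ∈ Cfsg.Geo.quadSimilarityGroup (F := F) ⇑(stdMinus F m a b) ∧
        Cfsg.PreservesSingularClassesMinus m a b (g : MM m) ∧
        Cfsg.IsInducedBySemilinearPOmega ⇑(stdMinus F m a b) g (RingEquiv.refl F) β)

/-- the coset theorem in standard position -/
theorem coset_std {m : ℕ} (hm : 3 ≤ m) (a b : F)
    (hab : ∀ z₁ z₂ : F, z₁ ^ 2 + a * z₁ * z₂ + b * z₂ ^ 2 = 0 → z₁ = 0 ∧ z₂ = 0)
    (σ : F ≃+* F) (ha : σ a = a) (hb : σ b = b) (hσQ : σ ∈ QAut ⇑(stdMinus F m a b))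
    {r : ℕ} (hr : r.Prime)
    (hφr : orderOf (fieldAutPOm ⇑(stdMinus F m a b) ⟨σ, hσQ⟩) = r)
    (δ : MulAut (Cfsg.POmega F ⇑(stdMinus F m a b))) (hδ : δ ∈ inDm m a b)
    (hord : orderOf (δ * fieldAutPOm ⇑(stdMinus F m a b) ⟨σ, hσQ⟩) = r) :
    ∃ k : MulAut (Cfsg.POmega F ⇑(stdMinus F m a b)), k ∈ inDm m a b ∧
      δ * fieldAutPOm ⇑(stdMinus F m a b) ⟨σ, hσQ⟩ =
        k * fieldAutPOm ⇑(stdMinus F m a b) ⟨σ, hσQ⟩ * k⁻¹ := by
  classical
  obtain ⟨g, hPg, rfl⟩ := (mem_inndiag_std_iff hm a b hab δ).1 hδ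
  have hσr : orderOf σ = r := by
    rw [← orderOf_fieldAutPOm_minus hm a b hab σ hσQ]; exact hφr
  have hpow : (PhiGO ⇑(stdMinus F m a b) g *
      fieldAutPOm ⇑(stdMinus F m a b) ⟨σ, hσQ⟩) ^ r = 1 := by
    rw [← hord]; exact pow_orderOf_eq_one _
  obtain ⟨h, hh⟩ := coset_conj_minus hm a b hab σ ha hb hσQ hr.pos hσr g hpow
  -- a `σ`-fixed reflection
  have hfam := stdMinus_isHypFamily F m a b
  set i0 : Fin m := ⟨0, by omega⟩ with hi0
  set u : (Fin m ⊕ Fin m) ⊕ Fin 2 → F :=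
    (Pi.single (Sum.inl (Sum.inl i0)) 1 : (Fin m ⊕ Fin m) ⊕ Fin 2 → F) +
      Pi.single (Sum.inl (Sum.inr i0)) 1 with hu
  have hQu : stdMinus F m a b u = 1 := by
    rw [hu, QuadraticMap.map_add (stdMinus F m a b), hfam.qe i0, hfam.qf i0, hfam.ef, if_pos rfl]
    ring
  have hu0 : stdMinus F m a b u ≠ 0 := by rw [hQu]; exact one_ne_zero
  have hσu : ∀ j, σ (u j) = u j := by
    intro j
    rw [hu]
    simp only [Pi.add_apply, Pi.single_apply]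
    split_ifs <;> simp
  have hρσ := rGO_sigma' (stdMinus F m a b) σ hσQ hu0 hσu
  have hcomm : PhiGO ⇑(stdMinus F m a b) (rGO (stdMinus F m a b) hu0) *
      fieldAutPOm ⇑(stdMinus F m a b) ⟨σ, hσQ⟩ =
      fieldAutPOm ⇑(stdMinus F m a b) ⟨σ, hσQ⟩ *
        PhiGO ⇑(stdMinus F m a b) (rGO (stdMinus F m a b) hu0) := by
    rw [fieldAutPOm_mul_PhiGO, hρσ]
  rcases preserves_or_mul_refl hm a b hab h (rGO (stdMinus F m a b) hu0) u hu0
    (rGO_coe (stdMinus F m a b) hu0) with hP | hP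
  · exact ⟨PhiGO ⇑(stdMinus F m a b) h, (mem_inndiag_std_iff hm a b hab _).2 ⟨h, hP, rfl⟩, hh⟩
  · refine ⟨PhiGO ⇑(stdMinus F m a b) (h * rGO (stdMinus F m a b) hu0),
      (mem_inndiag_std_iff hm a b hab _).2 ⟨_, hP, rfl⟩, ?_⟩
    rw [hh, map_mul, _root_.mul_inv_rev]
    have e : PhiGO ⇑(stdMinus F m a b) (rGO (stdMinus F m a b) hu0) *
        fieldAutPOm ⇑(stdMinus F m a b) ⟨σ, hσQ⟩ *
        (PhiGO ⇑(stdMinus F m a b) (rGO (stdMinus F m a b) hu0))⁻¹ =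
        fieldAutPOm ⇑(stdMinus F m a b) ⟨σ, hσQ⟩ := by
      rw [hcomm, mul_assoc, mul_inv_cancel, mul_one]
    calc PhiGO ⇑(stdMinus F m a b) h * fieldAutPOm ⇑(stdMinus F m a b) ⟨σ, hσQ⟩ *
          (PhiGO ⇑(stdMinus F m a b) h)⁻¹
        = PhiGO ⇑(stdMinus F m a b) h * (PhiGO ⇑(stdMinus F m a b) (rGO (stdMinus F m a b) hu0) *
            fieldAutPOm ⇑(stdMinus F m a b) ⟨σ, hσQ⟩ *
            (PhiGO ⇑(stdMinus F m a b) (rGO (stdMinus F m a b) hu0))⁻¹) *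
            (PhiGO ⇑(stdMinus F m a b) h)⁻¹ := by rw [e]
      _ = _ := by simp only [mul_assoc]

/-- transport of `Inndiag` along an arbitrary isomorphism -/
theorem transport_inndiag {m : ℕ} (hm : 3 ≤ m) (a b a' b' : F)
    (hab : ∀ z₁ z₂ : F, z₁ ^ 2 + a * z₁ * z₂ + b * z₂ ^ 2 = 0 → z₁ = 0 ∧ z₂ = 0)
    (hab' : ∀ z₁ z₂ : F, z₁ ^ 2 + a' * z₁ * z₂ + b' * z₂ ^ 2 = 0 → z₁ = 0 ∧ z₂ = 0)
    (ψ : Cfsg.POmega F (Cfsg.quadFormMinus m F a b) ≃*
      Cfsg.POmega F (Cfsg.quadFormMinus m F a' b'))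
    (δ : MulAut (Cfsg.POmega F (Cfsg.quadFormMinus m F a b)))
    (hδ : δ ∈ Cfsg.inndiagPOmegaMinus m F a b) :
    MulAut.congr ψ δ ∈ Cfsg.inndiagPOmegaMinus m F a' b' := by
  by_cases hodd : Odd (Fintype.card F)
  · obtain ⟨ψ₀, hψ₀⟩ := inndiag_minus_iso_odd hodd hm a b a' b' hab hab'
    set β : MulAut (Cfsg.POmega F (Cfsg.quadFormMinus m F a b)) := ψ.trans ψ₀.symm with hβ
    have hβmem : β ∈ Cfsg.gammaPOmega F (Cfsg.quadFormMinus m F a b) := by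
      rw [Cfsg.Agent.S2696.result hm a b hab]; exact Subgroup.mem_top _
    have h1 := inndiag_minus_normal_odd hodd hm a b hab β δ hβmem hδ
    have h2 := hψ₀ _ h1
    have e : MulAut.congr ψ₀ (β * δ * β⁻¹) = MulAut.congr ψ δ := by
      apply MulEquiv.ext
      intro z
      show ψ₀ (β (δ (β⁻¹ (ψ₀.symm z)))) = ψ (δ (ψ.symm z))
      have e1 : β⁻¹ (ψ₀.symm z) = ψ.symm z := by
        rw [MulAut.inv_apply]
        apply β.injective
        rw [MulEquiv.apply_symm_apply]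
        show ψ₀.symm z = ψ₀.symm (ψ (ψ.symm z))
        rw [MulEquiv.apply_symm_apply]
      rw [e1]
      show ψ₀ (ψ₀.symm (ψ (δ (ψ.symm z)))) = _
      rw [MulEquiv.apply_symm_apply]
    rw [← e]
    exact h2
  · have h2 := two_eq_zero_of_not_odd hodd
    rw [inndiag_minus_eq_inn_char2 h2 hm a b hab] at hδ
    rw [inndiag_minus_eq_inn_char2 h2 hm a' b' hab']
    obtain ⟨y, rfl⟩ := hδ
    refine ⟨ψ y, ?_⟩
    apply MulEquiv.ext
    intro z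
    show ψ y * z * (ψ y)⁻¹ = ψ (y * ψ.symm z * y⁻¹)
    rw [map_mul, map_mul, map_inv, MulEquiv.apply_symm_apply]

/-- the coset theorem in standard position, for a plain function equal to the form -/
theorem coset_gen {m : ℕ} (hm : 3 ≤ m) (a b : F)
    (hab : ∀ z₁ z₂ : F, z₁ ^ 2 + a * z₁ * z₂ + b * z₂ ^ 2 = 0 → z₁ = 0 ∧ z₂ = 0)
    (Q : ((Fin m ⊕ Fin m) ⊕ Fin 2 → F) → F) (hQ : ⇑(stdMinus F m a b) = Q)
    (σ : F ≃+* F) (ha : σ a = a) (hb : σ b = b)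
    (hσQ : σ ∈ QAut Q) {r : ℕ} (hr : r.Prime)
    (hφr : orderOf (fieldAutPOm Q ⟨σ, hσQ⟩) = r)
    (δ : MulAut (Cfsg.POmega F Q))
    (hδ : δ ∈ Cfsg.autSubgroupOf (fun β : Cfsg.POmega F Q ≃* Cfsg.POmega F Q =>
      ∃ g : GL ((Fin m ⊕ Fin m) ⊕ Fin 2) F,
        g ∈ Cfsg.Geo.quadSimilarityGroup (F := F) Q ∧
        Cfsg.PreservesSingularClassesMinus m a b (g : MM m) ∧
        Cfsg.IsInducedBySemilinearPOmega Q g (RingEquiv.refl F) β))
    (hord : orderOf (δ * fieldAutPOm Q ⟨σ, hσQ⟩) = r) :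
    ∃ k : MulAut (Cfsg.POmega F Q),
      k ∈ Cfsg.autSubgroupOf (fun β : Cfsg.POmega F Q ≃* Cfsg.POmega F Q =>
        ∃ g : GL ((Fin m ⊕ Fin m) ⊕ Fin 2) F,
          g ∈ Cfsg.Geo.quadSimilarityGroup (F := F) Q ∧
          Cfsg.PreservesSingularClassesMinus m a b (g : MM m) ∧
          Cfsg.IsInducedBySemilinearPOmega Q g (RingEquiv.refl F) β) ∧
      δ * fieldAutPOm Q ⟨σ, hσQ⟩ = k * fieldAutPOm Q ⟨σ, hσQ⟩ * k⁻¹ := by
  subst hQ
  exact coset_std hm a b hab σ ha hb hσQ hr hφr δ hδ hord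

/-- the coset theorem in standard position, for the plain function `quadFormMinus` -/
theorem coset_std' {m : ℕ} (hm : 3 ≤ m) (a b : F)
    (hab : ∀ z₁ z₂ : F, z₁ ^ 2 + a * z₁ * z₂ + b * z₂ ^ 2 = 0 → z₁ = 0 ∧ z₂ = 0)
    (σ : F ≃+* F) (ha : σ a = a) (hb : σ b = b)
    (hσQ : σ ∈ QAut (Cfsg.quadFormMinus m F a b))
    {r : ℕ} (hr : r.Prime)
    (hφr : orderOf (fieldAutPOm (Cfsg.quadFormMinus m F a b) ⟨σ, hσQ⟩) = r)
    (δ : MulAut (Cfsg.POmega F (Cfsg.quadFormMinus m F a b)))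
    (hδ : δ ∈ Cfsg.inndiagPOmegaMinus m F a b)
    (hord : orderOf (δ * fieldAutPOm (Cfsg.quadFormMinus m F a b) ⟨σ, hσQ⟩) = r) :
    ∃ k : MulAut (Cfsg.POmega F (Cfsg.quadFormMinus m F a b)),
      k ∈ Cfsg.inndiagPOmegaMinus m F a b ∧
      δ * fieldAutPOm (Cfsg.quadFormMinus m F a b) ⟨σ, hσQ⟩ =
        k * fieldAutPOm (Cfsg.quadFormMinus m F a b) ⟨σ, hσQ⟩ * k⁻¹ :=
  coset_gen hm a b hab (Cfsg.quadFormMinus m F a b) (coe_stdMinus F m a b) σ ha hb hσQ hr hφr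
    δ hδ hord

theorem congr_symm_congr {G H : Type*} [Group G] [Group H] (ψ : G ≃* H) (k : MulAut H) :
    MulAut.congr ψ (MulAut.congr ψ.symm k) = k := by
  apply MulEquiv.ext
  intro z
  show ψ (ψ.symm (k (ψ (ψ.symm z)))) = k z
  rw [MulEquiv.apply_symm_apply, MulEquiv.apply_symm_apply]

/-- S2737 -/
theorem s2737_main {m : ℕ} (hm : 3 ≤ m) (a b : F)
    (hab : ∀ z₁ z₂ : F, z₁ ^ 2 + a * z₁ * z₂ + b * z₂ ^ 2 = 0 → z₁ = 0 ∧ z₂ = 0)
    (x δ : MulAut (Cfsg.POmega F (Cfsg.quadFormMinus m F a b)))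
    (hx : Cfsg.IsFieldAutClassPOmegaMinus m x) {r : ℕ} (hr : r.Prime) (hxr : orderOf x = r)
    (hδ : δ ∈ Cfsg.inndiagPOmegaMinus m F a b) :
    orderOf (δ * x) = r ↔ Cfsg.IsConjUnder (Cfsg.inndiagPOmegaMinus m F a b) x (δ * x) := by
  constructor
  · intro hord
    obtain ⟨a', b', ψ, σ, hab', hσ1, ha', hb', hstd⟩ := hx
    have hσQ : σ ∈ QAut (Cfsg.quadFormMinus m F a' b') := qaut_minus m a' b' σ ha' hb'
    have hx' : MulAut.congr ψ x = fieldAutPOm (Cfsg.quadFormMinus m F a' b') ⟨σ, hσQ⟩ := by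
      have h1 := (isFieldAutOf_iff (Cfsg.quadFormMinus m F a' b') ⟨σ, hσQ⟩ _).1 hstd
      rw [← h1]
      apply MulEquiv.ext
      intro z
      rfl
    have hinj : Function.Injective (MulAut.congr ψ :
        MulAut (Cfsg.POmega F (Cfsg.quadFormMinus m F a b)) →
          MulAut (Cfsg.POmega F (Cfsg.quadFormMinus m F a' b'))) := (MulAut.congr ψ).injective
    have hδ' := transport_inndiag hm a b a' b' hab hab' ψ δ hδ
    have hφr : orderOf (fieldAutPOm (Cfsg.quadFormMinus m F a' b') ⟨σ, hσQ⟩) = r := by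
      rw [← hx', ← hxr]
      exact orderOf_injective (MulAut.congr ψ).toMonoidHom hinj x
    have hord' : orderOf (MulAut.congr ψ δ *
        fieldAutPOm (Cfsg.quadFormMinus m F a' b') ⟨σ, hσQ⟩) = r := by
      rw [← hx', ← map_mul, ← hord]
      exact orderOf_injective (MulAut.congr ψ).toMonoidHom hinj (δ * x)
    obtain ⟨k', hk', hkeq⟩ := coset_std' hm a' b' hab' σ ha' hb' hσQ hr hφr _ hδ' hord'
    have hk := transport_inndiag hm a' b' a b hab' hab ψ.symm k' hk'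
    refine ⟨MulAut.congr ψ.symm k', hk, ?_⟩
    apply hinj
    have e1 : MulAut.congr ψ (δ * x) = MulAut.congr ψ δ *
        fieldAutPOm (Cfsg.quadFormMinus m F a' b') ⟨σ, hσQ⟩ := by
      rw [map_mul, hx']
    have e2 : MulAut.congr ψ (MulAut.congr ψ.symm k' * x * (MulAut.congr ψ.symm k')⁻¹) =
        k' * fieldAutPOm (Cfsg.quadFormMinus m F a' b') ⟨σ, hσQ⟩ * k'⁻¹ := by
      rw [map_mul, map_mul, map_inv, hx', congr_symm_congr]
    rw [e1, e2, hkeq]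
  · rintro ⟨k, -, hk⟩
    rw [hk, ← hxr]
    have := orderOf_injective (MulAut.conj k).toMonoidHom (MulAut.conj k).injective x
    simpa [MulAut.conj_apply] using this

end Cfsg.Agent.Helper5.OMF
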