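import Mathlib
import Cfsg.Agent.Lib.Helper5.OMFMain
import Cfsg.Agent.Lib.Helper40.AutPOmFieldCent

/-!
# Minus-type form: base change of class-preserving similarities
-/

set_option autoImplicit false
set_option linter.unusedSectionVars false
set_option linter.unusedSimpArgs false
set_option linter.unusedVariables false

namespace Cfsg.Agent.Helper5.OMF

open Module QuadraticMap Matrix Cfsg.Agent.Helper43 Cfsg.Agent.Helper44
  Cfsg.Agent.Helper5.OrthAut Cfsg.Agent.Helper5.OrthLag Cfsg.Agent.Helper5.OrthPar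
  Cfsg.Agent.Helper40.AutPOm Cfsg.Agent.Helper40.OrthEven

universe u u₀

section one

variable {F : Type u} [Field F] [Fintype F]

local notation "MM" m => Matrix ((Fin m ⊕ Fin m) ⊕ Fin 2) ((Fin m ⊕ Fin m) ⊕ Fin 2) F
local notation "GG" m => GL ((Fin m ⊕ Fin m) ⊕ Fin 2) F

/-- scalar multiples: the minus-type class condition -/
theorem preservesMinus_smul_iff (m : ℕ) (a b : F) (c : F) (hc : c ≠ 0) (M : MM m) :
    Cfsg.PreservesSingularClassesMinus m a b (c • M) ↔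
      Cfsg.PreservesSingularClassesMinus m a b M := by
  unfold Cfsg.PreservesSingularClassesMinus
  constructor
  · rintro ⟨K, hK1, hK2, hfr, h⟩
    refine ⟨K, hK1, hK2, hfr, ?_⟩
    have e : (c • M).map (algebraMap F K) = algebraMap F K c • M.map (algebraMap F K) := by
      ext i j
      simp [Matrix.map_apply, Matrix.smul_apply]
    rw [e, preserves_smul_iff _ _ (by
      rw [Ne, map_eq_zero_iff _ (algebraMap F K).injective]; exact hc)] at h
    exact h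
  · rintro ⟨K, hK1, hK2, hfr, h⟩
    refine ⟨K, hK1, hK2, hfr, ?_⟩
    have e : (c • M).map (algebraMap F K) = algebraMap F K c • M.map (algebraMap F K) := by
      ext i j
      simp [Matrix.map_apply, Matrix.smul_apply]
    rw [e, preserves_smul_iff _ _ (by
      rw [Ne, map_eq_zero_iff _ (algebraMap F K).injective]; exact hc)]
    exact h

/-- characteristic two: a similarity is a scalar times a product of reflections -/
theorem exists_smul_list_char2 (h2 : (2 : F) = 0) {m : ℕ} (hm : 2 ≤ m) (a b : F)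
    (hab : ∀ z₁ z₂ : F, z₁ ^ 2 + a * z₁ * z₂ + b * z₂ ^ 2 = 0 → z₁ = 0 ∧ z₂ = 0)
    (g : GG m) (hg : g ∈ GO (stdMinus F m a b)) :
    ∃ (c : F) (l : List ((Fin m ⊕ Fin m) ⊕ Fin 2 → F)), c ≠ 0 ∧
      (∀ w ∈ l, Cfsg.quadFormMinus m F a b w ≠ 0) ∧
      (g : MM m) = c • (l.map (Cfsg.reflectionMatrix (Cfsg.quadFormMinus m F a b))).prod := by
  classical
  have hab' : AnisoPair a b := hab
  have hnd := stdMinus_nondegenerate (F := F) m hab'
  have hcard := card_Im m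
  have hexc : Fintype.card F ≠ 2 ∨ Fintype.card ((Fin m ⊕ Fin m) ⊕ Fin 2) ≠ 4 := by
    right; rw [hcard]; intro h4; omega
  obtain ⟨c, h, hh, hgc⟩ := exists_scl_mul_iso_char2 h2 (stdMinus F m a b) g hg
  obtain ⟨l, hl, hMl⟩ := Cfsg.Agent.S0786.matrix_cd_all (stdMinus F m a b) hnd hexc
    ((h : GG m) : MM m) (fun u => (mem_iso_iff _ h).1 hh u)
  refine ⟨(c : F), l, Units.ne_zero c, ?_, ?_⟩
  · intro w hw
    rw [← coe_stdMinus]; exact hl w hw
  · rw [← coe_stdMinus, ← hMl, hgc, Units.val_mul, sclHom_coe, Matrix.smul_mul, Matrix.one_mul]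

end one

section two

variable {F₀ : Type u₀} [Field F₀] [Fintype F₀] {F : Type u} [Field F] [Fintype F]

/-- the class condition is compatible with base change -/
theorem preserves_emb_iff {m : ℕ} (hm : 2 ≤ m) (emb : F₀ →+* F) (a₀ b₀ : F₀)
    (hab₀ : ∀ z₁ z₂ : F₀, z₁ ^ 2 + a₀ * z₁ * z₂ + b₀ * z₂ ^ 2 = 0 → z₁ = 0 ∧ z₂ = 0)
    (hab : ∀ z₁ z₂ : F, z₁ ^ 2 + emb a₀ * z₁ * z₂ + emb b₀ * z₂ ^ 2 = 0 → z₁ = 0 ∧ z₂ = 0)
    (g₀ : GL ((Fin m ⊕ Fin m) ⊕ Fin 2) F₀) (hg₀ : g₀ ∈ GO (stdMinus F₀ m a₀ b₀)) :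
    Cfsg.PreservesSingularClassesMinus m a₀ b₀
        (g₀ : Matrix ((Fin m ⊕ Fin m) ⊕ Fin 2) ((Fin m ⊕ Fin m) ⊕ Fin 2) F₀) ↔
      Cfsg.PreservesSingularClassesMinus m (emb a₀) (emb b₀)
        ((g₀ : Matrix ((Fin m ⊕ Fin m) ⊕ Fin 2) ((Fin m ⊕ Fin m) ⊕ Fin 2) F₀).map emb) := by
  classical
  have hB := isBC_stdMinus m emb a₀ b₀
  have hgF := emb_mem_GO' emb _ _ hB g₀ hg₀
  have hcoe : ((Matrix.GeneralLinearGroup.map emb g₀ : GL ((Fin m ⊕ Fin m) ⊕ Fin 2) F) :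
      Matrix ((Fin m ⊕ Fin m) ⊕ Fin 2) ((Fin m ⊕ Fin m) ⊕ Fin 2) F) =
      (g₀ : Matrix ((Fin m ⊕ Fin m) ⊕ Fin 2) ((Fin m ⊕ Fin m) ⊕ Fin 2) F₀).map emb := rfl
  by_cases hodd : Odd (Fintype.card F)
  · have h2 := two_ne_zero_of_odd_card hodd
    have h2₀ : (2 : F₀) ≠ 0 := two_ne_zero_of_emb emb h2
    have hodd₀ : Odd (Fintype.card F₀) := by
      rw [Nat.odd_iff]
      exact Cfsg.Agent.Lead.POmegaCard.odd_card_of_two_ne_zero h2₀
    have hQ0₀ := hQ0_of_hyp (stdMinus F₀ m a₀ b₀) (stdMinus_isHypFamily F₀ m a₀ b₀) (by omega)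
    have hQ0 := hQ0_of_hyp (stdMinus F m (emb a₀) (emb b₀))
      (stdMinus_isHypFamily F m (emb a₀) (emb b₀)) (by omega)
    rw [← hcoe, preserves_minus_iff hodd₀ m a₀ b₀ hab₀ hQ0₀ g₀ hg₀,
      preserves_minus_iff hodd m (emb a₀) (emb b₀) hab hQ0 _ hgF]
    have hmu : mult (stdMinus F m (emb a₀) (emb b₀)) ⟨_, hgF⟩ =
        Units.map (emb : F₀ →* F) (mult (stdMinus F₀ m a₀ b₀) ⟨g₀, hg₀⟩) := by
      apply mult_unique _ hQ0
      intro v
      exact emb_sim emb _ _ hB g₀ hg₀ v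
    have hdet : (gmat (stdMinus F m (emb a₀) (emb b₀)) ⟨_, hgF⟩).det =
        emb (gmat (stdMinus F₀ m a₀ b₀) ⟨g₀, hg₀⟩).det := by
      show ((g₀ : Matrix ((Fin m ⊕ Fin m) ⊕ Fin 2) ((Fin m ⊕ Fin m) ⊕ Fin 2) F₀).map emb).det = _
      exact (RingHom.map_det emb _).symm
    rw [Units.ext_iff, Units.ext_iff, dHom_coe, dHom_coe, hmu, hdet]
    have e : ((Units.map (emb : F₀ →* F) (mult (stdMinus F₀ m a₀ b₀) ⟨g₀, hg₀⟩) : Fˣ) : F) =
        emb ((mult (stdMinus F₀ m a₀ b₀) ⟨g₀, hg₀⟩ : F₀ˣ) : F₀) := rfl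
    rw [e, ← map_pow, ← map_inv₀, ← map_mul, Units.val_one, Units.val_one]
    constructor
    · intro h
      rw [h, map_one]
    · intro h
      apply emb.injective
      rw [h, map_one]
  · have h2 := two_eq_zero_of_not_odd hodd
    have h2₀ : (2 : F₀) = 0 := by
      apply emb.injective
      rw [map_ofNat, h2, map_zero]
    obtain ⟨c, l, hc, hl, hM⟩ := exists_smul_list_char2 h2₀ hm a₀ b₀ hab₀ g₀ hg₀
    have hB' : IsBC emb (Cfsg.quadFormMinus m F₀ a₀ b₀)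
        (Cfsg.quadFormMinus m F (emb a₀) (emb b₀)) := by
      have := hB
      rwa [coe_stdMinus, coe_stdMinus] at this
    have hM' : (g₀ : Matrix ((Fin m ⊕ Fin m) ⊕ Fin 2) ((Fin m ⊕ Fin m) ⊕ Fin 2) F₀).map emb =
        emb c • ((l.map (mapV emb)).map (Cfsg.reflectionMatrix
          (Cfsg.quadFormMinus m F (emb a₀) (emb b₀)))).prod := by
      rw [hM, map_smul_I, map_list_refl emb _ _ hB']
    have hl' : ∀ w ∈ l.map (mapV emb), Cfsg.quadFormMinus m F (emb a₀) (emb b₀) w ≠ 0 := by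
      intro w hw
      obtain ⟨w₀, hw₀, rfl⟩ := List.mem_map.1 hw
      rw [hB' w₀, Ne, map_eq_zero_iff emb emb.injective]
      exact hl w₀ hw₀
    have hc' : emb c ≠ 0 := by
      rw [Ne, map_eq_zero_iff emb emb.injective]; exact hc
    rw [hM', hM, preserves_minus_list_iff m a₀ b₀ hab₀ l hl c hc,
      preserves_minus_list_iff m (emb a₀) (emb b₀) hab _ hl' (emb c) hc', List.length_map]

end two

end Cfsg.Agent.Helper5.OMF
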