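import Mathlib
import Cfsg.Agent.Lib.Helper5.OMFCent

/-!
# The centraliser of a standard field automorphism in `PGO`, every characteristic
-/

set_option autoImplicit false
set_option linter.unusedSectionVars false
set_option linter.unusedSimpArgs false
set_option linter.unusedVariables false

namespace Cfsg.Agent.Helper5.OMF

open Module QuadraticMap Matrix Cfsg.Agent.Helper43 Cfsg.Agent.Helper44
  Cfsg.Agent.Helper5.OrthAut Cfsg.Agent.Helper5.OrthLag Cfsg.Agent.Helper5.OrthPar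
  Cfsg.Agent.Helper40.AutPOm Cfsg.Agent.Helper40.OrthEven Cfsg.Agent.Helper40.LangO

universe u u₀

section gen

variable {F₀ : Type u₀} [Field F₀] {F : Type u} [Field F] {ι : Type} [Fintype ι] [DecidableEq ι]
  {emb : F₀ →+* F} {Q₀ : QuadraticForm F₀ (ι → F₀)} {Q : QuadraticForm F (ι → F)}

local notation "Mι" => Matrix ι ι F
local notation "Mι₀" => Matrix ι ι F₀

theorem cent_pgo_gen [Nonempty ι] (hB : IsBC emb ⇑Q₀ ⇑Q)
    (hperf : commutator ↥(Cfsg.Omega F ⇑Q) = ⊤)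
    (hcent : ∀ Z : Matrix ι ι F, (∀ s : ↥(Cfsg.Omega F ⇑Q), Z * omat (⇑Q) s = omat (⇑Q) s * Z) →
      ∃ c : F, Z = c • (1 : Matrix ι ι F))
    (e₀ : ι → F₀) (he₀ : Q₀ e₀ ≠ 0)
    (σ : ↥(QAut ⇑Q)) {r : ℕ} (hr : 0 < r) (hσ : orderOf σ.1 = r)
    (hι1 : ∀ x, σ.1 (emb x) = emb x) (hι2 : ∀ y, σ.1 y = y → ∃ x, emb x = y)
    (g : ↥(GO Q)) :
    (PhiGO ⇑Q g * fieldAutPOm ⇑Q σ = fieldAutPOm ⇑Q σ * PhiGO ⇑Q g) ↔
    ∃ (g₀ : GL ι F₀) (c : Fˣ), g₀ ∈ GO Q₀ ∧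
      (g : GL ι F) = sclHom c * Matrix.GeneralLinearGroup.map emb g₀ := by
  classical
  constructor
  · intro hcomm
    have h1 : PhiGO ⇑Q (sigmaGO ⇑Q σ g) = PhiGO ⇑Q g := by
      have h := fieldAutPOm_mul_PhiGO ⇑Q σ g
      rw [← hcomm] at h
      exact (mul_right_cancel h).symm
    rw [PhiGO_eq_iff Q hperf hcent, Cfsg.Geo.mem_scalars_iff] at h1
    obtain ⟨l, hl⟩ := h1
    set gM : Mι := ((g.1 : GL ι F) : Mι) with hgM
    have hrel : smI σ.1 gM = (l : F) • gM := by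
      have h2 : gM * ((((g : GL ι F))⁻¹ * ((sigmaGO ⇑Q σ g : ↥(GO Q)) : GL ι F) : GL ι F) : Mι) =
          (((sigmaGO ⇑Q σ g : ↥(GO Q)) : GL ι F) : Mι) := by
        rw [hgM, ← Units.val_mul, mul_inv_cancel_left]
      rw [hl, Matrix.mul_smul, Matrix.mul_one, sigmaGO_coe] at h2
      exact h2.symm
    obtain ⟨d, hd⟩ := exists_fixed_smul_I σ.1 hr hσ g.1 l hrel
    set g₂ : Mι := (d : F) • gM with hg₂
    have hQg₂ : ∀ v, Q (g₂ *ᵥ v) = ((d * d * mult Q g : Fˣ) : F) * Q v := by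
      intro v
      rw [hg₂, Matrix.smul_mulVec, QuadraticMap.map_smul, hgM]
      have := mult_spec Q g v
      change Q (((g.1 : GL ι F) : Mι) *ᵥ v) = _ at this
      rw [this, smul_eq_mul, Units.val_mul, Units.val_mul]
      ring
    choose G₀ hG₀ using fun i j => hι2 (g₂ i j) (congrFun (congrFun hd i) j)
    have hG₀map : (Matrix.of G₀ : Mι₀).map emb = g₂ := by
      ext i j
      exact hG₀ i j
    have hgMdet : gM.det ≠ 0 := by
      intro h0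
      have h1 : gM * ((g.1⁻¹ : GL ι F) : Mι) = 1 := by
        rw [hgM, ← Units.val_mul, mul_inv_cancel, Units.val_one]
      have := congrArg Matrix.det h1
      rw [Matrix.det_mul, h0, zero_mul, Matrix.det_one] at this
      exact zero_ne_one this
    have hg₂det : g₂.det ≠ 0 := by
      rw [hg₂, Matrix.det_smul]
      exact mul_ne_zero (pow_ne_zero _ d.ne_zero) hgMdet
    have hG₀det : (Matrix.of G₀ : Mι₀).det ≠ 0 := by
      intro h0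
      have h1 : emb (Matrix.of G₀ : Mι₀).det = ((Matrix.of G₀ : Mι₀).map emb).det :=
        RingHom.map_det _ _
      rw [h0, map_zero, hG₀map] at h1
      exact hg₂det h1.symm
    let g₀ : GL ι F₀ := Matrix.GeneralLinearGroup.mkOfDetNeZero (Matrix.of G₀) hG₀det
    have hg₀coe : ((Matrix.GeneralLinearGroup.map emb g₀ : GL ι F) : Mι) = g₂ := hG₀map
    -- the multiplier descends
    have hkey : ∀ v₀ : ι → F₀, emb (Q₀ ((Matrix.of G₀ : Mι₀) *ᵥ v₀)) =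
        ((d * d * mult Q g : Fˣ) : F) * emb (Q₀ v₀) := by
      intro v₀
      rw [← hB, mapV_mulVec, hG₀map, hQg₂, hB]
    set c₀ : F₀ := Q₀ ((Matrix.of G₀ : Mι₀) *ᵥ e₀) * (Q₀ e₀)⁻¹ with hc₀
    have hc₀e : emb c₀ = ((d * d * mult Q g : Fˣ) : F) := by
      rw [hc₀, map_mul, hkey, map_inv₀, mul_assoc, mul_inv_cancel₀, mul_one]
      rw [Ne, map_eq_zero_iff emb emb.injective]
      exact he₀
    have hc₀0 : c₀ ≠ 0 := by
      intro h
      rw [h, map_zero] at hc₀e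
      exact (d * d * mult Q g).ne_zero hc₀e.symm
    have hg₀GO : g₀ ∈ GO Q₀ := by
      refine ⟨Units.mk0 c₀ hc₀0, fun v₀ => ?_⟩
      apply emb.injective
      show emb (Q₀ ((Matrix.of G₀ : Mι₀) *ᵥ v₀)) = emb (c₀ * Q₀ v₀)
      rw [hkey, map_mul, hc₀e]
    refine ⟨g₀, d⁻¹, hg₀GO, ?_⟩
    apply Units.ext
    rw [Units.val_mul, sclHom_coe, Matrix.smul_mul, Matrix.one_mul, hg₀coe, hg₂, smul_smul,
      ← Units.val_mul, inv_mul_cancel, Units.val_one, one_smul]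
  · rintro ⟨g₀, c, hg₀, hgc⟩
    have hg₀F : Matrix.GeneralLinearGroup.map emb g₀ ∈ GO Q := emb_mem_GO' emb Q₀ Q hB g₀ hg₀
    have h5 : g = scGO Q c * ⟨_, hg₀F⟩ := Subtype.ext hgc
    have h6 : sigmaGO ⇑Q σ ⟨_, hg₀F⟩ = ⟨_, hg₀F⟩ := by
      apply Subtype.ext
      apply Units.ext
      rw [sigmaGO_coe]
      ext i j
      exact hι1 _
    rw [h5, map_mul, PhiGO_scGO Q hperf hcent, one_mul, fieldAutPOm_mul_PhiGO, h6]

end gen

/-- (F2a) -/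
theorem cent_pgo_minus {F₀ : Type u₀} [Field F₀] [Fintype F₀] {F : Type u} [Field F] [Fintype F]
    {m : ℕ} (hm : 3 ≤ m) (emb : F₀ →+* F) (a₀ b₀ : F₀)
    (hab : ∀ z₁ z₂ : F, z₁ ^ 2 + emb a₀ * z₁ * z₂ + emb b₀ * z₂ ^ 2 = 0 → z₁ = 0 ∧ z₂ = 0)
    (σ : F ≃+* F) {r : ℕ} (hr : 0 < r) (hσ : orderOf σ = r)
    (hι1 : ∀ x, σ (emb x) = emb x) (hι2 : ∀ y, σ y = y → ∃ x, emb x = y)
    (hσQ : σ ∈ QAut ⇑(stdMinus F m (emb a₀) (emb b₀)))
    (g : ↥(GO (stdMinus F m (emb a₀) (emb b₀)))) :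
    (PhiGO ⇑(stdMinus F m (emb a₀) (emb b₀)) g *
        fieldAutPOm ⇑(stdMinus F m (emb a₀) (emb b₀)) ⟨σ, hσQ⟩ =
      fieldAutPOm ⇑(stdMinus F m (emb a₀) (emb b₀)) ⟨σ, hσQ⟩ *
        PhiGO ⇑(stdMinus F m (emb a₀) (emb b₀)) g) ↔
    ∃ (g₀ : GL ((Fin m ⊕ Fin m) ⊕ Fin 2) F₀) (c : Fˣ), g₀ ∈ GO (stdMinus F₀ m a₀ b₀) ∧
      (g : GL ((Fin m ⊕ Fin m) ⊕ Fin 2) F) = sclHom c * Matrix.GeneralLinearGroup.map emb g₀ := by
  have : Nonempty ((Fin m ⊕ Fin m) ⊕ Fin 2) := ⟨Sum.inr 0⟩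
  have hab' : AnisoPair (emb a₀) (emb b₀) := hab
  refine cent_pgo_gen (isBC_stdMinus m emb a₀ b₀) (minus_hperf hm _ _ hab') (minus_hcent hm _ _)
    (Pi.single (Sum.inr 0) 1) ?_ ⟨σ, hσQ⟩ hr hσ hι1 hι2 g
  rw [stdMinus_single_zero]
  exact one_ne_zero

end Cfsg.Agent.Helper5.OMF
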