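import Mathlib
import Cfsg.Agent.Lib.Helper5.OMFCent
import Cfsg.Agent.Lib.Helper50.GFO4
import Cfsg.Agent.Lib.Helper5.OMFF2a

/-!
# Minus-type form: the centraliser of a standard field automorphism in `Inndiag`
-/

set_option autoImplicit false
set_option linter.unusedSectionVars false
set_option linter.unusedSimpArgs false
set_option linter.unusedVariables false

namespace Cfsg.Agent.Helper5.OMF

open Module QuadraticMap Matrix Cfsg.Agent.Helper43 Cfsg.Agent.Helper44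
  Cfsg.Agent.Helper5.OrthAut Cfsg.Agent.Helper5.OrthLag Cfsg.Agent.Helper5.OrthPar
  Cfsg.Agent.Helper40.AutPOm Cfsg.Agent.Helper40.OrthEven

universe u u₀

section bcGO

variable {F₀ : Type u₀} [Field F₀] {F : Type u} [Field F] {ι : Type} [Fintype ι] [DecidableEq ι]
  {emb : F₀ →+* F} {Q₀ : QuadraticForm F₀ (ι → F₀)} {Q : QuadraticForm F (ι → F)}

/-- the embedding `GO(Q₀) → GO(Q)`, every characteristic -/
noncomputable def embGO' (hB : IsBC emb ⇑Q₀ ⇑Q) : ↥(GO Q₀) →* ↥(GO Q) :=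
  ((Matrix.GeneralLinearGroup.map emb).comp (GO Q₀).subtype).codRestrict (GO Q)
    (fun g => emb_mem_GO' emb Q₀ Q hB g.1 g.2)

theorem embGO'_val (hB : IsBC emb ⇑Q₀ ⇑Q) (g : ↥(GO Q₀)) :
    ((embGO' hB g : ↥(GO Q)) : GL ι F) = Matrix.GeneralLinearGroup.map emb g.1 := rfl

end bcGO

section std

variable {F : Type u} [Field F] [Fintype F]

local notation "MM" m => Matrix ((Fin m ⊕ Fin m) ⊕ Fin 2) ((Fin m ⊕ Fin m) ⊕ Fin 2) F
local notation "GG" m => GL ((Fin m ⊕ Fin m) ⊕ Fin 2) F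

/-- `PhiGO g` is inner-diagonal iff `g` preserves the classes -/
theorem PhiGO_mem_inDm_iff {m : ℕ} (hm : 3 ≤ m) (a b : F)
    (hab : ∀ z₁ z₂ : F, z₁ ^ 2 + a * z₁ * z₂ + b * z₂ ^ 2 = 0 → z₁ = 0 ∧ z₂ = 0)
    (g : ↥(GO (stdMinus F m a b))) :
    PhiGO ⇑(stdMinus F m a b) g ∈ inDm m a b ↔
      Cfsg.PreservesSingularClassesMinus m a b ((g : GG m) : MM m) := by
  have hab' : AnisoPair a b := hab
  constructor
  · intro h
    obtain ⟨g', hP', heq⟩ := (mem_inndiag_std_iff hm a b hab _).1 h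
    rw [PhiGO_eq_iff (stdMinus F m a b) (minus_hperf hm a b hab') (minus_hcent hm a b),
      Cfsg.Geo.mem_scalars_iff] at heq
    obtain ⟨c, hc⟩ := heq
    have h1 : ((g : GG m) : MM m) = (c : F) • ((g' : GG m) : MM m) := by
      have h2 : ((g' : GG m) : MM m) * ((((g' : GG m))⁻¹ * (g : GG m) : GG m) : MM m) =
          ((g : GG m) : MM m) := by
        rw [← Units.val_mul, mul_inv_cancel_left]
      rw [← h2, hc, Matrix.mul_smul, Matrix.mul_one]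
    rw [h1, preservesMinus_smul_iff m a b _ (Units.ne_zero c)]
    exact hP'
  · intro hP
    exact (mem_inndiag_std_iff hm a b hab _).2 ⟨g, hP, rfl⟩

end std

section main

variable {F₀ : Type u₀} [Field F₀] [Fintype F₀] {F : Type u} [Field F] [Fintype F]

/-- the centraliser of the standard field automorphism in `Inndiag`, standard position -/
theorem cent_iso_std {m : ℕ} (hm : 3 ≤ m) (emb : F₀ →+* F) (a₀ b₀ : F₀)
    (hab₀ : ∀ z₁ z₂ : F₀, z₁ ^ 2 + a₀ * z₁ * z₂ + b₀ * z₂ ^ 2 = 0 → z₁ = 0 ∧ z₂ = 0)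
    (hab : ∀ z₁ z₂ : F, z₁ ^ 2 + emb a₀ * z₁ * z₂ + emb b₀ * z₂ ^ 2 = 0 → z₁ = 0 ∧ z₂ = 0)
    (σ : F ≃+* F) {r : ℕ} (hr : 0 < r) (hσ : orderOf σ = r)
    (hι1 : ∀ x, σ (emb x) = emb x) (hι2 : ∀ y, σ y = y → ∃ x, emb x = y)
    (hσQ : σ ∈ QAut ⇑(stdMinus F m (emb a₀) (emb b₀))) :
    Nonempty (↥(inDm m (emb a₀) (emb b₀) ⊓ Subgroup.centralizer
        {fieldAutPOm ⇑(stdMinus F m (emb a₀) (emb b₀)) ⟨σ, hσQ⟩}) ≃*
      ↥(inDm (F := F₀) m a₀ b₀)) := by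
  classical
  have hab₀' : AnisoPair a₀ b₀ := hab₀
  have hab' : AnisoPair (emb a₀) (emb b₀) := hab
  have hB := isBC_stdMinus m emb a₀ b₀
  have hne : Nonempty ((Fin m ⊕ Fin m) ⊕ Fin 2) := ⟨Sum.inr 0⟩
  have hperf := minus_hperf hm (emb a₀) (emb b₀) hab'
  have hcent := minus_hcent (F := F) hm (emb a₀) (emb b₀)
  have hperf₀ := minus_hperf hm a₀ b₀ hab₀'
  have hcent₀ := minus_hcent (F := F₀) hm a₀ b₀
  set Θ : ↥(GO (stdMinus F₀ m a₀ b₀)) →* MulAut (Cfsg.POmega F ⇑(stdMinus F m (emb a₀) (emb b₀))) :=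
    (PhiGO ⇑(stdMinus F m (emb a₀) (emb b₀))).comp (embGO' hB) with hΘ
  have hker : Θ.ker = (PhiGO ⇑(stdMinus F₀ m a₀ b₀)).ker := by
    ext g
    rw [MonoidHom.mem_ker, MonoidHom.mem_ker, hΘ, MonoidHom.comp_apply,
      PhiGO_eq_one_iff _ hperf hcent, PhiGO_eq_one_iff _ hperf₀ hcent₀, embGO'_val,
      emb_mem_scalars_iff_I]
  set S₀ : Subgroup ↥(GO (stdMinus F₀ m a₀ b₀)) :=
    (inDm (F := F₀) m a₀ b₀).comap (PhiGO ⇑(stdMinus F₀ m a₀ b₀)) with hS₀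
  obtain ⟨e⟩ := Cfsg.Agent.Helper50.GF.map_equiv_of_ker_eq Θ (PhiGO ⇑(stdMinus F₀ m a₀ b₀)) hker S₀
  have h1 : S₀.map (PhiGO ⇑(stdMinus F₀ m a₀ b₀)) = inDm (F := F₀) m a₀ b₀ := by
    rw [hS₀, Subgroup.map_comap_eq, inf_eq_right]
    intro β hβ
    obtain ⟨g, -, rfl⟩ := (mem_inndiag_std_iff hm a₀ b₀ hab₀ β).1 hβ
    exact ⟨g, rfl⟩
  have h2 : S₀.map Θ = inDm m (emb a₀) (emb b₀) ⊓ Subgroup.centralizer
      {fieldAutPOm ⇑(stdMinus F m (emb a₀) (emb b₀)) ⟨σ, hσQ⟩} := by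
    ext β
    constructor
    · rintro ⟨g₀, hg₀S, rfl⟩
      have hP₀ := (PhiGO_mem_inDm_iff hm a₀ b₀ hab₀ g₀).1 hg₀S
      have hP := (preserves_emb_iff (by omega) emb a₀ b₀ hab₀ hab g₀.1 g₀.2).1 hP₀
      refine Subgroup.mem_inf.2 ⟨?_, ?_⟩
      · exact (PhiGO_mem_inDm_iff hm (emb a₀) (emb b₀) hab (embGO' hB g₀)).2 hP
      · rw [Subgroup.mem_centralizer_iff]
        intro h hh
        rw [Set.mem_singleton_iff.1 hh]
        symm
        refine (cent_pgo_minus hm emb a₀ b₀ hab σ hr hσ hι1 hι2 hσQ (embGO' hB g₀)).2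
          ⟨g₀.1, 1, g₀.2, ?_⟩
        rw [map_one, one_mul, embGO'_val]
    · intro hβ
      obtain ⟨hβ1, hβ2⟩ := Subgroup.mem_inf.1 hβ
      obtain ⟨g, hP, rfl⟩ := (mem_inndiag_std_iff hm (emb a₀) (emb b₀) hab β).1 hβ1
      have hcomm := (Subgroup.mem_centralizer_iff.1 hβ2) _ rfl
      obtain ⟨g₀, c, hg₀, hgc⟩ :=
        (cent_pgo_minus hm emb a₀ b₀ hab σ hr hσ hι1 hι2 hσQ g).1 hcomm.symm
      have hP' : Cfsg.PreservesSingularClassesMinus m (emb a₀) (emb b₀)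
          ((g₀ : Matrix ((Fin m ⊕ Fin m) ⊕ Fin 2) ((Fin m ⊕ Fin m) ⊕ Fin 2) F₀).map emb) := by
        rw [hgc, Units.val_mul, sclHom_coe, Matrix.smul_mul, Matrix.one_mul,
          preservesMinus_smul_iff m _ _ _ (Units.ne_zero c)] at hP
        exact hP
      have hP₀ := (preserves_emb_iff (by omega) emb a₀ b₀ hab₀ hab g₀ hg₀).2 hP'
      refine ⟨⟨g₀, hg₀⟩, (PhiGO_mem_inDm_iff hm a₀ b₀ hab₀ ⟨g₀, hg₀⟩).2 hP₀, ?_⟩
      have h5 : g = scGO (stdMinus F m (emb a₀) (emb b₀)) c * embGO' hB ⟨g₀, hg₀⟩ :=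
        Subtype.ext hgc
      rw [h5, map_mul, PhiGO_scGO _ hperf hcent, one_mul]
      rfl
  exact ⟨(MulEquiv.subgroupCongr h2).symm.trans (e.trans (MulEquiv.subgroupCongr h1))⟩

end main

end Cfsg.Agent.Helper5.OMF
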