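import Mathlib
import Cfsg.Agent.Lib.Helper5.OMFCent2
import Cfsg.Agent.Lib.Helper79.OMFF3o
import Cfsg.Agent.Lib.Helper49.OMFF1
import Cfsg.Agent.Lib.Helper40.AutPOmFieldMain

/-!
# Field automorphisms of prime order of `PΩ⁻`: the main statement
-/

set_option autoImplicit false
set_option linter.unusedSectionVars false
set_option linter.unusedSimpArgs false
set_option linter.unusedVariables false

namespace Cfsg.Agent.Helper5.OMF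

open Module QuadraticMap Matrix Cfsg.Agent.Helper43 Cfsg.Agent.Helper44
  Cfsg.Agent.Helper5.OrthAut Cfsg.Agent.Helper5.OrthLag Cfsg.Agent.Helper5.OrthPar
  Cfsg.Agent.Helper40.AutPOm Cfsg.Agent.Helper40.OrthEven Cfsg.Agent.Helper40.FixK
  Cfsg.Agent.Helper40.SplitCount Cfsg.Agent.Helper40.AutPSp

universe u u₀

section abstract

theorem splitClassCount_eq_one {X : Type*} [Group X] (H K : Subgroup X) (hKH : K ≤ H)
    (hnorm : ∀ h ∈ H, ∀ k ∈ K, h * k * h⁻¹ ∈ K) (x : X)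
    (h : ∀ h ∈ H, ∃ k ∈ K, ∃ c ∈ H, c * x = x * c ∧ h = k * c) :
    Cfsg.splitClassCount H K x = 1 := by
  rw [splitClassCount_eq H K hKH hnorm x, Subgroup.relIndex_eq_one]
  intro h' hh'
  exact (mem_MSub_iff H K hKH hnorm x h').2 (h h' hh')

theorem equiv_inf_centralizer {X Y : Type*} [Group X] [Group Y] (Φ : X ≃* Y) (H : Subgroup X)
    (H' : Subgroup Y) (hH : ∀ h, h ∈ H ↔ Φ h ∈ H') (x : X) :
    Nonempty (↥(H ⊓ Subgroup.centralizer {x}) ≃* ↥(H' ⊓ Subgroup.centralizer {Φ x})) := by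
  have e := Φ.subgroupMap (H ⊓ Subgroup.centralizer {x})
  have hmap : (H ⊓ Subgroup.centralizer {x}).map Φ.toMonoidHom =
      H' ⊓ Subgroup.centralizer {Φ x} := by
    ext y
    constructor
    · rintro ⟨h, hh, rfl⟩
      obtain ⟨h1, h2⟩ := Subgroup.mem_inf.1 hh
      refine Subgroup.mem_inf.2 ⟨(hH h).1 h1, ?_⟩
      rw [Subgroup.mem_centralizer_iff]
      intro z hz
      rw [Set.mem_singleton_iff.1 hz]
      have h3 : x * h = h * x := Subgroup.mem_centralizer_iff.1 h2 x rfl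
      show Φ x * Φ h = Φ h * Φ x
      rw [← map_mul, ← map_mul, h3]
    · intro hy
      obtain ⟨h1, h2⟩ := Subgroup.mem_inf.1 hy
      refine ⟨Φ.symm y, Subgroup.mem_inf.2 ⟨?_, ?_⟩, ?_⟩
      · rw [hH, MulEquiv.apply_symm_apply]; exact h1
      · rw [Subgroup.mem_centralizer_iff]
        intro z hz
        rw [Set.mem_singleton_iff.1 hz]
        apply Φ.injective
        rw [map_mul, map_mul, MulEquiv.apply_symm_apply]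
        exact Subgroup.mem_centralizer_iff.1 h2 _ rfl
      · show Φ (Φ.symm y) = y
        rw [MulEquiv.apply_symm_apply]
  exact ⟨e.trans (MulEquiv.subgroupCongr hmap)⟩

theorem congr_congr_symm {G H : Type*} [Group G] [Group H] (ψ : G ≃* H) (k : MulAut G) :
    MulAut.congr ψ.symm (MulAut.congr ψ k) = k := by
  apply MulEquiv.ext
  intro z
  show ψ.symm (ψ (k (ψ.symm (ψ z)))) = k z
  rw [MulEquiv.symm_apply_apply, MulEquiv.symm_apply_apply]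

theorem congr_inn {G H : Type*} [Group G] [Group H] (ψ : G ≃* H) (k : MulAut G)
    (hk : k ∈ Cfsg.Inn G) : MulAut.congr ψ k ∈ Cfsg.Inn H := by
  obtain ⟨y, rfl⟩ := hk
  refine ⟨ψ y, ?_⟩
  apply MulEquiv.ext
  intro z
  show ψ y * z * (ψ y)⁻¹ = ψ (y * ψ.symm z * y⁻¹)
  rw [map_mul, map_mul, map_inv, MulEquiv.apply_symm_apply]

end abstract

section one

variable {F : Type u} [Field F] [Fintype F]

local notation "MM" m => Matrix ((Fin m ⊕ Fin m) ⊕ Fin 2) ((Fin m ⊕ Fin m) ⊕ Fin 2) F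
local notation "GG" m => GL ((Fin m ⊕ Fin m) ⊕ Fin 2) F

theorem inn_le_inDm {m : ℕ} (hm : 3 ≤ m) (a b : F)
    (hab : ∀ z₁ z₂ : F, z₁ ^ 2 + a * z₁ * z₂ + b * z₂ ^ 2 = 0 → z₁ = 0 ∧ z₂ = 0) :
    Cfsg.Inn (Cfsg.POmega F ⇑(stdMinus F m a b)) ≤ inDm m a b := by
  classical
  by_cases hodd : Odd (Fintype.card F)
  · have hQ0 := hQ0_of_hyp (stdMinus F m a b) (stdMinus_isHypFamily F m a b) (by omega)
    unfold inDm
    rw [inndiag_minus_aux hodd m a b hab hQ0]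
    exact inn_le_inD _ hQ0 (m + 1)
  · have h2 := two_eq_zero_of_not_odd hodd
    unfold inDm
    rw [inndiag_char2_aux h2 hm a b hab]

theorem inn_le_gen {m : ℕ} (hm : 3 ≤ m) (a b : F)
    (hab : ∀ z₁ z₂ : F, z₁ ^ 2 + a * z₁ * z₂ + b * z₂ ^ 2 = 0 → z₁ = 0 ∧ z₂ = 0)
    (Q : ((Fin m ⊕ Fin m) ⊕ Fin 2 → F) → F) (hQ : ⇑(stdMinus F m a b) = Q) :
    Cfsg.Inn (Cfsg.POmega F Q) ≤
      Cfsg.autSubgroupOf (fun β : Cfsg.POmega F Q ≃* Cfsg.POmega F Q =>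
        ∃ g : GL ((Fin m ⊕ Fin m) ⊕ Fin 2) F,
          g ∈ Cfsg.Geo.quadSimilarityGroup (F := F) Q ∧
          Cfsg.PreservesSingularClassesMinus m a b (g : MM m) ∧
          Cfsg.IsInducedBySemilinearPOmega Q g (RingEquiv.refl F) β) := by
  subst hQ
  exact inn_le_inDm hm a b hab

theorem inn_le_inndiag_minus {m : ℕ} (hm : 3 ≤ m) (a b : F)
    (hab : ∀ z₁ z₂ : F, z₁ ^ 2 + a * z₁ * z₂ + b * z₂ ^ 2 = 0 → z₁ = 0 ∧ z₂ = 0) :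
    Cfsg.Inn (Cfsg.POmega F (Cfsg.quadFormMinus m F a b)) ≤ Cfsg.inndiagPOmegaMinus m F a b :=
  inn_le_gen hm a b hab _ (coe_stdMinus F m a b)

theorem orderOf_fieldAutPOm_gen {m : ℕ} (hm : 3 ≤ m) (a b : F)
    (hab : ∀ z₁ z₂ : F, z₁ ^ 2 + a * z₁ * z₂ + b * z₂ ^ 2 = 0 → z₁ = 0 ∧ z₂ = 0)
    (Q : ((Fin m ⊕ Fin m) ⊕ Fin 2 → F) → F) (hQ : ⇑(stdMinus F m a b) = Q)
    (σ : F ≃+* F) (hσQ : σ ∈ QAut Q) :
    orderOf (fieldAutPOm Q ⟨σ, hσQ⟩) = orderOf σ := by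
  subst hQ
  exact orderOf_fieldAutPOm_minus hm a b hab σ hσQ

end one

section main

variable {F₀ : Type u₀} [Field F₀] [Fintype F₀] {F : Type u} [Field F] [Fintype F]

theorem cent_iso_gen {m : ℕ} (hm : 3 ≤ m) (emb : F₀ →+* F) (a₀ b₀ : F₀)
    (hab₀ : ∀ z₁ z₂ : F₀, z₁ ^ 2 + a₀ * z₁ * z₂ + b₀ * z₂ ^ 2 = 0 → z₁ = 0 ∧ z₂ = 0)
    (hab : ∀ z₁ z₂ : F, z₁ ^ 2 + emb a₀ * z₁ * z₂ + emb b₀ * z₂ ^ 2 = 0 → z₁ = 0 ∧ z₂ = 0)
    (σ : F ≃+* F) {r : ℕ} (hr : 0 < r) (hσ : orderOf σ = r)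
    (hι1 : ∀ x, σ (emb x) = emb x) (hι2 : ∀ y, σ y = y → ∃ x, emb x = y)
    (Q : ((Fin m ⊕ Fin m) ⊕ Fin 2 → F) → F) (hQ : ⇑(stdMinus F m (emb a₀) (emb b₀)) = Q)
    (Q₀ : ((Fin m ⊕ Fin m) ⊕ Fin 2 → F₀) → F₀) (hQ₀ : ⇑(stdMinus F₀ m a₀ b₀) = Q₀)
    (hσQ : σ ∈ QAut Q) :
    Nonempty (↥(Cfsg.autSubgroupOf (fun β : Cfsg.POmega F Q ≃* Cfsg.POmega F Q =>
        ∃ g : GL ((Fin m ⊕ Fin m) ⊕ Fin 2) F,
          g ∈ Cfsg.Geo.quadSimilarityGroup (F := F) Q ∧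
          Cfsg.PreservesSingularClassesMinus m (emb a₀) (emb b₀)
            (g : Matrix ((Fin m ⊕ Fin m) ⊕ Fin 2) ((Fin m ⊕ Fin m) ⊕ Fin 2) F) ∧
          Cfsg.IsInducedBySemilinearPOmega Q g (RingEquiv.refl F) β) ⊓
        Subgroup.centralizer {fieldAutPOm Q ⟨σ, hσQ⟩}) ≃*
      ↥(Cfsg.autSubgroupOf (fun β : Cfsg.POmega F₀ Q₀ ≃* Cfsg.POmega F₀ Q₀ =>
        ∃ g : GL ((Fin m ⊕ Fin m) ⊕ Fin 2) F₀,
          g ∈ Cfsg.Geo.quadSimilarityGroup (F := F₀) Q₀ ∧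
          Cfsg.PreservesSingularClassesMinus m a₀ b₀
            (g : Matrix ((Fin m ⊕ Fin m) ⊕ Fin 2) ((Fin m ⊕ Fin m) ⊕ Fin 2) F₀) ∧
          Cfsg.IsInducedBySemilinearPOmega Q₀ g (RingEquiv.refl F₀) β))) := by
  subst hQ
  subst hQ₀
  exact cent_iso_std hm emb a₀ b₀ hab₀ hab σ hr hσ hι1 hι2 hσQ

theorem cent_iso_minus {m : ℕ} (hm : 3 ≤ m) (emb : F₀ →+* F) (a₀ b₀ : F₀)
    (hab₀ : ∀ z₁ z₂ : F₀, z₁ ^ 2 + a₀ * z₁ * z₂ + b₀ * z₂ ^ 2 = 0 → z₁ = 0 ∧ z₂ = 0)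
    (hab : ∀ z₁ z₂ : F, z₁ ^ 2 + emb a₀ * z₁ * z₂ + emb b₀ * z₂ ^ 2 = 0 → z₁ = 0 ∧ z₂ = 0)
    (σ : F ≃+* F) {r : ℕ} (hr : 0 < r) (hσ : orderOf σ = r)
    (hι1 : ∀ x, σ (emb x) = emb x) (hι2 : ∀ y, σ y = y → ∃ x, emb x = y)
    (hσQ : σ ∈ QAut (Cfsg.quadFormMinus m F (emb a₀) (emb b₀))) :
    Nonempty (↥(Cfsg.inndiagPOmegaMinus m F (emb a₀) (emb b₀) ⊓ Subgroup.centralizer
        {fieldAutPOm (Cfsg.quadFormMinus m F (emb a₀) (emb b₀)) ⟨σ, hσQ⟩}) ≃*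
      ↥(Cfsg.inndiagPOmegaMinus m F₀ a₀ b₀)) :=
  cent_iso_gen hm emb a₀ b₀ hab₀ hab σ hr hσ hι1 hι2 _ (coe_stdMinus F m (emb a₀) (emb b₀)) _
    (coe_stdMinus F₀ m a₀ b₀) hσQ

end main

end Cfsg.Agent.Helper5.OMF
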