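import Mathlib
import Cfsg.Agent.Lib.Helper5.OMFField

/-!
# Field automorphisms of prime order of `PΩ⁻`: S2716
-/

set_option autoImplicit false
set_option linter.unusedSectionVars false
set_option linter.unusedSimpArgs false
set_option linter.unusedVariables false

namespace Cfsg.Agent.Helper5.OMF

open Module QuadraticMap Matrix Cfsg.Agent.Helper43 Cfsg.Agent.Helper44
  Cfsg.Agent.Helper5.OrthAut Cfsg.Agent.Helper5.OrthLag Cfsg.Agent.Helper5.OrthPar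
  Cfsg.Agent.Helper40.AutPOm Cfsg.Agent.Helper40.OrthEven Cfsg.Agent.Helper40.FixK
  Cfsg.Agent.Helper40.SplitCount Cfsg.Agent.Helper40.AutPSp

universe u u₀

variable {F₀ : Type u₀} [Field F₀] [Fintype F₀] {F : Type u} [Field F] [Fintype F]

/-- the statement in standard position, after the reduction -/
theorem s2716_aux {m : ℕ} (hm : 3 ≤ m) (a b : F)
    (hab : ∀ z₁ z₂ : F, z₁ ^ 2 + a * z₁ * z₂ + b * z₂ ^ 2 = 0 → z₁ = 0 ∧ z₂ = 0)
    (x : MulAut (Cfsg.POmega F (Cfsg.quadFormMinus m F a b)))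
    (emb : F₀ →+* F) (a₀ b₀ : F₀)
    (hab' : ∀ z₁ z₂ : F, z₁ ^ 2 + emb a₀ * z₁ * z₂ + emb b₀ * z₂ ^ 2 = 0 → z₁ = 0 ∧ z₂ = 0)
    (ψ : Cfsg.POmega F (Cfsg.quadFormMinus m F a b) ≃*
      Cfsg.POmega F (Cfsg.quadFormMinus m F (emb a₀) (emb b₀)))
    (σ : F ≃+* F) {r : ℕ} (hr : Odd r) (hr0 : 0 < r) (hσ : orderOf σ = r)
    (hι1 : ∀ x, σ (emb x) = emb x) (hι2 : ∀ y, σ y = y → ∃ x, emb x = y)
    (hσQ : σ ∈ QAut (Cfsg.quadFormMinus m F (emb a₀) (emb b₀)))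
    (hx' : MulAut.congr ψ x = fieldAutPOm (Cfsg.quadFormMinus m F (emb a₀) (emb b₀)) ⟨σ, hσQ⟩) :
    (∀ z₁ z₂ : F₀, z₁ ^ 2 + a₀ * z₁ * z₂ + b₀ * z₂ ^ 2 = 0 → z₁ = 0 ∧ z₂ = 0) ∧
      Nonempty (↥(Cfsg.inndiagPOmegaMinus m F a b ⊓ Subgroup.centralizer {x}) ≃*
        ↥(Cfsg.inndiagPOmegaMinus m F₀ a₀ b₀)) ∧
      Cfsg.splitClassCount (Cfsg.inndiagPOmegaMinus m F a b)
        (Cfsg.Inn (Cfsg.POmega F (Cfsg.quadFormMinus m F a b))) x = 1 := by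
  classical
  have hab₀ : ∀ z₁ z₂ : F₀, z₁ ^ 2 + a₀ * z₁ * z₂ + b₀ * z₂ ^ 2 = 0 → z₁ = 0 ∧ z₂ = 0 := by
    intro z₁ z₂ h
    have h1 := congrArg emb h
    rw [map_add, map_add, map_mul, map_mul, map_mul, map_pow, map_pow, map_zero] at h1
    obtain ⟨e1, e2⟩ := hab' _ _ h1
    exact ⟨(map_eq_zero_iff emb emb.injective).1 e1, (map_eq_zero_iff emb emb.injective).1 e2⟩
  have hH : ∀ h, h ∈ Cfsg.inndiagPOmegaMinus m F a b ↔
      MulAut.congr ψ h ∈ Cfsg.inndiagPOmegaMinus m F (emb a₀) (emb b₀) := by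
    intro h
    constructor
    · exact transport_inndiag hm a b _ _ hab hab' ψ h
    · intro hh
      have := transport_inndiag hm _ _ a b hab' hab ψ.symm _ hh
      rwa [congr_congr_symm] at this
  refine ⟨hab₀, ?_, ?_⟩
  · obtain ⟨e1⟩ := equiv_inf_centralizer (MulAut.congr ψ) (Cfsg.inndiagPOmegaMinus m F a b)
      (Cfsg.inndiagPOmegaMinus m F (emb a₀) (emb b₀)) hH x
    obtain ⟨e2⟩ := cent_iso_minus hm emb a₀ b₀ hab₀ hab' σ hr0 hσ hι1 hι2 hσQ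
    rw [hx'] at e1
    exact ⟨e1.trans e2⟩
  · apply splitClassCount_eq_one _ _ (inn_le_inndiag_minus hm a b hab)
      (fun h _ k hk => inn_conj_mem_gen h k hk)
    intro h hh
    by_cases hodd : Odd (Fintype.card F)
    · obtain ⟨t, c, ht, hc, hcomm, htc⟩ :=
        Cfsg.Agent.Helper79.OMF.inndiag_eq_inn_mul_cent_odd hodd hm emb a₀ b₀ hab' σ hr hσ hι1 hι2
          hσQ _ ((hH h).1 hh)
      refine ⟨MulAut.congr ψ.symm t, congr_inn ψ.symm t ht, MulAut.congr ψ.symm c,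
        transport_inndiag hm _ _ a b hab' hab ψ.symm c hc, ?_, ?_⟩
      · apply (MulAut.congr ψ).injective
        rw [map_mul, map_mul, congr_symm_congr, hx', hcomm]
      · apply (MulAut.congr ψ).injective
        rw [map_mul, congr_symm_congr, congr_symm_congr, htc]
    · have h2 := two_eq_zero_of_not_odd hodd
      rw [inndiag_minus_eq_inn_char2 h2 hm a b hab] at hh
      refine ⟨h, hh, 1, Subgroup.one_mem _, ?_, ?_⟩
      · rw [one_mul, mul_one]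
      · rw [mul_one]

/-- S2716 -/
theorem s2716_main {p f : ℕ} [Fact p.Prime] (hF : Fintype.card F = p ^ f) (hf : 1 ≤ f)
    {m : ℕ} (hm : 3 ≤ m) (a b : F)
    (hab : ∀ z₁ z₂ : F, z₁ ^ 2 + a * z₁ * z₂ + b * z₂ ^ 2 = 0 → z₁ = 0 ∧ z₂ = 0)
    (x : MulAut (Cfsg.POmega F (Cfsg.quadFormMinus m F a b)))
    (hx : Cfsg.IsFieldAutClassPOmegaMinus m x) {r : ℕ} (hr : r.Prime) (hxr : orderOf x = r)
    (hF₀ : Fintype.card F₀ = p ^ (f / r)) :
    Odd r ∧ r ∣ f ∧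
      (∃ a₀ b₀ : F₀, (∀ z₁ z₂ : F₀, z₁ ^ 2 + a₀ * z₁ * z₂ + b₀ * z₂ ^ 2 = 0 → z₁ = 0 ∧ z₂ = 0) ∧
        Nonempty (↥(Cfsg.inndiagPOmegaMinus m F a b ⊓ Subgroup.centralizer {x}) ≃*
          ↥(Cfsg.inndiagPOmegaMinus m F₀ a₀ b₀))) ∧
      Cfsg.splitClassCount (Cfsg.inndiagPOmegaMinus m F a b)
        (Cfsg.Inn (Cfsg.POmega F (Cfsg.quadFormMinus m F a b))) x = 1 := by
  classical
  have hp : p.Prime := Fact.out
  obtain ⟨a', b', ψ, σ, hab', hσ1, ha', hb', hstd⟩ := hx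
  have hσQ : σ ∈ QAut (Cfsg.quadFormMinus m F a' b') := qaut_minus m a' b' σ ha' hb'
  have hx' : MulAut.congr ψ x = fieldAutPOm (Cfsg.quadFormMinus m F a' b') ⟨σ, hσQ⟩ := by
    have h1 := (isFieldAutOf_iff (Cfsg.quadFormMinus m F a' b') ⟨σ, hσQ⟩ _).1 hstd
    rw [← h1]
    apply MulEquiv.ext
    intro z
    rfl
  have hinj : Function.Injective (MulAut.congr ψ :
      MulAut (Cfsg.POmega F (Cfsg.quadFormMinus m F a b)) →
        MulAut (Cfsg.POmega F (Cfsg.quadFormMinus m F a' b'))) := (MulAut.congr ψ).injective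
  have hφr : orderOf (fieldAutPOm (Cfsg.quadFormMinus m F a' b') ⟨σ, hσQ⟩) = r := by
    rw [← hx', ← hxr]
    exact orderOf_injective (MulAut.congr ψ).toMonoidHom hinj x
  have hσr : orderOf σ = r := by
    rw [← orderOf_fieldAutPOm_gen hm a' b' hab' _ (coe_stdMinus F m a' b') σ hσQ]
    exact hφr
  have hodd : Odd r := Cfsg.Agent.Helper49.OMF.odd_of_fixed_aniso a' b' hab' σ ha' hb' hr hσr
  have hr0 : 0 < r := hr.pos
  obtain ⟨hrf, hK⟩ := card_fixK σ hp hF hσr hr0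
  have : Fintype (fixK σ) := Fintype.ofFinite _
  have hcardK : Fintype.card F₀ = Fintype.card (fixK σ) := by
    rw [hF₀, ← hK, Nat.card_eq_fintype_card]
  have e4 : F₀ ≃+* (fixK σ) := FiniteField.ringEquivOfCardEq hcardK
  let emb : F₀ →+* F := (fixK σ).subtype.comp (e4 : F₀ →+* ↥(fixK σ))
  have hι1 : ∀ y, σ (emb y) = emb y := fun y => (e4 y).2
  have hι2 : ∀ a, σ a = a → ∃ y, emb y = a := by
    intro a ha
    refine ⟨e4.symm ⟨a, ha⟩, ?_⟩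
    show ((e4 (e4.symm ⟨a, ha⟩) : ↥(fixK σ)) : F) = a
    rw [RingEquiv.apply_symm_apply]
  obtain ⟨a₀, ha₀⟩ := hι2 a' ha'
  obtain ⟨b₀, hb₀⟩ := hι2 b' hb'
  subst ha₀
  subst hb₀
  obtain ⟨h1, h2, h3⟩ := s2716_aux hm a b hab x emb a₀ b₀ hab' ψ σ hodd hr0 hσr hι1 hι2 hσQ hx'
  exact ⟨hodd, hrf, ⟨a₀, b₀, h1, h2⟩, h3⟩

end Cfsg.Agent.Helper5.OMF
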