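import Mathlib
import Cfsg.Agent.Lib.Helper5.OMFField2
import Cfsg.Agent.Lib.Helper5.OrthLag8
import Cfsg.Agent.Lib.Helper40.OrthEvenFinal
import Cfsg.Agent.Lib.Helper40.OEV.A3
import Cfsg.Agent.Lib.Helper40.AutPOmFieldMain

/-!
# PFA project (S2715): field automorphisms of prime order of `PΩ⁺_{2m}(F)` -- definitions

`HP m F = Inndiag`, `KP m F = Inn`, `phiP m σ` = the standard field automorphism of `σ`,
`dP m μ` = the diagonal automorphism induced by the similarity `diag(μ,…,μ,1,…,1)`.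
-/

set_option autoImplicit false

namespace Cfsg.Agent.Helper5.PFA

open Matrix QuadraticMap Cfsg.Agent.Helper43 Cfsg.Agent.Helper5.OrthAut Cfsg.Agent.Helper40.AutPOm
  Cfsg.Agent.Helper40.FieldCent

universe u u₀

variable {F : Type u} [Field F] [Fintype F]

/-- `Inndiag(PΩ⁺_{2m}(F))` -/
abbrev HP (m : ℕ) (F : Type u) [Field F] : Subgroup (MulAut (Cfsg.POmega F (Cfsg.quadFormPlus m F))) :=
  Cfsg.inndiagPOmegaPlus m F

/-- `Inn(PΩ⁺_{2m}(F))` -/
abbrev KP (m : ℕ) (F : Type u) [Field F] : Subgroup (MulAut (Cfsg.POmega F (Cfsg.quadFormPlus m F))) :=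
  Cfsg.Inn (Cfsg.POmega F (Cfsg.quadFormPlus m F))

/-- the standard field automorphism `φ_σ` of `PΩ⁺_{2m}(F)` -/
noncomputable def phiP (m : ℕ) (σ : F ≃+* F) : MulAut (Cfsg.POmega F (Cfsg.quadFormPlus m F)) :=
  fieldAutStd (Cfsg.quadFormPlus m F) (qaut_plus m) σ

/-- the similarity `diag(μ,…,μ,1,…,1)` as an element of `GO` -/
noncomputable def deltaGO (m : ℕ) (μ : Fˣ) :
    ↥(Cfsg.Geo.quadSimilarityGroup (F := F) (Cfsg.quadFormPlus m F)) :=
  ⟨deltaPlus m μ, deltaPlus_mem m μ⟩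

/-- the diagonal automorphism induced by `diag(μ,…,μ,1,…,1)` -/
noncomputable def dP (m : ℕ) (μ : Fˣ) : MulAut (Cfsg.POmega F (Cfsg.quadFormPlus m F)) :=
  PhiGO (Cfsg.quadFormPlus m F) (deltaGO m μ)

omit [Fintype F] in
theorem isBC_stdPlus {F₀ : Type u₀} [Field F₀] (m : ℕ) (emb : F₀ →+* F) :
    IsBC emb ⇑(stdPlus F₀ m) ⇑(stdPlus F m) := by
  intro v
  rw [stdPlus_apply, stdPlus_apply]
  unfold Cfsg.quadFormPlus
  simp [mapV, map_sum, map_mul]

end Cfsg.Agent.Helper5.PFA
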