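import Mathlib
import Cfsg.Prelude.Def_Classical

set_option autoImplicit false

namespace Cfsg.Agent.Helper5

open Matrix

variable {F : Type*} [Field F] {n q : ℕ}

lemma mem_SU_iff (A : Matrix.SpecialLinearGroup (Fin n) F) :
    A ∈ Cfsg.SU n F q ↔ ∀ u v : Fin n → F,
      Cfsg.hermForm n F q (A.val *ᵥ u) (A.val *ᵥ v) = Cfsg.hermForm n F q u v :=
  Iff.rfl

/-- Diagonal matrices with entries of norm one and determinant one are in `SU`. -/
lemma mem_SU_of_val_eq_diagonal (A : Matrix.SpecialLinearGroup (Fin n) F) (d : Fin n → F)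
    (hA : A.val = Matrix.diagonal d) (hd : ∀ k, d k ^ (q + 1) = 1) :
    A ∈ Cfsg.SU n F q := by
  rw [mem_SU_iff]
  intro u v
  simp only [Cfsg.hermForm, hA, Matrix.mulVec_diagonal]
  apply Finset.sum_congr rfl
  intro k _
  have := hd k
  calc d k * u k * (d k * v k) ^ q = d k ^ (q + 1) * (u k * v k ^ q) := by ring
    _ = u k * v k ^ q := by rw [this, one_mul]

/-- Even permutation matrices are in `SU`. -/
lemma mem_SU_of_val_eq_permMatrix (A : Matrix.SpecialLinearGroup (Fin n) F)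
    (σ : Equiv.Perm (Fin n)) (hA : A.val = σ.permMatrix F) :
    A ∈ Cfsg.SU n F q := by
  rw [mem_SU_iff]
  intro u v
  simp only [Cfsg.hermForm, hA, Matrix.permMatrix_mulVec, Function.comp_apply]
  exact Equiv.sum_comp σ (fun k => u k * v k ^ q)

/-- Scalar matrices in `SU`. -/
lemma mem_SU_of_val_eq_smul_one (A : Matrix.SpecialLinearGroup (Fin n) F) (μ : F)
    (hA : A.val = μ • (1 : Matrix (Fin n) (Fin n) F)) (hμ : μ ^ (q + 1) = 1) :
    A ∈ Cfsg.SU n F q := by
  apply mem_SU_of_val_eq_diagonal A (fun _ => μ) _ (fun _ => hμ)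
  rw [hA]
  ext i j
  simp [Matrix.diagonal_apply, Matrix.one_apply]


/-- The diagonal entries `λ` at `a`, `λ⁻¹` at `b`, `1` elsewhere. -/
noncomputable def dfun (a b : Fin n) (lam : F) : Fin n → F :=
  Pi.mulSingle a lam * Pi.mulSingle b lam⁻¹

lemma dfun_left (a b : Fin n) (hab : a ≠ b) (lam : F) : dfun a b lam a = lam := by
  simp [dfun, hab]

lemma dfun_right (a b : Fin n) (hab : a ≠ b) (lam : F) : dfun a b lam b = lam⁻¹ := by
  simp [dfun, hab.symm]

lemma dfun_pow (a b : Fin n) (lam : F) (m : ℕ) (h : lam ^ m = 1) (k : Fin n) :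
    dfun a b lam k ^ m = 1 := by
  simp only [dfun, Pi.mul_apply, Pi.mulSingle_apply, mul_pow]
  split_ifs <;> simp [h]

lemma det_diagonal_dfun (a b : Fin n) (lam : F) (h0 : lam ≠ 0) :
    (Matrix.diagonal (dfun a b lam)).det = 1 := by
  rw [Matrix.det_diagonal, dfun]
  simp only [Pi.mul_apply]
  rw [Finset.prod_mul_distrib, Finset.prod_pi_mulSingle', Finset.prod_pi_mulSingle']
  simp [h0]

/-- A matrix commuting with `diagonal (dfun a b lam)` where `lam² ≠ 1` has zero `(a,b)` entry. -/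
lemma entry_zero_of_commute_diagonal (M : Matrix (Fin n) (Fin n) F) (lam : F) (hl0 : lam ≠ 0)
    (hlam : lam * lam ≠ 1) (a b : Fin n) (hab : a ≠ b)
    (hcomm : M * Matrix.diagonal (dfun a b lam) = Matrix.diagonal (dfun a b lam) * M) :
    M a b = 0 := by
  have h1 := congrFun (congrFun hcomm a) b
  rw [Matrix.mul_diagonal, Matrix.diagonal_mul, dfun_left a b hab, dfun_right a b hab] at h1
  by_contra hne
  apply hlam
  have h2 : lam⁻¹ = lam := by
    have : M a b * lam⁻¹ = M a b * lam := by rw [h1]; ring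
    exact mul_left_cancel₀ hne this
  calc lam * lam = lam * lam⁻¹ := by rw [h2]
    _ = 1 := mul_inv_cancel₀ hl0

/-- A diagonal matrix commuting with a permutation matrix. -/
lemma diag_entry_eq_of_commute_perm (M : Matrix (Fin n) (Fin n) F)
    (hM : ∀ a b, a ≠ b → M a b = 0) (σ : Equiv.Perm (Fin n))
    (hcomm : M * σ.permMatrix F = σ.permMatrix F * M) (a : Fin n) :
    M a a = M (σ a) (σ a) := by
  have hdiag : M = Matrix.diagonal (fun i => M i i) := by
    ext i j
    by_cases hij : i = j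
    · subst hij; simp
    · rw [Matrix.diagonal_apply_ne _ hij, hM i j hij]
  have h1 := congrArg (fun A : Matrix (Fin n) (Fin n) F => (A *ᵥ (fun _ => (1 : F))) a) hcomm
  simp only [← Matrix.mulVec_mulVec, Matrix.permMatrix_mulVec] at h1
  rw [hdiag] at h1
  simp only [Matrix.mulVec_diagonal, Function.comp_apply, mul_one] at h1
  exact h1


lemma commute_val_of_mem_center (g : Cfsg.SU n F q)
    (hg : g ∈ Subgroup.center (Cfsg.SU n F q)) (A : Matrix.SpecialLinearGroup (Fin n) F)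
    (hA : A ∈ Cfsg.SU n F q) :
    (g : Matrix.SpecialLinearGroup (Fin n) F).val * A.val =
      A.val * (g : Matrix.SpecialLinearGroup (Fin n) F).val := by
  rw [Subgroup.mem_center_iff] at hg
  have h1 := hg ⟨A, hA⟩
  have h2 := congrArg (fun x : Cfsg.SU n F q => (x : Matrix.SpecialLinearGroup (Fin n) F).val) h1
  simp only [Subgroup.coe_mul, Matrix.SpecialLinearGroup.coe_mul] at h2
  exact h2.symm

/-- Central elements of `SU_n`, `n ≥ 3`, are scalar (given a norm-one `lam` with `lam² ≠ 1`). -/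
theorem center_SU_scalar (hn : 3 ≤ n) (lam : F) (hlam1 : lam ^ (q + 1) = 1)
    (hlam2 : lam * lam ≠ 1) (g : Cfsg.SU n F q) (hg : g ∈ Subgroup.center (Cfsg.SU n F q)) :
    (g : Matrix.SpecialLinearGroup (Fin n) F).val =
      (g : Matrix.SpecialLinearGroup (Fin n) F).val ⟨0, by omega⟩ ⟨0, by omega⟩ •
        (1 : Matrix (Fin n) (Fin n) F) := by
  obtain ⟨M, hMdef⟩ : ∃ M, M = (g : Matrix.SpecialLinearGroup (Fin n) F).val := ⟨_, rfl⟩
  rw [← hMdef]
  have hl0 : lam ≠ 0 := by
    rintro rfl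
    rw [zero_pow (by omega)] at hlam1
    exact zero_ne_one hlam1
  -- off-diagonal entries vanish
  have hoff : ∀ a b, a ≠ b → M a b = 0 := by
    intro a b hab
    obtain ⟨A, hA⟩ : ∃ A : Matrix.SpecialLinearGroup (Fin n) F,
        A.val = Matrix.diagonal (dfun a b lam) := ⟨⟨_, det_diagonal_dfun a b lam hl0⟩, rfl⟩
    have hmem : A ∈ Cfsg.SU n F q :=
      mem_SU_of_val_eq_diagonal A _ hA (dfun_pow a b lam _ hlam1)
    have hc := commute_val_of_mem_center g hg A hmem
    rw [hA, ← hMdef] at hc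
    exact entry_zero_of_commute_diagonal M lam hl0 hlam2 a b hab hc
  -- diagonal entries agree
  have hdiag : ∀ a b, a ≠ b → M a a = M b b := by
    intro a b hab
    obtain ⟨c, hca, hcb⟩ : ∃ c : Fin n, c ≠ a ∧ c ≠ b := by
      by_contra hcon
      push Not at hcon
      have : (Finset.univ : Finset (Fin n)) ⊆ {a, b} := by
        intro c _
        by_cases hca : c = a
        · simp [hca]
        · simp [hcon c hca]
      have h1 := Finset.card_le_card this
      rw [Finset.card_univ, Fintype.card_fin] at h1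
      have h2 : ({a, b} : Finset (Fin n)).card ≤ 2 := Finset.card_le_two
      omega
    obtain ⟨σ, hσ⟩ : ∃ σ : Equiv.Perm (Fin n), σ = Equiv.swap a b * Equiv.swap b c := ⟨_, rfl⟩
    have hsign : Equiv.Perm.sign σ = 1 := by
      rw [hσ, map_mul, Equiv.Perm.sign_swap hab, Equiv.Perm.sign_swap (Ne.symm hcb)]
      rfl
    have hdetσ : (σ.permMatrix F).det = 1 := by
      rw [Matrix.det_permutation, hsign]; simp
    obtain ⟨A, hA⟩ : ∃ A : Matrix.SpecialLinearGroup (Fin n) F,
        A.val = σ.permMatrix F := ⟨⟨_, hdetσ⟩, rfl⟩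
    have hmem : A ∈ Cfsg.SU n F q := mem_SU_of_val_eq_permMatrix A σ hA
    have hc := commute_val_of_mem_center g hg A hmem
    rw [hA, ← hMdef] at hc
    have h1 := diag_entry_eq_of_commute_perm M hoff σ hc a
    have h2 : σ a = b := by
      rw [hσ, Equiv.Perm.mul_apply, Equiv.swap_apply_of_ne_of_ne hab (Ne.symm hca),
        Equiv.swap_apply_left]
    rw [h2] at h1
    exact h1
  ext i j
  rw [Matrix.smul_apply, Matrix.one_apply, smul_eq_mul]
  by_cases hij : i = j
  · subst hij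
    rw [if_pos rfl, mul_one]
    by_cases hi : i = ⟨0, by omega⟩
    · rw [hi]
    · exact hdiag i _ hi
  · rw [if_neg hij, mul_zero]
    exact hoff i j hij


/-- In a field with `q²` elements there is `lam` with `lam^(q+1) = 1` and `lam² ≠ 1`. -/
lemma exists_norm_one_sq_ne_one [Fintype F] (hF : Fintype.card F = q ^ 2) :
    ∃ lam : F, lam ^ (q + 1) = 1 ∧ lam * lam ≠ 1 := by
  have hq2 : 2 ≤ q := by
    have h1 : 1 < Fintype.card F := Fintype.one_lt_card
    rw [hF] at h1
    by_contra hlt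
    have : q = 0 ∨ q = 1 := by omega
    rcases this with rfl | rfl <;> simp at h1
  obtain ⟨ζ, hζ⟩ := IsCyclic.exists_generator (α := Fˣ)
  have hord : orderOf ζ = q ^ 2 - 1 := by
    rw [orderOf_eq_card_of_forall_mem_zpowers hζ, Nat.card_units,
      Nat.card_eq_fintype_card (α := F), hF]
  have hfac : q ^ 2 - 1 = (q - 1) * (q + 1) := by
    obtain ⟨k, rfl⟩ : ∃ k, q = k + 2 := ⟨q - 2, by omega⟩
    have : (k + 2) ^ 2 = (k + 2 - 1) * (k + 2 + 1) + 1 := by
      simp only [show k + 2 - 1 = k + 1 by omega]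
      ring
    omega
  refine ⟨((ζ ^ (q - 1) : Fˣ) : F), ?_, ?_⟩
  · rw [← Units.val_pow_eq_pow_val, ← pow_mul, ← hfac, ← hord, pow_orderOf_eq_one]
    rfl
  · intro h
    have h1 : (ζ ^ (q - 1)) * (ζ ^ (q - 1)) = (1 : Fˣ) := by
      apply Units.ext
      rw [Units.val_mul]
      exact h
    rw [← pow_add] at h1
    have h2 := orderOf_dvd_of_pow_eq_one h1
    rw [hord, hfac] at h2
    have h3 : (q - 1) * (q + 1) ≤ q - 1 + (q - 1) := Nat.le_of_dvd (by omega) h2
    have h4 : (q - 1) * 3 ≤ (q - 1) * (q + 1) := Nat.mul_le_mul_left _ (by omega)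
    omega

/-- Scalar elements of `SU`. -/
noncomputable def scalarSU (n : ℕ) (q : ℕ) (μ : F) (h1 : μ ^ (q + 1) = 1) (h2 : μ ^ n = 1) :
    Cfsg.SU n F q :=
  ⟨⟨μ • (1 : Matrix (Fin n) (Fin n) F), by
    rw [Matrix.det_smul, Matrix.det_one, Fintype.card_fin, h2, mul_one]⟩,
    mem_SU_of_val_eq_smul_one _ μ rfl h1⟩

lemma scalarSU_val (μ : F) (h1 : μ ^ (q + 1) = 1) (h2 : μ ^ n = 1) :
    ((scalarSU n q μ h1 h2 : Cfsg.SU n F q) : Matrix.SpecialLinearGroup (Fin n) F).val =
      μ • (1 : Matrix (Fin n) (Fin n) F) := rfl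

lemma scalarSU_mem_center (μ : F) (h1 : μ ^ (q + 1) = 1) (h2 : μ ^ n = 1) :
    scalarSU n q μ h1 h2 ∈ Subgroup.center (Cfsg.SU n F q) := by
  rw [Subgroup.mem_center_iff]
  intro h
  apply Subtype.ext
  apply Subtype.ext
  simp only [Subgroup.coe_mul, Matrix.SpecialLinearGroup.coe_mul, scalarSU_val]
  rw [Matrix.mul_smul, Matrix.smul_mul, Matrix.mul_one, Matrix.one_mul]

/-- The scalar attached to an element of `SU` is of norm one, and of order dividing `n`. -/
lemma scalar_pow_of_mem_SU (hn : 0 < n) (A : Matrix.SpecialLinearGroup (Fin n) F)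
    (hA : A ∈ Cfsg.SU n F q) (μ : F) (hμ : A.val = μ • (1 : Matrix (Fin n) (Fin n) F)) :
    μ ^ (q + 1) = 1 ∧ μ ^ n = 1 := by
  constructor
  · rw [mem_SU_iff] at hA
    have h1 := hA (Pi.single ⟨0, hn⟩ 1) (Pi.single ⟨0, hn⟩ 1)
    rw [hμ] at h1
    simp only [Cfsg.hermForm, Matrix.smul_mulVec, Matrix.one_mulVec, Pi.smul_apply,
      smul_eq_mul] at h1
    rw [Finset.sum_eq_single ⟨0, hn⟩, Finset.sum_eq_single ⟨0, hn⟩] at h1
    · simp only [Pi.single_eq_same, mul_one, one_pow] at h1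
      rw [pow_succ, mul_comm]
      exact h1
    · intro b _ hb
      simp [hb]
    · simp
    · intro b _ hb
      simp [hb]
    · simp
  · have h1 := A.2
    rw [hμ, Matrix.det_smul, Matrix.det_one, Fintype.card_fin, mul_one] at h1
    exact h1


/-- Count of `μ : Fˣ` with `μ^(q+1) = 1` and `μ^n = 1`. -/
lemma card_norm_one_roots [Fintype F] (hF : Fintype.card F = q ^ 2) (n : ℕ) :
    Nat.card {μ : Fˣ // μ ^ (q + 1) = 1 ∧ μ ^ n = 1} = Nat.gcd n (q + 1) := by
  have e : {μ : Fˣ // μ ^ (q + 1) = 1 ∧ μ ^ n = 1} ≃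
      (powMonoidHom (Nat.gcd n (q + 1)) : Fˣ →* Fˣ).ker := by
    refine Equiv.subtypeEquivRight ?_
    intro μ
    rw [MonoidHom.mem_ker, powMonoidHom_apply, pow_gcd_eq_one]
    exact and_comm
  rw [Nat.card_congr e, IsCyclic.card_powMonoidHom_ker, Nat.card_units,
    Nat.card_eq_fintype_card (α := F), hF]
  apply Nat.gcd_eq_right
  have h1 : Nat.gcd n (q + 1) ∣ q + 1 := Nat.gcd_dvd_right _ _
  have h2 : q + 1 ∣ q ^ 2 - 1 := by
    have : q ^ 2 - 1 = (q + 1) * (q - 1) := by
      rcases q with _ | k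
      · simp
      · simp only [Nat.add_sub_cancel]
        have : (k + 1) ^ 2 = (k + 1 + 1) * k + 1 := by ring
        omega
    rw [this]
    exact dvd_mul_right _ _
  exact h1.trans h2

theorem card_center_SU_aux [Fintype F] (hF : Fintype.card F = q ^ 2) (hn : 0 < n)
    (hsc : ∀ g : Cfsg.SU n F q, g ∈ Subgroup.center (Cfsg.SU n F q) →
      (g : Matrix.SpecialLinearGroup (Fin n) F).val =
        (g : Matrix.SpecialLinearGroup (Fin n) F).val ⟨0, hn⟩ ⟨0, hn⟩ •
          (1 : Matrix (Fin n) (Fin n) F)) :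
    Nat.card (Subgroup.center (Cfsg.SU n F q)) = Nat.gcd n (q + 1) := by
  rw [← card_norm_one_roots hF n]
  symm
  let ψ : {μ : Fˣ // μ ^ (q + 1) = 1 ∧ μ ^ n = 1} → Subgroup.center (Cfsg.SU n F q) :=
    fun μ => ⟨scalarSU n q ((μ.1 : Fˣ) : F)
      (by rw [← Units.val_pow_eq_pow_val, μ.2.1]; rfl)
      (by rw [← Units.val_pow_eq_pow_val, μ.2.2]; rfl), scalarSU_mem_center _ _ _⟩
  apply Nat.card_eq_of_bijective ψ
  constructor
  · intro μ ν h
    have h1 := congrArg (fun x : Subgroup.center (Cfsg.SU n F q) =>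
      ((x : Cfsg.SU n F q) : Matrix.SpecialLinearGroup (Fin n) F).val ⟨0, hn⟩ ⟨0, hn⟩) h
    simp only [ψ, scalarSU_val, Matrix.smul_apply, Matrix.one_apply_eq, smul_eq_mul, mul_one] at h1
    exact Subtype.ext (Units.ext h1)
  · rintro ⟨g, hg⟩
    have hsc := hsc g hg
    obtain ⟨μ0, hμ0⟩ : ∃ μ0 : F, μ0 =
      (g : Matrix.SpecialLinearGroup (Fin n) F).val ⟨0, hn⟩ ⟨0, hn⟩ := ⟨_, rfl⟩
    rw [← hμ0] at hsc
    obtain ⟨hp1, hp2⟩ := scalar_pow_of_mem_SU hn (g : Matrix.SpecialLinearGroup (Fin n) F)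
      g.2 μ0 hsc
    have hne : μ0 ≠ 0 := by
      rintro rfl
      rw [zero_pow (by omega)] at hp1
      exact zero_ne_one hp1
    refine ⟨⟨Units.mk0 μ0 hne, ?_, ?_⟩, ?_⟩
    · apply Units.ext
      rw [Units.val_pow_eq_pow_val, Units.val_mk0, hp1]
      rfl
    · apply Units.ext
      rw [Units.val_pow_eq_pow_val, Units.val_mk0, hp2]
      rfl
    · apply Subtype.ext
      apply Subtype.ext
      apply Subtype.ext
      simp only [ψ, scalarSU_val, Units.val_mk0]
      exact hsc.symm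

theorem card_center_SU [Fintype F] (hF : Fintype.card F = q ^ 2) (hn : 3 ≤ n) :
    Nat.card (Subgroup.center (Cfsg.SU n F q)) = Nat.gcd n (q + 1) := by
  obtain ⟨lam, hlam1, hlam2⟩ := exists_norm_one_sq_ne_one hF
  exact card_center_SU_aux hF (by omega) (center_SU_scalar hn lam hlam1 hlam2)

lemma neg_one_pow_q_add_one [Fintype F] (hF : Fintype.card F = q ^ 2) :
    (-1 : F) ^ (q + 1) = 1 := by
  by_cases h2 : ringChar F = 2
  · have : CharP F 2 := by rw [← h2]; exact ringChar.charP F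
    rw [CharTwo.neg_eq, one_pow]
  · have hodd : Fintype.card F % 2 = 1 := FiniteField.odd_card_of_char_ne_two h2
    rw [hF] at hodd
    have hq : Odd q := by
      rw [← Nat.odd_iff] at hodd
      exact Nat.Odd.of_mul_right (by rw [← pow_two]; exact hodd)
    have : Even (q + 1) := by
      obtain ⟨k, hk⟩ := hq
      exact ⟨k + 1, by omega⟩
    exact this.neg_one_pow

/-- The matrix `[[0,1],[-1,0]]` lies in `SU_2`. -/
lemma mem_SU_two_of_val_eq [Fintype F] (hF : Fintype.card F = q ^ 2)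
    (A : Matrix.SpecialLinearGroup (Fin 2) F) (hA : A.val = !![0, 1; -1, 0]) :
    A ∈ Cfsg.SU 2 F q := by
  rw [mem_SU_iff]
  intro u v
  have h1 := neg_one_pow_q_add_one hF
  simp only [Cfsg.hermForm, hA, Fin.sum_univ_two, Matrix.mulVec, dotProduct, Matrix.of_apply,
    Matrix.cons_val', Matrix.cons_val_zero, Matrix.cons_val_one, Matrix.empty_val',
    Matrix.cons_val_fin_one]
  have h2 : (-1 * v 0) ^ q = (-1 : F) ^ q * v 0 ^ q := mul_pow _ _ _
  have h3 : (-1 : F) * (-1) ^ q = 1 := by rw [← pow_succ']; exact h1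
  simp only [zero_mul, one_mul, zero_add, add_zero, h2]
  linear_combination (u 0 * v 0 ^ q) * h3

theorem center_SU_two_scalar [Fintype F] (hF : Fintype.card F = q ^ 2)
    (g : Cfsg.SU 2 F q) (hg : g ∈ Subgroup.center (Cfsg.SU 2 F q)) :
    (g : Matrix.SpecialLinearGroup (Fin 2) F).val =
      (g : Matrix.SpecialLinearGroup (Fin 2) F).val ⟨0, by omega⟩ ⟨0, by omega⟩ •
        (1 : Matrix (Fin 2) (Fin 2) F) := by
  obtain ⟨lam, hlam1, hlam2⟩ := exists_norm_one_sq_ne_one hF
  obtain ⟨M, hMdef⟩ : ∃ M, M = (g : Matrix.SpecialLinearGroup (Fin 2) F).val := ⟨_, rfl⟩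
  rw [← hMdef]
  have hl0 : lam ≠ 0 := by
    rintro rfl
    rw [zero_pow (by omega)] at hlam1
    exact zero_ne_one hlam1
  have hoff : ∀ a b, a ≠ b → M a b = 0 := by
    intro a b hab
    obtain ⟨A, hA⟩ : ∃ A : Matrix.SpecialLinearGroup (Fin 2) F,
        A.val = Matrix.diagonal (dfun a b lam) := ⟨⟨_, det_diagonal_dfun a b lam hl0⟩, rfl⟩
    have hmem : A ∈ Cfsg.SU 2 F q :=
      mem_SU_of_val_eq_diagonal A _ hA (dfun_pow a b lam _ hlam1)
    have hc := commute_val_of_mem_center g hg A hmem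
    rw [hA, ← hMdef] at hc
    exact entry_zero_of_commute_diagonal M lam hl0 hlam2 a b hab hc
  have hdet : (!![0, 1; -1, 0] : Matrix (Fin 2) (Fin 2) F).det = 1 := by
    rw [Matrix.det_fin_two_of]; ring
  obtain ⟨A, hA⟩ : ∃ A : Matrix.SpecialLinearGroup (Fin 2) F,
      A.val = !![0, 1; -1, 0] := ⟨⟨_, hdet⟩, rfl⟩
  have hc := commute_val_of_mem_center g hg A (mem_SU_two_of_val_eq hF A hA)
  rw [hA, ← hMdef] at hc
  have h01 := congrFun (congrFun hc 0) 1
  simp [Matrix.mul_apply, Fin.sum_univ_two] at h01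
  ext i j
  fin_cases i <;> fin_cases j
  · simp
  · simpa using hoff 0 1 (by decide)
  · simpa using hoff 1 0 (by decide)
  · simp [← h01]

theorem card_center_SU_of_two_le [Fintype F] (hF : Fintype.card F = q ^ 2) (hn : 2 ≤ n) :
    Nat.card (Subgroup.center (Cfsg.SU n F q)) = Nat.gcd n (q + 1) := by
  rcases Nat.lt_or_ge n 3 with h | h
  · obtain rfl : n = 2 := by omega
    exact card_center_SU_aux hF (by omega) (center_SU_two_scalar hF)
  · exact card_center_SU hF h

end Cfsg.Agent.Helper5
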