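import Mathlib
import Cfsg.Prelude.Def_LieTypeDatum
import Cfsg.Agent.Lib.Helper13.PSLAut
import Cfsg.Agent.Lib.Helper5.SUCenter
import Cfsg.Agent.S0283

/-!
# Automorphisms of `PSU_n(q)` induced by the similarity group of the hermitian form

`PhiU : ↥(CU n F q) →* MulAut (PSU n F q)` (conjugation), its kernel (the scalars), and
`inndiagPSU n F q = PhiU (GU)`.
-/

set_option autoImplicit false
set_option linter.unusedSectionVars false
set_option linter.unusedSimpArgs false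

namespace Cfsg.Agent.Helper5.PSUAut

open Matrix Cfsg.Agent.Helper13.PSLAut

variable {F : Type*} [Field F] {n q : ℕ}

/-- the similarity group of the hermitian form -/
abbrev CU (n : ℕ) (F : Type*) [Field F] (q : ℕ) : Subgroup (GL (Fin n) F) :=
  Cfsg.Geo.similarityGroup (Cfsg.hermForm n F q)

theorem mem_CU_iff (g : GL (Fin n) F) :
    g ∈ CU n F q ↔ ∃ c : Fˣ, ∀ u v, Cfsg.hermForm n F q ((g : Matrix (Fin n) (Fin n) F) *ᵥ u)
      ((g : Matrix (Fin n) (Fin n) F) *ᵥ v) = (c : F) * Cfsg.hermForm n F q u v := Iff.rfl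

theorem mem_GU_iff (g : GL (Fin n) F) :
    g ∈ Cfsg.GU n F q ↔ ∀ u v, Cfsg.hermForm n F q ((g : Matrix (Fin n) (Fin n) F) *ᵥ u)
      ((g : Matrix (Fin n) (Fin n) F) *ᵥ v) = Cfsg.hermForm n F q u v := Iff.rfl

theorem GU_le_CU : Cfsg.GU n F q ≤ CU n F q := by
  intro g hg
  rw [mem_GU_iff] at hg
  rw [mem_CU_iff]
  exact ⟨1, fun u v => by rw [Units.val_one, one_mul]; exact hg u v⟩

theorem conjSL_mem_SU {g : GL (Fin n) F} (hg : g ∈ CU n F q)
    {s : Matrix.SpecialLinearGroup (Fin n) F} (hs : s ∈ Cfsg.SU n F q) :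
    conjSL g s ∈ Cfsg.SU n F q := by
  obtain ⟨c, hc⟩ := hg
  rw [Cfsg.Agent.Helper5.mem_SU_iff] at hs ⊢
  intro u v
  have key : ∀ w : Fin n → F, (conjSL g s).val *ᵥ w =
      (g : Matrix (Fin n) (Fin n) F) *ᵥ (s.val *ᵥ
        (((g⁻¹ : GL (Fin n) F) : Matrix (Fin n) (Fin n) F) *ᵥ w)) := by
    intro w
    rw [Matrix.mulVec_mulVec, Matrix.mulVec_mulVec]
    rfl
  rw [key, key, hc, hs]
  have h1 := hc (((g⁻¹ : GL (Fin n) F) : Matrix (Fin n) (Fin n) F) *ᵥ u)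
    (((g⁻¹ : GL (Fin n) F) : Matrix (Fin n) (Fin n) F) *ᵥ v)
  rw [Matrix.mulVec_mulVec, Matrix.mulVec_mulVec, coe_mul_inv, Matrix.one_mulVec,
    Matrix.one_mulVec] at h1
  exact h1.symm

/-- conjugation by `g ∈ CU` as an automorphism of `SU_n` -/
def conjSU (g : ↥(CU n F q)) : ↥(Cfsg.SU n F q) ≃* ↥(Cfsg.SU n F q) where
  toFun s := ⟨conjSL g.1 s.1, conjSL_mem_SU g.2 s.2⟩
  invFun s := ⟨conjSL (g.1)⁻¹ s.1, conjSL_mem_SU (inv_mem g.2) s.2⟩
  left_inv s := by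
    apply Subtype.ext
    show conjSL (g.1)⁻¹ (conjSL g.1 s.1) = s.1
    rw [← conjSL_mul, inv_mul_cancel, conjSL_one]
  right_inv s := by
    apply Subtype.ext
    show conjSL g.1 (conjSL (g.1)⁻¹ s.1) = s.1
    rw [← conjSL_mul, mul_inv_cancel, conjSL_one]
  map_mul' s t := by
    apply Subtype.ext
    exact map_mul (conjSL g.1) s.1 t.1

theorem conjSU_coe (g : ↥(CU n F q)) (s : ↥(Cfsg.SU n F q)) :
    ((conjSU g s : ↥(Cfsg.SU n F q)) : Matrix.SpecialLinearGroup (Fin n) F) = conjSL g.1 s.1 := rfl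

theorem conjSU_val (g : ↥(CU n F q)) (s : ↥(Cfsg.SU n F q)) :
    ((conjSU g s : ↥(Cfsg.SU n F q)) : Matrix.SpecialLinearGroup (Fin n) F).val =
      (g.1 : Matrix (Fin n) (Fin n) F) * (s.1 : Matrix (Fin n) (Fin n) F) *
        (((g.1)⁻¹ : GL (Fin n) F) : Matrix (Fin n) (Fin n) F) := rfl

theorem conjSU_center (g : ↥(CU n F q)) :
    (Subgroup.center ↥(Cfsg.SU n F q)).map (conjSU g).toMonoidHom =
      Subgroup.center ↥(Cfsg.SU n F q) :=
  (Subgroup.characteristic_iff_map_eq.1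
    (inferInstance : (Subgroup.center ↥(Cfsg.SU n F q)).Characteristic)) (conjSU g)

/-- the automorphism of `PSU_n` induced by conjugation by `g` -/
noncomputable def phiFun (g : ↥(CU n F q)) : Cfsg.PSU n F q ≃* Cfsg.PSU n F q :=
  QuotientGroup.congr (Subgroup.center ↥(Cfsg.SU n F q)) (Subgroup.center ↥(Cfsg.SU n F q))
    (conjSU g) (conjSU_center g)

theorem phiFun_mk (g : ↥(CU n F q)) (s : ↥(Cfsg.SU n F q)) :
    phiFun g (QuotientGroup.mk s) = QuotientGroup.mk (conjSU g s) := rfl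

theorem conjSU_mul (g h : ↥(CU n F q)) (s : ↥(Cfsg.SU n F q)) :
    conjSU (g * h) s = conjSU g (conjSU h s) := by
  apply Subtype.ext
  show conjSL (g.1 * h.1) s.1 = conjSL g.1 (conjSL h.1 s.1)
  rw [conjSL_mul]

theorem conjSU_one (s : ↥(Cfsg.SU n F q)) : conjSU (1 : ↥(CU n F q)) s = s := by
  apply Subtype.ext
  show conjSL (1 : GL (Fin n) F) s.1 = s.1
  rw [conjSL_one]

/-- The homomorphism `CU_n(q) → Aut(PSU_n(q))`. -/
noncomputable def PhiU : ↥(CU n F q) →* MulAut (Cfsg.PSU n F q) where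
  toFun g := phiFun g
  map_one' := by
    apply MulEquiv.ext
    intro x
    induction x using QuotientGroup.induction_on with
    | H s => rw [phiFun_mk, conjSU_one]; rfl
  map_mul' g h := by
    apply MulEquiv.ext
    intro x
    induction x using QuotientGroup.induction_on with
    | H s => rw [phiFun_mk, conjSU_mul, MulAut.mul_apply, phiFun_mk, phiFun_mk]

theorem PhiU_mk (g : ↥(CU n F q)) (s : ↥(Cfsg.SU n F q)) :
    PhiU g (QuotientGroup.mk s) = QuotientGroup.mk (conjSU g s) := rfl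

/-- `β` is induced by conjugation by `g` iff `β = PhiU g` -/
theorem induced_iff (g : ↥(CU n F q)) (β : Cfsg.PSU n F q ≃* Cfsg.PSU n F q) :
    (∀ s s' : ↥(Cfsg.SU n F q),
      ((s' : Matrix.SpecialLinearGroup (Fin n) F) : Matrix (Fin n) (Fin n) F) =
        ((g.1 : GL (Fin n) F) : Matrix (Fin n) (Fin n) F) *
          ((s : Matrix.SpecialLinearGroup (Fin n) F) : Matrix (Fin n) (Fin n) F) *
          (((g.1)⁻¹ : GL (Fin n) F) : Matrix (Fin n) (Fin n) F) →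
      β (QuotientGroup.mk s) = QuotientGroup.mk s') ↔ β = PhiU g := by
  constructor
  · intro h
    apply MulEquiv.ext
    intro x
    induction x using QuotientGroup.induction_on with
    | H s =>
      rw [PhiU_mk]
      exact h s (conjSU g s) (conjSU_val g s)
  · rintro rfl s s' hs'
    rw [PhiU_mk]
    congr 1
    apply Subtype.ext
    apply Subtype.ext
    rw [conjSU_val, hs']

theorem innerDiagonal_iff (β : Cfsg.PSU n F q ≃* Cfsg.PSU n F q) :
    Cfsg.IsInnerDiagonalAutPSU β ↔ ∃ g : ↥(CU n F q), g.1 ∈ Cfsg.GU n F q ∧ β = PhiU g := by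
  constructor
  · rintro ⟨g, hg, h⟩
    exact ⟨⟨g, GU_le_CU hg⟩, hg, (induced_iff ⟨g, GU_le_CU hg⟩ β).1 h⟩
  · rintro ⟨g, hg, h⟩
    exact ⟨g.1, hg, (induced_iff g β).2 h⟩

theorem inndiagPSU_eq :
    Cfsg.inndiagPSU n F q = ((Cfsg.GU n F q).subgroupOf (CU n F q)).map (PhiU (F := F)) := by
  have hset : {β : MulAut (Cfsg.PSU n F q) | Cfsg.IsInnerDiagonalAutPSU β} =
      ((((Cfsg.GU n F q).subgroupOf (CU n F q)).map (PhiU (F := F)) :
        Subgroup (MulAut (Cfsg.PSU n F q))) : Set (MulAut (Cfsg.PSU n F q))) := by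
    ext β
    constructor
    · intro h
      obtain ⟨g, hg, hβ⟩ := (innerDiagonal_iff β).1 h
      exact ⟨g, hg, hβ.symm⟩
    · rintro ⟨g, hg, rfl⟩
      exact (innerDiagonal_iff _).2 ⟨g, hg, rfl⟩
  unfold Cfsg.inndiagPSU Cfsg.autSubgroupOf
  rw [hset, Subgroup.closure_eq]

theorem mem_inndiagPSU_iff (x : MulAut (Cfsg.PSU n F q)) :
    x ∈ Cfsg.inndiagPSU n F q ↔ ∃ g : ↥(CU n F q), g.1 ∈ Cfsg.GU n F q ∧ x = PhiU g := by
  rw [inndiagPSU_eq]
  constructor
  · rintro ⟨g, hg, rfl⟩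
    exact ⟨g, hg, rfl⟩
  · rintro ⟨g, hg, rfl⟩
    exact ⟨g, hg, rfl⟩

end Cfsg.Agent.Helper5.PSUAut
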