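import Mathlib
import Cfsg.Agent.Lib.Helper5.PSUAut1

/-!
# The kernel of `PhiU : CU_n(q) → Aut(PSU_n(q))` is the group of scalars
-/

set_option autoImplicit false
set_option linter.unusedSectionVars false
set_option linter.unusedSimpArgs false

namespace Cfsg.Agent.Helper5.PSUAut

open Matrix Cfsg.Agent.Helper13.PSLAut Cfsg.Agent.Helper5

variable {F : Type*} [Field F] {n q : ℕ}

/-- A matrix commuting with all of `SU_n`, `n ≥ 3`, is scalar (given a norm-one `lam` with `lam² ≠ 1`). -/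
theorem scalar_of_commute_SU (hn : 3 ≤ n) (lam : F) (hlam1 : lam ^ (q + 1) = 1)
    (hlam2 : lam * lam ≠ 1) (M : Matrix (Fin n) (Fin n) F)
    (hM : ∀ A : Matrix.SpecialLinearGroup (Fin n) F, A ∈ Cfsg.SU n F q → M * A.val = A.val * M) :
    M = M ⟨0, by omega⟩ ⟨0, by omega⟩ • (1 : Matrix (Fin n) (Fin n) F) := by
  have hl0 : lam ≠ 0 := by
    rintro rfl
    rw [zero_pow (by omega)] at hlam1
    exact zero_ne_one hlam1
  -- off-diagonal entries vanish
  have hoff : ∀ a b, a ≠ b → M a b = 0 := by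
    intro a b hab
    obtain ⟨A, hA⟩ : ∃ A : Matrix.SpecialLinearGroup (Fin n) F,
        A.val = Matrix.diagonal (dfun a b lam) := ⟨⟨_, det_diagonal_dfun a b lam hl0⟩, rfl⟩
    have hmem : A ∈ Cfsg.SU n F q :=
      mem_SU_of_val_eq_diagonal A _ hA (dfun_pow a b lam _ hlam1)
    have hc := hM A hmem
    rw [hA] at hc
    exact entry_zero_of_commute_diagonal M lam hl0 hlam2 a b hab hc
  -- diagonal entries agree
  have hdiag : ∀ a b, a ≠ b → M a a = M b b := by
    intro a b hab
    obtain ⟨c, hca, hcb⟩ : ∃ c : Fin n, c ≠ a ∧ c ≠ b := by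
      by_contra hcon
      push Not at hcon
      have : (Finset.univ : Finset (Fin n)) ⊆ {a, b} := by
        intro c _
        by_cases hca : c = a
        · simp [hca]
        · simp [hcon c hca]
      have h1 := Finset.card_le_card this
      rw [Finset.card_univ, Fintype.card_fin] at h1
      have h2 : ({a, b} : Finset (Fin n)).card ≤ 2 := Finset.card_le_two
      omega
    obtain ⟨σ, hσ⟩ : ∃ σ : Equiv.Perm (Fin n), σ = Equiv.swap a b * Equiv.swap b c := ⟨_, rfl⟩
    have hsign : Equiv.Perm.sign σ = 1 := by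
      rw [hσ, map_mul, Equiv.Perm.sign_swap hab, Equiv.Perm.sign_swap (Ne.symm hcb)]
      rfl
    have hdetσ : (σ.permMatrix F).det = 1 := by
      rw [Matrix.det_permutation, hsign]; simp
    obtain ⟨A, hA⟩ : ∃ A : Matrix.SpecialLinearGroup (Fin n) F,
        A.val = σ.permMatrix F := ⟨⟨_, hdetσ⟩, rfl⟩
    have hmem : A ∈ Cfsg.SU n F q := mem_SU_of_val_eq_permMatrix A σ hA
    have hc := hM A hmem
    rw [hA] at hc
    have h1 := diag_entry_eq_of_commute_perm M hoff σ hc a
    have h2 : σ a = b := by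
      rw [hσ, Equiv.Perm.mul_apply, Equiv.swap_apply_of_ne_of_ne hab (Ne.symm hca),
        Equiv.swap_apply_left]
    rw [h2] at h1
    exact h1
  ext i j
  rw [Matrix.smul_apply, Matrix.one_apply, smul_eq_mul]
  by_cases hij : i = j
  · subst hij
    rw [if_pos rfl, mul_one]
    by_cases hi : i = ⟨0, by omega⟩
    · rw [hi]
    · exact hdiag i _ hi
  · rw [if_neg hij, mul_zero]
    exact hoff i j hij

section Kernel

variable [Fintype F]

/-- if `PhiU g` is trivial then conjugation by `g` is trivial on `SU` (as `SU` is perfect) -/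
theorem conjSU_eq_self_of_PhiU_eq_one (hF : Fintype.card F = q ^ 2) (hn : 3 ≤ n)
    (h32 : ¬ (n = 3 ∧ q = 2)) (g : ↥(CU n F q)) (hg : PhiU g = 1) (s : ↥(Cfsg.SU n F q)) :
    conjSU g s = s := by
  have hmem : ∀ s : ↥(Cfsg.SU n F q), s⁻¹ * conjSU g s ∈ Subgroup.center ↥(Cfsg.SU n F q) := by
    intro s
    have h1 : PhiU g (QuotientGroup.mk s) = QuotientGroup.mk s := by rw [hg]; rfl
    rw [PhiU_mk] at h1
    exact QuotientGroup.eq.1 h1.symm
  let f : ↥(Cfsg.SU n F q) →* ↥(Subgroup.center ↥(Cfsg.SU n F q)) :=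
    { toFun := fun s => ⟨s⁻¹ * conjSU g s, hmem s⟩
      map_one' := by
        apply Subtype.ext
        show (1 : ↥(Cfsg.SU n F q))⁻¹ * conjSU g 1 = 1
        rw [map_one, inv_one, one_mul]
      map_mul' := by
        intro s t
        apply Subtype.ext
        show (s * t)⁻¹ * conjSU g (s * t) = (s⁻¹ * conjSU g s) * (t⁻¹ * conjSU g t)
        have hz := Subgroup.mem_center_iff.1 (hmem s) t⁻¹
        rw [map_mul, _root_.mul_inv_rev]
        calc t⁻¹ * s⁻¹ * (conjSU g s * conjSU g t)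
            = t⁻¹ * (s⁻¹ * conjSU g s) * conjSU g t := by group
          _ = (s⁻¹ * conjSU g s) * t⁻¹ * conjSU g t := by rw [hz]
          _ = _ := by group }
  have hker : f.ker = ⊤ := by
    rw [eq_top_iff, ← Cfsg.Agent.S0283.su_perfect hF hn h32, commutator_eq_closure,
      Subgroup.closure_le]
    rintro x ⟨a, b, rfl⟩
    rw [SetLike.mem_coe, MonoidHom.mem_ker, commutatorElement_def, map_mul, map_mul, map_mul,
      map_inv, map_inv]
    have hab : f a * f b = f b * f a := by
      apply Subtype.ext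
      exact ((Subgroup.mem_center_iff.1 (f a).2) (f b).1).symm
    rw [hab]
    group
  have h1 : s ∈ f.ker := by rw [hker]; exact Subgroup.mem_top s
  have h2 : f s = 1 := MonoidHom.mem_ker.1 h1
  have h3 : s⁻¹ * conjSU g s = 1 := congrArg Subtype.val h2
  exact (inv_mul_eq_one.1 h3).symm

theorem PhiU_eq_one_iff (hF : Fintype.card F = q ^ 2) (hn : 3 ≤ n)
    (h32 : ¬ (n = 3 ∧ q = 2)) (g : ↥(CU n F q)) :
    PhiU g = 1 ↔ g.1 ∈ Cfsg.Geo.scalars (Fin n) F := by
  constructor
  · intro hg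
    have hcomm : ∀ A : Matrix.SpecialLinearGroup (Fin n) F, A ∈ Cfsg.SU n F q →
        (g.1 : Matrix (Fin n) (Fin n) F) * A.val = A.val * (g.1 : Matrix (Fin n) (Fin n) F) := by
      intro A hA
      have h1 := conjSU_eq_self_of_PhiU_eq_one hF hn h32 g hg ⟨A, hA⟩
      have h2 : (g.1 : Matrix (Fin n) (Fin n) F) * A.val *
          (((g.1)⁻¹ : GL (Fin n) F) : Matrix (Fin n) (Fin n) F) = A.val := by
        have := congrArg (fun x : ↥(Cfsg.SU n F q) =>
          ((x : Matrix.SpecialLinearGroup (Fin n) F)).val) h1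
        simpa only [conjSU_val] using this
      calc (g.1 : Matrix (Fin n) (Fin n) F) * A.val
          = (g.1 : Matrix (Fin n) (Fin n) F) * A.val *
              ((((g.1)⁻¹ : GL (Fin n) F) : Matrix (Fin n) (Fin n) F) *
                (g.1 : Matrix (Fin n) (Fin n) F)) := by rw [coe_inv_mul, Matrix.mul_one]
        _ = ((g.1 : Matrix (Fin n) (Fin n) F) * A.val *
              (((g.1)⁻¹ : GL (Fin n) F) : Matrix (Fin n) (Fin n) F)) *
                (g.1 : Matrix (Fin n) (Fin n) F) := by simp only [Matrix.mul_assoc]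
        _ = _ := by rw [h2]
    obtain ⟨lam, hlam1, hlam2⟩ := exists_norm_one_sq_ne_one hF
    have hsc := scalar_of_commute_SU hn lam hlam1 hlam2 _ hcomm
    set c : F := (g.1 : Matrix (Fin n) (Fin n) F) ⟨0, by omega⟩ ⟨0, by omega⟩ with hcdef
    have hc0 : c ≠ 0 := by
      intro h0
      have h1 := coe_mul_inv g.1
      rw [hsc, h0, zero_smul, Matrix.zero_mul] at h1
      have h2 := congrFun (congrFun h1 ⟨0, by omega⟩) ⟨0, by omega⟩
      simp at h2
    rw [Cfsg.Geo.mem_scalars_iff]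
    exact ⟨Units.mk0 c hc0, hsc⟩
  · intro hg
    obtain ⟨c, hc⟩ := (Cfsg.Geo.mem_scalars_iff g.1).1 hg
    apply MulEquiv.ext
    intro x
    induction x using QuotientGroup.induction_on with
    | H s =>
      rw [PhiU_mk]
      show _ = QuotientGroup.mk s
      congr 1
      apply Subtype.ext
      apply Subtype.ext
      rw [conjSU_val]
      have h1 : (g.1 : Matrix (Fin n) (Fin n) F) * (s.1 : Matrix (Fin n) (Fin n) F) =
          (s.1 : Matrix (Fin n) (Fin n) F) * (g.1 : Matrix (Fin n) (Fin n) F) := by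
        rw [hc]; simp
      rw [h1, Matrix.mul_assoc, coe_mul_inv, Matrix.mul_one]

theorem PhiU_eq_iff (hF : Fintype.card F = q ^ 2) (hn : 3 ≤ n)
    (h32 : ¬ (n = 3 ∧ q = 2)) (g h : ↥(CU n F q)) :
    PhiU g = PhiU h ↔ (g.1)⁻¹ * h.1 ∈ Cfsg.Geo.scalars (Fin n) F := by
  have := PhiU_eq_one_iff hF hn h32 (g⁻¹ * h)
  rw [map_mul, map_inv, inv_mul_eq_one] at this
  exact this

end Kernel

end Cfsg.Agent.Helper5.PSUAut
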