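import Mathlib
import Cfsg.Agent.Lib.Helper5.PSUAut2

/-!
# Standard field automorphisms of `PSU_n(q)` and `PhiU`

`φ * PhiU g = PhiU (σ g) * φ` for the standard field automorphism `φ` attached to `σ`.
-/

set_option autoImplicit false
set_option linter.unusedSectionVars false
set_option linter.unusedSimpArgs false

namespace Cfsg.Agent.Helper5.PSUAut

open Matrix Cfsg.Agent.Helper13.PSLAut Cfsg.Agent.Helper5

variable {F : Type*} [Field F] {n q : ℕ} (σ : F ≃+* F)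

theorem hermForm_comp (u v : Fin n → F) :
    Cfsg.hermForm n F q (σ ∘ u) (σ ∘ v) = σ (Cfsg.hermForm n F q u v) := by
  simp only [Cfsg.hermForm, map_sum, map_mul, map_pow, Function.comp]

theorem map_mulVec_comp (A : Matrix (Fin n) (Fin n) F) (w : Fin n → F) :
    (A.map σ) *ᵥ (σ ∘ w) = σ ∘ (A *ᵥ w) := by
  ext i
  exact (RingHom.map_mulVec σ.toRingHom A w i).symm

theorem exists_comp (u : Fin n → F) : ∃ u' : Fin n → F, u = σ ∘ u' :=
  ⟨σ.symm ∘ u, by ext i; simp⟩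

theorem map_mem_SU (s : Matrix.SpecialLinearGroup (Fin n) F) (hs : s ∈ Cfsg.SU n F q) :
    Matrix.SpecialLinearGroup.map σ.toRingHom s ∈ Cfsg.SU n F q := by
  rw [mem_SU_iff] at hs ⊢
  intro u v
  obtain ⟨u', rfl⟩ := exists_comp σ u
  obtain ⟨v', rfl⟩ := exists_comp σ v
  have e : ((Matrix.SpecialLinearGroup.map σ.toRingHom s).val) = s.val.map σ := rfl
  rw [e, map_mulVec_comp, map_mulVec_comp, hermForm_comp, hermForm_comp, hs]

theorem map_mem_CU (g : GL (Fin n) F) (hg : g ∈ CU n F q) :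
    Matrix.GeneralLinearGroup.map σ.toRingHom g ∈ CU n F q := by
  obtain ⟨c, hc⟩ := hg
  refine ⟨Units.map σ.toRingHom.toMonoidHom c, ?_⟩
  intro u v
  obtain ⟨u', rfl⟩ := exists_comp σ u
  obtain ⟨v', rfl⟩ := exists_comp σ v
  have e : ((Matrix.GeneralLinearGroup.map σ.toRingHom g : GL (Fin n) F) :
      Matrix (Fin n) (Fin n) F) = (g : Matrix (Fin n) (Fin n) F).map σ := rfl
  rw [e, map_mulVec_comp, map_mulVec_comp, hermForm_comp, hermForm_comp, hc, map_mul]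
  rfl

/-- `σ` applied entrywise, on `CU` -/
def sigmaCU : ↥(CU n F q) →* ↥(CU n F q) :=
  ((Matrix.GeneralLinearGroup.map σ.toRingHom).comp (CU n F q).subtype).codRestrict (CU n F q)
    (fun g => map_mem_CU σ g.1 g.2)

theorem sigmaCU_coe (g : ↥(CU n F q)) :
    (((sigmaCU σ g : ↥(CU n F q)) : GL (Fin n) F) : Matrix (Fin n) (Fin n) F) =
      (g.1 : Matrix (Fin n) (Fin n) F).map σ := rfl

theorem sigmaCU_val (g : ↥(CU n F q)) :
    ((sigmaCU σ g : ↥(CU n F q)) : GL (Fin n) F) =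
      Matrix.GeneralLinearGroup.map σ.toRingHom g.1 := rfl

/-- `σ` applied entrywise, on `SU` -/
def sigmaSU (s : ↥(Cfsg.SU n F q)) : ↥(Cfsg.SU n F q) :=
  ⟨Matrix.SpecialLinearGroup.map σ.toRingHom s.1, map_mem_SU σ s.1 s.2⟩

theorem sigmaSU_val (s : ↥(Cfsg.SU n F q)) :
    ((sigmaSU σ s : ↥(Cfsg.SU n F q)) : Matrix.SpecialLinearGroup (Fin n) F).val =
      (s.1 : Matrix (Fin n) (Fin n) F).map σ := rfl

theorem sigmaSU_conjSU (g : ↥(CU n F q)) (s : ↥(Cfsg.SU n F q)) :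
    sigmaSU σ (conjSU g s) = conjSU (sigmaCU σ g) (sigmaSU σ s) := by
  apply Subtype.ext
  apply Subtype.ext
  rw [sigmaSU_val, conjSU_val, conjSU_val, sigmaSU_val, sigmaCU_coe]
  have h1 : ((((sigmaCU σ g : ↥(CU n F q)) : GL (Fin n) F))⁻¹ : GL (Fin n) F) =
      Matrix.GeneralLinearGroup.map σ.toRingHom (g.1)⁻¹ := by
    rw [sigmaCU_val, map_inv]
  have h2 : ((Matrix.GeneralLinearGroup.map σ.toRingHom (g.1)⁻¹ : GL (Fin n) F) :
      Matrix (Fin n) (Fin n) F) = (((g.1)⁻¹ : GL (Fin n) F) : Matrix (Fin n) (Fin n) F).map σ := rfl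
  rw [h1, h2]
  have h3 : ∀ A B : Matrix (Fin n) (Fin n) F, (A * B).map σ = A.map σ * B.map σ := by
    intro A B
    exact Matrix.map_mul (f := σ.toRingHom)
  rw [h3, h3]

theorem fieldAut_mk {φ : MulAut (Cfsg.PSU n F q)} (hφ : Cfsg.IsFieldAutPSUOf σ φ)
    (s : ↥(Cfsg.SU n F q)) : φ (QuotientGroup.mk s) = QuotientGroup.mk (sigmaSU σ s) :=
  hφ s (sigmaSU σ s) (sigmaSU_val σ s)

theorem fieldAut_mul_PhiU {φ : MulAut (Cfsg.PSU n F q)} (hφ : Cfsg.IsFieldAutPSUOf σ φ)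
    (g : ↥(CU n F q)) : φ * PhiU g = PhiU (sigmaCU σ g) * φ := by
  apply MulEquiv.ext
  intro x
  induction x using QuotientGroup.induction_on with
  | H s =>
    rw [MulAut.mul_apply, MulAut.mul_apply, PhiU_mk, fieldAut_mk σ hφ, fieldAut_mk σ hφ,
      PhiU_mk, sigmaSU_conjSU]

/-- `PhiU g` commutes with the standard field automorphism attached to `σ` iff `σ(g)⁻¹ g` is scalar -/
theorem PhiU_mem_centralizer_iff [Fintype F] (hF : Fintype.card F = q ^ 2) (hn : 3 ≤ n)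
    (h32 : ¬ (n = 3 ∧ q = 2)) {φ : MulAut (Cfsg.PSU n F q)} (hφ : Cfsg.IsFieldAutPSUOf σ φ)
    (g : ↥(CU n F q)) :
    PhiU g ∈ Subgroup.centralizer {φ} ↔
      ((sigmaCU σ g : ↥(CU n F q)) : GL (Fin n) F)⁻¹ * g.1 ∈ Cfsg.Geo.scalars (Fin n) F := by
  rw [Subgroup.mem_centralizer_iff]
  have h1 : (∀ h ∈ ({φ} : Set (MulAut (Cfsg.PSU n F q))), h * PhiU g = PhiU g * h) ↔
      φ * PhiU g = PhiU g * φ := by
    constructor
    · intro h; exact h φ rfl
    · intro h k hk; rw [Set.mem_singleton_iff.1 hk]; exact h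
  rw [h1, fieldAut_mul_PhiU σ hφ, mul_left_inj, PhiU_eq_iff hF hn h32]

end Cfsg.Agent.Helper5.PSUAut
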