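import Mathlib
import Cfsg.Agent.Lib.Helper5.PSUAut3

/-!
# Finite field lemmas and the matrix form of the unitary condition
-/

set_option autoImplicit false
set_option linter.unusedSectionVars false
set_option linter.unusedSimpArgs false

namespace Cfsg.Agent.Helper5.PSUAut

open Matrix Cfsg.Agent.Helper13.PSLAut Cfsg.Agent.Helper5

section Field

variable {F : Type*} [Field F] [Fintype F] {q : ℕ}

theorem two_le_q (hF : Fintype.card F = q ^ 2) : 2 ≤ q := by
  have h1 : 1 < Fintype.card F := Fintype.one_lt_card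
  rw [hF] at h1
  by_contra hlt
  have : q = 0 ∨ q = 1 := by omega
  rcases this with rfl | rfl <;> simp at h1

theorem sq_sub_one_eq (hq : 2 ≤ q) : q ^ 2 - 1 = (q - 1) * (q + 1) := by
  obtain ⟨k, rfl⟩ : ∃ k, q = k + 2 := ⟨q - 2, by omega⟩
  have : (k + 2) ^ 2 = (k + 2 - 1) * (k + 2 + 1) + 1 := by
    simp only [show k + 2 - 1 = k + 1 by omega]
    ring
  omega

/-- a generator of the unit group with natural exponents -/
theorem exists_gen (hF : Fintype.card F = q ^ 2) :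
    ∃ ζ : Fˣ, orderOf ζ = q ^ 2 - 1 ∧ ∀ y : Fˣ, ∃ k : ℕ, ζ ^ k = y := by
  obtain ⟨ζ, hζ⟩ := IsCyclic.exists_monoid_generator (α := Fˣ)
  have hall : ∀ y : Fˣ, ∃ k : ℕ, ζ ^ k = y := fun y => (Submonoid.mem_powers_iff _ _).1 (hζ y)
  refine ⟨ζ, ?_, hall⟩
  have hz : ∀ y : Fˣ, y ∈ Subgroup.zpowers ζ := by
    intro y
    obtain ⟨k, hk⟩ := hall y
    exact Subgroup.mem_zpowers_iff.2 ⟨k, by rw [zpow_natCast]; exact hk⟩
  rw [orderOf_eq_card_of_forall_mem_zpowers hz, Nat.card_units,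
    Nat.card_eq_fintype_card (α := F), hF]

/-- norm-one elements are `(q-1)`-th powers -/
theorem exists_pow_sub_one (hF : Fintype.card F = q ^ 2) (lam : F) (h : lam ^ (q + 1) = 1) :
    ∃ μ : F, μ ≠ 0 ∧ μ ^ (q - 1) = lam := by
  have hq := two_le_q hF
  have hl0 : lam ≠ 0 := by
    rintro rfl
    rw [zero_pow (by omega)] at h
    exact zero_ne_one h
  obtain ⟨ζ, hord, hall⟩ := exists_gen hF
  obtain ⟨k, hk⟩ := hall (Units.mk0 lam hl0)
  have h1 : ζ ^ (k * (q + 1)) = 1 := by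
    rw [pow_mul, hk]
    apply Units.ext
    rw [Units.val_pow_eq_pow_val, Units.val_mk0, h, Units.val_one]
  have h2 := orderOf_dvd_of_pow_eq_one h1
  rw [hord, sq_sub_one_eq hq] at h2
  have h3 : (q - 1) ∣ k := Nat.dvd_of_mul_dvd_mul_right (by omega) h2
  obtain ⟨j, rfl⟩ := h3
  refine ⟨((ζ ^ j : Fˣ) : F), Units.ne_zero _, ?_⟩
  rw [← Units.val_pow_eq_pow_val, ← pow_mul, mul_comm j, hk, Units.val_mk0]

/-- elements of the fixed field of `x ↦ x^q` are norms -/
theorem exists_pow_add_one (hF : Fintype.card F = q ^ 2) (c : F) (hc0 : c ≠ 0)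
    (hc : c ^ q = c) : ∃ κ : F, κ ≠ 0 ∧ κ ^ (q + 1) = c := by
  have hq := two_le_q hF
  have hc1 : c ^ (q - 1) = 1 := by
    have h1 : c ^ (q - 1) * c = 1 * c := by
      rw [← pow_succ, one_mul, show q - 1 + 1 = q by omega, hc]
    exact mul_right_cancel₀ hc0 h1
  obtain ⟨ζ, hord, hall⟩ := exists_gen hF
  obtain ⟨k, hk⟩ := hall (Units.mk0 c hc0)
  have h1 : ζ ^ (k * (q - 1)) = 1 := by
    rw [pow_mul, hk]
    apply Units.ext
    rw [Units.val_pow_eq_pow_val, Units.val_mk0, hc1, Units.val_one]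
  have h2 := orderOf_dvd_of_pow_eq_one h1
  rw [hord, sq_sub_one_eq hq, mul_comm (q - 1) (q + 1)] at h2
  have h3 : (q + 1) ∣ k := Nat.dvd_of_mul_dvd_mul_right (by omega) h2
  obtain ⟨j, rfl⟩ := h3
  refine ⟨((ζ ^ j : Fˣ) : F), Units.ne_zero _, ?_⟩
  rw [← Units.val_pow_eq_pow_val, ← pow_mul, mul_comm j, hk, Units.val_mk0]

theorem pow_q_pow_q (hF : Fintype.card F = q ^ 2) (a : F) : (a ^ q) ^ q = a := by
  rw [← pow_mul, ← sq, ← hF, FiniteField.pow_card]

/-- the fixed field of `x ↦ x^q` is the image of any field with `q` elements -/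
theorem exists_of_pow_q_eq (hF : Fintype.card F = q ^ 2) {F₀ : Type*} [Field F₀] [Fintype F₀]
    (hF₀ : Fintype.card F₀ = q) (ι₀ : F₀ →+* F) (a : F) (ha : a ^ q = a) :
    ∃ x : F₀, ι₀ x = a := by
  classical
  have hq := two_le_q hF
  set p : Polynomial F := Polynomial.X ^ q - Polynomial.X with hp
  have hp0 : p ≠ 0 := FiniteField.X_pow_card_sub_X_ne_zero F (by omega)
  have hdeg : p.natDegree = q := FiniteField.X_pow_card_sub_X_natDegree_eq F (by omega)
  set S : Finset F := Finset.univ.image ι₀ with hS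
  set T : Finset F := p.roots.toFinset with hT
  have hScard : S.card = q := by
    rw [hS, Finset.card_image_of_injective _ ι₀.injective, Finset.card_univ, hF₀]
  have hTcard : T.card ≤ q := by
    calc T.card ≤ Multiset.card p.roots := Multiset.toFinset_card_le _
      _ ≤ p.natDegree := Polynomial.card_roots' p
      _ = q := hdeg
  have hmemT : ∀ b : F, b ^ q = b → b ∈ T := by
    intro b hb
    rw [hT, Multiset.mem_toFinset, Polynomial.mem_roots hp0, Polynomial.IsRoot, hp,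
      Polynomial.eval_sub, Polynomial.eval_pow, Polynomial.eval_X, hb, sub_self]
  have hST : S ⊆ T := by
    intro b hb
    rw [hS, Finset.mem_image] at hb
    obtain ⟨x, -, rfl⟩ := hb
    apply hmemT
    rw [← map_pow, ← hF₀, FiniteField.pow_card]
  have hEq : S = T := Finset.eq_of_subset_of_card_le hST (by rw [hScard]; exact hTcard)
  have haS : a ∈ S := by rw [hEq]; exact hmemT a ha
  rw [hS, Finset.mem_image] at haS
  obtain ⟨x, -, hx⟩ := haS
  exact ⟨x, hx⟩

end Field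

section Herm

variable {F : Type*} [Field F] {n q : ℕ} (σ : F ≃+* F) (hσ : ∀ a : F, σ a = a ^ q)

include hσ in
theorem hermForm_eq_dot (u v : Fin n → F) :
    Cfsg.hermForm n F q u v = u ⬝ᵥ (σ ∘ v) := by
  simp only [Cfsg.hermForm, dotProduct, Function.comp, hσ]

include hσ in
theorem hermForm_mulVec (A : Matrix (Fin n) (Fin n) F) (u v : Fin n → F) :
    Cfsg.hermForm n F q (A *ᵥ u) (A *ᵥ v) = u ⬝ᵥ ((Aᵀ * A.map σ) *ᵥ (σ ∘ v)) := by
  rw [hermForm_eq_dot σ hσ, ← map_mulVec_comp, ← Matrix.mulVec_mulVec,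
    Matrix.dotProduct_mulVec u, Matrix.vecMul_transpose]

include hσ in
theorem mem_CU_of_matrix (g : GL (Fin n) F) (c : Fˣ)
    (h : ((g : Matrix (Fin n) (Fin n) F))ᵀ * (g : Matrix (Fin n) (Fin n) F).map σ =
      (c : F) • (1 : Matrix (Fin n) (Fin n) F)) : g ∈ CU n F q := by
  refine ⟨c, fun u v => ?_⟩
  rw [hermForm_mulVec σ hσ, h, Matrix.smul_mulVec, Matrix.one_mulVec, dotProduct_smul,
    smul_eq_mul, ← hermForm_eq_dot σ hσ]

include hσ in
theorem mem_GU_of_matrix (g : GL (Fin n) F)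
    (h : ((g : Matrix (Fin n) (Fin n) F))ᵀ * (g : Matrix (Fin n) (Fin n) F).map σ = 1) :
    g ∈ Cfsg.GU n F q := by
  rw [mem_GU_iff]
  intro u v
  rw [hermForm_mulVec σ hσ, h, Matrix.one_mulVec, ← hermForm_eq_dot σ hσ]

include hσ in
theorem matrix_of_mem_GU (g : GL (Fin n) F) (hg : g ∈ Cfsg.GU n F q) :
    ((g : Matrix (Fin n) (Fin n) F))ᵀ * (g : Matrix (Fin n) (Fin n) F).map σ = 1 := by
  classical
  rw [mem_GU_iff] at hg
  ext i j
  have h := hg (Pi.single i 1) (Pi.single j 1)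
  rw [hermForm_mulVec σ hσ, hermForm_eq_dot σ hσ] at h
  have e : (σ ∘ (Pi.single j (1 : F) : Fin n → F)) = Pi.single j 1 := by
    ext k
    by_cases hk : k = j
    · subst hk; simp
    · simp [Pi.single_apply, hk]
  rw [e, Matrix.mulVec_single_one, single_dotProduct, single_dotProduct, one_mul, one_mul] at h
  rw [Matrix.col_apply] at h
  rw [Matrix.one_apply, h]
  simp [Pi.single_apply]

end Herm

end Cfsg.Agent.Helper5.PSUAut
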