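import Mathlib
import Cfsg.Agent.Lib.Helper5.PSUAut4
import Cfsg.Agent.Lib.Helper13.DotForm

/-!
# Descent to the fixed field: embedding the similarity group of the dot form over `F₀`
-/

set_option autoImplicit false
set_option linter.unusedSectionVars false
set_option linter.unusedSimpArgs false

namespace Cfsg.Agent.Helper5.PSUAut

open Matrix Cfsg.Agent.Helper13.PSLAut Cfsg.Agent.Helper5 Cfsg.Agent.Helper13.DotForm

section Scalar

variable {F : Type*} [Field F] {n : ℕ}

/-- the scalar matrix of a unit, in `GL` -/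
noncomputable def scGL (n : ℕ) (μ : Fˣ) : GL (Fin n) F :=
  Units.map (Matrix.scalar (Fin n) : F →+* Matrix (Fin n) (Fin n) F).toMonoidHom μ

theorem scGL_coe (μ : Fˣ) :
    ((scGL n μ : GL (Fin n) F) : Matrix (Fin n) (Fin n) F) =
      (μ : F) • (1 : Matrix (Fin n) (Fin n) F) := by
  simp [scGL, Matrix.smul_one_eq_diagonal]

theorem scGL_mem (μ : Fˣ) : scGL n μ ∈ Cfsg.Geo.scalars (Fin n) F := ⟨μ, rfl⟩

theorem mul_scGL_coe (g : GL (Fin n) F) (μ : Fˣ) :
    ((g * scGL n μ : GL (Fin n) F) : Matrix (Fin n) (Fin n) F) =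
      (μ : F) • (g : Matrix (Fin n) (Fin n) F) := by
  rw [Units.val_mul, scGL_coe, Matrix.mul_smul, Matrix.mul_one]

end Scalar

section Emb

variable {F : Type*} [Field F] [Fintype F] {n q : ℕ} (hF : Fintype.card F = q ^ 2)
  {F₀ : Type*} [Field F₀] [Fintype F₀] (hF₀ : Fintype.card F₀ = q) (ι₀ : F₀ →+* F)
  (σ : F ≃+* F) (hσ : ∀ a : F, σ a = a ^ q)

include hF₀ hσ in
theorem sigma_emb (x : F₀) : σ (ι₀ x) = ι₀ x := by
  rw [hσ, ← map_pow, ← hF₀, FiniteField.pow_card]

include hF₀ hσ in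
theorem map_sigma_map (H : Matrix (Fin n) (Fin n) F₀) : (H.map ι₀).map σ = H.map ι₀ := by
  ext i j
  simp only [Matrix.map_apply]
  exact sigma_emb hF₀ ι₀ σ hσ _

theorem emb_coe (h : GL (Fin n) F₀) :
    ((Matrix.GeneralLinearGroup.map ι₀ h : GL (Fin n) F) : Matrix (Fin n) (Fin n) F) =
      (h : Matrix (Fin n) (Fin n) F₀).map ι₀ := rfl

theorem map_injective_matrix {A B : Matrix (Fin n) (Fin n) F₀} (h : A.map ι₀ = B.map ι₀) :
    A = B := by
  ext i j
  have := congrFun (congrFun h i) j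
  simp only [Matrix.map_apply] at this
  exact ι₀.injective this

theorem map_smul_one (c : F₀) :
    ((c • (1 : Matrix (Fin n) (Fin n) F₀)).map ι₀) = ι₀ c • (1 : Matrix (Fin n) (Fin n) F) := by
  ext i j
  by_cases hij : i = j
  · subst hij; simp
  · simp [Matrix.one_apply, hij]

include hF₀ hσ in
/-- similarities of the dot form over `F₀` are similarities of the hermitian form over `F` -/
theorem emb_mem_CU (h2 : (2 : F₀) ≠ 0) (h : GL (Fin n) F₀)
    (hh : h ∈ Cfsg.Geo.quadSimilarityGroup (F := F₀) (dotQ (F := F₀) (Fin n))) :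
    Matrix.GeneralLinearGroup.map ι₀ h ∈ CU n F q := by
  obtain ⟨c, hc⟩ := (mem_sim_dot_iff h2 h).1 hh
  apply mem_CU_of_matrix σ hσ _ (Units.map ι₀.toMonoidHom c)
  rw [emb_coe, map_sigma_map hF₀ ι₀ σ hσ, ← Matrix.transpose_map, ← Matrix.map_mul, hc,
    map_smul_one]
  rfl

end Emb

end Cfsg.Agent.Helper5.PSUAut
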