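import Mathlib
import Cfsg.Agent.Lib.Helper5.PSUAut5

/-!
# The centralizer of the `q`-power field automorphism in `Inndiag(PSU_n(q))`

`cent_fieldAut_equiv_pgo_dot`: it is `PGO` of the dot form `Σ xᵢ²` over the field with `q` elements
(`q` odd).
-/

set_option autoImplicit false
set_option linter.unusedSectionVars false
set_option linter.unusedSimpArgs false

namespace Cfsg.Agent.Helper5.PSUAut

open Matrix Cfsg.Agent.Helper13.PSLAut Cfsg.Agent.Helper5 Cfsg.Agent.Helper13.DotForm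

variable {F : Type*} [Field F] [Fintype F] {n q : ℕ} (hF : Fintype.card F = q ^ 2)
  {F₀ : Type*} [Field F₀] [Fintype F₀] (hF₀ : Fintype.card F₀ = q) (ι₀ : F₀ →+* F)
  (σ : F ≃+* F) (hσ : ∀ a : F, σ a = a ^ q) (h2 : (2 : F₀) ≠ 0)

/-- the similarity group of the dot form over `F₀` -/
abbrev N0 (n : ℕ) (F₀ : Type*) [Field F₀] : Subgroup (GL (Fin n) F₀) :=
  Cfsg.Geo.quadSimilarityGroup (F := F₀) (dotQ (F := F₀) (Fin n))

/-- the embedding of the similarity group of the dot form over `F₀` into `CU` -/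
noncomputable def theta : ↥(N0 n F₀) →* ↥(CU n F q) :=
  ((Matrix.GeneralLinearGroup.map ι₀).comp (N0 n F₀).subtype).codRestrict (CU n F q)
    (fun h => emb_mem_CU hF₀ ι₀ σ hσ h2 h.1 h.2)

theorem theta_val (h : ↥(N0 n F₀)) :
    ((theta hF₀ ι₀ σ hσ h2 h : ↥(CU n F q)) : GL (Fin n) F) =
      Matrix.GeneralLinearGroup.map ι₀ h.1 := rfl

theorem theta_coe (h : ↥(N0 n F₀)) :
    (((theta hF₀ ι₀ σ hσ h2 h : ↥(CU n F q)) : GL (Fin n) F) : Matrix (Fin n) (Fin n) F) =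
      (h.1 : Matrix (Fin n) (Fin n) F₀).map ι₀ := rfl

include hF in
theorem theta_mem_inndiag (hn : 3 ≤ n) (h32 : ¬ (n = 3 ∧ q = 2)) (h : ↥(N0 n F₀)) :
    PhiU (theta hF₀ ι₀ σ hσ h2 h) ∈ Cfsg.inndiagPSU n F q := by
  rw [mem_inndiagPSU_iff]
  obtain ⟨c, hc⟩ := (mem_sim_dot_iff h2 h.1).1 h.2
  have hc0 : ι₀ (c : F₀) ≠ 0 := by
    rw [map_ne_zero]; exact c.ne_zero
  have hcq : ((ι₀ (c : F₀))⁻¹) ^ q = (ι₀ (c : F₀))⁻¹ := by
    rw [inv_pow, ← hσ, sigma_emb hF₀ ι₀ σ hσ]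
  obtain ⟨κ, hκ0, hκ⟩ := exists_pow_add_one hF _ (inv_ne_zero hc0) hcq
  set g₁ : GL (Fin n) F := Matrix.GeneralLinearGroup.map ι₀ h.1 * scGL n (Units.mk0 κ hκ0)
    with hg₁
  have hg₁GU : g₁ ∈ Cfsg.GU n F q := by
    apply mem_GU_of_matrix σ hσ
    rw [hg₁, mul_scGL_coe, Units.val_mk0, emb_coe]
    have e1 : (κ • (h.1 : Matrix (Fin n) (Fin n) F₀).map ι₀).map σ =
        σ κ • (h.1 : Matrix (Fin n) (Fin n) F₀).map ι₀ := by
      ext i j
      simp only [Matrix.map_apply, Matrix.smul_apply, smul_eq_mul, map_mul]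
      rw [sigma_emb hF₀ ι₀ σ hσ]
    have hk : κ * κ ^ q * ι₀ (c : F₀) = 1 := by
      rw [← pow_succ', hκ]; exact inv_mul_cancel₀ hc0
    rw [e1, Matrix.transpose_smul, Matrix.smul_mul, Matrix.mul_smul, smul_smul,
      ← Matrix.transpose_map, ← Matrix.map_mul, hc, map_smul_one, smul_smul, hσ, hk, one_smul]
  refine ⟨⟨g₁, GU_le_CU hg₁GU⟩, hg₁GU, ?_⟩
  rw [PhiU_eq_iff hF hn h32]
  show (Matrix.GeneralLinearGroup.map ι₀ h.1)⁻¹ * g₁ ∈ _
  rw [hg₁, inv_mul_cancel_left]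
  exact scGL_mem _

include hF in
theorem theta_mem_centralizer (hn : 3 ≤ n) (h32 : ¬ (n = 3 ∧ q = 2))
    {φ : MulAut (Cfsg.PSU n F q)} (hφ : Cfsg.IsFieldAutPSUOf σ φ) (h : ↥(N0 n F₀)) :
    PhiU (theta hF₀ ι₀ σ hσ h2 h) ∈ Subgroup.centralizer {φ} := by
  rw [PhiU_mem_centralizer_iff σ hF hn h32 hφ]
  have e : ((sigmaCU σ (theta hF₀ ι₀ σ hσ h2 h) : ↥(CU n F q)) : GL (Fin n) F) =
      (theta hF₀ ι₀ σ hσ h2 h).1 := by
    apply Units.ext
    rw [sigmaCU_coe]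
    exact map_sigma_map hF₀ ι₀ σ hσ _
  rw [e, inv_mul_cancel]
  exact Subgroup.one_mem _

include hF in
theorem theta_ker_iff (hn : 3 ≤ n) (h32 : ¬ (n = 3 ∧ q = 2)) (h : ↥(N0 n F₀)) :
    PhiU (theta hF₀ ι₀ σ hσ h2 h) = 1 ↔ h.1 ∈ Cfsg.Geo.scalars (Fin n) F₀ := by
  rw [PhiU_eq_one_iff hF hn h32, Cfsg.Geo.mem_scalars_iff, Cfsg.Geo.mem_scalars_iff]
  constructor
  · rintro ⟨lam, hlam⟩
    have hent : ∀ i j, ι₀ ((h.1 : Matrix (Fin n) (Fin n) F₀) i j) =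
        if i = j then (lam : F) else 0 := by
      intro i j
      have h1 := congrFun (congrFun hlam i) j
      rw [theta_coe, Matrix.map_apply, Matrix.smul_apply, Matrix.one_apply, smul_eq_mul] at h1
      rw [h1]
      split_ifs <;> simp
    set c₀ : F₀ := (h.1 : Matrix (Fin n) (Fin n) F₀) ⟨0, by omega⟩ ⟨0, by omega⟩ with hc₀def
    have hc₀ : ι₀ c₀ = lam := by rw [hc₀def, hent]; simp
    have hc₀0 : c₀ ≠ 0 := by
      intro h0
      rw [h0, map_zero] at hc₀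
      exact lam.ne_zero hc₀.symm
    refine ⟨Units.mk0 c₀ hc₀0, ?_⟩
    apply map_injective_matrix ι₀
    rw [map_smul_one, Units.val_mk0, hc₀]
    ext i j
    rw [Matrix.map_apply, hent, Matrix.smul_apply, Matrix.one_apply, smul_eq_mul]
    split_ifs <;> simp
  · rintro ⟨c, hc⟩
    refine ⟨Units.map ι₀.toMonoidHom c, ?_⟩
    rw [theta_coe, hc, map_smul_one]
    rfl

include hF in
theorem exists_theta_eq (hn : 3 ≤ n) (h32 : ¬ (n = 3 ∧ q = 2))
    {φ : MulAut (Cfsg.PSU n F q)} (hφ : Cfsg.IsFieldAutPSUOf σ φ) (g : ↥(CU n F q))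
    (hgGU : g.1 ∈ Cfsg.GU n F q) (hcent : PhiU g ∈ Subgroup.centralizer {φ}) :
    ∃ h : ↥(N0 n F₀), PhiU (theta hF₀ ι₀ σ hσ h2 h) = PhiU g := by
  have hq := two_le_q hF
  rw [PhiU_mem_centralizer_iff σ hF hn h32 hφ, Cfsg.Geo.mem_scalars_iff] at hcent
  obtain ⟨lam, hlam⟩ := hcent
  set G : Matrix (Fin n) (Fin n) F := (g.1 : Matrix (Fin n) (Fin n) F) with hG
  have hmul : G = ((sigmaCU σ g : ↥(CU n F q)) : GL (Fin n) F).val *
      ((((sigmaCU σ g : ↥(CU n F q)) : GL (Fin n) F)⁻¹ * g.1 : GL (Fin n) F) :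
        Matrix (Fin n) (Fin n) F) := by
    rw [hG, ← Units.val_mul, mul_inv_cancel_left]
  rw [hlam, sigmaCU_coe, Matrix.mul_smul, Matrix.mul_one] at hmul
  have hE1 : ∀ i j, G i j = lam * σ (G i j) := by
    intro i j
    have := congrFun (congrFun hmul i) j
    rw [Matrix.smul_apply, Matrix.map_apply, smul_eq_mul] at this
    exact this
  have hss : ∀ a : F, σ (σ a) = a := by
    intro a
    rw [hσ, hσ, pow_q_pow_q hF]
  have hE2 : ∀ i j, σ (G i j) = σ lam * G i j := by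
    intro i j
    have := congrArg σ (hE1 i j)
    rw [map_mul, hss] at this
    exact this
  have hGinv : G * (((g.1)⁻¹ : GL (Fin n) F) : Matrix (Fin n) (Fin n) F) = 1 := coe_mul_inv g.1
  have hdetG : G.det ≠ 0 := Matrix.det_ne_zero_of_right_inverse hGinv
  have hlam1 : (lam : F) * σ lam = 1 := by
    by_contra hne
    have hzero : G = 0 := by
      ext i j
      have h1 : ((lam : F) * σ lam - 1) * G i j = 0 := by
        have := hE1 i j
        rw [hE2 i j] at this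
        linear_combination -this
      rcases mul_eq_zero.1 h1 with h | h
      · exact absurd (sub_eq_zero.1 h) hne
      · exact h
    rw [hzero, Matrix.zero_mul] at hGinv
    have := congrFun (congrFun hGinv ⟨0, by omega⟩) ⟨0, by omega⟩
    simp at this
  have hlamq : (lam : F) ^ (q + 1) = 1 := by
    rw [pow_succ', ← hσ]; exact hlam1
  obtain ⟨μ, hμ0, hμ⟩ := exists_pow_sub_one hF (lam : F) hlamq
  have hμq : μ ^ q = lam * μ := by
    rw [← hμ, ← pow_succ]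
    congr 1
    omega
  have hfix : ∀ i j, (μ * G i j) ^ q = μ * G i j := by
    intro i j
    rw [mul_pow, ← hσ (G i j), hE2, hμq, hσ (lam : F)]
    have : (lam : F) * (lam : F) ^ q = 1 := by rw [← hσ]; exact hlam1
    linear_combination (μ * G i j) * this
  choose H₀ hH₀ using fun i j => exists_of_pow_q_eq hF hF₀ ι₀ (μ * G i j) (hfix i j)
  set H : Matrix (Fin n) (Fin n) F₀ := Matrix.of H₀ with hH
  have hHmap : H.map ι₀ = μ • G := by
    ext i j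
    rw [Matrix.map_apply, hH, Matrix.of_apply, hH₀, Matrix.smul_apply, smul_eq_mul]
  have hdetH : H.det ≠ 0 := by
    intro h0
    have h1 : (H.map ι₀).det = ι₀ H.det := (RingHom.map_det ι₀ H).symm
    rw [h0, map_zero, hHmap, Matrix.det_smul] at h1
    exact mul_ne_zero (pow_ne_zero _ hμ0) hdetG h1
  set h : GL (Fin n) F₀ := Matrix.GeneralLinearGroup.mkOfDetNeZero H hdetH with hh
  have hhcoe : (h : Matrix (Fin n) (Fin n) F₀) = H := rfl
  -- Gᵀ G is scalar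
  have hGU := matrix_of_mem_GU σ hσ g.1 hgGU
  have hGσ : G.map σ = σ (lam : F) • G := by
    ext i j
    rw [Matrix.map_apply, hE2, Matrix.smul_apply, smul_eq_mul]
  have hσlam0 : σ (lam : F) ≠ 0 := by
    rw [map_ne_zero]; exact lam.ne_zero
  have hGG : Gᵀ * G = (σ (lam : F))⁻¹ • (1 : Matrix (Fin n) (Fin n) F) := by
    rw [← hG, hGσ, Matrix.mul_smul] at hGU
    rw [← hGU, smul_smul, inv_mul_cancel₀ hσlam0, one_smul]
  set ν : F := μ * μ * (σ (lam : F))⁻¹ with hν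
  have hν0 : ν ≠ 0 := mul_ne_zero (mul_ne_zero hμ0 hμ0) (inv_ne_zero hσlam0)
  have hHH : (Hᵀ * H).map ι₀ = ν • (1 : Matrix (Fin n) (Fin n) F) := by
    rw [Matrix.map_mul, Matrix.transpose_map, hHmap, Matrix.transpose_smul, Matrix.smul_mul,
      Matrix.mul_smul, smul_smul, hGG, smul_smul]
  have hent : ∀ i j, ι₀ ((Hᵀ * H) i j) = if i = j then ν else 0 := by
    intro i j
    have h1 := congrFun (congrFun hHH i) j
    rw [Matrix.map_apply, Matrix.smul_apply, Matrix.one_apply, smul_eq_mul] at h1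
    rw [h1]
    split_ifs <;> simp
  set c₀ : F₀ := (Hᵀ * H) ⟨0, by omega⟩ ⟨0, by omega⟩ with hc₀def
  have hc₀ : ι₀ c₀ = ν := by rw [hc₀def, hent]; simp
  have hc₀0 : c₀ ≠ 0 := by
    intro h0
    rw [h0, map_zero] at hc₀
    exact hν0 hc₀.symm
  have hhN : h ∈ N0 n F₀ := by
    rw [mem_sim_dot_iff h2]
    refine ⟨Units.mk0 c₀ hc₀0, ?_⟩
    rw [hhcoe, Units.val_mk0]
    apply map_injective_matrix ι₀
    rw [map_smul_one, hc₀]
    exact hHH
  refine ⟨⟨h, hhN⟩, ?_⟩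
  symm
  rw [PhiU_eq_iff hF hn h32]
  have e : ((theta hF₀ ι₀ σ hσ h2 ⟨h, hhN⟩ : ↥(CU n F q)) : GL (Fin n) F) =
      g.1 * scGL n (Units.mk0 μ hμ0) := by
    apply Units.ext
    rw [theta_coe, mul_scGL_coe, Units.val_mk0]
    exact hHmap
  rw [e, inv_mul_cancel_left]
  exact scGL_mem _

include hF hF₀ ι₀ hσ h2 in
/-- The centralizer in `Inndiag(PSU_n(q))` of the standard `q`-power field automorphism is
`PGO` of the dot form over the field with `q` elements. -/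
theorem cent_fieldAut_equiv_pgo_dot (hn : 3 ≤ n) (h32 : ¬ (n = 3 ∧ q = 2))
    {φ : MulAut (Cfsg.PSU n F q)} (hφ : Cfsg.IsFieldAutPSUOf σ φ) :
    Nonempty (↥(Cfsg.inndiagPSU n F q ⊓ Subgroup.centralizer {φ}) ≃*
      Cfsg.PGO F₀ (dotQ (F := F₀) (Fin n))) := by
  let ψ : ↥(N0 n F₀) →* MulAut (Cfsg.PSU n F q) :=
    (PhiU (F := F) (n := n) (q := q)).comp (theta hF₀ ι₀ σ hσ h2)
  have hrange : ψ.range = Cfsg.inndiagPSU n F q ⊓ Subgroup.centralizer {φ} := by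
    ext x
    constructor
    · rintro ⟨h, rfl⟩
      exact ⟨theta_mem_inndiag hF hF₀ ι₀ σ hσ h2 hn h32 h,
        theta_mem_centralizer hF hF₀ ι₀ σ hσ h2 hn h32 hφ h⟩
    · rintro ⟨h1, h3⟩
      obtain ⟨g, hgGU, rfl⟩ := (mem_inndiagPSU_iff x).1 h1
      obtain ⟨h, hh⟩ := exists_theta_eq hF hF₀ ι₀ σ hσ h2 hn h32 hφ g hgGU h3
      exact ⟨h, hh⟩
  have hker : ψ.ker = (Cfsg.Geo.scalars (Fin n) F₀).subgroupOf (N0 n F₀) := by
    ext h
    rw [MonoidHom.mem_ker, Subgroup.mem_subgroupOf]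
    exact theta_ker_iff hF hF₀ ι₀ σ hσ h2 hn h32 h
  have e1 : ↥(N0 n F₀) ⧸ ψ.ker ≃* ψ.range := QuotientGroup.quotientKerEquivRange ψ
  have e2 : ↥(N0 n F₀) ⧸ ψ.ker ≃*
      ↥(N0 n F₀) ⧸ (Cfsg.Geo.scalars (Fin n) F₀).subgroupOf (N0 n F₀) :=
    QuotientGroup.quotientMulEquivOfEq hker
  have e3 : ψ.range ≃* ↥(Cfsg.inndiagPSU n F q ⊓ Subgroup.centralizer {φ}) :=
    MulEquiv.subgroupCongr hrange
  exact ⟨(e3.symm.trans e1.symm).trans e2⟩

end Cfsg.Agent.Helper5.PSUAut
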