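import Mathlib
import Cfsg.Agent.Lib.Helper5.PSUAut6
import Cfsg.Agent.Lib.Helper13.PSLInvT

/-!
# `C_{Inndiag(PSU_n(q))}(φ_q) ≅ PGO⁺_n(q)` for `4 ∣ n`, `q` odd
-/

set_option autoImplicit false
set_option linter.unusedSectionVars false
set_option linter.unusedSimpArgs false

namespace Cfsg.Agent.Helper5.PSUAut

open Matrix Cfsg.Agent.Helper13.DotForm

/-- a field with `q` elements embeds in a field with `q²` elements -/
theorem exists_ringHom_of_card {F F₀ : Type*} [Field F] [Fintype F] [Field F₀] [Fintype F₀]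
    {q : ℕ} (hF : Fintype.card F = q ^ 2) (hF₀ : Fintype.card F₀ = q) : Nonempty (F₀ →+* F) := by
  obtain ⟨p, hp⟩ := CharP.exists F₀
  have : Fact p.Prime := ⟨CharP.char_is_prime F₀ p⟩
  obtain ⟨p', hp'⟩ := CharP.exists F
  have : Fact p'.Prime := ⟨CharP.char_is_prime F p'⟩
  obtain ⟨a, -, ha⟩ := FiniteField.card F₀ p
  obtain ⟨b, -, hb⟩ := FiniteField.card F p'
  have hpp : p = p' := by
    have h1 : p ∣ q := by
      rw [← hF₀, ha]
      exact dvd_pow_self p a.ne_zero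
    have h2 : p ∣ p' ^ (b : ℕ) := by
      rw [← hb, hF]
      exact dvd_pow h1 two_ne_zero
    exact (Nat.prime_dvd_prime_iff_eq Fact.out Fact.out).1
      ((Fact.out : p.Prime).dvd_of_dvd_pow h2)
  subst hpp
  let _ := ZMod.algebra F₀ p
  let _ := ZMod.algebra F p
  have h3 := FiniteField.pow_finrank_eq_card p F₀
  have h4 := FiniteField.pow_finrank_eq_card p F
  have h5 : Module.finrank (ZMod p) F = Module.finrank (ZMod p) F₀ * 2 := by
    apply Nat.pow_right_injective (Fact.out : p.Prime).two_le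
    show p ^ Module.finrank (ZMod p) F = p ^ (Module.finrank (ZMod p) F₀ * 2)
    rw [h4, hF, ← hF₀, ← h3, ← pow_mul]
  obtain ⟨f⟩ := FiniteField.nonempty_algHom_of_finrank_dvd (F := ZMod p) (K := F₀) (L := F)
    ⟨2, h5⟩
  exact ⟨f.toRingHom⟩

theorem cent_fieldAut_equiv_pgo_plus {F : Type*} [Field F] [Fintype F] {q : ℕ} (hodd : Odd q)
    (hF : Fintype.card F = q ^ 2) {n m : ℕ} (hm : 2 ≤ m) (hnm : n = 2 * m) (h4 : 4 ∣ n)
    (F₀ : Type*) [Field F₀] [Fintype F₀] (hF₀ : Fintype.card F₀ = q) (σ : F ≃+* F)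
    (hσ : ∀ a : F, σ a = a ^ q) (φ : MulAut (Cfsg.PSU n F q))
    (hφ : Cfsg.IsFieldAutPSUOf σ φ) :
    Nonempty (↥(Cfsg.inndiagPSU n F q ⊓ Subgroup.centralizer {φ}) ≃*
      Cfsg.PGO F₀ (Cfsg.quadFormPlus m F₀)) := by
  classical
  have hodd₀ : Odd (Fintype.card F₀) := by rw [hF₀]; exact hodd
  have h2 : (2 : F₀) ≠ 0 := by
    intro h
    have h1 : ringChar F₀ = 2 :=
      CharP.ringChar_of_prime_eq_zero Nat.prime_two (by exact_mod_cast h)
    have h3 := FiniteField.even_card_of_char_two h1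
    rcases hodd₀ with ⟨k, hk⟩
    omega
  obtain ⟨ι₀⟩ := exists_ringHom_of_card hF hF₀
  have hn : 3 ≤ n := by omega
  have h32 : ¬ (n = 3 ∧ q = 2) := by omega
  obtain ⟨e0⟩ := cent_fieldAut_equiv_pgo_dot hF hF₀ ι₀ σ hσ h2 hn h32 hφ
  have hmeven : Even m := by
    obtain ⟨k, hk⟩ := h4
    exact ⟨k, by omega⟩
  subst hnm
  have hiso := Cfsg.Agent.Helper13.PSLInvT.dot_fin_iso_plus (F := F₀) hodd₀ h2 m (Or.inl hmeven)
  obtain ⟨e1⟩ := hiso.pgo
  exact ⟨e0.trans e1⟩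

end Cfsg.Agent.Helper5.PSUAut
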