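import Mathlib
import Cfsg.Agent.Lib.Helper5.PSUAut7
import Cfsg.Agent.Lib.Helper13.HermStd

/-!
# Standard field automorphisms of `PSU_n(q)` as elements of `MulAut`

`fieldAutPSU σ`, its uniqueness, and: a standard field automorphism which is induced by a
similarity of the hermitian form belongs to the trivial field automorphism.
-/

set_option autoImplicit false
set_option linter.unusedSectionVars false
set_option linter.unusedSimpArgs false

namespace Cfsg.Agent.Helper5.PSUGr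

open Matrix Cfsg.Agent.Helper13.PSLAut Cfsg.Agent.Helper5 Cfsg.Agent.Helper5.PSUAut

section Perfect

/-- two endomorphisms of a perfect group which agree modulo the centre are equal -/
theorem hom_eq_of_perfect {G : Type*} [Group G] (hG : commutator G = ⊤) (θ₁ θ₂ : G →* G)
    (h : ∀ s, (θ₁ s)⁻¹ * θ₂ s ∈ Subgroup.center G) (s : G) : θ₁ s = θ₂ s := by
  let f : G →* ↥(Subgroup.center G) :=
    { toFun := fun s => ⟨(θ₁ s)⁻¹ * θ₂ s, h s⟩
      map_one' := by
        apply Subtype.ext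
        show (θ₁ 1)⁻¹ * θ₂ 1 = 1
        rw [map_one, map_one, inv_one, one_mul]
      map_mul' := by
        intro s t
        apply Subtype.ext
        show (θ₁ (s * t))⁻¹ * θ₂ (s * t) = ((θ₁ s)⁻¹ * θ₂ s) * ((θ₁ t)⁻¹ * θ₂ t)
        have hz := Subgroup.mem_center_iff.1 (h s) (θ₁ t)⁻¹
        rw [map_mul, map_mul, _root_.mul_inv_rev]
        calc (θ₁ t)⁻¹ * (θ₁ s)⁻¹ * (θ₂ s * θ₂ t)
            = (θ₁ t)⁻¹ * ((θ₁ s)⁻¹ * θ₂ s) * θ₂ t := by group
          _ = ((θ₁ s)⁻¹ * θ₂ s) * (θ₁ t)⁻¹ * θ₂ t := by rw [hz]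
          _ = _ := by group }
  have hker : f.ker = ⊤ := by
    rw [eq_top_iff, ← hG, commutator_eq_closure, Subgroup.closure_le]
    rintro x ⟨a, b, rfl⟩
    rw [SetLike.mem_coe, MonoidHom.mem_ker, commutatorElement_def, map_mul, map_mul, map_mul,
      map_inv, map_inv]
    have hab : f a * f b = f b * f a := by
      apply Subtype.ext
      exact ((Subgroup.mem_center_iff.1 (f a).2) (f b).1).symm
    rw [hab]
    group
  have h1 : s ∈ f.ker := by rw [hker]; exact Subgroup.mem_top s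
  have h2 : f s = 1 := MonoidHom.mem_ker.1 h1
  have h3 : (θ₁ s)⁻¹ * θ₂ s = 1 := congrArg Subtype.val h2
  exact (inv_mul_eq_one.1 h3)

end Perfect

section FieldAut

variable {F : Type*} [Field F] {n q : ℕ}

theorem sigmaSU_mul (σ : F ≃+* F) (s t : ↥(Cfsg.SU n F q)) :
    sigmaSU σ (s * t) = sigmaSU σ s * sigmaSU σ t := by
  apply Subtype.ext
  exact map_mul (Matrix.SpecialLinearGroup.map σ.toRingHom) s.1 t.1

theorem sigmaSU_sigmaSU (σ τ : F ≃+* F) (s : ↥(Cfsg.SU n F q)) :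
    sigmaSU σ (sigmaSU τ s) = sigmaSU (τ.trans σ) s := by
  apply Subtype.ext
  apply Subtype.ext
  rw [sigmaSU_val, sigmaSU_val, sigmaSU_val]
  ext i j
  simp only [Matrix.map_apply, RingEquiv.trans_apply]

theorem sigmaSU_refl (s : ↥(Cfsg.SU n F q)) : sigmaSU (RingEquiv.refl F) s = s := by
  apply Subtype.ext
  apply Subtype.ext
  rw [sigmaSU_val]
  ext i j
  simp only [Matrix.map_apply, RingEquiv.refl_apply]

/-- `σ` applied entrywise as an automorphism of `SU_n` -/
def sigmaSUEquiv (σ : F ≃+* F) : ↥(Cfsg.SU n F q) ≃* ↥(Cfsg.SU n F q) where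
  toFun := sigmaSU σ
  invFun := sigmaSU σ.symm
  left_inv s := by
    rw [sigmaSU_sigmaSU, RingEquiv.self_trans_symm, sigmaSU_refl]
  right_inv s := by
    rw [sigmaSU_sigmaSU, RingEquiv.symm_trans_self, sigmaSU_refl]
  map_mul' := sigmaSU_mul σ

theorem sigmaSUEquiv_apply (σ : F ≃+* F) (s : ↥(Cfsg.SU n F q)) :
    sigmaSUEquiv σ s = sigmaSU σ s := rfl

theorem sigmaSUEquiv_center (σ : F ≃+* F) :
    (Subgroup.center ↥(Cfsg.SU n F q)).map (sigmaSUEquiv σ).toMonoidHom =
      Subgroup.center ↥(Cfsg.SU n F q) :=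
  (Subgroup.characteristic_iff_map_eq.1
    (inferInstance : (Subgroup.center ↥(Cfsg.SU n F q)).Characteristic)) (sigmaSUEquiv σ)

/-- the standard field automorphism of `PSU_n` attached to `σ` -/
noncomputable def fieldAutPSU (σ : F ≃+* F) : MulAut (Cfsg.PSU n F q) :=
  QuotientGroup.congr (Subgroup.center ↥(Cfsg.SU n F q)) (Subgroup.center ↥(Cfsg.SU n F q))
    (sigmaSUEquiv σ) (sigmaSUEquiv_center σ)

theorem fieldAutPSU_mk (σ : F ≃+* F) (s : ↥(Cfsg.SU n F q)) :
    fieldAutPSU σ (QuotientGroup.mk s : Cfsg.PSU n F q) = QuotientGroup.mk (sigmaSU σ s) := rfl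

theorem isFieldAut_fieldAutPSU (σ : F ≃+* F) :
    Cfsg.IsFieldAutPSUOf σ (fieldAutPSU (n := n) (q := q) σ) := by
  intro s s' hs'
  rw [fieldAutPSU_mk]
  congr 1
  apply Subtype.ext
  apply Subtype.ext
  rw [sigmaSU_val, hs']

theorem eq_fieldAutPSU {σ : F ≃+* F} {φ : MulAut (Cfsg.PSU n F q)}
    (hφ : Cfsg.IsFieldAutPSUOf σ φ) : φ = fieldAutPSU σ := by
  apply MulEquiv.ext
  intro x
  induction x using QuotientGroup.induction_on with
  | H s => rw [fieldAut_mk σ hφ, fieldAutPSU_mk]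

theorem fieldAutPSU_mul (σ τ : F ≃+* F) :
    fieldAutPSU (n := n) (q := q) σ * fieldAutPSU τ = fieldAutPSU (τ.trans σ) := by
  apply MulEquiv.ext
  intro x
  induction x using QuotientGroup.induction_on with
  | H s => rw [MulAut.mul_apply, fieldAutPSU_mk, fieldAutPSU_mk, fieldAutPSU_mk, sigmaSU_sigmaSU]

theorem fieldAutPSU_refl : fieldAutPSU (n := n) (q := q) (RingEquiv.refl F) = 1 := by
  apply MulEquiv.ext
  intro x
  induction x using QuotientGroup.induction_on with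
  | H s => rw [fieldAutPSU_mk, sigmaSU_refl]; rfl

theorem fieldAutPSU_mul_PhiU (σ : F ≃+* F) (g : ↥(CU n F q)) :
    fieldAutPSU σ * PhiU g = PhiU (sigmaCU σ g) * fieldAutPSU σ :=
  fieldAut_mul_PhiU σ (isFieldAut_fieldAutPSU σ) g

end FieldAut

end Cfsg.Agent.Helper5.PSUGr
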