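import Mathlib
import Cfsg.Agent.Lib.Helper5.PSUGr1

/-!
# A standard field automorphism of `PSU_n(q)` induced by a similarity is trivial
-/

set_option autoImplicit false
set_option linter.unusedSectionVars false
set_option linter.unusedSimpArgs false

namespace Cfsg.Agent.Helper5.PSUGr

open Matrix Cfsg.Agent.Helper13.PSLAut Cfsg.Agent.Helper5 Cfsg.Agent.Helper5.PSUAut

variable {F : Type*} [Field F] [Fintype F] {n q : ℕ} (hF : Fintype.card F = q ^ 2)

include hF in
/-- equality of automorphisms of `PSU` lifts to `SU` -/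
theorem sigmaSU_eq_conjSU (hn : 3 ≤ n) (h32 : ¬ (n = 3 ∧ q = 2)) (τ : F ≃+* F)
    (h : ↥(CU n F q)) (he : fieldAutPSU τ = PhiU h) (s : ↥(Cfsg.SU n F q)) :
    sigmaSU τ s = conjSU h s := by
  have hc : ∀ s : ↥(Cfsg.SU n F q),
      ((conjSU h).toMonoidHom s)⁻¹ * (sigmaSUEquiv τ).toMonoidHom s ∈
        Subgroup.center ↥(Cfsg.SU n F q) := by
    intro s
    have h1 : (fieldAutPSU τ) (QuotientGroup.mk s : Cfsg.PSU n F q) =
        PhiU h (QuotientGroup.mk s) := by rw [he]
    rw [fieldAutPSU_mk, PhiU_mk] at h1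
    exact QuotientGroup.eq.1 h1.symm
  exact (hom_eq_of_perfect (Cfsg.Agent.S0283.su_perfect hF hn h32) (conjSU h).toMonoidHom
    (sigmaSUEquiv τ).toMonoidHom hc s).symm

/-- a diagonal element of `SU` -/
def diagSU (d : Fin n → F) (hd : ∀ k, d k ^ (q + 1) = 1) (hp : ∏ k, d k = 1) :
    ↥(Cfsg.SU n F q) :=
  ⟨⟨Matrix.diagonal d, by rw [Matrix.det_diagonal]; exact hp⟩,
    mem_SU_of_val_eq_diagonal _ d rfl hd⟩

include hF in
theorem sum_map_eq (hn : 3 ≤ n) (h32 : ¬ (n = 3 ∧ q = 2)) (τ : F ≃+* F)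
    (h : ↥(CU n F q)) (he : fieldAutPSU τ = PhiU h) (d : Fin n → F)
    (hd : ∀ k, d k ^ (q + 1) = 1) (hp : ∏ k, d k = 1) : ∑ k, τ (d k) = ∑ k, d k := by
  have h1 := sigmaSU_eq_conjSU hF hn h32 τ h he (diagSU d hd hp)
  have h2 : ((sigmaSU τ (diagSU d hd hp) : ↥(Cfsg.SU n F q)) :
      Matrix.SpecialLinearGroup (Fin n) F).val.trace =
      ((conjSU h (diagSU d hd hp) : ↥(Cfsg.SU n F q)) :
        Matrix.SpecialLinearGroup (Fin n) F).val.trace := by rw [h1]
  rw [sigmaSU_val, conjSU_val, Matrix.trace_units_conj] at h2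
  have e1 : ((diagSU d hd hp : ↥(Cfsg.SU n F q)) : Matrix.SpecialLinearGroup (Fin n) F).val =
      Matrix.diagonal d := rfl
  rw [e1] at h2
  simpa [Matrix.trace, Matrix.diag, Matrix.map_apply] using h2

include hF in
theorem three_sum (hn : 3 ≤ n) (h32 : ¬ (n = 3 ∧ q = 2)) (τ : F ≃+* F)
    (h : ↥(CU n F q)) (he : fieldAutPSU τ = PhiU h) (a b c : F) (ha : a ^ (q + 1) = 1)
    (hb : b ^ (q + 1) = 1) (hc : c ^ (q + 1) = 1) (habc : a * b * c = 1) :
    τ a + τ b + τ c = a + b + c := by
  obtain ⟨m, rfl⟩ : ∃ m, n = m + 3 := ⟨n - 3, by omega⟩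
  set d : Fin (m + 3) → F := Fin.cons a (Fin.cons b (Fin.cons c (fun _ : Fin m => (1 : F))))
    with hd
  have hd1 : ∀ k, d k ^ (q + 1) = 1 := by
    rw [hd, Fin.forall_fin_succ]
    refine ⟨by simpa using ha, ?_⟩
    simp only [Fin.cons_succ]
    rw [Fin.forall_fin_succ]
    refine ⟨by simpa using hb, ?_⟩
    simp only [Fin.cons_succ]
    rw [Fin.forall_fin_succ]
    refine ⟨by simpa using hc, ?_⟩
    simp
  have hp : ∏ k, d k = 1 := by
    simp only [hd, Fin.prod_univ_succ, Fin.cons_zero, Fin.cons_succ, Finset.prod_const_one,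
      mul_one]
    rw [← mul_assoc]; exact habc
  have h1 := sum_map_eq hF hn h32 τ h he d hd1 hp
  simp only [hd, Fin.sum_univ_succ, Fin.cons_zero, Fin.cons_succ, map_one] at h1
  linear_combination h1

include hF in
/-- such a `τ` fixes the elements of norm one -/
theorem fix_norm_one (hn : 3 ≤ n) (h32 : ¬ (n = 3 ∧ q = 2)) (τ : F ≃+* F)
    (h : ↥(CU n F q)) (he : fieldAutPSU τ = PhiU h) (x : F) (hx : x ^ (q + 1) = 1) :
    τ x = x := by
  have hx0 : x ≠ 0 := by
    rintro rfl
    rw [zero_pow (Nat.succ_ne_zero q)] at hx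
    exact zero_ne_one hx
  set y : F := x⁻¹ with hy
  have hxy : x * y = 1 := mul_inv_cancel₀ hx0
  have hy1 : y ^ (q + 1) = 1 := by rw [hy, inv_pow, hx, inv_one]
  have h11 : (1 : F) ^ (q + 1) = 1 := one_pow _
  have hyy : (y * y) ^ (q + 1) = 1 := by rw [mul_pow, hy1, one_mul]
  have e1 := three_sum hF hn h32 τ h he x y 1 hx hy1 h11 (by rw [mul_one]; exact hxy)
  have e2 := three_sum hF hn h32 τ h he x x (y * y) hx hx hyy
    (by linear_combination (x * y + 1) * hxy)
  rw [map_one] at e1
  rw [map_mul] at e2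
  have htu : τ x * τ y = 1 := by rw [← map_mul, hxy, map_one]
  set t : F := τ x with ht
  set u : F := τ y with hu
  have hu' : u = x + y - t := by linear_combination e1
  have hq : (t - x) * (t - y) = 0 := by
    rw [hu'] at htu
    linear_combination -htu + hxy
  rcases mul_eq_zero.1 hq with h0 | h0
  · exact sub_eq_zero.1 h0
  · have hty : t = y := sub_eq_zero.1 h0
    have hux : u = x := by rw [hu', hty]; ring
    rw [hty, hux] at e2
    -- 2y + x^2 = 2x + y^2
    have h4 : (x - 1) ^ 3 * (x + 1) = 0 := by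
      linear_combination x ^ 2 * e2 - 2 * x * hxy + (x * y + 1) * hxy
    have hxx : x = y := by
      rcases mul_eq_zero.1 h4 with h5 | h5
      · have : x = 1 := by
          have := pow_eq_zero_iff (n := 3) (by norm_num) |>.1 h5
          linear_combination this
        rw [hy, this, inv_one]
      · have : x = -1 := by linear_combination h5
        rw [hy, this]
        norm_num
    rw [hty, ← hxx]

open Cfsg.Agent.Helper13 in
include hF in
/-- a field automorphism multiplies every non-zero element by an element of the fixed field of the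
`q`-power map, if it fixes the elements of norm one -/
theorem exists_mult (τ : F ≃+* F) (hfix : ∀ x : F, x ^ (q + 1) = 1 → τ x = x) (l : F)
    (hl : l ≠ 0) : ∃ c : F, frobQ hF c = c ∧ τ l = c * l := by
  have hq := two_le_q hF
  refine ⟨τ l / l, ?_, by field_simp⟩
  have h1 : (l ^ (q - 1)) ^ (q + 1) = 1 := by
    rw [← pow_mul, ← sq_sub_one_eq hq, ← hF]
    exact FiniteField.pow_card_sub_one_eq_one l hl
  have h2 := hfix _ h1
  rw [map_pow] at h2
  have h3 : (τ l / l) ^ (q - 1) = 1 := by
    rw [div_pow, h2]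
    exact div_self (pow_ne_zero _ hl)
  rw [frobQ_apply]
  have : q = (q - 1) + 1 := by omega
  rw [this, pow_succ, h3, one_mul]

open Cfsg.Agent.Helper13 in
include hF in
theorem fix_of_fix (τ : F ≃+* F) (hfix : ∀ x : F, x ^ (q + 1) = 1 → τ x = x) (l m : F)
    (hl : l ≠ 0) (hm : m ≠ 0) (hlm : frobQ hF (l / m) ≠ l / m) (hτm : τ m = m) : τ l = l := by
  have hs : l + m ≠ 0 := by
    intro h0
    apply hlm
    have : l / m = -1 := by
      field_simp
      linear_combination h0
    rw [this, map_neg, map_one]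
  obtain ⟨cl, hcl, hl'⟩ := exists_mult hF τ hfix l hl
  obtain ⟨cs, hcs, hs'⟩ := exists_mult hF τ hfix (l + m) hs
  have hrel : (cs - cl) * l = (1 - cs) * m := by
    have := map_add τ l m
    rw [hs', hl', hτm] at this
    linear_combination this
  by_cases hA : cs - cl = 0
  · rw [hA, zero_mul] at hrel
    have hB : 1 - cs = 0 := by
      rcases mul_eq_zero.1 hrel.symm with h | h
      · exact h
      · exact absurd h hm
    have : cl = 1 := by linear_combination -hA - hB
    rw [hl', this, one_mul]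
  · exfalso
    apply hlm
    have : l / m = (1 - cs) / (cs - cl) := by
      field_simp
      linear_combination hrel
    rw [this, map_div₀, map_sub, map_sub, map_one, hcs, hcl]

open Cfsg.Agent.Helper13 in
include hF in
theorem eq_of_fix_norm_one (τ : F ≃+* F) (hfix : ∀ x : F, x ^ (q + 1) = 1 → τ x = x) (a : F) :
    τ a = a := by
  by_cases ha : a = 0
  · rw [ha, map_zero]
  have hne : ∃ e : F, frobQ hF e ≠ e := by
    by_contra hcon
    push Not at hcon
    exact frobQ_ne_id hF (RingHom.ext hcon)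
  have hcase : ∀ b : F, frobQ hF b ≠ b → τ b = b := by
    intro b hb
    have hb0 : b ≠ 0 := by
      rintro rfl
      exact hb (map_zero _)
    exact fix_of_fix hF τ hfix b 1 hb0 one_ne_zero (by rw [div_one]; exact hb) (map_one τ)
  by_cases hfa : frobQ hF a = a
  · obtain ⟨e, he⟩ := hne
    have he0 : e ≠ 0 := by
      rintro rfl
      exact he (map_zero _)
    refine fix_of_fix hF τ hfix a e ha he0 ?_ (hcase e he)
    rw [map_div₀, hfa]
    intro h
    apply he
    have hfe0 : frobQ hF e ≠ 0 := by rw [map_ne_zero]; exact he0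
    field_simp at h
    exact h.symm
  · exact hcase a hfa

include hF in
/-- a standard field automorphism equal to some `PhiU h` belongs to the identity of `F` -/
theorem refl_of_fieldAut_eq_PhiU (hn : 3 ≤ n) (h32 : ¬ (n = 3 ∧ q = 2)) (τ : F ≃+* F)
    (h : ↥(CU n F q)) (he : fieldAutPSU τ = PhiU h) : τ = RingEquiv.refl F := by
  apply RingEquiv.ext
  intro a
  rw [RingEquiv.refl_apply]
  exact eq_of_fix_norm_one hF τ (fix_norm_one hF hn h32 τ h he) a

end Cfsg.Agent.Helper5.PSUGr
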