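import Mathlib
import Cfsg.Agent.Lib.Helper5.SpAut1

set_option autoImplicit false

/-!
# Sylow `p`-subgroups of `Sp_{2m}(F)` in the defining characteristic and their centres
-/

namespace Cfsg.Agent.Helper5.SpAut

open Matrix Cfsg Cfsg.Agent.Helper13 Cfsg.Agent.Helper84.SpRoot

variable {F : Type*} [Field F] {m : ℕ}

/-- the stabiliser of the vector `v` -/
def stab (v : Fin m ⊕ Fin m → F) : Subgroup (Matrix.symplecticGroup (Fin m) F) where
  carrier := {g | g.val *ᵥ v = v}
  one_mem' := one_act v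
  mul_mem' := by
    intro g h hg hh
    show (g * h).val *ᵥ v = v
    rw [mul_act, hh, hg]
  inv_mem' := by
    intro g hg
    show (g⁻¹).val *ᵥ v = v
    have : (g⁻¹).val *ᵥ (g.val *ᵥ v) = v := inv_mulVec_mulVec g v
    rwa [hg] at this

theorem mem_stab {v : Fin m ⊕ Fin m → F} {g : Matrix.symplecticGroup (Fin m) F} :
    g ∈ stab v ↔ g.val *ᵥ v = v := Iff.rfl

theorem Q_le_stab (v : Fin m ⊕ Fin m → F) : Q v ≤ stab v := fun _ hg => hg.1

theorem stab_le_normalizer_Q (v : Fin m ⊕ Fin m → F) :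
    stab v ≤ Subgroup.normalizer (Q v : Set (Matrix.symplecticGroup (Fin m) F)) := by
  intro h hh
  have key : ∀ k : Matrix.symplecticGroup (Fin m) F, k ∈ stab v → ∀ g ∈ Q v,
      k * g * k⁻¹ ∈ Q v := by
    intro k hk g hg
    have hk' : (k⁻¹).val *ᵥ v = v := (stab v).inv_mem hk
    refine ⟨?_, fun w hw => ?_⟩
    · rw [mul_act, mul_act, hk', hg.1, hk]
    · have hw' : Cfsg.sympForm m F ((k⁻¹).val *ᵥ w) v = 0 := by
        have h1 : Cfsg.sympForm m F ((k⁻¹).val *ᵥ w) v
            = Cfsg.sympForm m F ((k⁻¹).val *ᵥ w) ((k⁻¹).val *ᵥ v) := by rw [hk']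
        rw [h1, sympForm_mulVec (k⁻¹).2, hw]
      obtain ⟨b, hb⟩ := hg.2 _ hw'
      refine ⟨b, ?_⟩
      rw [mul_act, mul_act, hb, Matrix.mulVec_add, Matrix.mulVec_smul, mulVec_inv_mulVec, hk]
  rw [Subgroup.mem_normalizer_iff]
  intro g
  constructor
  · exact key h hh g
  · intro hg
    have := key h⁻¹ ((stab v).inv_mem hh) _ hg
    have h2 : h⁻¹ * (h * g * h⁻¹) * h⁻¹⁻¹ = g := by group
    rwa [h2] at this

/-- transvections with centre `v` are central in the stabiliser of `v` -/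
theorem sympT_comm_stab {v : Fin m ⊕ Fin m → F} {g : Matrix.symplecticGroup (Fin m) F}
    (hg : g ∈ stab v) (c : F) : g * sympT v c = sympT v c * g := by
  have := conj_sympT g v c
  rw [mem_stab.mp hg] at this
  calc g * sympT v c = (g * sympT v c * g⁻¹) * g := by group
    _ = sympT v c * g := by rw [this]

section Finite

variable [Fintype F] {p : ℕ} [Fact p.Prime] [CharP F p]

theorem Q_isPGroup {v : Fin m ⊕ Fin m → F} (hv : v ≠ 0) : IsPGroup p (Q v) := by
  intro g
  refine ⟨1, ?_⟩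
  obtain ⟨u, c, hu, hg⟩ := exists_eich_of_mem_Q hv g.2
  apply Subtype.ext
  rw [Subgroup.coe_pow, pow_one, hg, eich_pow hu, Subgroup.coe_one]
  have h1 : (p • u : Fin m ⊕ Fin m → F) = 0 := by
    rw [← Nat.cast_smul_eq_nsmul F, CharP.cast_eq_zero, zero_smul]
  have h2 : (p • c : F) = 0 := by
    rw [nsmul_eq_mul, CharP.cast_eq_zero, zero_mul]
  rw [h1, h2, eich_one]

/-- a Sylow `p`-subgroup contained in the stabiliser of `v` contains `Q v` -/
theorem Q_le_sylow {v : Fin m ⊕ Fin m → F} (hv : v ≠ 0)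
    (P : Sylow p (Matrix.symplecticGroup (Fin m) F)) (hP : (P : Subgroup _) ≤ stab v) :
    Q v ≤ P := by
  have h1 : IsPGroup p ((P : Subgroup (Matrix.symplecticGroup (Fin m) F)) ⊔ Q v : Subgroup _) :=
    IsPGroup.to_sup_of_normal_right' P.2 (Q_isPGroup hv) (hP.trans (stab_le_normalizer_Q v))
  have h2 := P.is_maximal' h1 le_sup_left
  calc Q v ≤ (P : Subgroup _) ⊔ Q v := le_sup_right
    _ = P := h2

/-- a `p`-subgroup of `Sp` fixes a non-zero vector -/
theorem exists_fixed_vector (hm : 0 < m) (P : Subgroup (Matrix.symplecticGroup (Fin m) F))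
    (hP : IsPGroup p P) : ∃ v : Fin m ⊕ Fin m → F, v ≠ 0 ∧ P ≤ stab v := by
  letI : MulAction P (Fin m ⊕ Fin m → F) :=
    { smul := fun g v => g.1.val *ᵥ v
      one_smul := fun v => one_act v
      mul_smul := fun g h v => mul_act g.1 h.1 v }
  have hcard : p ∣ Nat.card (Fin m ⊕ Fin m → F) := by
    rw [Nat.card_eq_fintype_card, Fintype.card_fun, Fintype.card_sum, Fintype.card_fin]
    have hpF : p ∣ Fintype.card F := by
      rw [← CharP.cast_eq_zero_iff F p]
      exact Nat.cast_card_eq_zero F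
    exact dvd_pow hpF (by omega)
  have h0 : (0 : Fin m ⊕ Fin m → F) ∈ MulAction.fixedPoints P (Fin m ⊕ Fin m → F) := by
    intro g
    exact Matrix.mulVec_zero _
  obtain ⟨b, hb, hb0⟩ := hP.exists_fixed_point_of_prime_dvd_card_of_fixed_point _ hcard h0
  refine ⟨b, fun h => hb0 h.symm, fun g hg => ?_⟩
  exact hb ⟨g, hg⟩

/-- the centre of a Sylow subgroup `P ≤ stab v`, as a subgroup of `Sp` -/
def ZP (P : Subgroup (Matrix.symplecticGroup (Fin m) F)) :
    Subgroup (Matrix.symplecticGroup (Fin m) F) := P ⊓ Subgroup.centralizer (P : Set _)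

theorem mem_ZP {P : Subgroup (Matrix.symplecticGroup (Fin m) F)}
    {z : Matrix.symplecticGroup (Fin m) F} :
    z ∈ ZP P ↔ z ∈ P ∧ ∀ u ∈ P, u * z = z * u := by
  unfold ZP
  rw [Subgroup.mem_inf, Subgroup.mem_centralizer_iff]
  rfl

theorem T_le_ZP {v : Fin m ⊕ Fin m → F} (hv : v ≠ 0)
    (P : Sylow p (Matrix.symplecticGroup (Fin m) F)) (hP : (P : Subgroup _) ≤ stab v) :
    T v ≤ ZP (P : Subgroup _) := by
  intro g hg
  obtain ⟨c, rfl⟩ := mem_T_iff.mp hg
  rw [mem_ZP]
  exact ⟨Q_le_sylow hv P hP (sympT_mem_Q v c), fun u hu => sympT_comm_stab (hP hu) c⟩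

/-- an element fixing `v` and commuting with the Eichler elements lies in `Q v` -/
theorem mem_Q_of_commute {v : Fin m ⊕ Fin m → F} (hv : v ≠ 0)
    {z : Matrix.symplecticGroup (Fin m) F} (hzv : z.val *ᵥ v = v)
    (hz : ∀ w, Cfsg.sympForm m F w v = 0 → z * eich v w 0 = eich v w 0 * z) : z ∈ Q v := by
  refine ⟨hzv, fun w hw => ?_⟩
  obtain ⟨x0, hx0⟩ := exists_partner (m := m) hv
  have hx0' : Cfsg.sympForm m F x0 v = -1 := by rw [sympForm_swap, hx0]
  have hconj : eich v (z.val *ᵥ w) 0 = eich v w 0 := by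
    have := conj_eich z hw 0
    rw [hzv, hz w hw, mul_inv_cancel_right] at this
    exact this.symm
  have hzw : Cfsg.sympForm m F (z.val *ᵥ w) v = 0 := by
    conv_lhs => rw [← hzv]
    rw [sympForm_mulVec z.2, hw]
  have h1 := congrArg (fun g : Matrix.symplecticGroup (Fin m) F => g.val *ᵥ x0) hconj
  simp only [eich_act hzw, eich_act hw, hx0', zero_mul, zero_smul, add_zero] at h1
  refine ⟨Cfsg.sympForm m F x0 (z.val *ᵥ w) - Cfsg.sympForm m F x0 w, ?_⟩
  -- h1 : x0 + (-1) • z w + f(x0, z w) • v = x0 + (-1) • w + f(x0,w) • v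
  have h3 : (x0 + (-1 : F) • (z.val *ᵥ w) + Cfsg.sympForm m F x0 (z.val *ᵥ w) • v)
      - (x0 + (-1 : F) • w + Cfsg.sympForm m F x0 w • v) = 0 := by rw [h1, sub_self]
  have : z.val *ᵥ w - w - (Cfsg.sympForm m F x0 (z.val *ᵥ w) - Cfsg.sympForm m F x0 w) • v = 0 := by
    have h4 : z.val *ᵥ w - w - (Cfsg.sympForm m F x0 (z.val *ᵥ w) - Cfsg.sympForm m F x0 w) • v
        = -((x0 + (-1 : F) • (z.val *ᵥ w) + Cfsg.sympForm m F x0 (z.val *ᵥ w) • v)
      - (x0 + (-1 : F) • w + Cfsg.sympForm m F x0 w • v)) := by module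
    rw [h4, h3, neg_zero]
  rw [sub_sub, sub_eq_zero] at this
  exact this

theorem ZP_le_Q {v : Fin m ⊕ Fin m → F} (hv : v ≠ 0)
    (P : Sylow p (Matrix.symplecticGroup (Fin m) F)) (hP : (P : Subgroup _) ≤ stab v) :
    ZP (P : Subgroup _) ≤ Q v := by
  intro z hz
  rw [mem_ZP] at hz
  apply mem_Q_of_commute hv (hP hz.1)
  intro w hw
  exact (hz.2 _ (Q_le_sylow hv P hP (eich_mem_Q hw 0))).symm

/-- an element of `Q v` fixing `v^⊥` pointwise is a transvection -/
theorem mem_T_of_fix_perp {v : Fin m ⊕ Fin m → F} (hv : v ≠ 0)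
    {z : Matrix.symplecticGroup (Fin m) F} (hz : z ∈ Q v)
    (hfix : ∀ w, Cfsg.sympForm m F w v = 0 → z.val *ᵥ w = w) : z ∈ T v := by
  obtain ⟨u, c, hu, rfl⟩ := exists_eich_of_mem_Q hv hz
  have hspan : ∃ a : F, u = a • v := by
    by_contra hcon
    push Not at hcon
    obtain ⟨y, hy1, hy2⟩ := exists_sep hv hcon
    have h1 := hfix y (by rw [sympForm_swap, hy2, neg_zero])
    rw [eich_act hu, sympForm_swap y v, hy2, sympForm_swap y u, hy1] at h1
    simp only [neg_zero, zero_smul, add_zero, mul_zero] at h1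
    have : (-1 : F) • v = 0 := by
      have h2 := congrArg (fun t => t - y) h1
      simpa using h2
    rw [neg_smul, one_smul, neg_eq_zero] at this
    exact hv this
  obtain ⟨a, rfl⟩ := hspan
  rw [mem_T_iff]
  refine ⟨2 * a + c, ?_⟩
  apply sp_ext
  intro x
  rw [eich_act hu, sympT_act, sympForm_smul_right]
  module

theorem ZP_le_T {v : Fin m ⊕ Fin m → F} (hv : v ≠ 0) (hp : p ≠ 2)
    (P : Sylow p (Matrix.symplecticGroup (Fin m) F)) (hP : (P : Subgroup _) ≤ stab v) :
    ZP (P : Subgroup _) ≤ T v := by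
  intro z hz
  have hzQ := ZP_le_Q hv P hP hz
  rw [mem_ZP] at hz
  have h2 : (2 : F) ≠ 0 := by
    intro h
    have : ((2 : ℕ) : F) = 0 := by exact_mod_cast h
    rw [CharP.cast_eq_zero_iff F p] at this
    have := (Nat.prime_dvd_prime_iff_eq Fact.out Nat.prime_two).mp this
    exact hp this
  apply mem_T_of_fix_perp hv hzQ
  intro w hw
  obtain ⟨b, hb⟩ := hzQ.2 w hw
  -- conjugation of eich v w 0 by z
  have hcomm : z * eich v w 0 = eich v w 0 * z :=
    (hz.2 _ (Q_le_sylow hv P hP (eich_mem_Q hw 0))).symm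
  have hconj : eich v (z.val *ᵥ w) 0 = eich v w 0 := by
    have := conj_eich z hw 0
    rw [hzQ.1, hcomm, mul_inv_cancel_right] at this
    exact this.symm
  have hzw : Cfsg.sympForm m F (z.val *ᵥ w) v = 0 := by
    rw [hb, sympForm_add_left, sympForm_smul_left, sympForm_self, hw, mul_zero, add_zero]
  obtain ⟨x0, hx0⟩ := exists_partner (m := m) hv
  have hx0' : Cfsg.sympForm m F x0 v = -1 := by rw [sympForm_swap, hx0]
  have h1 := congrArg (fun g : Matrix.symplecticGroup (Fin m) F => g.val *ᵥ x0) hconj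
  simp only [eich_act hzw, eich_act hw, hx0', zero_mul, zero_smul, add_zero] at h1
  rw [hb] at h1
  simp only [sympForm_add_right, sympForm_smul_right, hx0'] at h1
  -- h1 : x0 + (-1) • (w + b • v) + (f(x0,w) + b * (-1)) • v = x0 + (-1) • w + f(x0,w) • v
  have h3 : ((2 : F) * b) • v = 0 := by
    have h2 := congrArg (fun t => (x0 + (-1 : F) • w + Cfsg.sympForm m F x0 w • v) - t) h1
    simp only [sub_self] at h2
    rw [← h2]
    module
  rw [smul_eq_zero] at h3
  rcases h3 with h3 | h3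
  · have hb0 : b = 0 := by
      rcases mul_eq_zero.mp h3 with h | h
      · exact absurd h h2
      · exact h
    rw [hb, hb0, zero_smul, add_zero]
  · exact absurd h3 hv

theorem ZP_eq_T {v : Fin m ⊕ Fin m → F} (hv : v ≠ 0) (hp : p ≠ 2)
    (P : Sylow p (Matrix.symplecticGroup (Fin m) F)) (hP : (P : Subgroup _) ≤ stab v) :
    ZP (P : Subgroup _) = T v :=
  le_antisymm (ZP_le_T hv hp P hP) (T_le_ZP hv P hP)

end Finite

end Cfsg.Agent.Helper5.SpAut
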