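import Mathlib
import Cfsg.Agent.Lib.Helper5.SpAut2

set_option autoImplicit false

/-!
# Squares in `Sp_{2m}(F)` in characteristic two
-/

namespace Cfsg.Agent.Helper5.SpAut

open Matrix Cfsg Cfsg.Agent.Helper13 Cfsg.Agent.Helper84.SpRoot

variable {F : Type*} [Field F] {m : ℕ}

theorem eich_smul_self (v : Fin m ⊕ Fin m → F) (a c : F) :
    eich v (a • v) c = sympT v (2 * a + c) := by
  have hu : Cfsg.sympForm m F (a • v) v = 0 := by
    rw [sympForm_smul_left, sympForm_self, mul_zero]
  apply sp_ext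
  intro x
  rw [eich_act hu, sympT_act, sympForm_smul_right]
  module

/-- a hyperbolic pair orthogonal to two independent orthogonal vectors (`m ≥ 3`) -/
theorem exists_hyp_pair_perp (hm : 3 ≤ m) {e1 e2 : Fin m ⊕ Fin m → F}
    (h12 : Cfsg.sympForm m F e1 e2 = 0) (he1 : e1 ≠ 0) (hind : ∀ a : F, e2 ≠ a • e1) :
    ∃ e3 f3 : Fin m ⊕ Fin m → F, Cfsg.sympForm m F e3 f3 = 1 ∧
      Cfsg.sympForm m F e3 e1 = 0 ∧ Cfsg.sympForm m F e3 e2 = 0 ∧
      Cfsg.sympForm m F f3 e1 = 0 ∧ Cfsg.sympForm m F f3 e2 = 0 := by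
  have he2 : e2 ≠ 0 := by
    intro h
    exact hind 0 (by rw [h, zero_smul])
  have hind' : ∀ a : F, e1 ≠ a • e2 := by
    intro a h
    have ha : a ≠ 0 := by
      rintro rfl
      rw [zero_smul] at h
      exact he1 h
    apply hind a⁻¹
    rw [h, smul_smul, inv_mul_cancel₀ ha, one_smul]
  obtain ⟨f1, hf1, hf1'⟩ := exists_sep he2 hind'
  obtain ⟨f2₀, hf2, hf2'⟩ := exists_sep he1 hind
  have h21 : Cfsg.sympForm m F e2 e1 = 0 := orth_symm h12
  set f2 := f2₀ + Cfsg.sympForm m F f1 f2₀ • e1 with hf2def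
  have g1 : Cfsg.sympForm m F e2 f2 = 1 := by
    rw [hf2def, sympForm_add_right, sympForm_smul_right, hf2, h21, mul_zero, add_zero]
  have g2 : Cfsg.sympForm m F e1 f2 = 0 := by
    rw [hf2def, sympForm_add_right, sympForm_smul_right, hf2', sympForm_self, mul_zero, add_zero]
  have g3 : Cfsg.sympForm m F f1 f2 = 0 := by
    rw [hf2def, sympForm_add_right, sympForm_smul_right, sympForm_swap f1 e1, hf1]
    ring
  -- projection to the orthogonal complement of the hyperbolic 4-space
  let pr : (Fin m ⊕ Fin m → F) → (Fin m ⊕ Fin m → F) := fun y =>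
    y - Cfsg.sympForm m F y f1 • e1 + Cfsg.sympForm m F y e1 • f1
      - Cfsg.sympForm m F y f2 • e2 + Cfsg.sympForm m F y e2 • f2
  have hf1e1 : Cfsg.sympForm m F f1 e1 = -1 := by rw [sympForm_swap, hf1]
  have hf2e2 : Cfsg.sympForm m F f2 e2 = -1 := by rw [sympForm_swap, g1]
  have hf1e2 : Cfsg.sympForm m F f1 e2 = 0 := orth_symm hf1'
  have hf2e1 : Cfsg.sympForm m F f2 e1 = 0 := orth_symm g2
  have hf2f1 : Cfsg.sympForm m F f2 f1 = 0 := orth_symm g3
  have pr1 : ∀ y, Cfsg.sympForm m F (pr y) e1 = 0 := by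
    intro y
    simp only [pr, sympForm_add_left, sympForm_sub_left, sympForm_smul_left, sympForm_self,
      hf1e1, h21, hf2e1]
    ring
  have pr2 : ∀ y, Cfsg.sympForm m F (pr y) e2 = 0 := by
    intro y
    simp only [pr, sympForm_add_left, sympForm_sub_left, sympForm_smul_left, sympForm_self,
      hf2e2, h12, hf1e2]
    ring
  have pr3 : ∀ y, Cfsg.sympForm m F (pr y) f1 = 0 := by
    intro y
    simp only [pr, sympForm_add_left, sympForm_sub_left, sympForm_smul_left, sympForm_self,
      hf1, hf1', hf2f1]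
    ring
  have pr4 : ∀ y, Cfsg.sympForm m F (pr y) f2 = 0 := by
    intro y
    simp only [pr, sympForm_add_left, sympForm_sub_left, sympForm_smul_left, sympForm_self,
      g1, g2, g3]
    ring
  -- a vector outside the 4-space
  have hex : ∃ y : Fin m ⊕ Fin m → F, pr y ≠ 0 := by
    by_contra hcon
    push Not at hcon
    let b : Fin 4 → (Fin m ⊕ Fin m → F) := ![e1, f1, e2, f2]
    have hb1 : e1 ∈ Submodule.span F (Set.range b) := Submodule.subset_span ⟨0, rfl⟩
    have hb2 : f1 ∈ Submodule.span F (Set.range b) := Submodule.subset_span ⟨1, rfl⟩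
    have hb3 : e2 ∈ Submodule.span F (Set.range b) := Submodule.subset_span ⟨2, rfl⟩
    have hb4 : f2 ∈ Submodule.span F (Set.range b) := Submodule.subset_span ⟨3, rfl⟩
    have htop : Submodule.span F (Set.range b) = ⊤ := by
      rw [eq_top_iff]
      intro y _
      have hy : y = Cfsg.sympForm m F y f1 • e1 - Cfsg.sympForm m F y e1 • f1
          + Cfsg.sympForm m F y f2 • e2 - Cfsg.sympForm m F y e2 • f2 := by
        have := hcon y
        simp only [pr] at this
        rw [← sub_eq_zero, ← this]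
        module
      rw [hy]
      exact Submodule.sub_mem _ (Submodule.add_mem _ (Submodule.sub_mem _
        (Submodule.smul_mem _ _ hb1) (Submodule.smul_mem _ _ hb2))
        (Submodule.smul_mem _ _ hb3)) (Submodule.smul_mem _ _ hb4)
    have h1 : (Set.range b).finrank F ≤ Fintype.card (Fin 4) := finrank_range_le_card b
    unfold Set.finrank at h1
    rw [htop, finrank_top, Module.finrank_fintype_fun_eq_card, Fintype.card_sum,
      Fintype.card_fin, Fintype.card_fin] at h1
    omega
  obtain ⟨y, hy⟩ := hex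
  obtain ⟨t, ht⟩ := exists_partner (m := m) hy
  refine ⟨pr y, pr t, ?_, pr1 y, pr2 y, pr1 t, pr2 t⟩
  have hpr : ∀ z t : Fin m ⊕ Fin m → F, Cfsg.sympForm m F z e1 = 0 → Cfsg.sympForm m F z e2 = 0 →
      Cfsg.sympForm m F z f1 = 0 → Cfsg.sympForm m F z f2 = 0 →
      Cfsg.sympForm m F z (pr t) = Cfsg.sympForm m F z t := by
    intro z t h1 h2 h3 h4
    simp only [pr, sympForm_add_right, sympForm_sub_right, sympForm_smul_right, h1, h2, h3, h4]
    ring
  rw [hpr _ _ (pr1 y) (pr2 y) (pr3 y) (pr4 y), ht]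

section CharTwo

variable [CharP F 2]

theorem vec_add_self (u : Fin m ⊕ Fin m → F) : u + u = 0 := by
  rw [← two_smul F u, CharTwo.two_eq_zero, zero_smul]

theorem vec_neg_eq (u : Fin m ⊕ Fin m → F) : -u = u := by
  rw [neg_eq_iff_add_eq_zero, vec_add_self]

/-- a non-trivial symplectic transvection is not a square in characteristic two -/
theorem sympT_not_sq {v : Fin m ⊕ Fin m → F} (hv : v ≠ 0) {c : F}
    {s : Matrix.symplecticGroup (Fin m) F} (hs : s * s = sympT v c) : c = 0 := by
  by_contra hc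
  have key : ∀ x, Cfsg.sympForm m F x v * Cfsg.sympForm m F (s.val *ᵥ x) v = 0 := by
    intro x
    have h1 : Cfsg.sympForm m F (s.val *ᵥ x) (s.val *ᵥ (s.val *ᵥ x)) =
        Cfsg.sympForm m F x (s.val *ᵥ x) := sympForm_mulVec s.2 _ _
    have h2 : s.val *ᵥ (s.val *ᵥ x) = x + (c * Cfsg.sympForm m F x v) • v := by
      rw [← mul_act, hs, sympT_act]
    rw [h2, sympForm_add_right, sympForm_smul_right, sympForm_swap (s.val *ᵥ x) x,
      CharTwo.neg_eq] at h1
    have h3 : c * (Cfsg.sympForm m F x v * Cfsg.sympForm m F (s.val *ᵥ x) v) = 0 := by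
      linear_combination h1
    rcases mul_eq_zero.mp h3 with h | h
    · exact absurd h hc
    · exact h
  obtain ⟨y, hy⟩ := exists_partner (m := m) hv
  have hy' : Cfsg.sympForm m F y v = 1 := by rw [sympForm_swap, hy, CharTwo.neg_eq]
  have k1 := key y
  rw [hy', one_mul] at k1
  have k2 := key ((s⁻¹).val *ᵥ y)
  rw [mulVec_inv_mulVec, hy', mul_one] at k2
  have k3 := key (y + (s⁻¹).val *ᵥ y)
  rw [Matrix.mulVec_add, mulVec_inv_mulVec, sympForm_add_left, sympForm_add_left, k1, k2, hy',
    add_zero, zero_add, one_mul] at k3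
  exact one_ne_zero k3

/-- the common skeleton of the two square-root constructions -/
theorem sq_skeleton {v y u : Fin m ⊕ Fin m → F} (hy : Cfsg.sympForm m F y v = 0)
    (hu : Cfsg.sympForm m F u v = 0) {b : Matrix.symplecticGroup (Fin m) F} (hbb : b * b = 1)
    (hbv : b.val *ᵥ v = v) (hby : b.val *ᵥ y = y + u) :
    (eich v y 0 * b) * (eich v y 0 * b) = eich v u (Cfsg.sympForm m F u y) := by
  have hbinv : b⁻¹ = b := inv_eq_of_mul_eq_one_left hbb
  have h1 : (eich v y 0 * b) * (eich v y 0 * b)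
      = eich v y 0 * (b * eich v y 0 * b⁻¹) * (b * b) := by group
  have hyu : Cfsg.sympForm m F (y + u) v = 0 := by rw [sympForm_add_left, hy, hu, add_zero]
  rw [h1, hbb, mul_one, conj_eich b hy 0, hbv, hby, eich_mul hy hyu]
  have h2 : y + (y + u) = u := by rw [← add_assoc, vec_add_self, zero_add]
  rw [h2, sympForm_add_left, sympForm_self, zero_add, zero_add, zero_add]

/-- elements of `Q v` that are not transvections are squares (`m ≥ 3`, characteristic two) -/
theorem isSquare_of_mem_Q (hm : 3 ≤ m) {v : Fin m ⊕ Fin m → F} (hv : v ≠ 0)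
    {z : Matrix.symplecticGroup (Fin m) F} (hz : z ∈ Q v) (hzT : z ∉ T v) :
    ∃ s : Matrix.symplecticGroup (Fin m) F, s * s = z := by
  obtain ⟨u, c, hu, rfl⟩ := exists_eich_of_mem_Q hv hz
  have hind : ∀ a : F, u ≠ a • v := by
    rintro a rfl
    apply hzT
    rw [eich_smul_self, mem_T_iff]
    exact ⟨_, rfl⟩
  by_cases hc : c = 0
  · -- type a_2
    subst hc
    have hvu : Cfsg.sympForm m F v u = 0 := orth_symm hu
    obtain ⟨e3, f3, h33, h31, h32, hf31, hf32⟩ := exists_hyp_pair_perp hm hvu hv hind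
    have he3u : Cfsg.sympForm m F e3 u = 0 := h32
    refine ⟨eich v f3 0 * eich u e3 0, ?_⟩
    have hbb : eich u e3 0 * eich u e3 0 = 1 := by
      rw [eich_mul he3u he3u, vec_add_self, sympForm_self, add_zero, add_zero, eich_one]
    have hbv : (eich u e3 0).val *ᵥ v = v := by
      rw [eich_act he3u, hvu, orth_symm h31]
      simp
    have hby : (eich u e3 0).val *ᵥ f3 = f3 + u := by
      rw [eich_act he3u, hf32, sympForm_swap f3 e3, h33, CharTwo.neg_eq]
      simp
    rw [sq_skeleton hf31 hu hbb hbv hby, orth_symm hf32]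
  · -- type c_2
    obtain ⟨y, hy1, hy2⟩ := exists_sep hv hind
    -- hy1 : f u y = 1, hy2 : f v y = 0
    have hyv : Cfsg.sympForm m F (c • y) v = 0 := by
      rw [sympForm_smul_left, sympForm_swap, hy2, neg_zero, mul_zero]
    refine ⟨eich v (c • y) 0 * sympT u c⁻¹, ?_⟩
    have hbb : sympT u c⁻¹ * sympT u c⁻¹ = 1 := by
      rw [sympT_mul, CharTwo.add_self_eq_zero, sympT_zero]
    have hbv : (sympT u c⁻¹).val *ᵥ v = v := by
      rw [sympT_act, orth_symm hu]
      simp
    have hby : (sympT u c⁻¹).val *ᵥ (c • y) = c • y + u := by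
      rw [sympT_act, sympForm_smul_left, sympForm_swap y u, hy1, CharTwo.neg_eq, mul_one,
        inv_mul_cancel₀ hc, one_smul]
    rw [sq_skeleton hyv hu hbb hbv hby, sympForm_smul_right, hy1, mul_one]

end CharTwo

end Cfsg.Agent.Helper5.SpAut
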