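import Mathlib
import Cfsg.Prelude.Def_Classical
import Cfsg.Agent.Lib.Helper5.SpAut3

set_option autoImplicit false

/-!
# Automorphisms of `PSp_{2m}(F)` permute the transvection subgroups
-/

namespace Cfsg.Agent.Helper5.SpAut

open Matrix Cfsg Cfsg.Agent.Helper13 Cfsg.Agent.Helper84.SpRoot

/-- the set attached to a subgroup `P`: central elements of `P` that (for `p = 2`) are trivial or
non-squares in the ambient group -/
def charSet (p : ℕ) {H : Type*} [Group H] (P : Subgroup H) : Set H :=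
  {z | z ∈ P ∧ (∀ u ∈ P, u * z = z * u) ∧ (p = 2 → z = 1 ∨ ¬ ∃ s : H, s * s = z)}

theorem charSet_map (p : ℕ) {H H' : Type*} [Group H] [Group H'] (φ : H ≃* H') (P : Subgroup H) :
    φ '' charSet p P = charSet p (P.map φ.toMonoidHom) := by
  ext z'
  constructor
  · rintro ⟨z, ⟨hzP, hcomm, hsq⟩, rfl⟩
    refine ⟨Subgroup.mem_map_of_mem _ hzP, ?_, ?_⟩
    · rintro u' ⟨u, hu, rfl⟩
      show φ u * φ z = φ z * φ u
      rw [← map_mul, ← map_mul, hcomm u hu]
    · intro hp
      rcases hsq hp with h | h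
      · left; rw [h, map_one]
      · right
        rintro ⟨s', hs'⟩
        apply h
        refine ⟨φ.symm s', ?_⟩
        apply φ.injective
        rw [map_mul, MulEquiv.apply_symm_apply, hs']
  · rintro ⟨⟨z, hzP, rfl⟩, hcomm, hsq⟩
    refine ⟨z, ⟨hzP, ?_, ?_⟩, rfl⟩
    · intro u hu
      apply φ.injective
      have := hcomm (φ u) (Subgroup.mem_map_of_mem _ hu)
      rw [map_mul, map_mul]
      exact this
    · intro hp
      rcases hsq hp with h | h
      · left
        apply φ.injective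
        rw [map_one]
        exact h
      · right
        rintro ⟨s, hs⟩
        apply h
        refine ⟨φ s, ?_⟩
        show φ s * φ s = φ z
        rw [← map_mul, hs]

variable {F : Type*} [Field F] {m : ℕ}

/-- the image of the transvection group `T v` in `PSp` -/
def Tb (v : Fin m ⊕ Fin m → F) : Subgroup (PSp m F) :=
  (T v).map (QuotientGroup.mk' (Subgroup.center (Matrix.symplecticGroup (Fin m) F)))

theorem center_inf_stab (hm : 0 < m) {v : Fin m ⊕ Fin m → F} (hv : v ≠ 0)
    {c : Matrix.symplecticGroup (Fin m) F}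
    (hc : c ∈ Subgroup.center (Matrix.symplecticGroup (Fin m) F)) (hcv : c ∈ stab v) : c = 1 := by
  haveI : Nonempty (Fin m) := ⟨⟨0, hm⟩⟩
  rcases Cfsg.Agent.Helper5.center_sp_subset c hc with h | h
  · exact h
  · rw [h] at hcv ⊢
    rw [Cfsg.Agent.Helper5.spNegOne_eq_one_iff]
    have h1 : (-1 : Matrix (Fin m ⊕ Fin m) (Fin m ⊕ Fin m) F) *ᵥ v = v := hcv
    rw [Matrix.neg_mulVec, Matrix.one_mulVec] at h1
    have h2 : ((-1 : F) - 1) • v = 0 := by
      rw [sub_smul, neg_smul, one_smul, h1, sub_self]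
    rw [smul_eq_zero] at h2
    rcases h2 with h2 | h2
    · exact sub_eq_zero.mp h2
    · exact absurd h2 hv

theorem center_eq_bot_of_char_two [CharP F 2] (hm : 0 < m)
    {c : Matrix.symplecticGroup (Fin m) F}
    (hc : c ∈ Subgroup.center (Matrix.symplecticGroup (Fin m) F)) : c = 1 := by
  haveI : Nonempty (Fin m) := ⟨⟨0, hm⟩⟩
  rcases Cfsg.Agent.Helper5.center_sp_subset c hc with h | h
  · exact h
  · rw [h, Cfsg.Agent.Helper5.spNegOne_eq_one_iff, CharTwo.neg_eq]

section Finite

variable [Fintype F] {p : ℕ} [Fact p.Prime] [CharP F p]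

theorem charSet_sylow (hm : 2 ≤ m) (h4 : m = 2 → p ≠ 2) {v : Fin m ⊕ Fin m → F} (hv : v ≠ 0)
    (P : Sylow p (Matrix.symplecticGroup (Fin m) F)) (hP : (P : Subgroup _) ≤ stab v) :
    charSet p ((P : Subgroup (Matrix.symplecticGroup (Fin m) F)).map
      (QuotientGroup.mk' (Subgroup.center (Matrix.symplecticGroup (Fin m) F))))
      = ((Tb v : Subgroup (PSp m F)) : Set (PSp m F)) := by
  have hm0 : 0 < m := by omega
  ext zb
  constructor
  · rintro ⟨⟨z, hzP, rfl⟩, hcomm, hsq⟩
    have hzZ : z ∈ ZP (P : Subgroup (Matrix.symplecticGroup (Fin m) F)) := by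
      rw [mem_ZP]
      refine ⟨hzP, fun u hu => ?_⟩
      have h1 := hcomm _ (Subgroup.mem_map_of_mem _ hu)
      rw [QuotientGroup.mk'_apply, QuotientGroup.mk'_apply, ← QuotientGroup.mk_mul,
        ← QuotientGroup.mk_mul, QuotientGroup.eq] at h1
      have h2 : (u * z)⁻¹ * (z * u) ∈ stab v :=
        hP (Subgroup.mul_mem _ (Subgroup.inv_mem _ (Subgroup.mul_mem _ hu hzP))
          (Subgroup.mul_mem _ hzP hu))
      have h3 := center_inf_stab hm0 hv h1 h2
      rw [inv_mul_eq_one] at h3
      exact h3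
    by_cases hp : p = 2
    · subst hp
      by_cases hzT : z ∈ T v
      · exact Subgroup.mem_map_of_mem _ hzT
      · exfalso
        have hm3 : 3 ≤ m := by
          rcases Nat.lt_or_ge m 3 with h | h
          · exact absurd rfl (h4 (by omega))
          · exact h
        obtain ⟨s, hs⟩ := isSquare_of_mem_Q hm3 hv (ZP_le_Q hv P hP hzZ) hzT
        rcases hsq rfl with h | h
        · rw [QuotientGroup.mk'_apply, QuotientGroup.eq_one_iff] at h
          have := center_eq_bot_of_char_two hm0 h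
          apply hzT
          rw [this]
          exact Subgroup.one_mem _
        · apply h
          refine ⟨QuotientGroup.mk' _ s, ?_⟩
          rw [← map_mul, hs]
    · exact Subgroup.mem_map_of_mem _ (ZP_le_T hv hp P hP hzZ)
  · rintro ⟨t, ht, rfl⟩
    have htZ := T_le_ZP hv P hP ht
    rw [mem_ZP] at htZ
    refine ⟨Subgroup.mem_map_of_mem _ htZ.1, ?_, ?_⟩
    · rintro u' ⟨u, hu, rfl⟩
      rw [← map_mul, ← map_mul, htZ.2 u hu]
    · intro hp
      subst hp
      obtain ⟨c, rfl⟩ := mem_T_iff.mp ht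
      by_cases hc : c = 0
      · left
        rw [hc, sympT_zero, map_one]
      · right
        rintro ⟨sb, hsb⟩
        obtain ⟨s, rfl⟩ := QuotientGroup.mk'_surjective _ sb
        rw [← map_mul, QuotientGroup.mk'_apply, QuotientGroup.mk'_apply, QuotientGroup.eq] at hsb
        have h1 := center_eq_bot_of_char_two hm0 hsb
        rw [inv_mul_eq_one] at h1
        exact hc (sympT_not_sq hv h1)

theorem Tb_conj (k : Matrix.symplecticGroup (Fin m) F) (v : Fin m ⊕ Fin m → F) :
    (Tb v).map (MulAut.conj (QuotientGroup.mk' (Subgroup.center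
      (Matrix.symplecticGroup (Fin m) F)) k)).toMonoidHom = Tb (k.val *ᵥ v) := by
  unfold Tb
  rw [← conjBy_T, Subgroup.map_map, Subgroup.map_map]
  congr 1

theorem map_conj_comm {H : Type*} [Group H] (α : H ≃* H) (x : H) (K : Subgroup H) :
    (K.map (MulAut.conj x).toMonoidHom).map α.toMonoidHom
      = (K.map α.toMonoidHom).map (MulAut.conj (α x)).toMonoidHom := by
  rw [Subgroup.map_map, Subgroup.map_map]
  congr 1
  ext y
  simp [MulAut.conj_apply]

/-- **Part (A)**: every automorphism of `PSp_{2m}(F)` permutes the transvection subgroups. -/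
theorem aut_permutes_Tb (hm : 2 ≤ m) (h4 : m = 2 → p ≠ 2) (α : PSp m F ≃* PSp m F)
    {v : Fin m ⊕ Fin m → F} (hv : v ≠ 0) :
    ∃ w : Fin m ⊕ Fin m → F, w ≠ 0 ∧ (Tb v).map α.toMonoidHom = Tb w := by
  have hm0 : 0 < m := by omega
  let π := QuotientGroup.mk' (Subgroup.center (Matrix.symplecticGroup (Fin m) F))
  have hπ : Function.Surjective π := QuotientGroup.mk'_surjective _
  obtain ⟨P0⟩ : Nonempty (Sylow p (Matrix.symplecticGroup (Fin m) F)) := Sylow.nonempty
  obtain ⟨v0, hv0, hP0⟩ := exists_fixed_vector (p := p) hm0 P0.1 P0.2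
  let S0 : Sylow p (PSp m F) := Sylow.mapSurjective hπ P0
  let S1 : Sylow p (PSp m F) := Sylow.mapSurjective (f := α.toMonoidHom) α.surjective S0
  obtain ⟨gb, hgb⟩ := MulAction.exists_smul_eq (PSp m F) S0 S1
  have hsub : ((P0 : Subgroup _).map π).map α.toMonoidHom
      = ((P0 : Subgroup _).map π).map (MulAut.conj gb).toMonoidHom := by
    have h1 := congrArg (fun S : Sylow p (PSp m F) => (S : Subgroup (PSp m F))) hgb
    simp only [Sylow.coe_subgroup_smul, Subgroup.pointwise_smul_def] at h1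
    exact h1.symm
  have hch := charSet_sylow hm h4 hv0 P0 hP0
  have h1 : α '' ((Tb v0 : Subgroup (PSp m F)) : Set (PSp m F))
      = (MulAut.conj gb : PSp m F ≃* PSp m F) '' ((Tb v0 : Subgroup (PSp m F)) : Set (PSp m F)) := by
    rw [← hch, charSet_map, charSet_map, hsub]
  have h2 : (Tb v0).map α.toMonoidHom = (Tb v0).map (MulAut.conj gb).toMonoidHom := by
    apply SetLike.coe_injective
    rw [Subgroup.coe_map, Subgroup.coe_map]
    exact h1
  obtain ⟨g, rfl⟩ := hπ gb
  rw [Tb_conj] at h2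
  -- general v
  obtain ⟨h, hh⟩ := Cfsg.Agent.Helper5.sp_transitive v0 v hv0 hv
  obtain ⟨k, hk⟩ := hπ (α (π h))
  refine ⟨k.val *ᵥ (g.val *ᵥ v0), act_ne_zero k (act_ne_zero g hv0), ?_⟩
  rw [← hh, ← Tb_conj h v0, map_conj_comm, h2, ← hk, Tb_conj]

end Finite

end Cfsg.Agent.Helper5.SpAut
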