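import Mathlib
import Cfsg.Agent.Lib.Helper5.SpAut4

set_option autoImplicit false

/-!
# Transvection groups of `PSp`: commuting criterion, injectivity on points, rigidity
-/

namespace Cfsg.Agent.Helper5.SpAut

open Matrix Cfsg Cfsg.Agent.Helper13 Cfsg.Agent.Helper84.SpRoot

variable {F : Type*} [Field F] {m : ℕ}

/-- a central element of `Sp` acts as a scalar `ε` with `ε = 1 ∨ ε = -1` -/
theorem center_act (hm : 0 < m) {c : Matrix.symplecticGroup (Fin m) F}
    (hc : c ∈ Subgroup.center (Matrix.symplecticGroup (Fin m) F)) :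
    ∃ ε : F, (ε = 1 ∨ ε = -1) ∧ ∀ x : Fin m ⊕ Fin m → F, c.val *ᵥ x = ε • x := by
  haveI : Nonempty (Fin m) := ⟨⟨0, hm⟩⟩
  rcases Cfsg.Agent.Helper5.center_sp_subset c hc with h | h
  · exact ⟨1, Or.inl rfl, fun x => by rw [h, one_act, one_smul]⟩
  · refine ⟨-1, Or.inr rfl, fun x => ?_⟩
    rw [h]
    show (-1 : Matrix (Fin m ⊕ Fin m) (Fin m ⊕ Fin m) F) *ᵥ x = (-1 : F) • x
    rw [Matrix.neg_mulVec, Matrix.one_mulVec, neg_smul, one_smul]

theorem mk_eq_iff_exists_eps (hm : 0 < m) {a b : Matrix.symplecticGroup (Fin m) F}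
    (h : (QuotientGroup.mk a : PSp m F) = QuotientGroup.mk b) :
    ∃ ε : F, (ε = 1 ∨ ε = -1) ∧ ∀ x : Fin m ⊕ Fin m → F, b.val *ᵥ x = ε • (a.val *ᵥ x) := by
  rw [QuotientGroup.eq] at h
  obtain ⟨ε, hε, hact⟩ := center_act hm h
  refine ⟨ε, hε, fun x => ?_⟩
  have h1 := hact x
  rw [mul_act] at h1
  have h2 : a.val *ᵥ ((a⁻¹).val *ᵥ (b.val *ᵥ x)) = a.val *ᵥ (ε • x) := by rw [h1]
  rw [mulVec_inv_mulVec, Matrix.mulVec_smul] at h2
  exact h2

/-- the image in `PSp` of `sympT w' 1` lies in `Tb w` only if `w'` is proportional to `w` -/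
theorem mem_span_of_mk_mem_Tb (hm : 0 < m) {w w' : Fin m ⊕ Fin m → F} (hw' : w' ≠ 0)
    (h : (QuotientGroup.mk (sympT w' 1) : PSp m F) ∈ Tb w) : ∃ a : F, w' = a • w := by
  obtain ⟨t, ht, hte⟩ := h
  obtain ⟨c, rfl⟩ := mem_T_iff.mp ht
  obtain ⟨ε, hε, hact⟩ := mk_eq_iff_exists_eps hm hte
  -- hact : sympT w' 1 x = ε • sympT w c x
  obtain ⟨y, hy⟩ := exists_partner (m := m) hw'
  have hy' : Cfsg.sympForm m F y w' = -1 := by rw [sympForm_swap, hy]
  rcases hε with rfl | rfl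
  · have h1 := hact y
    rw [sympT_act, sympT_act, one_smul, hy', mul_neg, mul_one] at h1
    refine ⟨-(c * Cfsg.sympForm m F y w), ?_⟩
    have h2 : (-1 : F) • w' = (c * Cfsg.sympForm m F y w) • w := add_left_cancel h1
    rw [neg_smul, ← h2]
    module
  · have h1 := hact w'
    rw [sympT_act, sympT_act, sympForm_self, mul_zero, zero_smul, add_zero] at h1
    by_cases h2 : (2 : F) = 0
    · -- characteristic two: -1 = 1
      have h3 := hact y
      rw [sympT_act, sympT_act, hy', mul_neg, mul_one] at h3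
      have hneg : (-1 : F) = 1 := by linear_combination -h2
      rw [hneg, one_smul, one_smul] at h3
      refine ⟨c * Cfsg.sympForm m F y w, ?_⟩
      exact add_left_cancel h3
    · refine ⟨-(2⁻¹ * (c * Cfsg.sympForm m F w' w)), ?_⟩
      have h3 : (2 : F) • w' = -((c * Cfsg.sympForm m F w' w) • w) := by
        have : (2 : F) • w' = w' - (-1 : F) • (w' + (c * Cfsg.sympForm m F w' w) • w)
            - (c * Cfsg.sympForm m F w' w) • w := by module
        rw [this, ← h1]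
        module
      have h4 : w' = (2 : F)⁻¹ • ((2 : F) • w') := by
        rw [smul_smul, inv_mul_cancel₀ h2, one_smul]
      conv_lhs => rw [h4, h3]
      module

theorem Tb_eq_imp (hm : 0 < m) {w w' : Fin m ⊕ Fin m → F} (hw' : w' ≠ 0)
    (h : Tb w' = Tb w) : ∃ a : F, w' = a • w := by
  apply mem_span_of_mk_mem_Tb hm hw'
  rw [← h]
  exact Subgroup.mem_map_of_mem _ (sympT_mem_T w' 1)

theorem Tb_smul {a : F} (ha : a ≠ 0) (v : Fin m ⊕ Fin m → F) : Tb (a • v) = Tb v := by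
  unfold Tb
  rw [T_smul ha]

/-- (I1) the transvection groups `Tb u`, `Tb v` commute iff `u ⊥ v` -/
theorem tb_commute_iff (hm : 0 < m) {u v : Fin m ⊕ Fin m → F} (hu : u ≠ 0) (hv : v ≠ 0) :
    (∀ a ∈ Tb u, ∀ b ∈ Tb v, a * b = b * a) ↔ Cfsg.sympForm m F u v = 0 := by
  constructor
  · intro h
    have h1 := h _ (Subgroup.mem_map_of_mem _ (sympT_mem_T u 1)) _
      (Subgroup.mem_map_of_mem _ (sympT_mem_T v 1))
    simp only [QuotientGroup.mk'_apply] at h1
    -- conjugate: t_u t_v t_u⁻¹ = t_{t_u v}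
    have h2 : (QuotientGroup.mk (sympT v 1) : PSp m F)
        = QuotientGroup.mk (sympT ((sympT u 1).val *ᵥ v) 1) := by
      rw [← conj_sympT, QuotientGroup.mk_mul, QuotientGroup.mk_mul, h1, QuotientGroup.mk_inv,
        mul_inv_cancel_right]
    set v' := (sympT u 1).val *ᵥ v with hv'
    have hv'0 : v' ≠ 0 := act_ne_zero _ hv
    have h3 : (QuotientGroup.mk (sympT v' 1) : PSp m F) ∈ Tb v := by
      rw [← h2]
      exact Subgroup.mem_map_of_mem _ (sympT_mem_T v 1)
    obtain ⟨a, ha⟩ := mem_span_of_mk_mem_Tb hm hv'0 h3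
    have h4 : Cfsg.sympForm m F v' v = 0 := by
      rw [ha, sympForm_smul_left, sympForm_self, mul_zero]
    rw [hv', sympT_act, sympForm_add_left, sympForm_self, sympForm_smul_left, one_mul,
      zero_add, sympForm_swap v u] at h4
    have h5 : Cfsg.sympForm m F u v * Cfsg.sympForm m F u v = 0 := by linear_combination -h4
    exact mul_self_eq_zero.mp h5
  · intro h a ha b hb
    obtain ⟨s, hs, rfl⟩ := ha
    obtain ⟨t, ht, rfl⟩ := hb
    rw [← map_mul, ← map_mul, T_comm h hs ht]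

theorem scalar_comm {z : Matrix.symplecticGroup (Fin m) F} {c : F}
    (hc : z.val = c • (1 : Matrix (Fin m ⊕ Fin m) (Fin m ⊕ Fin m) F))
    (g : Matrix.symplecticGroup (Fin m) F) : g * z = z * g := by
  apply Subtype.ext
  rw [Submonoid.coe_mul, Submonoid.coe_mul, hc, Matrix.mul_smul, Matrix.smul_mul, Matrix.mul_one,
    Matrix.one_mul]

/-- (I3) rigidity: an automorphism fixing every transvection group is trivial -/
theorem rigidity [Fintype F] (hm : 0 < m) (β : PSp m F ≃* PSp m F)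
    (h : ∀ v : Fin m ⊕ Fin m → F, v ≠ 0 → (Tb v).map β.toMonoidHom = Tb v) :
    β = MulEquiv.refl _ := by
  apply MulEquiv.ext
  intro xb
  obtain ⟨x, rfl⟩ := QuotientGroup.mk'_surjective _ xb
  obtain ⟨y, hy⟩ := QuotientGroup.mk'_surjective _ (β (QuotientGroup.mk' _ x))
  show β (QuotientGroup.mk' _ x) = QuotientGroup.mk' _ x
  rw [← hy]
  -- x⁻¹ y fixes every point
  have hpt : ∀ v : Fin m ⊕ Fin m → F, ∃ c : F, (x⁻¹ * y).val *ᵥ v = c • v := by
    intro v
    by_cases hv : v = 0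
    · exact ⟨0, by rw [hv, Matrix.mulVec_zero, smul_zero]⟩
    have h1 := map_conj_comm β (QuotientGroup.mk' _ x) (Tb v)
    rw [Tb_conj, h _ (act_ne_zero x hv), h v hv, ← hy, Tb_conj] at h1
    obtain ⟨a, ha⟩ := Tb_eq_imp hm (act_ne_zero x hv) h1
    have ha0 : a ≠ 0 := by
      rintro rfl
      rw [zero_smul] at ha
      exact act_ne_zero x hv ha
    refine ⟨a⁻¹, ?_⟩
    have h2 : y.val *ᵥ v = a⁻¹ • (x.val *ᵥ v) := by
      rw [ha, smul_smul, inv_mul_cancel₀ ha0, one_smul]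
    rw [mul_act, h2, Matrix.mulVec_smul, inv_mulVec_mulVec]
  obtain ⟨c, hc⟩ := Cfsg.Agent.Helper5.eq_smul_one_of_forall_mulVec (x⁻¹ * y).val hpt
  have hcen : x⁻¹ * y ∈ Subgroup.center (Matrix.symplecticGroup (Fin m) F) := by
    rw [Subgroup.mem_center_iff]
    intro g
    exact scalar_comm hc g
  rw [QuotientGroup.mk'_apply, QuotientGroup.mk'_apply, eq_comm, QuotientGroup.eq]
  exact hcen

end Cfsg.Agent.Helper5.SpAut
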