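import Mathlib
import Cfsg.Agent.Lib.Helper5.SpAut5
import Cfsg.Agent.Lib.Helper40.AutPSpBasic

set_option autoImplicit false

/-!
# Action of the standard automorphisms of `PSp` on the transvection groups
-/

namespace Cfsg.Agent.Helper5.SpAut

open Matrix Cfsg Cfsg.Agent.Helper13 Cfsg.Agent.Helper84.SpRoot Cfsg.Agent.Helper40.AutPSp

variable {F : Type*} [Field F] {m : ℕ}

theorem comp_add (σ : F ≃+* F) (a b : Fin m ⊕ Fin m → F) : σ ∘ (a + b) = σ ∘ a + σ ∘ b := by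
  ext i; simp

theorem comp_smul (σ : F ≃+* F) (k : F) (a : Fin m ⊕ Fin m → F) :
    σ ∘ (k • a) = σ k • (σ ∘ a) := by
  ext i; simp

theorem sigmaSp_sympT (σ : F ≃+* F) (v : Fin m ⊕ Fin m → F) (c : F) :
    sigmaSp σ (sympT v c) = sympT (σ ∘ v) (σ c) := by
  apply sp_ext
  intro x
  obtain ⟨x', rfl⟩ := exists_comp σ x
  rw [sigmaSp_val, map_mulVec_comp, sympT_act, sympT_act, comp_add, comp_smul, map_mul,
    sympForm_comp]

theorem conjSp_sympT (G : ↥(Cfsg.GSp m F)) {lam : Fˣ}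
    (hlam : ∀ u v : Fin m ⊕ Fin m → F,
      Cfsg.sympForm m F ((G.1 : Matrix (Fin m ⊕ Fin m) (Fin m ⊕ Fin m) F) *ᵥ u)
        ((G.1 : Matrix (Fin m ⊕ Fin m) (Fin m ⊕ Fin m) F) *ᵥ v)
        = (lam : F) * Cfsg.sympForm m F u v)
    (w : Fin m ⊕ Fin m → F) (d : F) :
    conjSp G (sympT w d) =
      sympT ((G.1 : Matrix (Fin m ⊕ Fin m) (Fin m ⊕ Fin m) F) *ᵥ w) (d * (lam : F)⁻¹) := by
  apply sp_ext
  intro x
  rw [conjSp_val, ← Matrix.mulVec_mulVec, ← Matrix.mulVec_mulVec, sympT_act, sympT_act,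
    Matrix.mulVec_add, Matrix.mulVec_smul, Matrix.mulVec_mulVec, coe_mul_inv', Matrix.one_mulVec]
  have h1 := hlam ((((G.1)⁻¹ : GL (Fin m ⊕ Fin m) F) :
    Matrix (Fin m ⊕ Fin m) (Fin m ⊕ Fin m) F) *ᵥ x) w
  rw [Matrix.mulVec_mulVec, coe_mul_inv', Matrix.one_mulVec] at h1
  rw [h1]
  have hl : (lam : F) ≠ 0 := lam.ne_zero
  congr 2
  field_simp

/-- (I2) the standard automorphism attached to `(G, σ)` maps `Tb v` to `Tb (G σ(v))` -/
theorem map_Tb_PhiSp_field (G : ↥(Cfsg.GSp m F)) (σ : F ≃+* F) (v : Fin m ⊕ Fin m → F) :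
    (Tb v).map (PhiSp G * fieldAutPSp σ).toMonoidHom =
      Tb ((G.1 : Matrix (Fin m ⊕ Fin m) (Fin m ⊕ Fin m) F) *ᵥ (σ ∘ v)) := by
  obtain ⟨lam, hlam⟩ := (mem_GSp_iff G.1).mp G.2
  have hl : (lam : F) ≠ 0 := lam.ne_zero
  have key : ∀ c : F, (PhiSp G * fieldAutPSp σ : MulAut (PSp m F))
      (QuotientGroup.mk (sympT v c) : PSp m F) =
      QuotientGroup.mk (sympT ((G.1 : Matrix (Fin m ⊕ Fin m) (Fin m ⊕ Fin m) F) *ᵥ (σ ∘ v))
        (σ c * (lam : F)⁻¹)) := by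
    intro c
    rw [MulAut.mul_apply, fieldAutPSp_mk, PhiSp_mk, sigmaSp_sympT, conjSp_sympT G hlam]
  ext z
  constructor
  · rintro ⟨t, ⟨s, hs, rfl⟩, rfl⟩
    obtain ⟨c, rfl⟩ := mem_T_iff.mp hs
    have := key c
    refine ⟨_, sympT_mem_T _ (σ c * (lam : F)⁻¹), ?_⟩
    exact this.symm
  · rintro ⟨s, hs, rfl⟩
    obtain ⟨d, rfl⟩ := mem_T_iff.mp hs
    refine ⟨QuotientGroup.mk (sympT v (σ.symm (d * (lam : F)))),
      Subgroup.mem_map_of_mem _ (sympT_mem_T _ _), ?_⟩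
    have := key (σ.symm (d * (lam : F)))
    rw [RingEquiv.apply_symm_apply, mul_assoc, mul_inv_cancel₀ hl, mul_one] at this
    exact this

end Cfsg.Agent.Helper5.SpAut
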