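import Mathlib

set_option autoImplicit false

/-!
# Fundamental theorem of projective geometry, part 1: independence bookkeeping
-/

namespace Cfsg.Agent.Helper5.FTPG

variable (F : Type*) [Field F] {V : Type*} [AddCommGroup V] [Module F V]

/-- two vectors are linearly independent -/
def Ind2 (v w : V) : Prop := ∀ a b : F, a • v + b • w = 0 → a = 0 ∧ b = 0

/-- three vectors are linearly independent -/
def Ind3 (u v w : V) : Prop :=
  ∀ a b c : F, a • u + b • v + c • w = 0 → a = 0 ∧ b = 0 ∧ c = 0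

variable {F}

theorem Ind2.ne_left {v w : V} (h : Ind2 F v w) : v ≠ 0 := by
  rintro rfl
  have := h 1 0 (by simp)
  exact one_ne_zero this.1

theorem Ind2.ne_right {v w : V} (h : Ind2 F v w) : w ≠ 0 := by
  rintro rfl
  have := h 0 1 (by simp)
  exact one_ne_zero this.2

theorem Ind2.symm {v w : V} (h : Ind2 F v w) : Ind2 F w v := by
  intro a b hab
  have := h b a (by rw [add_comm]; exact hab)
  exact ⟨this.2, this.1⟩

theorem Ind2.eq_coeff {v w : V} (h : Ind2 F v w) {a b a' b' : F}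
    (hab : a • v + b • w = a' • v + b' • w) : a = a' ∧ b = b' := by
  have h1 : (a - a') • v + (b - b') • w = 0 := by
    rw [sub_smul, sub_smul]
    have : a • v - a' • v + (b • w - b' • w) = (a • v + b • w) - (a' • v + b' • w) := by abel
    rw [this, hab, sub_self]
  have := h _ _ h1
  exact ⟨sub_eq_zero.mp this.1, sub_eq_zero.mp this.2⟩

theorem Ind2.smul {v w : V} (h : Ind2 F v w) {a b : F} (ha : a ≠ 0) (hb : b ≠ 0) :
    Ind2 F (a • v) (b • w) := by
  intro x y hxy
  rw [smul_smul, smul_smul] at hxy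
  have := h _ _ hxy
  exact ⟨(mul_eq_zero.mp this.1).resolve_right ha, (mul_eq_zero.mp this.2).resolve_right hb⟩

theorem Ind2.not_smul {v w : V} (h : Ind2 F v w) (c : F) : w ≠ c • v := by
  intro hw
  have := h (-c) 1 (by rw [hw, neg_smul, one_smul, neg_add_cancel])
  exact one_ne_zero this.2

theorem ind2_of_not_smul {v w : V} (hv : v ≠ 0) (h : ∀ c : F, w ≠ c • v) : Ind2 F v w := by
  intro a b hab
  have hb : b = 0 := by
    by_contra hb
    apply h (-(b⁻¹ * a))
    have h1 : b • w = -(a • v) := by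
      rw [eq_neg_iff_add_eq_zero, add_comm]; exact hab
    have h2 : w = b⁻¹ • (b • w) := by rw [smul_smul, inv_mul_cancel₀ hb, one_smul]
    rw [h2, h1, smul_neg, smul_smul, neg_smul]
  subst hb
  rw [zero_smul, add_zero] at hab
  exact ⟨(smul_eq_zero.mp hab).resolve_right hv, rfl⟩

/-- `v`, `b v + w` are independent if `v`, `w` are -/
theorem Ind2.add_smul_right {v w : V} (h : Ind2 F v w) (b : F) : Ind2 F v (b • v + w) := by
  intro x y hxy
  have h1 : (x + y * b) • v + y • w = 0 := by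
    rw [← hxy, _root_.add_smul, smul_add, smul_smul]
    abel
  have := h _ _ h1
  have hy := this.2
  subst hy
  rw [zero_mul, add_zero] at this
  exact ⟨this.1, rfl⟩

theorem Ind3.eq_coeff {u v w : V} (h : Ind3 F u v w) {a b c a' b' c' : F}
    (habc : a • u + b • v + c • w = a' • u + b' • v + c' • w) : a = a' ∧ b = b' ∧ c = c' := by
  have h1 : (a - a') • u + (b - b') • v + (c - c') • w = 0 := by
    rw [sub_smul, sub_smul, sub_smul]
    have : a • u - a' • u + (b • v - b' • v) + (c • w - c' • w)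
        = (a • u + b • v + c • w) - (a' • u + b' • v + c' • w) := by abel
    rw [this, habc, sub_self]
  have := h _ _ _ h1
  exact ⟨sub_eq_zero.mp this.1, sub_eq_zero.mp this.2.1, sub_eq_zero.mp this.2.2⟩

theorem Ind3.smul {u v w : V} (h : Ind3 F u v w) {a b c : F} (ha : a ≠ 0) (hb : b ≠ 0)
    (hc : c ≠ 0) : Ind3 F (a • u) (b • v) (c • w) := by
  intro x y z hxyz
  rw [smul_smul, smul_smul, smul_smul] at hxyz
  have := h _ _ _ hxyz
  exact ⟨(mul_eq_zero.mp this.1).resolve_right ha, (mul_eq_zero.mp this.2.1).resolve_right hb,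
    (mul_eq_zero.mp this.2.2).resolve_right hc⟩

theorem Ind3.swap12 {u v w : V} (h : Ind3 F u v w) : Ind3 F v u w := by
  intro a b c habc
  have := h b a c (by rw [add_comm (b • u)]; exact habc)
  exact ⟨this.2.1, this.1, this.2.2⟩

theorem Ind3.swap23 {u v w : V} (h : Ind3 F u v w) : Ind3 F u w v := by
  intro a b c habc
  have := h a c b (by rw [add_assoc, add_comm (c • v), ← add_assoc]; exact habc)
  exact ⟨this.1, this.2.2, this.2.1⟩

theorem Ind3.ind2_23 {u v w : V} (h : Ind3 F u v w) : Ind2 F v w := by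
  intro a b hab
  have := h 0 a b (by rw [zero_smul, zero_add]; exact hab)
  exact this.2

theorem Ind3.not_mem {u v w : V} (h : Ind3 F u v w) (a b : F) : u ≠ a • v + b • w := by
  intro hu
  have := h 1 (-a) (-b) (by rw [hu, one_smul, neg_smul, neg_smul]; abel)
  exact one_ne_zero this.1

/-- the configuration: a map on vectors inducing a collineation in both directions -/
structure Cfg (Φ : V → V) : Prop where
  h0 : ∀ v, v ≠ 0 → Φ v ≠ 0
  col : ∀ u w x : V, u ≠ 0 → w ≠ 0 → x ≠ 0 → (∃ a b : F, a • u + b • w = x) →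
    ∃ a b : F, a • Φ u + b • Φ w = Φ x
  col' : ∀ u w x : V, u ≠ 0 → w ≠ 0 → x ≠ 0 → (∃ a b : F, a • Φ u + b • Φ w = Φ x) →
    ∃ a b : F, a • u + b • w = x

variable {Φ : V → V}

theorem Cfg.scal (C : Cfg (F := F) Φ) {v : V} (hv : v ≠ 0) {a : F} (ha : a ≠ 0) :
    ∃ b : F, b ≠ 0 ∧ Φ (a • v) = b • Φ v := by
  have hav : a • v ≠ 0 := smul_ne_zero ha hv
  obtain ⟨c, d, hcd⟩ := C.col v v (a • v) hv hv hav ⟨a, 0, by rw [zero_smul, add_zero]⟩
  refine ⟨c + d, ?_, by rw [add_smul, hcd]⟩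
  intro h
  apply C.h0 _ hav
  rw [← hcd, ← add_smul, h, zero_smul]

theorem Cfg.inj (C : Cfg (F := F) Φ) {x v : V} (hx : x ≠ 0) (hv : v ≠ 0) {b : F}
    (h : Φ x = b • Φ v) : ∃ a : F, x = a • v := by
  obtain ⟨c, d, hcd⟩ := C.col' v v x hv hv hx ⟨b, 0, by rw [zero_smul, add_zero, h]⟩
  exact ⟨c + d, by rw [add_smul, hcd]⟩

theorem Cfg.ind2 (C : Cfg (F := F) Φ) {v w : V} (h : Ind2 F v w) : Ind2 F (Φ v) (Φ w) := by
  apply ind2_of_not_smul (C.h0 _ h.ne_left)
  intro c hc
  obtain ⟨a, ha⟩ := C.inj h.ne_right h.ne_left hc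
  exact h.not_smul a ha

theorem Cfg.not_mem (C : Cfg (F := F) Φ) {u v w : V} (h : Ind3 F u v w) (a b : F) :
    Φ u ≠ a • Φ v + b • Φ w := by
  intro hu
  have hu0 : u ≠ 0 := by
    rintro rfl
    have := h 1 0 0 (by simp)
    exact one_ne_zero this.1
  obtain ⟨a', b', hab⟩ := C.col' v w u h.ind2_23.ne_left h.ind2_23.ne_right hu0 ⟨a, b, hu.symm⟩
  exact h.not_mem a' b' hab.symm

theorem Cfg.ind3 (C : Cfg (F := F) Φ) {u v w : V} (h : Ind3 F u v w) :
    Ind3 F (Φ u) (Φ v) (Φ w) := by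
  intro a b c habc
  have key : ∀ {x y z : V} {p q r : F}, Ind3 F x y z → p • Φ x + q • Φ y + r • Φ z = 0 → p = 0 := by
    intro x y z p q r hxyz hpqr
    by_contra hp
    apply C.not_mem hxyz (-(p⁻¹ * q)) (-(p⁻¹ * r))
    have h1 : p • Φ x = -(q • Φ y + r • Φ z) := by
      rw [eq_neg_iff_add_eq_zero, ← add_assoc]; exact hpqr
    have h2 : Φ x = p⁻¹ • (p • Φ x) := by rw [smul_smul, inv_mul_cancel₀ hp, one_smul]
    rw [h2, h1, smul_neg, smul_add, smul_smul, smul_smul, neg_add, neg_smul, neg_smul]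
  refine ⟨key h habc, ?_, ?_⟩
  · apply key h.swap12 (p := b) (q := a) (r := c)
    rw [add_comm (b • Φ v)]; exact habc
  · apply key h.swap23.swap12 (p := c) (q := a) (r := b)
    rw [← habc]; abel

end Cfsg.Agent.Helper5.FTPG
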