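import Mathlib
import Cfsg.Agent.Lib.Helper5.FTPG1

set_option autoImplicit false

/-!
# Fundamental theorem of projective geometry, part 2: the map `L` on a hyperplane
-/

namespace Cfsg.Agent.Helper5.FTPG

variable {F : Type*} [Field F] {V : Type*} [AddCommGroup V] [Module F V]

theorem ind2_e {e : V} {lam : V →ₗ[F] F} (he : lam e = 1) {v : V} (hv0 : lam v = 0)
    (hv : v ≠ 0) : Ind2 F e v := by
  intro a b hab
  have h1 := congrArg lam hab
  rw [map_add, map_smul, map_smul, he, hv0, map_zero, smul_eq_mul, smul_eq_mul, mul_one, mul_zero,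
    add_zero] at h1
  subst h1
  rw [zero_smul, zero_add] at hab
  exact ⟨rfl, (smul_eq_zero.mp hab).resolve_right hv⟩

theorem ind3_e {e : V} {lam : V →ₗ[F] F} (he : lam e = 1) {v w : V} (hv0 : lam v = 0)
    (hw0 : lam w = 0) (h : Ind2 F v w) : Ind3 F e v w := by
  intro a b c habc
  have h1 := congrArg lam habc
  rw [map_add, map_add, map_smul, map_smul, map_smul, he, hv0, hw0, map_zero, smul_eq_mul,
    smul_eq_mul, smul_eq_mul, mul_one, mul_zero, mul_zero, add_zero, add_zero] at h1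
  subst h1
  rw [zero_smul, zero_add] at habc
  exact ⟨rfl, h b c habc⟩

variable {Φ : V → V}

theorem Lspec (C : Cfg (F := F) Φ) {e : V} {lam : V →ₗ[F] F} (he : lam e = 1) {v : V}
    (hv0 : lam v = 0) (hv : v ≠ 0) :
    ∃ k : F, k ≠ 0 ∧ ∃ a : F, a ≠ 0 ∧ Φ (e + v) = a • (Φ e + k • Φ v) := by
  have hI := ind2_e he hv0 hv
  have hev : e + v ≠ 0 := by
    intro h
    have := hI 1 1 (by rw [one_smul, one_smul]; exact h)
    exact one_ne_zero this.1
  obtain ⟨a, b, hab⟩ := C.col e v (e + v) hI.ne_left hv hev ⟨1, 1, by rw [one_smul, one_smul]⟩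
  have ha : a ≠ 0 := by
    rintro rfl
    rw [zero_smul, zero_add] at hab
    obtain ⟨c, hc⟩ := C.inj hev hv hab.symm
    apply hI.symm.not_smul (c - 1)
    rw [sub_smul, one_smul, ← hc]; abel
  have hb : b ≠ 0 := by
    rintro rfl
    rw [zero_smul, add_zero] at hab
    obtain ⟨c, hc⟩ := C.inj hev hI.ne_left hab.symm
    apply hI.not_smul (c - 1)
    rw [sub_smul, one_smul, ← hc]; abel
  refine ⟨a⁻¹ * b, mul_ne_zero (inv_ne_zero ha) hb, a, ha, ?_⟩
  rw [← hab, smul_add, smul_smul, ← mul_assoc, mul_inv_cancel₀ ha, one_mul]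

open Classical in
/-- the scalar `κ(v)` with `L v = κ(v) Φ(v)` -/
noncomputable def kap (C : Cfg (F := F) Φ) {e : V} {lam : V →ₗ[F] F} (he : lam e = 1) (v : V) : F :=
  if h : lam v = 0 ∧ v ≠ 0 then Classical.choose (Lspec C he h.1 h.2) else 0

/-- the map `L` on the hyperplane `ker lam` (zero elsewhere) -/
noncomputable def Lh (C : Cfg (F := F) Φ) {e : V} {lam : V →ₗ[F] F} (he : lam e = 1) (v : V) : V :=
  kap C he v • Φ v

theorem Lh_zero (C : Cfg (F := F) Φ) {e : V} {lam : V →ₗ[F] F} (he : lam e = 1) :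
    Lh C he 0 = 0 := by
  unfold Lh kap
  rw [dif_neg (fun h => h.2 rfl), zero_smul]

theorem Lh_spec (C : Cfg (F := F) Φ) {e : V} {lam : V →ₗ[F] F} (he : lam e = 1) {v : V}
    (hv0 : lam v = 0) (hv : v ≠ 0) :
    kap C he v ≠ 0 ∧ ∃ a : F, a ≠ 0 ∧ Φ (e + v) = a • (Φ e + Lh C he v) := by
  unfold Lh kap
  rw [dif_pos ⟨hv0, hv⟩]
  exact Classical.choose_spec (Lspec C he hv0 hv)

theorem Lh_ne_zero (C : Cfg (F := F) Φ) {e : V} {lam : V →ₗ[F] F} (he : lam e = 1) {v : V}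
    (hv0 : lam v = 0) (hv : v ≠ 0) : Lh C he v ≠ 0 :=
  smul_ne_zero (Lh_spec C he hv0 hv).1 (C.h0 v hv)

theorem Phi_eq_smul_Lh (C : Cfg (F := F) Φ) {e : V} {lam : V →ₗ[F] F} (he : lam e = 1) {v : V}
    (hv0 : lam v = 0) (hv : v ≠ 0) : Φ v = (kap C he v)⁻¹ • Lh C he v := by
  unfold Lh
  rw [smul_smul, inv_mul_cancel₀ (Lh_spec C he hv0 hv).1, one_smul]

theorem Lh_uniq (C : Cfg (F := F) Φ) {e : V} {lam : V →ₗ[F] F} (he : lam e = 1) {v : V}
    (hv0 : lam v = 0) (hv : v ≠ 0) {k' a' : F}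
    (h : Φ (e + v) = a' • (Φ e + k' • Φ v)) : k' • Φ v = Lh C he v := by
  obtain ⟨hk, a, ha, hspec⟩ := Lh_spec C he hv0 hv
  have hI := C.ind2 (ind2_e he hv0 hv)
  have h1 : a • Φ e + (a * kap C he v) • Φ v = a' • Φ e + (a' * k') • Φ v := by
    have : a • (Φ e + Lh C he v) = a' • (Φ e + k' • Φ v) := by rw [← hspec, h]
    unfold Lh at this
    rw [smul_add, smul_add, smul_smul, smul_smul] at this
    exact this
  obtain ⟨h2, h3⟩ := hI.eq_coeff h1
  subst h2
  have : kap C he v = k' := mul_left_cancel₀ ha h3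
  unfold Lh
  rw [this]

/-- additivity of `L` on independent vectors of the hyperplane -/
theorem Lh_add (C : Cfg (F := F) Φ) {e : V} {lam : V →ₗ[F] F} (he : lam e = 1) {v w : V}
    (hv0 : lam v = 0) (hw0 : lam w = 0) (h : Ind2 F v w) :
    Lh C he (v + w) = Lh C he v + Lh C he w := by
  have hv := h.ne_left
  have hw := h.ne_right
  have I3 := ind3_e he hv0 hw0 h
  have I3' := C.ind3 I3
  obtain ⟨hκv, av, hav, hΦv⟩ := Lh_spec C he hv0 hv
  obtain ⟨hκw, aw, haw, hΦw⟩ := Lh_spec C he hw0 hw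
  have hPv := Phi_eq_smul_Lh C he hv0 hv
  have hPw := Phi_eq_smul_Lh C he hw0 hw
  have I3L : Ind3 F (Φ e) (Lh C he v) (Lh C he w) := by
    have := I3'.smul (one_ne_zero (α := F)) hκv hκw
    rw [one_smul] at this
    exact this
  have hvw : v + w ≠ 0 := by
    intro h0
    have := h 1 1 (by rw [one_smul, one_smul]; exact h0)
    exact one_ne_zero this.1
  have hvw0 : lam (v + w) = 0 := by rw [map_add, hv0, hw0, add_zero]
  have hx : e + v + w ≠ 0 := by
    intro h0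
    have := I3 1 1 1 (by rw [one_smul, one_smul, one_smul]; exact h0)
    exact one_ne_zero this.1
  have hev : e + v ≠ 0 := by
    intro h0
    have := I3 1 1 0 (by rw [one_smul, one_smul, zero_smul, add_zero]; exact h0)
    exact one_ne_zero this.1
  have hew : e + w ≠ 0 := by
    intro h0
    have := I3 1 0 1 (by rw [one_smul, one_smul, zero_smul, add_zero]; exact h0)
    exact one_ne_zero this.1
  -- (i)
  obtain ⟨α1, β1, h1⟩ := C.col (e + v) w (e + v + w) hev hw hx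
    ⟨1, 1, by rw [one_smul, one_smul]⟩
  -- (ii)
  obtain ⟨α2, β2, h2⟩ := C.col (e + w) v (e + v + w) hew hv hx
    ⟨1, 1, by rw [one_smul, one_smul]; abel⟩
  -- (iii)
  obtain ⟨hκ, a, ha, hΦ⟩ := Lh_spec C he hvw0 hvw
  obtain ⟨c, d, hcd⟩ := C.col v w (v + w) hv hw hvw ⟨1, 1, by rw [one_smul, one_smul]⟩
  set Lv := Lh C he v with hLv
  set Lw := Lh C he w with hLw
  set κv := kap C he v with hκvd
  set κw := kap C he w with hκwd
  set κ := kap C he (v + w) with hκd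
  have e1 : Φ (e + v + w) = (α1 * av) • Φ e + (α1 * av) • Lv + (β1 * κw⁻¹) • Lw := by
    rw [← h1, hΦv, hPw]; module
  have e2 : Φ (e + v + w) = (α2 * aw) • Φ e + (β2 * κv⁻¹) • Lv + (α2 * aw) • Lw := by
    rw [← h2, hΦw, hPv]; module
  have hLvw : Lh C he (v + w) = (κ * c * κv⁻¹) • Lv + (κ * d * κw⁻¹) • Lw := by
    unfold Lh
    rw [← hcd, hPv, hPw]; module
  have e3 : Φ (e + v + w) = a • Φ e + (a * (κ * c * κv⁻¹)) • Lv + (a * (κ * d * κw⁻¹)) • Lw := by
    rw [add_assoc, hΦ, hLvw]; module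
  obtain ⟨p1, p2, p3⟩ := I3L.eq_coeff (e1.symm.trans e2)
  obtain ⟨q1, q2, q3⟩ := I3L.eq_coeff (e1.symm.trans e3)
  -- a = α1 av, a (κ c κv⁻¹) = α1 av, a (κ d κw⁻¹) = β1 κw⁻¹ = α2 aw = α1 av
  have r1 : κ * c * κv⁻¹ = 1 := by
    have : a * (κ * c * κv⁻¹) = a * 1 := by rw [← q2, mul_one, q1]
    exact mul_left_cancel₀ ha this
  have r2 : κ * d * κw⁻¹ = 1 := by
    have : a * (κ * d * κw⁻¹) = a * 1 := by rw [← q3, mul_one, p3, ← p1, q1]
    exact mul_left_cancel₀ ha this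
  rw [hLvw, r1, r2, one_smul, one_smul]

end Cfsg.Agent.Helper5.FTPG
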