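import Mathlib
import Cfsg.Agent.Lib.Helper5.FTPG2

set_option autoImplicit false

/-!
# Fundamental theorem of projective geometry, part 3: the field automorphism and the main theorem
-/

namespace Cfsg.Agent.Helper5.FTPG

variable {F : Type*} [Field F] {V : Type*} [AddCommGroup V] [Module F V] {Φ : V → V}

theorem ind2_Lh (C : Cfg (F := F) Φ) {e : V} {lam : V →ₗ[F] F} (he : lam e = 1) {v w : V}
    (hv0 : lam v = 0) (hw0 : lam w = 0) (h : Ind2 F v w) : Ind2 F (Lh C he v) (Lh C he w) :=
  (C.ind2 h).smul (Lh_spec C he hv0 h.ne_left).1 (Lh_spec C he hw0 h.ne_right).1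

theorem exists_sig (C : Cfg (F := F) Φ) {e : V} {lam : V →ₗ[F] F} (he : lam e = 1) {v : V}
    (hv0 : lam v = 0) (hv : v ≠ 0) (a : F) : ∃ s : F, Lh C he (a • v) = s • Lh C he v := by
  by_cases ha : a = 0
  · exact ⟨0, by rw [ha, zero_smul, zero_smul, Lh_zero]⟩
  · obtain ⟨b, hb, hΦ⟩ := C.scal hv ha
    refine ⟨kap C he (a • v) * b * (kap C he v)⁻¹, ?_⟩
    conv_lhs => unfold Lh
    rw [hΦ, Phi_eq_smul_Lh C he hv0 hv, smul_smul, smul_smul]

open Classical in
/-- the scalar `σ_v(a)` with `L (a v) = σ_v(a) L v` -/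
noncomputable def sig (C : Cfg (F := F) Φ) {e : V} {lam : V →ₗ[F] F} (he : lam e = 1) (v : V)
    (a : F) : F :=
  if h : lam v = 0 ∧ v ≠ 0 then Classical.choose (exists_sig C he h.1 h.2 a) else 0

theorem sig_spec (C : Cfg (F := F) Φ) {e : V} {lam : V →ₗ[F] F} (he : lam e = 1) {v : V}
    (hv0 : lam v = 0) (hv : v ≠ 0) (a : F) : Lh C he (a • v) = sig C he v a • Lh C he v := by
  unfold sig
  rw [dif_pos ⟨hv0, hv⟩]
  exact Classical.choose_spec (exists_sig C he hv0 hv a)

theorem sig_uniq (C : Cfg (F := F) Φ) {e : V} {lam : V →ₗ[F] F} (he : lam e = 1) {v : V}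
    (hv0 : lam v = 0) (hv : v ≠ 0) {a s : F} (h : Lh C he (a • v) = s • Lh C he v) :
    sig C he v a = s := by
  have h1 := sig_spec C he hv0 hv a
  rw [h] at h1
  have h2 : (s - sig C he v a) • Lh C he v = 0 := by rw [sub_smul, h1, sub_self]
  have := (smul_eq_zero.mp h2).resolve_right (Lh_ne_zero C he hv0 hv)
  exact (sub_eq_zero.mp this).symm

theorem lam_smul_zero {lam : V →ₗ[F] F} {v : V} (hv0 : lam v = 0) (a : F) : lam (a • v) = 0 := by
  rw [map_smul, hv0, smul_zero]

theorem Lh_add' (C : Cfg (F := F) Φ) {e : V} {lam : V →ₗ[F] F} (he : lam e = 1) {v w : V}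
    (hv0 : lam v = 0) (hw0 : lam w = 0) (h : Ind2 F v w) (a b : F) :
    Lh C he (a • v + b • w) = Lh C he (a • v) + Lh C he (b • w) := by
  by_cases ha : a = 0
  · rw [ha, zero_smul, zero_add, Lh_zero, zero_add]
  by_cases hb : b = 0
  · rw [hb, zero_smul, add_zero, Lh_zero, add_zero]
  exact Lh_add C he (lam_smul_zero hv0 a) (lam_smul_zero hw0 b) (h.smul ha hb)

theorem sig_eq_of_ind2 (C : Cfg (F := F) Φ) {e : V} {lam : V →ₗ[F] F} (he : lam e = 1) {v w : V}
    (hv0 : lam v = 0) (hw0 : lam w = 0) (h : Ind2 F v w) (a : F) :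
    sig C he v a = sig C he w a := by
  have hv := h.ne_left
  have hw := h.ne_right
  have hvw : v + w ≠ 0 := by
    intro h0
    have := h 1 1 (by rw [one_smul, one_smul]; exact h0)
    exact one_ne_zero this.1
  have hvw0 : lam (v + w) = 0 := by rw [map_add, hv0, hw0, add_zero]
  have h1 := sig_spec C he hvw0 hvw a
  rw [smul_add, Lh_add' C he hv0 hw0 h a a, Lh_add C he hv0 hw0 h, sig_spec C he hv0 hv,
    sig_spec C he hw0 hw, smul_add] at h1
  obtain ⟨h2, h3⟩ := (ind2_Lh C he hv0 hw0 h).eq_coeff h1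
  rw [h2, h3]

/-- all `σ_v` coincide with `σ_{h1}` -/
theorem sig_eq (C : Cfg (F := F) Φ) {e : V} {lam : V →ₗ[F] F} (he : lam e = 1) {h1 h2 : V}
    (h10 : lam h1 = 0) (h20 : lam h2 = 0) (h12 : Ind2 F h1 h2) {v : V} (hv0 : lam v = 0)
    (hv : v ≠ 0) (a : F) : sig C he v a = sig C he h1 a := by
  by_cases hI : Ind2 F h1 v
  · exact (sig_eq_of_ind2 C he h10 hv0 hI a).symm
  · have : ∃ c : F, v = c • h1 := by
      by_contra hcon
      push Not at hcon
      exact hI (ind2_of_not_smul h12.ne_left hcon)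
    obtain ⟨c, rfl⟩ := this
    have hc : c ≠ 0 := by
      rintro rfl
      rw [zero_smul] at hv
      exact hv rfl
    have hI2 : Ind2 F (c • h1) h2 := by
      have := h12.smul hc (one_ne_zero (α := F))
      rw [one_smul] at this
      exact this
    rw [sig_eq_of_ind2 C he hv0 h20 hI2 a, ← sig_eq_of_ind2 C he h10 h20 h12 a]

section Main

variable (C : Cfg (F := F) Φ) {e : V} {lam : V →ₗ[F] F} (he : lam e = 1) {h1 h2 : V}
  (h10 : lam h1 = 0) (h20 : lam h2 = 0) (h12 : Ind2 F h1 h2)

include h10 h20 h12 in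
/-- semilinearity of `L` on the hyperplane -/
theorem Lh_smul {v : V} (hv0 : lam v = 0) (a : F) :
    Lh C he (a • v) = sig C he h1 a • Lh C he v := by
  by_cases hv : v = 0
  · rw [hv, smul_zero, Lh_zero, smul_zero]
  · rw [sig_spec C he hv0 hv, sig_eq C he h10 h20 h12 hv0 hv]

include h10 h20 h12 in
theorem sig_one : sig C he h1 1 = 1 := by
  apply sig_uniq C he h10 h12.ne_left
  rw [one_smul, one_smul]

include h10 h20 h12 in
theorem sig_zero : sig C he h1 0 = 0 := by
  apply sig_uniq C he h10 h12.ne_left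
  rw [zero_smul, zero_smul, Lh_zero]

include h10 h20 h12 in
theorem sig_mul (a b : F) : sig C he h1 (a * b) = sig C he h1 a * sig C he h1 b := by
  apply sig_uniq C he h10 h12.ne_left
  rw [mul_smul, Lh_smul C he h10 h20 h12 (lam_smul_zero h10 b), Lh_smul C he h10 h20 h12 h10,
    smul_smul]

include h10 h20 h12 in
theorem sig_add (a b : F) : sig C he h1 (a + b) = sig C he h1 a + sig C he h1 b := by
  have hS : ∀ {v : V}, lam v = 0 → ∀ a : F, Lh C he (a • v) = sig C he h1 a • Lh C he v :=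
    fun hv0 a => Lh_smul C he h10 h20 h12 hv0 a
  -- X = (a+b) h1 + h2 computed two ways
  have e1 : Lh C he ((a + b) • h1 + (1 : F) • h2)
      = sig C he h1 (a + b) • Lh C he h1 + Lh C he h2 := by
    rw [Lh_add' C he h10 h20 h12, hS h10, one_smul]
  have hI : Ind2 F h1 (b • h1 + h2) := h12.add_smul_right b
  have h30 : lam (b • h1 + h2) = 0 := by rw [map_add, lam_smul_zero h10, h20, add_zero]
  have e2 : Lh C he ((a + b) • h1 + (1 : F) • h2)
      = (sig C he h1 a + sig C he h1 b) • Lh C he h1 + Lh C he h2 := by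
    have hX : (a + b) • h1 + (1 : F) • h2 = a • h1 + (1 : F) • (b • h1 + h2) := by module
    rw [hX, Lh_add' C he h10 h30 hI, hS h10, one_smul]
    have hY : b • h1 + h2 = b • h1 + (1 : F) • h2 := by rw [one_smul]
    rw [hY, Lh_add' C he h10 h20 h12, hS h10, one_smul]
    module
  have e3 : sig C he h1 (a + b) • Lh C he h1 + (1 : F) • Lh C he h2
      = (sig C he h1 a + sig C he h1 b) • Lh C he h1 + (1 : F) • Lh C he h2 := by
    rw [one_smul, ← e1, e2]
  exact ((ind2_Lh C he h10 h20 h12).eq_coeff e3).1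

/-- the field endomorphism -/
noncomputable def sigHom : F →+* F where
  toFun := sig C he h1
  map_one' := sig_one C he h10 h20 h12
  map_mul' := sig_mul C he h10 h20 h12
  map_zero' := sig_zero C he h10 h20 h12
  map_add' := sig_add C he h10 h20 h12

include h10 h20 h12 in
/-- additivity of `L` on the whole hyperplane -/
theorem Lh_add_all {x y : V} (hx0 : lam x = 0) (hy0 : lam y = 0) :
    Lh C he (x + y) = Lh C he x + Lh C he y := by
  by_cases hx : x = 0
  · rw [hx, zero_add, Lh_zero, zero_add]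
  by_cases hI : Ind2 F x y
  · exact Lh_add C he hx0 hy0 hI
  · have : ∃ c : F, y = c • x := by
      by_contra hcon
      push Not at hcon
      exact hI (ind2_of_not_smul hx hcon)
    obtain ⟨c, rfl⟩ := this
    have hS := Lh_smul C he h10 h20 h12 hx0
    have h1' : x + c • x = (1 + c) • x := by rw [add_smul, one_smul]
    rw [h1', hS, hS, sig_add C he h10 h20 h12, sig_one C he h10 h20 h12, add_smul, one_smul]

/-- the extension of `L` to the whole space -/
noncomputable def Lt (x : V) : V :=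
  sig C he h1 (lam x) • Φ e + Lh C he (x - lam x • e)

include he in
theorem lam_proj (x : V) : lam (x - lam x • e) = 0 := by
  rw [map_sub, map_smul, he, smul_eq_mul, mul_one, sub_self]

include h10 h20 h12 in
theorem Lt_add (x y : V) : Lt C he (h1 := h1) (x + y) = Lt C he (h1 := h1) x + Lt C he (h1 := h1) y := by
  unfold Lt
  have hxy : x + y - lam (x + y) • e = (x - lam x • e) + (y - lam y • e) := by
    rw [map_add, add_smul]; abel
  rw [hxy, Lh_add_all C he h10 h20 h12 (lam_proj he x) (lam_proj he y), map_add,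
    sig_add C he h10 h20 h12, add_smul]
  abel

include h10 h20 h12 in
theorem Lt_smul (a : F) (x : V) :
    Lt C he (h1 := h1) (a • x) = sig C he h1 a • Lt C he (h1 := h1) x := by
  unfold Lt
  have hax : a • x - lam (a • x) • e = a • (x - lam x • e) := by
    rw [map_smul, smul_eq_mul, mul_smul, smul_sub]
  rw [hax, Lh_smul C he h10 h20 h12 (lam_proj he x), map_smul, smul_eq_mul,
    sig_mul C he h10 h20 h12, smul_add, smul_smul]

include h10 h20 h12 in
theorem sig_ne_zero {a : F} (ha : a ≠ 0) : sig C he h1 a ≠ 0 := by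
  intro h
  have := sig_mul C he h10 h20 h12 a a⁻¹
  rw [mul_inv_cancel₀ ha, sig_one C he h10 h20 h12, h, zero_mul] at this
  exact one_ne_zero this

include h10 h20 h12 in
theorem Lt_prop {x : V} (hx : x ≠ 0) : ∃ b : F, b ≠ 0 ∧ Φ x = b • Lt C he (h1 := h1) x := by
  have hI0 : e ≠ 0 := by
    rintro rfl
    rw [map_zero] at he
    exact zero_ne_one he
  by_cases ha : lam x = 0
  · -- x in the hyperplane
    refine ⟨(kap C he x)⁻¹, inv_ne_zero (Lh_spec C he ha hx).1, ?_⟩
    unfold Lt
    rw [ha, sig_zero C he h10 h20 h12, zero_smul, zero_add, zero_smul, sub_zero]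
    exact Phi_eq_smul_Lh C he ha hx
  set a := lam x with hadef
  set h := x - a • e with hh
  have hh0 : lam h = 0 := lam_proj he x
  have hσa := sig_ne_zero C he h10 h20 h12 ha
  by_cases hh' : h = 0
  · -- x = a e
    have hx' : x = a • e := by
      rw [hh, sub_eq_zero] at hh'
      exact hh'
    obtain ⟨b, hb, hΦ⟩ := C.scal hI0 ha
    refine ⟨b * (sig C he h1 a)⁻¹, mul_ne_zero hb (inv_ne_zero hσa), ?_⟩
    unfold Lt
    rw [← hadef, ← hh, hh', Lh_zero, add_zero, smul_smul, mul_assoc, inv_mul_cancel₀ hσa,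
      mul_one]
    conv_lhs => rw [hx']
    exact hΦ
  · -- general position
    have hx' : x = a • (e + a⁻¹ • h) := by
      rw [smul_add, smul_smul, mul_inv_cancel₀ ha, one_smul, hh]; abel
    have hih0 : lam (a⁻¹ • h) = 0 := lam_smul_zero hh0 _
    have hih : a⁻¹ • h ≠ 0 := smul_ne_zero (inv_ne_zero ha) hh'
    have hne : e + a⁻¹ • h ≠ 0 := by
      intro h0
      have := (ind2_e he hih0 hih) 1 1 (by rw [one_smul, one_smul]; exact h0)
      exact one_ne_zero this.1
    obtain ⟨b, hb, hΦ⟩ := C.scal hne ha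
    obtain ⟨-, a', ha', hspec⟩ := Lh_spec C he hih0 hih
    refine ⟨b * a' * (sig C he h1 a)⁻¹, mul_ne_zero (mul_ne_zero hb ha') (inv_ne_zero hσa), ?_⟩
    unfold Lt
    rw [← hadef, ← hh]
    conv_lhs => rw [hx']
    rw [hΦ, hspec, Lh_smul C he h10 h20 h12 hh0]
    have hinv : sig C he h1 a⁻¹ = (sig C he h1 a)⁻¹ := by
      have := sig_mul C he h10 h20 h12 a a⁻¹
      rw [mul_inv_cancel₀ ha, sig_one C he h10 h20 h12] at this
      exact eq_inv_of_mul_eq_one_right this.symm
    rw [hinv]
    have key : (b * a' * (sig C he h1 a)⁻¹) • (sig C he h1 a • Φ e + Lh C he h)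
        = (b * a' * ((sig C he h1 a)⁻¹ * sig C he h1 a)) • Φ e
          + (b * a' * (sig C he h1 a)⁻¹) • Lh C he h := by module
    rw [key, inv_mul_cancel₀ hσa, mul_one]
    module

end Main

/-- **Fundamental theorem of projective geometry** (for maps that preserve collinearity in both
directions). -/
theorem ftpg [FiniteDimensional F V] (hdim : 3 ≤ Module.finrank F V) (Φ : V → V)
    (h0 : ∀ v, v ≠ 0 → Φ v ≠ 0)
    (hcol : ∀ u w x : V, u ≠ 0 → w ≠ 0 → x ≠ 0 → x ∈ Submodule.span F {u, w} →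
      Φ x ∈ Submodule.span F {Φ u, Φ w})
    (hcol' : ∀ u w x : V, u ≠ 0 → w ≠ 0 → x ≠ 0 → Φ x ∈ Submodule.span F {Φ u, Φ w} →
      x ∈ Submodule.span F {u, w}) :
    ∃ (σ : F →+* F) (L : V →+ V), (∀ (a : F) (v : V), L (a • v) = σ a • L v) ∧
      ∀ v, v ≠ 0 → ∃ b : F, b ≠ 0 ∧ Φ v = b • L v := by
  have C : Cfg (F := F) Φ :=
    { h0 := h0
      col := fun u w x hu hw hx h =>
        Submodule.mem_span_pair.mp (hcol u w x hu hw hx (Submodule.mem_span_pair.mpr h))
      col' := fun u w x hu hw hx h =>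
        Submodule.mem_span_pair.mp (hcol' u w x hu hw hx (Submodule.mem_span_pair.mpr h)) }
  let b := Module.finBasis F V
  let i0 : Fin (Module.finrank F V) := ⟨0, by omega⟩
  let i1 : Fin (Module.finrank F V) := ⟨1, by omega⟩
  let i2 : Fin (Module.finrank F V) := ⟨2, by omega⟩
  have h01 : i0 ≠ i1 := by intro h; have := congrArg Fin.val h; simp [i0, i1] at this
  have h02 : i0 ≠ i2 := by intro h; have := congrArg Fin.val h; simp [i0, i2] at this
  have h12' : i1 ≠ i2 := by intro h; have := congrArg Fin.val h; simp [i1, i2] at this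
  have he : b.coord i0 (b i0) = 1 := by
    rw [b.coord_apply, b.repr_self, Finsupp.single_eq_same]
  have h10 : b.coord i0 (b i1) = 0 := by
    rw [b.coord_apply, b.repr_self, Finsupp.single_eq_of_ne h01]
  have h20 : b.coord i0 (b i2) = 0 := by
    rw [b.coord_apply, b.repr_self, Finsupp.single_eq_of_ne h02]
  have h12 : Ind2 F (b i1) (b i2) := by
    intro x y hxy
    have e1 := congrArg (fun t => b.repr t i1) hxy
    have e2 := congrArg (fun t => b.repr t i2) hxy
    simp only [map_add, map_smul, b.repr_self, Finsupp.add_apply, Finsupp.smul_apply,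
      Finsupp.single_eq_same, Finsupp.single_eq_of_ne h12', Finsupp.single_eq_of_ne h12'.symm,
      map_zero, Finsupp.zero_apply, smul_eq_mul, mul_one, mul_zero, add_zero, zero_add] at e1 e2
    exact ⟨e1, e2⟩
  refine ⟨sigHom C he h10 h20 h12,
    AddMonoidHom.mk' (Lt C he (h1 := b i1)) (Lt_add C he h10 h20 h12), ?_, ?_⟩
  · intro a v
    exact Lt_smul C he h10 h20 h12 a v
  · intro v hv
    exact Lt_prop C he h10 h20 h12 hv

end Cfsg.Agent.Helper5.FTPG
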