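import Mathlib
import Cfsg.Agent.Lib.Helper5.SpAut6

set_option autoImplicit false

/-!
# (I4): a semilinear bijection preserving orthogonality is a semi-similitude
-/

namespace Cfsg.Agent.Helper5.SpAut

open Matrix Cfsg Cfsg.Agent.Helper13 Cfsg.Agent.Helper84.SpRoot Cfsg.Agent.Helper40.AutPSp

variable {F : Type*} [Field F] {m : ℕ}

/-- two hyperplanes `v^⊥`, `w^⊥` do not cover the space -/
theorem exists_nonorth_both {v w : Fin m ⊕ Fin m → F} (hv : v ≠ 0) (hw : w ≠ 0) :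
    ∃ u, Cfsg.sympForm m F u v ≠ 0 ∧ Cfsg.sympForm m F u w ≠ 0 := by
  obtain ⟨u1, h1⟩ := exists_partner (m := m) hv
  obtain ⟨u2, h2⟩ := exists_partner (m := m) hw
  have h1' : Cfsg.sympForm m F u1 v ≠ 0 := by
    rw [sympForm_swap, h1]; exact neg_ne_zero.mpr one_ne_zero
  have h2' : Cfsg.sympForm m F u2 w ≠ 0 := by
    rw [sympForm_swap, h2]; exact neg_ne_zero.mpr one_ne_zero
  by_cases h3 : Cfsg.sympForm m F u1 w = 0
  · by_cases h4 : Cfsg.sympForm m F u2 v = 0
    · refine ⟨u1 + u2, ?_, ?_⟩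
      · rw [sympForm_add_left, h4, add_zero]; exact h1'
      · rw [sympForm_add_left, h3, zero_add]; exact h2'
    · exact ⟨u2, h4, h2'⟩
  · exact ⟨u1, h1', h3⟩

/-- a linear map preserving orthogonality multiplies the form by a constant -/
theorem exists_mult_of_perp (hm : 0 < m) (A : (Fin m ⊕ Fin m → F) →ₗ[F] (Fin m ⊕ Fin m → F))
    (hperp : ∀ u v, Cfsg.sympForm m F u v = 0 → Cfsg.sympForm m F (A u) (A v) = 0) :
    ∃ c : F, ∀ u v, Cfsg.sympForm m F (A u) (A v) = c * Cfsg.sympForm m F u v := by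
  -- step a
  have stepa : ∀ v u0 u : Fin m ⊕ Fin m → F, Cfsg.sympForm m F u0 v ≠ 0 →
      Cfsg.sympForm m F (A u) (A v) * Cfsg.sympForm m F u0 v
        = Cfsg.sympForm m F u v * Cfsg.sympForm m F (A u0) (A v) := by
    intro v u0 u h0
    have h1 : Cfsg.sympForm m F
        (u - (Cfsg.sympForm m F u v / Cfsg.sympForm m F u0 v) • u0) v = 0 := by
      rw [sympForm_sub_left, sympForm_smul_left, div_mul_cancel₀ _ h0, sub_self]
    have h2 := hperp _ _ h1
    rw [map_sub, map_smul, sympForm_sub_left, sympForm_smul_left] at h2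
    field_simp at h2
    linear_combination h2
  -- base pair
  have he : ∃ e0 : Fin m ⊕ Fin m → F, e0 ≠ 0 := by
    refine ⟨Pi.single (Sum.inl ⟨0, hm⟩) 1, ?_⟩
    intro h
    have := congrFun h (Sum.inl ⟨0, hm⟩)
    simp at this
  obtain ⟨e0, he0⟩ := he
  obtain ⟨f0, hef⟩ := exists_partner (m := m) he0
  have hf0 : f0 ≠ 0 := by
    rintro rfl
    rw [sympForm_zero_right] at hef
    exact zero_ne_one hef
  refine ⟨Cfsg.sympForm m F (A e0) (A f0), ?_⟩
  intro u v
  by_cases huv : Cfsg.sympForm m F u v = 0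
  · rw [hperp u v huv, huv, mul_zero]
  have hv : v ≠ 0 := by
    rintro rfl
    exact huv (sympForm_zero_right u)
  obtain ⟨u1, h1v, h1f⟩ := exists_nonorth_both hv hf0
  -- r(u,v) = r(u1,v)
  have e1 := stepa v u1 u h1v
  -- r(v,u1) = r(f0,u1)
  have h1v' : Cfsg.sympForm m F v u1 ≠ 0 := by
    rw [sympForm_swap]; exact neg_ne_zero.mpr h1v
  have h1f' : Cfsg.sympForm m F f0 u1 ≠ 0 := by
    rw [sympForm_swap]; exact neg_ne_zero.mpr h1f
  have e2 := stepa u1 f0 v h1f'
  -- r(u1,f0) = r(e0,f0)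
  have hef' : Cfsg.sympForm m F e0 f0 ≠ 0 := by rw [hef]; exact one_ne_zero
  have e3 := stepa f0 e0 u1 hef'
  rw [hef, mul_one] at e3
  -- combine
  rw [sympForm_swap (A f0) (A u1), sympForm_swap f0 u1, e3] at e2
  rw [sympForm_swap (A v) (A u1), sympForm_swap v u1] at e2
  -- e2 : -f(Au1,Av) * -f(u1,f0) = -f(u1,v) * -(f(u1,f0) * c)
  have e4 : Cfsg.sympForm m F (A u1) (A v)
      = Cfsg.sympForm m F u1 v * Cfsg.sympForm m F (A e0) (A f0) := by
    have : Cfsg.sympForm m F u1 f0 *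
        (Cfsg.sympForm m F (A u1) (A v)
          - Cfsg.sympForm m F u1 v * Cfsg.sympForm m F (A e0) (A f0)) = 0 := by
      linear_combination e2
    rcases mul_eq_zero.mp this with h | h
    · exact absurd h h1f
    · exact sub_eq_zero.mp h
  rw [e4] at e1
  have : Cfsg.sympForm m F u1 v *
      (Cfsg.sympForm m F (A u) (A v)
        - Cfsg.sympForm m F (A e0) (A f0) * Cfsg.sympForm m F u v) = 0 := by
    linear_combination e1
  rcases mul_eq_zero.mp this with h | h
  · exact absurd h h1v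
  · exact sub_eq_zero.mp h

/-- (I4) a `σ`-semilinear injective map preserving orthogonality is `x ↦ G σ(x)` with `G ∈ GSp` -/
theorem exists_GSp_of_semilinear (hm : 0 < m) (σ : F ≃+* F)
    (g : (Fin m ⊕ Fin m → F) → (Fin m ⊕ Fin m → F))
    (hadd : ∀ x y, g (x + y) = g x + g y) (hsmul : ∀ (a : F) x, g (a • x) = σ a • g x)
    (hinj : Function.Injective g)
    (hperp : ∀ x y, Cfsg.sympForm m F x y = 0 → Cfsg.sympForm m F (g x) (g y) = 0) :
    ∃ G : ↥(Cfsg.GSp m F), ∀ x,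
      g x = (G.1 : Matrix (Fin m ⊕ Fin m) (Fin m ⊕ Fin m) F) *ᵥ (σ ∘ x) := by
  let A : (Fin m ⊕ Fin m → F) →ₗ[F] (Fin m ⊕ Fin m → F) :=
    { toFun := fun y => g (σ.symm ∘ y)
      map_add' := fun x y => by rw [comp_add, hadd]
      map_smul' := fun a y => by
        rw [comp_smul, hsmul, RingEquiv.apply_symm_apply]
        rfl }
  have hA : ∀ y, A y = g (σ.symm ∘ y) := fun _ => rfl
  have hAinj : Function.Injective A := by
    intro y y' h
    have h1 := hinj h
    have h2 := congrArg (fun z => σ ∘ z) h1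
    simp only [← Function.comp_assoc] at h2
    have h3 : (⇑σ ∘ ⇑σ.symm) = id := by ext a; simp
    rw [h3] at h2
    exact h2
  have hAperp : ∀ u v, Cfsg.sympForm m F u v = 0 → Cfsg.sympForm m F (A u) (A v) = 0 := by
    intro u v huv
    rw [hA, hA]
    apply hperp
    rw [sympForm_comp, huv, map_zero]
  obtain ⟨c, hc⟩ := exists_mult_of_perp hm A hAperp
  have hAsurj : Function.Surjective A := LinearMap.injective_iff_surjective.mp hAinj
  have hc0 : c ≠ 0 := by
    rintro rfl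
    have he : ∃ e0 : Fin m ⊕ Fin m → F, e0 ≠ 0 := by
      refine ⟨Pi.single (Sum.inl ⟨0, hm⟩) 1, ?_⟩
      intro h
      have := congrFun h (Sum.inl ⟨0, hm⟩)
      simp at this
    obtain ⟨e0, he0⟩ := he
    obtain ⟨f0, hef⟩ := exists_partner (m := m) he0
    obtain ⟨u, hu⟩ := hAsurj e0
    obtain ⟨v, hv⟩ := hAsurj f0
    have := hc u v
    rw [hu, hv, hef, zero_mul] at this
    exact one_ne_zero this
  let M : Matrix (Fin m ⊕ Fin m) (Fin m ⊕ Fin m) F := LinearMap.toMatrix' A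
  have hM : ∀ y, M *ᵥ y = A y := fun y => LinearMap.toMatrix'_mulVec A y
  have hMinj : Function.Injective M.mulVec := by
    intro y y' h
    have h' : M *ᵥ y = M *ᵥ y' := h
    rw [hM, hM] at h'
    exact hAinj h'
  have hunit : IsUnit M := Matrix.mulVec_injective_iff_isUnit.mp hMinj
  let G0 : GL (Fin m ⊕ Fin m) F := hunit.unit
  have hG0 : (G0 : Matrix (Fin m ⊕ Fin m) (Fin m ⊕ Fin m) F) = M := hunit.unit_spec
  have hmem : G0 ∈ Cfsg.GSp m F := by
    rw [mem_GSp_iff]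
    refine ⟨Units.mk0 c hc0, fun u v => ?_⟩
    rw [hG0, hM, hM, hc]
    rfl
  refine ⟨⟨G0, hmem⟩, fun x => ?_⟩
  show g x = (G0 : Matrix (Fin m ⊕ Fin m) (Fin m ⊕ Fin m) F) *ᵥ (σ ∘ x)
  rw [hG0, hM, hA]
  congr 1
  ext i
  simp

end Cfsg.Agent.Helper5.SpAut
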