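import Mathlib
import Cfsg.Agent.Lib.Helper5.SpAut7

set_option autoImplicit false

/-!
# The point map of an automorphism of `PSp` and the final assembly modulo the fundamental theorem
of projective geometry
-/

namespace Cfsg.Agent.Helper5.SpAut

open Matrix Cfsg Cfsg.Agent.Helper13 Cfsg.Agent.Helper84.SpRoot Cfsg.Agent.Helper40.AutPSp

variable {F : Type*} [Field F] {m : ℕ}

/-- nondegeneracy -/
theorem eq_zero_of_forall_sympForm {x : Fin m ⊕ Fin m → F}
    (h : ∀ z, Cfsg.sympForm m F x z = 0) : x = 0 := by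
  by_contra hx
  obtain ⟨z, hz⟩ := exists_partner (m := m) hx
  rw [h z] at hz
  exact zero_ne_one hz

/-- the double-perp criterion for membership in the span of two vectors -/
theorem mem_span_pair_iff_perp {u w x : Fin m ⊕ Fin m → F} (hu : u ≠ 0) :
    x ∈ Submodule.span F {u, w} ↔
      ∀ d, Cfsg.sympForm m F d u = 0 → Cfsg.sympForm m F d w = 0 → Cfsg.sympForm m F d x = 0 := by
  constructor
  · intro hx d hdu hdw
    obtain ⟨a, b, rfl⟩ := Submodule.mem_span_pair.mp hx
    rw [sympForm_add_right, sympForm_smul_right, sympForm_smul_right, hdu, hdw, mul_zero, mul_zero,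
      add_zero]
  · intro h
    rw [Submodule.mem_span_pair]
    by_cases hdep : ∃ a : F, w = a • u
    · obtain ⟨a, rfl⟩ := hdep
      -- x ∈ ⟨u⟩
      by_contra hcon
      have hx : ∀ b : F, x ≠ b • u := by
        intro b hb
        exact hcon ⟨b, 0, by rw [hb, zero_smul, add_zero]⟩
      obtain ⟨z, hz1, hz2⟩ := exists_sep hu hx
      have h1 := h z (by rw [sympForm_swap, hz2, neg_zero])
        (by rw [sympForm_smul_right, sympForm_swap, hz2, neg_zero, mul_zero])
      rw [sympForm_swap, hz1] at h1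
      exact one_ne_zero (neg_eq_zero.mp h1)
    · push Not at hdep
      have hw : w ≠ 0 := by
        intro h0
        exact hdep 0 (by rw [h0, zero_smul])
      have hdep' : ∀ a : F, u ≠ a • w := by
        intro a ha
        have ha0 : a ≠ 0 := by
          rintro rfl
          rw [zero_smul] at ha
          exact hu ha
        apply hdep a⁻¹
        rw [ha, smul_smul, inv_mul_cancel₀ ha0, one_smul]
      obtain ⟨z0, hz0u, hz0w⟩ := exists_sep hw hdep'
      obtain ⟨z1, hz1w, hz1u⟩ := exists_sep hu hdep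
      refine ⟨Cfsg.sympForm m F x z0, Cfsg.sympForm m F x z1, ?_⟩
      have key : ∀ z, Cfsg.sympForm m F
          (x - (Cfsg.sympForm m F x z0 • u + Cfsg.sympForm m F x z1 • w)) z = 0 := by
        intro z
        set z' := z - Cfsg.sympForm m F u z • z0 - Cfsg.sympForm m F w z • z1 with hz'
        have h1 : Cfsg.sympForm m F z' u = 0 := by
          rw [sympForm_swap, hz', sympForm_sub_right, sympForm_sub_right, sympForm_smul_right,
            sympForm_smul_right, hz0u, hz1u]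
          ring
        have h2 : Cfsg.sympForm m F z' w = 0 := by
          rw [sympForm_swap, hz', sympForm_sub_right, sympForm_sub_right, sympForm_smul_right,
            sympForm_smul_right, hz0w, hz1w]
          ring
        have h3 := h z' h1 h2
        rw [sympForm_swap, neg_eq_zero, hz', sympForm_sub_right, sympForm_sub_right,
          sympForm_smul_right, sympForm_smul_right] at h3
        rw [sympForm_sub_left, sympForm_add_left, sympForm_smul_left, sympForm_smul_left]
        linear_combination h3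
      have := eq_zero_of_forall_sympForm key
      rw [sub_eq_zero] at this
      exact this.symm

section Finite

variable [Fintype F] {p : ℕ} [Fact p.Prime] [CharP F p]

open Classical in
/-- the point map of an automorphism, on vectors (`0 ↦ 0`) -/
noncomputable def ptMap (hm : 2 ≤ m) (h4 : m = 2 → p ≠ 2) (α : PSp m F ≃* PSp m F)
    (v : Fin m ⊕ Fin m → F) : Fin m ⊕ Fin m → F :=
  if hv : v = 0 then 0 else Classical.choose (aut_permutes_Tb hm h4 α hv)

theorem ptMap_spec (hm : 2 ≤ m) (h4 : m = 2 → p ≠ 2) (α : PSp m F ≃* PSp m F)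
    {v : Fin m ⊕ Fin m → F} (hv : v ≠ 0) :
    ptMap hm h4 α v ≠ 0 ∧ (Tb v).map α.toMonoidHom = Tb (ptMap hm h4 α v) := by
  unfold ptMap
  rw [dif_neg hv]
  exact Classical.choose_spec (aut_permutes_Tb hm h4 α hv)

theorem ptMap_zero (hm : 2 ≤ m) (h4 : m = 2 → p ≠ 2) (α : PSp m F ≃* PSp m F) :
    ptMap hm h4 α 0 = 0 := by
  unfold ptMap
  rw [dif_pos rfl]

theorem ptMap_perp_iff (hm : 2 ≤ m) (h4 : m = 2 → p ≠ 2) (α : PSp m F ≃* PSp m F)
    {u v : Fin m ⊕ Fin m → F} (hu : u ≠ 0) (hv : v ≠ 0) :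
    Cfsg.sympForm m F (ptMap hm h4 α u) (ptMap hm h4 α v) = 0 ↔ Cfsg.sympForm m F u v = 0 := by
  have hm0 : 0 < m := by omega
  obtain ⟨hu', hu2⟩ := ptMap_spec hm h4 α hu
  obtain ⟨hv', hv2⟩ := ptMap_spec hm h4 α hv
  rw [← tb_commute_iff hm0 hu' hv', ← tb_commute_iff hm0 hu hv, ← hu2, ← hv2]
  constructor
  · intro h a ha b hb
    apply α.injective
    have := h _ (Subgroup.mem_map_of_mem _ ha) _ (Subgroup.mem_map_of_mem _ hb)
    rw [map_mul, map_mul]
    exact this
  · rintro h _ ⟨a, ha, rfl⟩ _ ⟨b, hb, rfl⟩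
    show α a * α b = α b * α a
    rw [← map_mul, ← map_mul, h a ha b hb]

/-- surjectivity on points -/
theorem ptMap_surj (hm : 2 ≤ m) (h4 : m = 2 → p ≠ 2) (α : PSp m F ≃* PSp m F)
    {w : Fin m ⊕ Fin m → F} (hw : w ≠ 0) :
    ∃ v : Fin m ⊕ Fin m → F, v ≠ 0 ∧ ∃ a : F, a ≠ 0 ∧ ptMap hm h4 α v = a • w := by
  have hm0 : 0 < m := by omega
  obtain ⟨v, hv, hvw⟩ := aut_permutes_Tb hm h4 α.symm hw
  refine ⟨v, hv, ?_⟩
  obtain ⟨hv', hv2⟩ := ptMap_spec hm h4 α hv
  have h1 : Tb (ptMap hm h4 α v) = Tb w := by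
    rw [← hv2, ← hvw, Subgroup.map_map]
    have : α.toMonoidHom.comp α.symm.toMonoidHom = MonoidHom.id _ := by
      ext x; simp
    rw [this, Subgroup.map_id]
  obtain ⟨a, ha⟩ := Tb_eq_imp hm0 hv' h1
  refine ⟨a, ?_, ha⟩
  rintro rfl
  rw [zero_smul] at ha
  exact hv' ha

theorem ptMap_col (hm : 2 ≤ m) (h4 : m = 2 → p ≠ 2) (α : PSp m F ≃* PSp m F)
    (u w x : Fin m ⊕ Fin m → F) (hu : u ≠ 0) (hw : w ≠ 0) (hx : x ≠ 0)
    (h : x ∈ Submodule.span F {u, w}) :
    ptMap hm h4 α x ∈ Submodule.span F {ptMap hm h4 α u, ptMap hm h4 α w} := by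
  rw [mem_span_pair_iff_perp (ptMap_spec hm h4 α hu).1]
  intro d' hd'u hd'w
  by_cases hd' : d' = 0
  · rw [hd', sympForm_zero_left]
  obtain ⟨d, hd, a, ha, hda⟩ := ptMap_surj hm h4 α hd'
  have hd'eq : d' = a⁻¹ • ptMap hm h4 α d := by
    rw [hda, smul_smul, inv_mul_cancel₀ ha, one_smul]
  rw [hd'eq, sympForm_smul_left] at hd'u hd'w ⊢
  have h1 : Cfsg.sympForm m F d u = 0 := by
    rw [← ptMap_perp_iff hm h4 α hd hu]
    rcases mul_eq_zero.mp hd'u with h | h
    · exact absurd h (inv_ne_zero ha)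
    · exact h
  have h2 : Cfsg.sympForm m F d w = 0 := by
    rw [← ptMap_perp_iff hm h4 α hd hw]
    rcases mul_eq_zero.mp hd'w with h | h
    · exact absurd h (inv_ne_zero ha)
    · exact h
  have h3 := (mem_span_pair_iff_perp hu).mp h d h1 h2
  rw [(ptMap_perp_iff hm h4 α hd hx).mpr h3, mul_zero]

theorem ptMap_col' (hm : 2 ≤ m) (h4 : m = 2 → p ≠ 2) (α : PSp m F ≃* PSp m F)
    (u w x : Fin m ⊕ Fin m → F) (hu : u ≠ 0) (hw : w ≠ 0) (hx : x ≠ 0)
    (h : ptMap hm h4 α x ∈ Submodule.span F {ptMap hm h4 α u, ptMap hm h4 α w}) :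
    x ∈ Submodule.span F {u, w} := by
  rw [mem_span_pair_iff_perp hu]
  intro d hdu hdw
  by_cases hd : d = 0
  · rw [hd, sympForm_zero_left]
  have h1 := (ptMap_perp_iff hm h4 α hd hu).mpr hdu
  have h2 := (ptMap_perp_iff hm h4 α hd hw).mpr hdw
  have h3 := (mem_span_pair_iff_perp (ptMap_spec hm h4 α hu).1).mp h _ h1 h2
  exact (ptMap_perp_iff hm h4 α hd hx).mp h3

/-- the conclusion of the fundamental theorem of projective geometry for the map `Φ` -/
def FTPGConcl (Φ : (Fin m ⊕ Fin m → F) → (Fin m ⊕ Fin m → F)) : Prop :=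
  ∃ (σ : F →+* F) (L : (Fin m ⊕ Fin m → F) →+ (Fin m ⊕ Fin m → F)),
    (∀ (a : F) (v : Fin m ⊕ Fin m → F), L (a • v) = σ a • L v) ∧
      ∀ v, v ≠ 0 → ∃ b : F, b ≠ 0 ∧ Φ v = b • L v

/-- final assembly: an automorphism whose point map is induced by a semilinear map is standard -/
theorem struct_of_ftpg (hm : 2 ≤ m) (h4 : m = 2 → p ≠ 2) (α : PSp m F ≃* PSp m F)
    (hF : FTPGConcl (ptMap hm h4 α)) :
    ∃ (G : ↥(Cfsg.GSp m F)) (σ : F ≃+* F), α = PhiSp G * fieldAutPSp σ := by
  have hm0 : 0 < m := by omega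
  obtain ⟨σ, L, hL, hΦ⟩ := hF
  have hσbij : Function.Bijective σ :=
    ⟨σ.injective, Finite.injective_iff_surjective.mp σ.injective⟩
  let σe : F ≃+* F := RingEquiv.ofBijective σ hσbij
  have hσe : ∀ a, σe a = σ a := fun _ => rfl
  have hLinj : Function.Injective L := by
    rw [injective_iff_map_eq_zero]
    intro v hv
    by_contra hv0
    obtain ⟨b, hb, hbv⟩ := hΦ v hv0
    rw [hv, smul_zero] at hbv
    exact (ptMap_spec hm h4 α hv0).1 hbv
  have hLperp : ∀ x y, Cfsg.sympForm m F x y = 0 → Cfsg.sympForm m F (L x) (L y) = 0 := by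
    intro x y hxy
    by_cases hx : x = 0
    · rw [hx, map_zero, sympForm_zero_left]
    by_cases hy : y = 0
    · rw [hy, map_zero, sympForm_zero_right]
    obtain ⟨b, hb, hbx⟩ := hΦ x hx
    obtain ⟨b', hb', hby⟩ := hΦ y hy
    have h1 := (ptMap_perp_iff hm h4 α hx hy).mpr hxy
    rw [hbx, hby, sympForm_smul_left, sympForm_smul_right] at h1
    rcases mul_eq_zero.mp h1 with h | h
    · exact absurd h hb
    · rcases mul_eq_zero.mp h with h | h
      · exact absurd h hb'
      · exact h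
  obtain ⟨G, hG⟩ := exists_GSp_of_semilinear hm0 σe L (fun x y => map_add L x y)
    (fun a x => by rw [hσe]; exact hL a x) hLinj hLperp
  refine ⟨G, σe, ?_⟩
  -- γ and α agree on all transvection groups
  set γ : MulAut (PSp m F) := PhiSp G * fieldAutPSp σe with hγ
  have hagree : ∀ v : Fin m ⊕ Fin m → F, v ≠ 0 →
      (Tb v).map (γ : PSp m F ≃* PSp m F).toMonoidHom = (Tb v).map α.toMonoidHom := by
    intro v hv
    obtain ⟨b, hb, hbv⟩ := hΦ v hv
    rw [hγ, map_Tb_PhiSp_field, ← hG, (ptMap_spec hm h4 α hv).2, hbv, Tb_smul hb]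
  have hrig := rigidity hm0 (α.trans (γ : PSp m F ≃* PSp m F).symm) (by
    intro v hv
    have h1 : (α.trans (γ : PSp m F ≃* PSp m F).symm).toMonoidHom
        = ((γ : PSp m F ≃* PSp m F).symm.toMonoidHom).comp α.toMonoidHom := rfl
    rw [h1, ← Subgroup.map_map, ← hagree v hv, Subgroup.map_map]
    have h2 : ((γ : PSp m F ≃* PSp m F).symm.toMonoidHom).comp
        (γ : PSp m F ≃* PSp m F).toMonoidHom = MonoidHom.id _ := by
      ext x; simp
    rw [h2, Subgroup.map_id])
  apply MulEquiv.ext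
  intro x
  have h3 := congrArg (fun e : PSp m F ≃* PSp m F => (γ : PSp m F ≃* PSp m F) (e x)) hrig
  simp only [MulEquiv.trans_apply, MulEquiv.apply_symm_apply, MulEquiv.refl_apply] at h3
  exact h3

end Finite

end Cfsg.Agent.Helper5.SpAut
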