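import Mathlib
import Cfsg.Agent.Lib.Helper5.PermEmbed

set_option autoImplicit false

namespace Cfsg.Agent.Helper5

open Subgroup

/-- In a simple group the action on the cosets of a proper subgroup is faithful. -/
lemma injective_toPermHom_quotient {G : Type*} [Group G] [IsSimpleGroup G] (H : Subgroup G)
    (hH : H ≠ ⊤) : Function.Injective (MulAction.toPermHom G (G ⧸ H)) := by
  rw [← MonoidHom.ker_eq_bot_iff]
  rcases (MonoidHom.normal_ker (MulAction.toPermHom G (G ⧸ H))).eq_bot_or_eq_top with h | h
  · exact h
  · exfalso
    apply hH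
    rw [← Subgroup.normalCore_eq_ker] at h
    exact top_le_iff.1 (h ▸ Subgroup.normalCore_le H)

/-- A simple group of order `> n!` has no subgroup of index `n` (for `n ≥ 2`...): stated as a bound. -/
lemma card_le_factorial_index {G : Type*} [Group G] [Finite G] [IsSimpleGroup G] (H : Subgroup G)
    (hH : H ≠ ⊤) : Nat.card G ≤ (H.index).factorial := by
  have hinj := injective_toPermHom_quotient H hH
  have : Finite (G ⧸ H) := inferInstance
  classical
  have : Fintype (G ⧸ H) := Fintype.ofFinite _
  calc Nat.card G ≤ Nat.card (Equiv.Perm (G ⧸ H)) := Nat.card_le_card_of_injective _ hinj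
    _ = (H.index).factorial := by
      rw [Nat.card_eq_fintype_card, Fintype.card_perm, ← Nat.card_eq_fintype_card,
        Subgroup.index_eq_card]

theorem simple_order_sixty {G : Type*} [Group G] [Finite G] [IsSimpleGroup G]
    (h : Nat.card G = 60) : Nonempty (G ≃* alternatingGroup (Fin 5)) := by
  -- it suffices to find a subgroup of index 5
  suffices hsuff : ∃ H : Subgroup G, H.index = 5 by
    obtain ⟨H, hH⟩ := hsuff
    have hne : H ≠ ⊤ := by
      intro htop
      rw [htop, Subgroup.index_top] at hH
      exact absurd hH (by norm_num)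
    refine equiv_alternating_of_injective _ (injective_toPermHom_quotient H hne) 5 ?_ ?_
    · rw [← Subgroup.index_eq_card, hH]
    · rw [h]; rfl
  have : Fact (Nat.Prime 2) := ⟨Nat.prime_two⟩
  obtain P : Sylow 2 G := default
  have hfac : (60 : ℕ).factorization 2 = 2 := by
    have : (60 : ℕ) = 2 ^ 2 * 15 := by norm_num
    rw [this, Nat.factorization_mul (by norm_num) (by norm_num), Finsupp.add_apply,
      Nat.Prime.factorization_pow Nat.prime_two,
      Nat.factorization_eq_zero_of_not_dvd (by norm_num : ¬ 2 ∣ 15)]
    simp
  have hP : Nat.card P = 4 := by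
    rw [Sylow.card_eq_multiplicity, h, hfac]
    norm_num
  have hPidx : (P : Subgroup G).index = 15 := by
    have := Subgroup.card_mul_index (P : Subgroup G)
    rw [h] at this
    have hP' : Nat.card (P : Subgroup G) = 4 := hP
    rw [hP'] at this
    omega
  set N : Subgroup G := normalizer ((P : Subgroup G) : Set G) with hN
  have hidx : N.index = Nat.card (Sylow 2 G) := (Sylow.card_eq_index_normalizer P).symm
  have hdvd : Nat.card (Sylow 2 G) ∣ 15 := hPidx ▸ Sylow.card_dvd_index P
  have hmod : Nat.card (Sylow 2 G) ≡ 1 [MOD 2] := card_sylow_modEq_one 2 G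
  have hcases : Nat.card (Sylow 2 G) = 1 ∨ Nat.card (Sylow 2 G) = 3 ∨ Nat.card (Sylow 2 G) = 5 ∨
      Nat.card (Sylow 2 G) = 15 := by
    have hle : Nat.card (Sylow 2 G) ≤ 15 := Nat.le_of_dvd (by norm_num) hdvd
    have hpos : 0 < Nat.card (Sylow 2 G) := Nat.pos_of_dvd_of_pos hdvd (by norm_num)
    interval_cases hn : Nat.card (Sylow 2 G) <;> simp_all <;> omega
  rcases hcases with h1 | h3 | h5 | h15
  · -- unique Sylow 2-subgroup: normal, contradiction
    exfalso
    have hsub : Subsingleton (Sylow 2 G) := (Nat.card_eq_one_iff_unique.1 h1).1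
    have hnorm : (P : Subgroup G).Normal := Sylow.normal_of_subsingleton P
    rcases hnorm.eq_bot_or_eq_top with hb | ht
    · have : Nat.card (P : Subgroup G) = 1 := by rw [hb]; exact Subgroup.card_bot
      have hP' : Nat.card (P : Subgroup G) = 4 := hP
      omega
    · have : Nat.card (P : Subgroup G) = 60 := by rw [ht, Subgroup.card_top, h]
      have hP' : Nat.card (P : Subgroup G) = 4 := hP
      omega
  · -- index 3: impossible
    exfalso
    have hne : N ≠ ⊤ := by
      intro htop
      rw [htop, Subgroup.index_top] at hidx
      omega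
    have := card_le_factorial_index N hne
    rw [hidx, h3, h] at this
    norm_num [Nat.factorial] at this
  · exact ⟨N, by rw [hidx, h5]⟩
  · -- self-normalizing abelian Sylow 2-subgroup: Burnside gives a normal complement
    exfalso
    have hNcard : Nat.card N = 4 := by
      have := Subgroup.card_mul_index N
      rw [hidx, h15, h] at this
      omega
    have hPN : (P : Subgroup G) = N := by
      apply Subgroup.eq_of_le_of_card_ge Subgroup.le_normalizer
      have hP' : Nat.card (P : Subgroup G) = 4 := hP
      rw [hNcard, hP']
    have hcomm : IsMulCommutative (P : Subgroup G) :=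
      IsPGroup.isMulCommutative_of_card_eq_prime_sq (p := 2) (by rw [show Nat.card (P : Subgroup G) = 4 from hP]; norm_num)
    have hcent : normalizer ((P : Subgroup G) : Set G) ≤ centralizer ((P : Subgroup G) : Set G) := by
      rw [← hN, ← hPN]
      exact Subgroup.le_centralizer (P : Subgroup G)
    have hcompl := MonoidHom.ker_transferSylow_isComplement' P hcent
    set K := (MonoidHom.transferSylow P hcent).ker with hK
    have hKcard : Nat.card K * Nat.card (P : Subgroup G) = Nat.card G := hcompl.card_mul_card
    rw [show Nat.card (P : Subgroup G) = 4 from hP, h] at hKcard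
    have hK15 : Nat.card K = 15 := by omega
    rcases (MonoidHom.normal_ker (MonoidHom.transferSylow P hcent)).eq_bot_or_eq_top with hb | ht
    · rw [← hK] at hb
      rw [hb, Subgroup.card_bot] at hK15
      omega
    · rw [← hK] at ht
      rw [ht, Subgroup.card_top, h] at hK15
      omega

end Cfsg.Agent.Helper5
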