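import Mathlib
import Cfsg.Agent.Lib.Helper5.PSL2Small
import Cfsg.Agent.Lib.Helper5.Order60

set_option autoImplicit false

namespace Cfsg.Agent.Helper5

open Matrix

variable {F : Type*} [Field F] [Fintype F]

theorem psl2_card_five_equiv (hF : Fintype.card F = 5) :
    Nonempty (ProjectiveSpecialLinearGroup (Fin 2) F ≃* alternatingGroup (Fin 5)) := by
  have hsimple : IsSimpleGroup (ProjectiveSpecialLinearGroup (Fin 2) F) :=
    Matrix.ProjectiveSpecialLinearGroup.rank_two_simple
      (by rw [Nat.card_eq_fintype_card, hF]; norm_num)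
  have h1 := card_PSL2_mul hF
  norm_num at h1
  exact simple_order_sixty (by omega)

end Cfsg.Agent.Helper5
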