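import Mathlib
import Cfsg.Agent.Lib.Helper62.SLN0
import Cfsg.Agent.Lib.Helper66.SLN_G1
import Cfsg.Agent.Lib.Helper78.U2Ra
import Cfsg.Agent.Lib.Helper99.SLN_R3

/-!
# SLN project (helper62, S2332): piece S5, the character value at a transvection
-/

set_option autoImplicit false

namespace Cfsg.Agent.Helper5.SLN

open Matrix Module Cfsg.Agent.Helper93.U2 Cfsg.Agent.Helper62.SLN

section SLN

variable {F : Type*} [Field F] [Fintype F] [DecidableEq F] {κ : Type} [Fintype κ] [DecidableEq κ]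
  {V : Type*} [AddCommGroup V] [Module ℂ V] [FiniteDimensional ℂ V]
  (ψ : AddChar F ℂ) (pr : Pairing (κ → F)) (hpr : ∀ w u, pr.β w u = ψ (w ⬝ᵥ u))
  (ρ : Representation ℂ (SpecialLinearGroup (Unit ⊕ κ) F) V)

include hpr

omit [DecidableEq F] in
/-- piece S5 (R3 + G1 + U2-Ra `Pairing_sum_eq_zero`) : the character value at a transvection -/
theorem character_uEl (d : ℕ) (hd : ∀ w : κ → F, w ≠ 0 → finrank ℂ (wt pr ρ w) = d)
    (u : κ → F) (hu : u ≠ 0) :
    ρ.character (uEl u) = (finrank ℂ (wt pr ρ 0) : ℂ) - (d : ℂ) := by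
  classical
  have h1 := Cfsg.Agent.Helper99.SLN.character_el pr (uEl (F := F) (κ := κ)) ρ
    (fun a b => Cfsg.Agent.Helper66.SLN.uEl_add a b) u
  rw [h1]
  -- split off the weight 0
  rw [← Finset.add_sum_erase Finset.univ _ (Finset.mem_univ (0 : κ → F))]
  have h0 : pr.β 0 u = 1 := Cfsg.Agent.Helper78.U2.Pairing_zero_left pr u
  have hsum : ∑ a ∈ Finset.univ.erase (0 : κ → F),
      (finrank ℂ (wsp pr uEl ρ a) : ℂ) * pr.β a u = (d : ℂ) * ∑ a ∈ Finset.univ.erase (0 : κ → F), pr.β a u := by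
    rw [Finset.mul_sum]
    apply Finset.sum_congr rfl
    intro a ha
    have ha0 : a ≠ 0 := Finset.ne_of_mem_erase ha
    have := hd a ha0
    rw [show wt pr ρ a = wsp pr uEl ρ a from rfl] at this
    rw [this]
  have hall : ∑ a : κ → F, pr.β a u = 0 := by
    have := Cfsg.Agent.Helper78.U2.Pairing_sum_eq_zero pr u hu
    rw [← this]
    apply Finset.sum_congr rfl
    intro a _
    exact pr.symm a u
  have herase : ∑ a ∈ Finset.univ.erase (0 : κ → F), pr.β a u = -1 := by
    have := Finset.add_sum_erase Finset.univ (fun a : κ → F => pr.β a u) (Finset.mem_univ (0 : κ → F))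
    rw [hall, h0] at this
    linear_combination this
  rw [hsum, herase, h0]
  show (finrank ℂ (wsp pr uEl ρ 0) : ℂ) * 1 + (d : ℂ) * -1 = (finrank ℂ (wt pr ρ 0) : ℂ) - (d : ℂ)
  ring

end SLN

end Cfsg.Agent.Helper5.SLN
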