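import Mathlib
import Cfsg.Agent.Lib.Helper62.SLN0
import Cfsg.Agent.Lib.Helper99.SLN_R5
import Cfsg.Agent.Lib.Helper5.SLN_S5
import Cfsg.Agent.Lib.Helper48.SLN_G9

/-!
# SLN project (helper62, S2332): piece S6 (DIV)
-/

set_option autoImplicit false

namespace Cfsg.Agent.Helper5.SLN

open Matrix Module Cfsg.Agent.Helper93.U2 Cfsg.Agent.Helper62.SLN

section SLN

variable {F : Type*} [Field F] [Fintype F] [DecidableEq F] {κ : Type} [Fintype κ] [DecidableEq κ]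
  {V : Type*} [AddCommGroup V] [Module ℂ V] [FiniteDimensional ℂ V]
  (ψ : AddChar F ℂ) (pr : Pairing (κ → F)) (hpr : ∀ w u, pr.β w u = ψ (w ⬝ᵥ u))
  (ρ : Representation ℂ (SpecialLinearGroup (Unit ⊕ κ) F) V)

include hpr

omit [DecidableEq F] in
/-- piece S6 (R5 + S5 + G9 + `Representation.char_conj`) : DIV -/
theorem div_transvections (hρ : ρ.IsIrreducible) (hκ : 1 ≤ Fintype.card κ) (d : ℕ)
    (hd : ∀ w : κ → F, w ≠ 0 → finrank ℂ (wt pr ρ w) = d) :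
    (finrank ℂ V : ℤ) ∣
      ((gs (Fintype.card F) (Fintype.card κ + 1) * (Fintype.card F ^ Fintype.card κ - 1) : ℕ) : ℤ) *
        ((finrank ℂ (wt pr ρ 0) : ℤ) - (d : ℤ)) := by
  classical
  have : Fintype (SpecialLinearGroup (Unit ⊕ κ) F) := Fintype.ofFinite _
  set T : Set (SpecialLinearGroup (Unit ⊕ κ) F) :=
    {g | ∃ x, ∃ u : κ → F, u ≠ 0 ∧ g = x * uEl u * x⁻¹} with hT
  have hTconj : ∀ g s, s ∈ T → g * s * g⁻¹ ∈ T := by
    rintro g s ⟨x, u, hu, rfl⟩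
    refine ⟨g * x, u, hu, ?_⟩
    group
  have hz : ∀ s ∈ T, ρ.character s =
      (((finrank ℂ (wt pr ρ 0) : ℤ) - (d : ℤ) : ℤ) : ℂ) := by
    rintro s ⟨x, u, hu, rfl⟩
    rw [Representation.char_conj, character_uEl ψ pr hpr ρ d hd u hu]
    push_cast
    ring
  have h := Cfsg.Agent.Helper99.SLN.dvd_class_sum ρ hρ T hTconj _ hz
  have hcard := Cfsg.Agent.Helper48.SLN.card_transvections (F := F) (κ := κ) hκ
  rw [← hcard]
  exact h

end SLN

end Cfsg.Agent.Helper5.SLN
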