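import Mathlib
import Cfsg.Agent.Lib.Helper5.PSUGr2

/-!
# Involutory graph automorphisms of `PSU_n(q)`: the shape `PhiU g * φ_q` with `g` symmetric or skew
-/

set_option autoImplicit false
set_option linter.unusedSectionVars false
set_option linter.unusedSimpArgs false

namespace Cfsg.Agent.Helper5.PSUGr

open Matrix Cfsg.Agent.Helper13.PSLAut Cfsg.Agent.Helper5 Cfsg.Agent.Helper5.PSUAut

section Invol

/-- a finite field has at most one involutory automorphism -/
theorem involution_unique {F : Type*} [Field F] [Finite F] (σ τ : F ≃+* F)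
    (hσ : σ ≠ RingEquiv.refl F) (hτ : τ ≠ RingEquiv.refl F)
    (hσ2 : ∀ a, σ (σ a) = a) (hτ2 : ∀ a, τ (τ a) = a) : σ = τ := by
  classical
  obtain ⟨p, hp⟩ := CharP.exists F
  have hprime : Fact p.Prime := ⟨CharP.char_is_prime F p⟩
  let _ : Algebra (ZMod p) F := ZMod.algebra F p
  have hcomm : ∀ (ρ : F ≃+* F) (x : ZMod p), ρ (algebraMap (ZMod p) F x) =
      algebraMap (ZMod p) F x := by
    intro ρ x
    exact RingHom.congr_fun (Subsingleton.elim ((ρ : F →+* F).comp (algebraMap (ZMod p) F))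
      (algebraMap (ZMod p) F)) x
  let toA : (F ≃+* F) → (F ≃ₐ[ZMod p] F) := fun ρ => AlgEquiv.ofRingEquiv (f := ρ) (hcomm ρ)
  have htoA : ∀ ρ a, toA ρ a = ρ a := fun ρ a => rfl
  have : Finite (F ≃ₐ[ZMod p] F) :=
    Finite.of_injective (fun e : F ≃ₐ[ZMod p] F => (e : F → F)) DFunLike.coe_injective
  let _ : Fintype (F ≃ₐ[ZMod p] F) := Fintype.ofFinite _
  have hcard := IsCyclic.card_pow_eq_one_le (α := F ≃ₐ[ZMod p] F) (n := 2) (by norm_num)
  by_contra hne
  have h3 : 2 < (Finset.univ.filter fun a : F ≃ₐ[ZMod p] F => a ^ 2 = 1).card := by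
    rw [Finset.two_lt_card_iff]
    refine ⟨1, toA σ, toA τ, ?_, ?_, ?_, ?_, ?_, ?_⟩
    · simp
    · rw [Finset.mem_filter]
      refine ⟨Finset.mem_univ _, ?_⟩
      apply AlgEquiv.ext
      intro a
      rw [sq, AlgEquiv.mul_apply, htoA, htoA, hσ2, AlgEquiv.one_apply]
    · rw [Finset.mem_filter]
      refine ⟨Finset.mem_univ _, ?_⟩
      apply AlgEquiv.ext
      intro a
      rw [sq, AlgEquiv.mul_apply, htoA, htoA, hτ2, AlgEquiv.one_apply]
    · intro h
      apply hσ
      apply RingEquiv.ext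
      intro a
      have := congrArg (fun e : F ≃ₐ[ZMod p] F => e a) h
      simp only [AlgEquiv.one_apply, htoA] at this
      rw [RingEquiv.refl_apply]
      exact this.symm
    · intro h
      apply hτ
      apply RingEquiv.ext
      intro a
      have := congrArg (fun e : F ≃ₐ[ZMod p] F => e a) h
      simp only [AlgEquiv.one_apply, htoA] at this
      rw [RingEquiv.refl_apply]
      exact this.symm
    · intro h
      apply hne
      apply RingEquiv.ext
      intro a
      have := congrArg (fun e : F ≃ₐ[ZMod p] F => e a) h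
      simp only [htoA] at this
      exact this
  omega

end Invol

section SigmaQ

open Cfsg.Agent.Helper13

variable {F : Type*} [Field F] [Fintype F] {n q : ℕ} (hF : Fintype.card F = q ^ 2)

/-- the `q`-power map as a ring automorphism -/
noncomputable def sigmaQ : F ≃+* F :=
  RingEquiv.ofRingHom (frobQ hF) (frobQ hF) (RingHom.ext (frobQ_frobQ hF))
    (RingHom.ext (frobQ_frobQ hF))

theorem sigmaQ_apply (a : F) : sigmaQ hF a = a ^ q := rfl

theorem sigmaQ_sigmaQ (a : F) : sigmaQ hF (sigmaQ hF a) = a := frobQ_frobQ hF a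

theorem sigmaQ_ne_refl : sigmaQ hF ≠ RingEquiv.refl F := by
  intro h
  apply frobQ_ne_id hF
  apply RingHom.ext
  intro a
  have := congrArg (fun e : F ≃+* F => e a) h
  exact this

theorem exists_sigmaQ_ne : ∃ e : F, sigmaQ hF e ≠ e := by
  by_contra hcon
  push Not at hcon
  exact sigmaQ_ne_refl hF (RingEquiv.ext hcon)

end SigmaQ

section Graph

variable {F : Type*} [Field F] [Fintype F] {n q : ℕ} (hF : Fintype.card F = q ^ 2)

theorem gam_sq (σ : F ≃+* F) (g : ↥(CU n F q)) :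
    (PhiU g * fieldAutPSU σ) * (PhiU g * fieldAutPSU σ) =
      PhiU (g * sigmaCU σ g) * fieldAutPSU (σ.trans σ) := by
  calc (PhiU g * fieldAutPSU σ) * (PhiU g * fieldAutPSU σ)
      = PhiU g * (fieldAutPSU σ * PhiU g) * fieldAutPSU σ := by group
    _ = PhiU g * (PhiU (sigmaCU σ g) * fieldAutPSU σ) * fieldAutPSU σ := by
        rw [fieldAutPSU_mul_PhiU]
    _ = (PhiU g * PhiU (sigmaCU σ g)) * (fieldAutPSU σ * fieldAutPSU σ) := by group
    _ = _ := by rw [← map_mul, fieldAutPSU_mul]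

include hF in
/-- an involutory graph automorphism of `PSU_n(q)` is `PhiU g * φ_q` with `g` unitary and
symmetric or skew-symmetric -/
theorem graph_invol (hn : 3 ≤ n) (h32 : ¬ (n = 3 ∧ q = 2)) (γ : MulAut (Cfsg.PSU n F q))
    (hγ : Cfsg.IsGraphAutClassPSU γ) (h2 : orderOf γ = 2) :
    ∃ g : ↥(CU n F q), g.1 ∈ Cfsg.GU n F q ∧ γ = PhiU g * fieldAutPSU (sigmaQ hF) ∧
      (((g.1 : GL (Fin n) F) : Matrix (Fin n) (Fin n) F)ᵀ =
          ((g.1 : GL (Fin n) F) : Matrix (Fin n) (Fin n) F) ∨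
        ((g.1 : GL (Fin n) F) : Matrix (Fin n) (Fin n) F)ᵀ =
          -((g.1 : GL (Fin n) F) : Matrix (Fin n) (Fin n) F)) := by
  obtain ⟨_, δ, φ, σ, hev, hδ, hφ, rfl⟩ := hγ
  obtain ⟨g, hgGU, rfl⟩ := (innerDiagonal_iff δ).1 hδ
  have hφ' := eq_fieldAutPSU hφ
  subst hφ'
  have hsq : (PhiU g * fieldAutPSU σ) * (PhiU g * fieldAutPSU σ) = 1 := by
    rw [← sq, ← h2]; exact pow_orderOf_eq_one _
  rw [gam_sq] at hsq
  have hfa : fieldAutPSU (n := n) (q := q) (σ.trans σ) = PhiU ((g * sigmaCU σ g)⁻¹) := by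
    rw [map_inv]
    exact eq_inv_of_mul_eq_one_right hsq
  have hσσ := refl_of_fieldAut_eq_PhiU hF hn h32 (σ.trans σ) _ hfa
  have hσ2 : ∀ a, σ (σ a) = a := by
    intro a
    have := congrArg (fun e : F ≃+* F => e a) hσσ
    exact this
  have hσne : σ ≠ RingEquiv.refl F := by
    intro h
    have h1 : σ = 1 := h
    rw [h1, orderOf_one] at hev
    exact absurd hev (by decide)
  have hσq : σ = sigmaQ hF :=
    involution_unique σ (sigmaQ hF) hσne (sigmaQ_ne_refl hF) hσ2 (sigmaQ_sigmaQ hF)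
  subst hσq
  refine ⟨g, hgGU, rfl, ?_⟩
  rw [hσσ, fieldAutPSU_refl, mul_one, PhiU_eq_one_iff hF hn h32, Cfsg.Geo.mem_scalars_iff] at hsq
  obtain ⟨lam, hlam⟩ := hsq
  set G : Matrix (Fin n) (Fin n) F := ((g.1 : GL (Fin n) F) : Matrix (Fin n) (Fin n) F) with hG
  have h1 : G * G.map (sigmaQ hF) = (lam : F) • (1 : Matrix (Fin n) (Fin n) F) := by
    rw [← hlam]
    rfl
  have h3 : Gᵀ * G.map (sigmaQ hF) = 1 :=
    matrix_of_mem_GU (sigmaQ hF) (sigmaQ_apply hF) g.1 hgGU
  have h4 : G.map (sigmaQ hF) * Gᵀ = 1 := _root_.mul_eq_one_comm.1 h3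
  have h5 : G = (lam : F) • Gᵀ := by
    calc G = G * (G.map (sigmaQ hF) * Gᵀ) := by rw [h4, Matrix.mul_one]
      _ = (G * G.map (sigmaQ hF)) * Gᵀ := by rw [Matrix.mul_assoc]
      _ = _ := by rw [h1, Matrix.smul_mul, Matrix.one_mul]
  have h6 : Gᵀ = (lam : F) • G := by
    have := congrArg Matrix.transpose h5
    rw [Matrix.transpose_smul, Matrix.transpose_transpose] at this
    exact this
  have h7 : ((lam : F) * lam - 1) • G = 0 := by
    rw [sub_smul, one_smul, mul_smul, ← h6, ← h5, sub_self]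
  have hGinv : G * (((g.1)⁻¹ : GL (Fin n) F) : Matrix (Fin n) (Fin n) F) = 1 := coe_mul_inv g.1
  have h8 : (lam : F) * lam - 1 = 0 := by
    have := congrArg (fun M => M * (((g.1)⁻¹ : GL (Fin n) F) : Matrix (Fin n) (Fin n) F)) h7
    simp only [Matrix.smul_mul, hGinv, Matrix.zero_mul] at this
    have := congrFun (congrFun this ⟨0, by omega⟩) ⟨0, by omega⟩
    simpa using this
  have h9 : ((lam : F) - 1) * ((lam : F) + 1) = 0 := by linear_combination h8
  rcases mul_eq_zero.1 h9 with h | h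
  · left
    have : (lam : F) = 1 := by linear_combination h
    rw [h6, this, one_smul]
  · right
    have : (lam : F) = -1 := by linear_combination h
    rw [h6, this, neg_smul, one_smul]

end Graph

end Cfsg.Agent.Helper5.PSUGr
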