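import Mathlib
import Cfsg.Agent.Lib.Helper5.PSUGr3
import Cfsg.Agent.S0755

/-!
# Galois descent for an involution: Hilbert 90 for matrices, Gram matrices of hermitian forms
-/

set_option autoImplicit false
set_option linter.unusedSectionVars false
set_option linter.unusedSimpArgs false

namespace Cfsg.Agent.Helper5.PSUGr

open Matrix Cfsg.Agent.Helper13.PSLAut Cfsg.Agent.Helper5 Cfsg.Agent.Helper5.PSUAut

section H90

variable {F : Type*} [Field F] [Finite F] {n : ℕ}

/-- Hilbert 90 for `GL_n` and an involution `σ` of a finite field: `A σ(A) = 1` gives an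
invertible `D` with `A σ(D) = D`. -/
theorem exists_fixed_basis (σ : F ≃+* F) (hσ2 : ∀ a, σ (σ a) = a) (hne : ∃ e, σ e ≠ e)
    (A : Matrix (Fin n) (Fin n) F) (hA : A * A.map σ = 1) :
    ∃ D : Matrix (Fin n) (Fin n) F, D.det ≠ 0 ∧ A * D.map σ = D := by
  classical
  obtain ⟨e, he⟩ := hne
  set T : (Fin n → F) → (Fin n → F) := fun v => A *ᵥ (σ ∘ v) with hT
  have hTT : ∀ v, T (T v) = v := by
    intro v
    show A *ᵥ (σ ∘ (A *ᵥ (σ ∘ v))) = v
    rw [← map_mulVec_comp σ A (σ ∘ v), Matrix.mulVec_mulVec, hA]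
    have : σ ∘ (σ ∘ v) = v := by
      ext i; exact hσ2 (v i)
    rw [this, Matrix.one_mulVec]
  have hTadd : ∀ v w, T (v + w) = T v + T w := by
    intro v w
    show A *ᵥ (σ ∘ (v + w)) = A *ᵥ (σ ∘ v) + A *ᵥ (σ ∘ w)
    rw [← Matrix.mulVec_add]
    congr 1
    ext i
    simp
  have hTsmul : ∀ (c : F) v, T (c • v) = σ c • T v := by
    intro c v
    show A *ᵥ (σ ∘ (c • v)) = σ c • A *ᵥ (σ ∘ v)
    rw [← Matrix.mulVec_smul]
    congr 1
    ext i
    simp
  set s : Set (Fin n → F) := {v | T v = v} with hs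
  have htr : ∀ w, w + T w ∈ s := by
    intro w
    show T (w + T w) = w + T w
    rw [hTadd, hTT, add_comm]
  have hspan : Submodule.span F s = ⊤ := by
    rw [eq_top_iff]
    intro v _
    have hd : e - σ e ≠ 0 := fun h => he (sub_eq_zero.1 h).symm
    have hv : v = (e - σ e)⁻¹ • ((e • v + T (e • v)) - σ e • (v + T v)) := by
      rw [hTsmul, smul_add, add_sub_add_right_eq_sub, ← sub_smul, smul_smul,
        inv_mul_cancel₀ hd, one_smul]
    rw [hv]
    apply Submodule.smul_mem
    apply Submodule.sub_mem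
    · exact Submodule.subset_span (htr _)
    · exact Submodule.smul_mem _ _ (Submodule.subset_span (htr _))
  obtain ⟨b, hbs, hbspan, hli⟩ := exists_linearIndependent F s
  have hb_top : ⊤ ≤ Submodule.span F (Set.range (Subtype.val : b → (Fin n → F))) := by
    rw [Subtype.range_coe, hbspan, hspan]
  let B := Module.Basis.mk hli hb_top
  have : Fintype F := Fintype.ofFinite F
  have : Fintype b := Fintype.ofFinite b
  have hcard : Fintype.card b = n := by
    rw [← Module.finrank_eq_card_basis B, Module.finrank_fin_fun]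
  let eq : Fin n ≃ b := Fintype.equivOfCardEq (by rw [hcard, Fintype.card_fin])
  set D : Matrix (Fin n) (Fin n) F := Matrix.of fun i j => (eq j).val i with hD
  have hcol : D.col = fun j => (eq j).val := by
    ext j i
    rfl
  have hliD : LinearIndependent F D.col := by
    rw [hcol]
    exact hli.comp eq eq.injective
  have hunit : IsUnit D := Matrix.linearIndependent_cols_iff_isUnit.1 hliD
  refine ⟨D, ?_, ?_⟩
  · have := (Matrix.isUnit_iff_isUnit_det D).1 hunit
    exact this.ne_zero
  · ext i j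
    have hj : T (eq j).val = (eq j).val := hbs (eq j).2
    have := congrFun hj i
    rw [hD]
    simp only [Matrix.mul_apply, Matrix.map_apply, Matrix.of_apply]
    rw [← this]
    simp only [hT, Matrix.mulVec, dotProduct, Function.comp]

end H90

section Gram

variable {F : Type*} [Field F] [Finite F] {n : ℕ}

/-- the sesquilinear form `B u v = v ⬝ S σ(u)` -/
noncomputable def sesq (σ : F →+* F) (S : Matrix (Fin n) (Fin n) F) :
    (Fin n → F) →ₛₗ[σ] (Fin n → F) →ₗ[F] F :=
  LinearMap.mk₂'ₛₗ σ (RingHom.id F) (fun u v => v ⬝ᵥ (S *ᵥ (σ ∘ u)))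
    (fun u u' v => by
      have : (σ ∘ (u + u')) = σ ∘ u + σ ∘ u' := by ext i; simp
      rw [this, Matrix.mulVec_add, dotProduct_add])
    (fun c u v => by
      have : (σ ∘ (c • u)) = σ c • (σ ∘ u) := by ext i; simp
      rw [this, Matrix.mulVec_smul, dotProduct_smul])
    (fun u v v' => by rw [add_dotProduct])
    (fun c u v => by rw [smul_dotProduct]; rfl)

theorem sesq_apply (σ : F →+* F) (S : Matrix (Fin n) (Fin n) F) (u v : Fin n → F) :
    sesq σ S u v = v ⬝ᵥ (S *ᵥ (σ ∘ u)) := rfl

/-- every invertible hermitian matrix over a finite field is `Dᵀ σ(D)` -/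
theorem exists_gram (σ : F ≃+* F) (hσ2 : ∀ a, σ (σ a) = a) (hne : ∃ e, σ e ≠ e)
    (S : Matrix (Fin n) (Fin n) F) (hS : S.map σ = Sᵀ) (hdet : S.det ≠ 0) :
    ∃ D : Matrix (Fin n) (Fin n) F, D.det ≠ 0 ∧ Dᵀ * D.map σ = S := by
  classical
  set σ' : F →+* F := (σ : F →+* F) with hσ'
  have hσ'ne : σ' ≠ RingHom.id F := by
    obtain ⟨e, he⟩ := hne
    intro h
    apply he
    have := congrArg (fun f : F →+* F => f e) h
    exact this
  have hσ'2 : ∀ a, σ' (σ' a) = a := hσ2
  have hSent : ∀ i j, σ (S i j) = S j i := by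
    intro i j
    have := congrFun (congrFun hS i) j
    rw [Matrix.map_apply, Matrix.transpose_apply] at this
    exact this
  have hsymm : (sesq σ' S).IsSymm := by
    refine ⟨fun u v => ?_⟩
    rw [sesq_apply, sesq_apply]
    simp only [dotProduct, Matrix.mulVec, Function.comp, map_sum, map_mul, RingHom.id_apply]
    have h1 : ∀ x, σ' (σ' x) = x := hσ'2
    simp only [h1]
    have h2 : ∀ i j, σ' (S i j) = S j i := hSent
    simp only [h2]
    simp only [Finset.mul_sum]
    rw [Finset.sum_comm]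
    apply Finset.sum_congr rfl
    intro j _
    apply Finset.sum_congr rfl
    intro i _
    ring
  have hunitS : IsUnit S.det := isUnit_iff_ne_zero.2 hdet
  have hleft : ∀ u, (∀ v, sesq σ' S u v = 0) → u = 0 := by
    intro u hu
    have h1 : S *ᵥ (σ' ∘ u) = 0 := by
      ext i
      have := hu (Pi.single i 1)
      rw [sesq_apply, single_one_dotProduct] at this
      exact this
    have h2 : σ' ∘ u = 0 := by
      have := congrArg (fun w => S⁻¹ *ᵥ w) h1
      simp only [Matrix.mulVec_mulVec, Matrix.nonsing_inv_mul S hunitS, Matrix.one_mulVec,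
        Matrix.mulVec_zero] at this
      exact this
    ext i
    have := congrFun h2 i
    simp only [Function.comp, Pi.zero_apply] at this
    exact (map_eq_zero σ').1 this
  have hnd : (sesq σ' S).Nondegenerate := by
    refine ⟨hleft, ?_⟩
    intro v hv
    apply hleft
    intro u
    rw [← hsymm.eq u v, hv u, map_zero]
  obtain ⟨b, hb⟩ := Cfsg.Agent.S0755.main σ' hσ'ne hσ'2 (sesq σ' S) hsymm hnd
  have hfr : Module.finrank F (Fin n → F) = n := Module.finrank_fin_fun F
  set c : Fin n → (Fin n → F) := fun i => b (Fin.cast hfr.symm i) with hc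
  have hcc : ∀ i j, sesq σ' S (c i) (c j) = if i = j then 1 else 0 := by
    intro i j
    rw [hc]
    simp only
    rw [hb]
    simp only [Fin.cast_inj]
  set E : Matrix (Fin n) (Fin n) F := Matrix.of fun k i => c i k with hE
  have hprod : Eᵀ * S * E.map σ = 1 := by
    ext i j
    have := hcc j i
    rw [sesq_apply] at this
    rw [Matrix.one_apply]
    have e2 : (Eᵀ * S * E.map σ) i j = c i ⬝ᵥ (S *ᵥ (σ' ∘ c j)) := by
      simp only [Matrix.mul_apply, dotProduct, Matrix.mulVec, hE, Matrix.transpose_apply,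
        Matrix.of_apply, Matrix.map_apply, Function.comp, Finset.sum_mul, Finset.mul_sum]
      rw [Finset.sum_comm]
      apply Finset.sum_congr rfl
      intro k _
      apply Finset.sum_congr rfl
      intro l _
      rw [mul_assoc]
      rfl
    rw [e2, this]
    by_cases hij : i = j
    · subst hij; simp
    · rw [if_neg hij, if_neg (Ne.symm hij)]
  have hXdet : IsUnit (Eᵀ).det := by
    rw [Matrix.mul_assoc] at hprod
    exact isUnit_iff_ne_zero.2 (Matrix.det_ne_zero_of_right_inverse hprod)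
  have hEdet : IsUnit E.det := by rwa [Matrix.det_transpose] at hXdet
  have hYZ : E.map σ * (E⁻¹).map σ = 1 := by
    have h1 : (E * E⁻¹).map σ = E.map σ * (E⁻¹).map σ := Matrix.map_mul (f := (σ : F →+* F))
    rw [← h1, Matrix.mul_nonsing_inv E hEdet]
    ext i j
    simp [Matrix.one_apply]
  refine ⟨E⁻¹, ?_, ?_⟩
  · rw [Matrix.det_nonsing_inv, Ring.inverse_eq_inv']
    exact inv_ne_zero hEdet.ne_zero
  · rw [Matrix.transpose_nonsing_inv]
    calc (Eᵀ)⁻¹ * (E⁻¹).map σ
        = (Eᵀ)⁻¹ * (Eᵀ * S * E.map σ) * (E⁻¹).map σ := by rw [hprod, Matrix.mul_one]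
      _ = ((Eᵀ)⁻¹ * Eᵀ) * S * (E.map σ * (E⁻¹).map σ) := by simp only [Matrix.mul_assoc]
      _ = S := by rw [Matrix.nonsing_inv_mul _ hXdet, hYZ, Matrix.one_mul, Matrix.mul_one]

end Gram

end Cfsg.Agent.Helper5.PSUGr
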