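import Mathlib
import Cfsg.Agent.Lib.Helper5.PSUGr4

/-!
# The automorphisms `gamU a = PhiU a * φ_q` of `PSU_n(q)`
-/

set_option autoImplicit false
set_option linter.unusedSectionVars false
set_option linter.unusedSimpArgs false

namespace Cfsg.Agent.Helper5.PSUGr

open Matrix Cfsg.Agent.Helper13.PSLAut Cfsg.Agent.Helper5 Cfsg.Agent.Helper5.PSUAut

variable {F : Type*} [Field F] [Fintype F] {n q : ℕ} (hF : Fintype.card F = q ^ 2)

section Descent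

variable {F₀ : Type*} [Field F₀] [Fintype F₀] (hF₀ : Fintype.card F₀ = q) (ι₀ : F₀ →+* F)

include hF₀ in
/-- a matrix which is multiplied by a scalar under the `q`-power map is a scalar multiple of a matrix
over the field with `q` elements -/
theorem exists_descent (K : Matrix (Fin n) (Fin n) F) (ν : F)
    (hK : K.map (sigmaQ hF) = ν • K) (hK0 : K ≠ 0) :
    ∃ (μ : F) (H : Matrix (Fin n) (Fin n) F₀), μ ≠ 0 ∧ H.map ι₀ = μ • K := by
  have hq := two_le_q hF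
  have hent : ∀ i j, sigmaQ hF (K i j) = ν * K i j := by
    intro i j
    have := congrFun (congrFun hK i) j
    rw [Matrix.map_apply, Matrix.smul_apply, smul_eq_mul] at this
    exact this
  obtain ⟨i, j, hij⟩ : ∃ i j, K i j ≠ 0 := by
    by_contra hcon
    push Not at hcon
    apply hK0
    ext i j
    exact hcon i j
  have hνν : ν * sigmaQ hF ν = 1 := by
    have h1 := congrArg (sigmaQ hF) (hent i j)
    rw [sigmaQ_sigmaQ, map_mul, hent] at h1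
    have h2 : (ν * sigmaQ hF ν - 1) * K i j = 0 := by linear_combination -h1
    rcases mul_eq_zero.1 h2 with h | h
    · linear_combination h
    · exact absurd h hij
  have hν0 : ν ≠ 0 := by
    rintro rfl
    rw [zero_mul] at hνν
    exact zero_ne_one hνν
  have hνq : ν ^ (q + 1) = 1 := by
    rw [pow_succ', ← sigmaQ_apply hF]; exact hνν
  obtain ⟨μ₀, hμ₀0, hμ₀⟩ := exists_pow_sub_one hF ν hνq
  have hμ₀q : μ₀ ^ q = ν * μ₀ := by
    rw [← hμ₀, ← pow_succ]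
    congr 1
    omega
  have hfix : ∀ i j, (μ₀⁻¹ * K i j) ^ q = μ₀⁻¹ * K i j := by
    intro i j
    rw [mul_pow, ← sigmaQ_apply hF (K i j), hent, inv_pow, hμ₀q]
    field_simp
  choose H₀ hH₀ using fun i j => exists_of_pow_q_eq hF hF₀ ι₀ (μ₀⁻¹ * K i j) (hfix i j)
  refine ⟨μ₀⁻¹, Matrix.of H₀, inv_ne_zero hμ₀0, ?_⟩
  ext i j
  rw [Matrix.map_apply, Matrix.of_apply, hH₀, Matrix.smul_apply, smul_eq_mul]

end Descent

section Scalar

open Cfsg.Agent.Helper13 in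
include hF in
/-- every similarity of the hermitian form is a scalar multiple of a unitary matrix -/
theorem exists_scalar_mem_GU (hn : 0 < n) (a : ↥(CU n F q)) :
    ∃ κ : Fˣ, a.1 * scGL n κ ∈ Cfsg.GU n F q := by
  obtain ⟨c, hc⟩ := a.2
  set e0 : Fin n → F := Pi.single ⟨0, hn⟩ 1 with he0
  have h1 : Cfsg.hermForm n F q e0 e0 = 1 := by
    rw [he0, hermForm_single_left']
    simp
  have hcq : (c : F) ^ q = c := by
    have h2 := hc e0 e0
    rw [h1, mul_one] at h2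
    rw [← h2, hermForm_conj hF]
  have hc0 : (c : F) ≠ 0 := c.ne_zero
  have hcq' : ((c : F)⁻¹) ^ q = (c : F)⁻¹ := by rw [inv_pow, hcq]
  obtain ⟨κ, hκ0, hκ⟩ := exists_pow_add_one hF _ (inv_ne_zero hc0) hcq'
  refine ⟨Units.mk0 κ hκ0, ?_⟩
  rw [mem_GU_iff]
  intro u v
  rw [mul_scGL_coe, Units.val_mk0, Matrix.smul_mulVec, Matrix.smul_mulVec, hermForm_smul_left,
    hermForm_smul_right, hc]
  have : κ * κ ^ q = (c : F)⁻¹ := by rw [← pow_succ', hκ]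
  calc κ * (κ ^ q * ((c : F) * Cfsg.hermForm n F q u v))
      = (κ * κ ^ q) * (c : F) * Cfsg.hermForm n F q u v := by ring
    _ = _ := by rw [this, inv_mul_cancel₀ hc0, one_mul]

include hF in
theorem exists_GU_PhiU_eq (hn : 3 ≤ n) (h32 : ¬ (n = 3 ∧ q = 2)) (a : ↥(CU n F q)) :
    ∃ g : ↥(CU n F q), g.1 ∈ Cfsg.GU n F q ∧ PhiU a = PhiU g := by
  obtain ⟨κ, hκ⟩ := exists_scalar_mem_GU hF (by omega) a
  refine ⟨⟨a.1 * scGL n κ, GU_le_CU hκ⟩, hκ, ?_⟩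
  rw [PhiU_eq_iff hF hn h32]
  show (a.1)⁻¹ * (a.1 * scGL n κ) ∈ _
  rw [inv_mul_cancel_left]
  exact scGL_mem κ

include hF in
theorem PhiU_mem_inndiag (hn : 3 ≤ n) (h32 : ¬ (n = 3 ∧ q = 2)) (a : ↥(CU n F q)) :
    PhiU a ∈ Cfsg.inndiagPSU n F q :=
  (mem_inndiagPSU_iff _).2 (exists_GU_PhiU_eq hF hn h32 a)

include hF in
theorem isInnerDiagonal_PhiU (hn : 3 ≤ n) (h32 : ¬ (n = 3 ∧ q = 2)) (a : ↥(CU n F q)) :
    Cfsg.IsInnerDiagonalAutPSU (PhiU a) :=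
  (PSUAut.innerDiagonal_iff _).2 (exists_GU_PhiU_eq hF hn h32 a)

end Scalar

section GamU

/-- the automorphism `PhiU a * φ_q` -/
noncomputable def gamU (a : ↥(CU n F q)) : MulAut (Cfsg.PSU n F q) :=
  PhiU a * fieldAutPSU (sigmaQ hF)

theorem sigmaQ_trans : (sigmaQ hF).trans (sigmaQ hF) = RingEquiv.refl F := by
  apply RingEquiv.ext
  intro a
  exact sigmaQ_sigmaQ hF a

theorem conj_gamU (h a : ↥(CU n F q)) :
    PhiU h * gamU hF a * (PhiU h)⁻¹ = gamU hF (h * a * (sigmaCU (sigmaQ hF) h)⁻¹) := by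
  unfold gamU
  rw [← map_inv]
  calc PhiU h * (PhiU a * fieldAutPSU (sigmaQ hF)) * PhiU h⁻¹
      = PhiU h * PhiU a * (fieldAutPSU (sigmaQ hF) * PhiU h⁻¹) := by group
    _ = PhiU h * PhiU a * (PhiU (sigmaCU (sigmaQ hF) h⁻¹) * fieldAutPSU (sigmaQ hF)) := by
        rw [fieldAutPSU_mul_PhiU]
    _ = (PhiU h * PhiU a * PhiU (sigmaCU (sigmaQ hF) h⁻¹)) * fieldAutPSU (sigmaQ hF) := by group
    _ = _ := by rw [← map_mul, ← map_mul, map_inv]

include hF in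
theorem gamU_eq_iff (hn : 3 ≤ n) (h32 : ¬ (n = 3 ∧ q = 2)) (a b : ↥(CU n F q)) :
    gamU hF a = gamU hF b ↔ (a.1)⁻¹ * b.1 ∈ Cfsg.Geo.scalars (Fin n) F := by
  unfold gamU
  rw [mul_left_inj, PhiU_eq_iff hF hn h32]

theorem sigmaQ_sq : (sigmaQ hF) ^ 2 = 1 := by
  apply RingEquiv.ext
  intro a
  rw [sq]
  exact sigmaQ_sigmaQ hF a

theorem orderOf_sigmaQ : orderOf (sigmaQ hF) = 2 :=
  orderOf_eq_prime (sigmaQ_sq hF) (sigmaQ_ne_refl hF)

include hF in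
theorem isGraph_gamU (hn : 3 ≤ n) (h32 : ¬ (n = 3 ∧ q = 2)) (a : ↥(CU n F q)) :
    Cfsg.IsGraphAutClassPSU (gamU hF a) :=
  ⟨hn, PhiU a, fieldAutPSU (sigmaQ hF), sigmaQ hF, by rw [orderOf_sigmaQ]; exact even_two,
    isInnerDiagonal_PhiU hF hn h32 a, isFieldAut_fieldAutPSU _, rfl⟩

theorem gamU_mul_self (a : ↥(CU n F q)) :
    gamU hF a * gamU hF a = PhiU (a * sigmaCU (sigmaQ hF) a) := by
  unfold gamU
  rw [gam_sq, sigmaQ_trans, fieldAutPSU_refl, mul_one]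

include hF in
theorem gamU_ne_one (hn : 3 ≤ n) (h32 : ¬ (n = 3 ∧ q = 2)) (a : ↥(CU n F q)) :
    gamU hF a ≠ 1 := by
  intro h
  unfold gamU at h
  have h1 : fieldAutPSU (n := n) (q := q) (sigmaQ hF) = PhiU a⁻¹ := by
    rw [map_inv]
    exact eq_inv_of_mul_eq_one_right h
  exact sigmaQ_ne_refl hF (refl_of_fieldAut_eq_PhiU hF hn h32 _ _ h1)

include hF in
theorem orderOf_gamU (hn : 3 ≤ n) (h32 : ¬ (n = 3 ∧ q = 2)) (a : ↥(CU n F q))
    (ha : a.1 * (sigmaCU (sigmaQ hF) a).1 ∈ Cfsg.Geo.scalars (Fin n) F) :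
    orderOf (gamU hF a) = 2 := by
  apply orderOf_eq_prime
  · rw [sq, gamU_mul_self, PhiU_eq_one_iff hF hn h32]
    exact ha
  · exact gamU_ne_one hF hn h32 a

include hF in
theorem mem_centralizer_gamU_iff (hn : 3 ≤ n) (h32 : ¬ (n = 3 ∧ q = 2)) (a g : ↥(CU n F q)) :
    PhiU g ∈ Subgroup.centralizer {gamU hF a} ↔
      (a.1 * (sigmaCU (sigmaQ hF) g).1)⁻¹ * (g.1 * a.1) ∈ Cfsg.Geo.scalars (Fin n) F := by
  rw [Subgroup.mem_centralizer_iff]
  have h1 : (∀ h ∈ ({gamU hF a} : Set (MulAut (Cfsg.PSU n F q))), h * PhiU g = PhiU g * h) ↔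
      gamU hF a * PhiU g = PhiU g * gamU hF a := by
    constructor
    · intro h; exact h _ rfl
    · intro h k hk; rw [Set.mem_singleton_iff.1 hk]; exact h
  rw [h1]
  unfold gamU
  have e1 : PhiU a * fieldAutPSU (sigmaQ hF) * PhiU g =
      PhiU (a * sigmaCU (sigmaQ hF) g) * fieldAutPSU (sigmaQ hF) := by
    rw [mul_assoc, fieldAutPSU_mul_PhiU, ← mul_assoc, ← map_mul]
  have e2 : PhiU g * (PhiU a * fieldAutPSU (sigmaQ hF)) =
      PhiU (g * a) * fieldAutPSU (sigmaQ hF) := by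
    rw [← mul_assoc, ← map_mul]
  rw [e1, e2, mul_left_inj, PhiU_eq_iff hF hn h32]
  rfl

end GamU

end Cfsg.Agent.Helper5.PSUGr
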