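import Mathlib
import Cfsg.Agent.Lib.Helper5.PSUGr5

/-!
# Twisting data `Dᵀ σ(D) = η S₀` and the algebra of `aOf D = D σ(D)⁻¹`
-/

set_option autoImplicit false
set_option linter.unusedSectionVars false
set_option linter.unusedSimpArgs false

namespace Cfsg.Agent.Helper5.PSUGr

open Matrix Cfsg.Agent.Helper13.PSLAut Cfsg.Agent.Helper5 Cfsg.Agent.Helper5.PSUAut

variable {F : Type*} [Field F] [Fintype F] {n q : ℕ} (hF : Fintype.card F = q ^ 2)

/-- the `q`-power map entrywise on `GL` -/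
noncomputable abbrev sG : GL (Fin n) F →* GL (Fin n) F :=
  Matrix.GeneralLinearGroup.map (n := Fin n) (sigmaQ hF).toRingHom

theorem sG_coe (g : GL (Fin n) F) :
    ((sG hF g : GL (Fin n) F) : Matrix (Fin n) (Fin n) F) =
      (g : Matrix (Fin n) (Fin n) F).map (sigmaQ hF) := rfl

theorem sigmaCU_val' (g : ↥(CU n F q)) :
    ((sigmaCU (sigmaQ hF) g : ↥(CU n F q)) : GL (Fin n) F) = sG hF g.1 := rfl

theorem map_map_sigmaQ (M : Matrix (Fin n) (Fin n) F) :
    (M.map (sigmaQ hF)).map (sigmaQ hF) = M := by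
  ext i j
  simp only [Matrix.map_apply, sigmaQ_sigmaQ]

theorem sG_sG (g : GL (Fin n) F) : sG hF (sG hF g) = g := by
  apply Units.ext
  rw [sG_coe, sG_coe, map_map_sigmaQ]

/-- `aOf D = D σ(D)⁻¹` -/
noncomputable def aOf (D : GL (Fin n) F) : GL (Fin n) F := D * (sG hF D)⁻¹

theorem aOf_mul_left (A X : GL (Fin n) F) :
    aOf hF (A * X) = A * aOf hF X * (sG hF A)⁻¹ := by
  unfold aOf
  rw [map_mul, _root_.mul_inv_rev]
  group

theorem scGL_comm (g : GL (Fin n) F) (μ : Fˣ) : scGL n μ * g = g * scGL n μ := by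
  apply Units.ext
  rw [Units.val_mul, Units.val_mul, scGL_coe, Matrix.smul_mul, Matrix.one_mul, Matrix.mul_smul,
    Matrix.mul_one]

theorem sG_scGL (μ : Fˣ) :
    sG hF (scGL n μ) = scGL n (Units.map (sigmaQ hF).toRingHom.toMonoidHom μ) := by
  apply Units.ext
  rw [sG_coe, scGL_coe, scGL_coe]
  ext i j
  simp only [Matrix.map_apply, Matrix.smul_apply, Matrix.one_apply, smul_eq_mul, map_mul]
  split_ifs <;> simp

theorem aOf_mul_scalar (X : GL (Fin n) F) (μ : Fˣ) :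
    ∃ ν : Fˣ, aOf hF (X * scGL n μ) = aOf hF X * scGL n ν := by
  refine ⟨μ * (Units.map (sigmaQ hF).toRingHom.toMonoidHom μ)⁻¹, ?_⟩
  unfold aOf
  rw [map_mul, sG_scGL, _root_.mul_inv_rev]
  have h1 : scGL n (μ * (Units.map (sigmaQ hF).toRingHom.toMonoidHom μ)⁻¹) =
      scGL n μ * (scGL n (Units.map (sigmaQ hF).toRingHom.toMonoidHom μ))⁻¹ := by
    unfold scGL
    rw [map_mul, map_inv]
  rw [h1]
  have c1 := scGL_comm (sG hF X)⁻¹ μ
  have c2 := scGL_comm (sG hF X) (Units.map (sigmaQ hF).toRingHom.toMonoidHom μ)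
  have c3 : (scGL n (Units.map (sigmaQ hF).toRingHom.toMonoidHom μ))⁻¹ * (sG hF X)⁻¹ =
      (sG hF X)⁻¹ * (scGL n (Units.map (sigmaQ hF).toRingHom.toMonoidHom μ))⁻¹ := by
    rw [← _root_.mul_inv_rev, ← _root_.mul_inv_rev, c2]
  calc X * scGL n μ * ((scGL n (Units.map (sigmaQ hF).toRingHom.toMonoidHom μ))⁻¹ * (sG hF X)⁻¹)
      = X * (scGL n μ * (sG hF X)⁻¹) *
          (scGL n (Units.map (sigmaQ hF).toRingHom.toMonoidHom μ))⁻¹ := by
        rw [c3]; group
    _ = X * ((sG hF X)⁻¹ * scGL n μ) *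
          (scGL n (Units.map (sigmaQ hF).toRingHom.toMonoidHom μ))⁻¹ := by rw [c1]
    _ = _ := by group

section Emb

variable {F₀ : Type*} [Field F₀] [Fintype F₀] (hF₀ : Fintype.card F₀ = q) (ι₀ : F₀ →+* F)

include hF₀ in
theorem sG_emb (k : GL (Fin n) F₀) :
    sG hF (Matrix.GeneralLinearGroup.map ι₀ k) = Matrix.GeneralLinearGroup.map ι₀ k := by
  apply Units.ext
  rw [sG_coe, emb_coe]
  exact map_sigma_map hF₀ ι₀ (sigmaQ hF) (sigmaQ_apply hF) _

include hF₀ in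
theorem aOf_mul_emb (X : GL (Fin n) F) (k : GL (Fin n) F₀) :
    aOf hF (X * Matrix.GeneralLinearGroup.map ι₀ k) = aOf hF X := by
  unfold aOf
  rw [map_mul, sG_emb hF hF₀ ι₀]
  group

theorem emb_mem_scalars_iff (hn : 0 < n) (k : GL (Fin n) F₀) :
    Matrix.GeneralLinearGroup.map ι₀ k ∈ Cfsg.Geo.scalars (Fin n) F ↔
      k ∈ Cfsg.Geo.scalars (Fin n) F₀ := by
  rw [Cfsg.Geo.mem_scalars_iff, Cfsg.Geo.mem_scalars_iff]
  constructor
  · rintro ⟨lam, hlam⟩
    have hent : ∀ i j, ι₀ ((k : Matrix (Fin n) (Fin n) F₀) i j) =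
        if i = j then (lam : F) else 0 := by
      intro i j
      have h1 := congrFun (congrFun hlam i) j
      rw [emb_coe, Matrix.map_apply, Matrix.smul_apply, Matrix.one_apply, smul_eq_mul] at h1
      rw [h1]
      split_ifs <;> simp
    set c₀ : F₀ := (k : Matrix (Fin n) (Fin n) F₀) ⟨0, hn⟩ ⟨0, hn⟩ with hc₀def
    have hc₀ : ι₀ c₀ = lam := by rw [hc₀def, hent]; simp
    have hc₀0 : c₀ ≠ 0 := by
      intro h0
      rw [h0, map_zero] at hc₀
      exact lam.ne_zero hc₀.symm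
    refine ⟨Units.mk0 c₀ hc₀0, ?_⟩
    apply map_injective_matrix ι₀
    rw [map_smul_one, Units.val_mk0, hc₀]
    ext i j
    rw [Matrix.map_apply, hent, Matrix.smul_apply, Matrix.one_apply, smul_eq_mul]
    split_ifs <;> simp
  · rintro ⟨c, hc⟩
    refine ⟨Units.map ι₀.toMonoidHom c, ?_⟩
    rw [emb_coe, hc, map_smul_one]
    rfl

/-- a scalar relating two matrices over `F₀` inside `F` lies in `F₀` -/
theorem scalar_descends (M S : Matrix (Fin n) (Fin n) F₀) (t : F) (ht : t ≠ 0) (hS : S ≠ 0)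
    (h : M.map ι₀ = t • S.map ι₀) : ∃ r : F₀, r ≠ 0 ∧ M = r • S := by
  obtain ⟨i, j, hij⟩ : ∃ i j, S i j ≠ 0 := by
    by_contra hcon
    push Not at hcon
    apply hS
    ext i j
    exact hcon i j
  have hent : ∀ a b, ι₀ (M a b) = t * ι₀ (S a b) := by
    intro a b
    have := congrFun (congrFun h a) b
    rw [Matrix.map_apply, Matrix.smul_apply, Matrix.map_apply, smul_eq_mul] at this
    exact this
  have hιS : ι₀ (S i j) ≠ 0 := by rw [map_ne_zero]; exact hij
  have ht' : t = ι₀ (M i j / S i j) := by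
    rw [map_div₀, hent i j]
    field_simp
  refine ⟨M i j / S i j, ?_, ?_⟩
  · intro h0
    rw [h0, map_zero] at ht'
    exact ht ht'
  · apply map_injective_matrix ι₀
    rw [h, ht']
    ext a b
    simp only [Matrix.map_apply, Matrix.smul_apply, smul_eq_mul, map_mul]

end Emb

end Cfsg.Agent.Helper5.PSUGr
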