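import Mathlib
import Cfsg.Agent.Lib.Helper40.OPFTOR
import Cfsg.Agent.Lib.Lead.POmegaCard

/-!
# S2608 project (helper87), piece (X4): the standard field automorphisms centralise the diagonal
automorphism `diag(ν,…,ν,1,…,1)` of `PΩ⁺_{2m}(F)` modulo inner automorphisms, `m` even
-/

set_option autoImplicit false
set_option linter.unusedSectionVars false
set_option linter.unusedVariables false
set_option linter.unusedSimpArgs false

namespace Cfsg.Agent.Helper5.OP8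

open Matrix QuadraticMap Cfsg.Agent.Helper5.OrthAut Cfsg.Agent.Helper40.AutPOm
  Cfsg.Agent.Helper40.OrthEven Cfsg.Agent.Helper43 Cfsg.Agent.Helper40.OPF

variable {F : Type*} [Field F] [Fintype F]

/-- a field automorphism of a finite field moves every unit inside its square class -/
theorem h5_isSquare_sigma_div (σ : F ≃+* F) (ν : Fˣ) :
    IsSquare ((σ (ν : F)) * (ν : F)⁻¹) := by
  classical
  by_cases hν : IsSquare (ν : F)
  · obtain ⟨a, ha⟩ := hν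
    refine ⟨σ a * a⁻¹, ?_⟩
    rw [ha, map_mul, mul_inv]
    ring
  · -- both `ν` and `σ ν` are non-squares
    have hσν : ¬ IsSquare (σ (ν : F)) := by
      rintro ⟨b, hb⟩
      apply hν
      refine ⟨σ.symm b, ?_⟩
      rw [← map_mul, ← hb, RingEquiv.symm_apply_apply]
    have hchar : ringChar F ≠ 2 := by
      intro h
      exact hν (FiniteField.isSquare_of_char_two h _)
    have hν0 : (ν : F) ≠ 0 := ν.ne_zero
    have hσν0 : σ (ν : F) ≠ 0 := by
      rw [Ne, map_eq_zero_iff σ σ.injective]; exact hν0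
    have h1 := (FiniteField.isSquare_iff hchar hν0).not.1 hν
    have h2 := (FiniteField.isSquare_iff hchar hσν0).not.1 hσν
    have h1' := (FiniteField.pow_dichotomy hchar hν0).resolve_left h1
    have h2' := (FiniteField.pow_dichotomy hchar hσν0).resolve_left h2
    have hne : σ (ν : F) * (ν : F)⁻¹ ≠ 0 := mul_ne_zero hσν0 (inv_ne_zero hν0)
    rw [FiniteField.isSquare_iff hchar hne, mul_pow, inv_pow, h1', h2']
    norm_num

theorem field_comm_delta (hodd : Odd (Fintype.card F)) {m : ℕ} (hm : 3 ≤ m) (hev : Even m)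
    (σ : ↥(QAut ⇑(stdPlus F m))) (ν : Fˣ) :
    fieldAutPOm ⇑(stdPlus F m) σ * PhiGO ⇑(stdPlus F m) ⟨deltaPlus m ν, deltaPlus_mem m ν⟩ *
        (fieldAutPOm ⇑(stdPlus F m) σ)⁻¹ *
        (PhiGO ⇑(stdPlus F m) ⟨deltaPlus m ν, deltaPlus_mem m ν⟩)⁻¹ ∈
      Cfsg.Inn (Cfsg.POmega F ⇑(stdPlus F m)) := by
  classical
  have h2 := two_ne_zero_of_odd_card hodd
  have hnd := stdPlus_nondegenerate F m
  have hfam := stdPlus_isHypFamily F m
  have hcard : Fintype.card (Fin m ⊕ Fin m) = 2 * m := by simp; ring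
  have hperf := hperf_of_hyp (stdPlus F m) hnd _ _ hfam (by omega) (by rw [hcard]; omega)
  have hcent := hcent_of_hyp (stdPlus F m) hfam (by omega) (Cfsg.Agent.Lead.POmegaCard.hspan_plus m)
  rw [fieldAutPOm_conj_PhiGO, ← map_inv, ← map_mul]
  -- the quotient `σ(ν)/ν`
  have hσν0 : σ.1 (ν : F) ≠ 0 := by
    rw [Ne, map_eq_zero_iff σ.1 σ.1.injective]; exact ν.ne_zero
  set lam : Fˣ := Units.mk0 (σ.1 (ν : F) * (ν : F)⁻¹) (mul_ne_zero hσν0 (inv_ne_zero ν.ne_zero))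
    with hlam
  have hel : ((sigmaGO ⇑(stdPlus F m) σ ⟨deltaPlus m ν, deltaPlus_mem m ν⟩ *
      (⟨deltaPlus m ν, deltaPlus_mem m ν⟩ : ↥(GO (stdPlus F m)))⁻¹ : ↥(GO (stdPlus F m))) :
      GL (Fin m ⊕ Fin m) F) = deltaPlus m lam := by
    rw [Subgroup.coe_mul, Subgroup.coe_inv, sigmaGO_coe]
    rw [mul_inv_eq_iff_eq_mul]
    apply Units.ext
    rw [Units.val_mul, mapGL_coe]
    unfold deltaPlus
    simp only [diagGL_coe]
    rw [Matrix.diagonal_mul_diagonal, Matrix.diagonal_map (map_zero _)]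
    congr 1
    funext i
    rcases i with i | i
    · simp only [Sum.elim_inl, Function.comp_apply, hlam, Units.val_mk0]
      rw [inv_mul_cancel_right₀ ν.ne_zero]
    · simp
  obtain ⟨c, hc⟩ := h5_isSquare_sigma_div σ.1 ν
  have hc2 : c ^ 2 = (lam : F) := by
    rw [hlam, Units.val_mk0, hc, pow_two]
  have hc0 : c ≠ 0 := by
    rintro rfl
    rw [zero_pow (by norm_num)] at hc2
    exact lam.ne_zero hc2.symm
  obtain ⟨k, hk⟩ := hev
  have hsq : IsSquare (c ^ m) := ⟨c ^ k, by rw [hk, pow_add]⟩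
  obtain ⟨s, hsΩ, hs⟩ := (delta_smul_mem_Omega_iff h2 (by omega) lam c hc2).2 hsq
  have hsGO : s ∈ GO (stdPlus F m) := iso_le_sim _ (OmGL_le_iso _ hsΩ)
  have hdec : ((sigmaGO ⇑(stdPlus F m) σ ⟨deltaPlus m ν, deltaPlus_mem m ν⟩ *
      (⟨deltaPlus m ν, deltaPlus_mem m ν⟩ : ↥(GO (stdPlus F m)))⁻¹ : ↥(GO (stdPlus F m))) :
      GL (Fin m ⊕ Fin m) F) = sclHom (Units.mk0 c hc0) * s := by
    rw [hel]
    apply Units.ext
    rw [hs, Units.val_mul, sclHom_coe, Matrix.smul_mul, Matrix.one_mul]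
    rfl
  rw [PhiGO_eq_of_scl (stdPlus F m) hperf hcent _ (Units.mk0 c hc0) s hsGO hdec, inn_eq]
  exact ⟨⟨s, sim_le_NO _ hsGO⟩, Subgroup.mem_subgroupOf.2 hsΩ, rfl⟩

/-- (X7b) a similitude with non-square multiplier never induces an element of `PSO` -/
theorem PhiGO_not_mem_psoAut (hodd : Odd (Fintype.card F)) {m : ℕ} (hm : 3 ≤ m)
    (g : ↥(GO (stdPlus F m)))
    (hμ : ¬ IsSquare ((mult (stdPlus F m) g : Fˣ) : F)) :
    PhiGO ⇑(stdPlus F m) g ∉ Cfsg.psoAut F ⇑(stdPlus F m) := by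
  classical
  have hnd := stdPlus_nondegenerate F m
  have hfam := stdPlus_isHypFamily F m
  have hcard : Fintype.card (Fin m ⊕ Fin m) = 2 * m := by simp; ring
  have hperf := hperf_of_hyp (stdPlus F m) hnd _ _ hfam (by omega) (by rw [hcard]; omega)
  have hcent := hcent_of_hyp (stdPlus F m) hfam (by omega) (Cfsg.Agent.Lead.POmegaCard.hspan_plus m)
  have hQ0 := hQ0_of_hyp (stdPlus F m) hfam (by omega)
  intro hmem
  rw [psoAut_eq] at hmem
  obtain ⟨s, hs, hsg⟩ := hmem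
  have hsiso : (s : GL (Fin m ⊕ Fin m) F) ∈ Cfsg.isometryGroup F ⇑(stdPlus F m) :=
    (Subgroup.mem_inf.1 (Subgroup.mem_subgroupOf.1 hs)).1
  have hsGO : (s : GL (Fin m ⊕ Fin m) F) ∈ GO (stdPlus F m) := iso_le_sim _ hsiso
  have h1 : PhiGO ⇑(stdPlus F m) g = PhiGO ⇑(stdPlus F m) ⟨(s : GL (Fin m ⊕ Fin m) F), hsGO⟩ := by
    rw [← hsg, PhiGO_apply]
  rw [PhiGO_eq_iff (stdPlus F m) hperf hcent, Cfsg.Geo.mem_scalars_iff] at h1
  obtain ⟨c, hc⟩ := h1
  have hg : ((g : GL (Fin m ⊕ Fin m) F) : Matrix (Fin m ⊕ Fin m) (Fin m ⊕ Fin m) F) =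
      (c : F) • ((s : GL (Fin m ⊕ Fin m) F) : Matrix (Fin m ⊕ Fin m) (Fin m ⊕ Fin m) F) := by
    have h3 : ((s : GL (Fin m ⊕ Fin m) F) : Matrix (Fin m ⊕ Fin m) (Fin m ⊕ Fin m) F) *
        ((((s : GL (Fin m ⊕ Fin m) F))⁻¹ * (g : GL (Fin m ⊕ Fin m) F) : GL (Fin m ⊕ Fin m) F) :
          Matrix (Fin m ⊕ Fin m) (Fin m ⊕ Fin m) F) =
        ((g : GL (Fin m ⊕ Fin m) F) : Matrix (Fin m ⊕ Fin m) (Fin m ⊕ Fin m) F) := by
      rw [← Units.val_mul, mul_inv_cancel_left]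
    rw [← h3]
    change _ * ((((s : GL (Fin m ⊕ Fin m) F))⁻¹ * (g : GL (Fin m ⊕ Fin m) F) : GL (Fin m ⊕ Fin m) F) :
          Matrix (Fin m ⊕ Fin m) (Fin m ⊕ Fin m) F) = _
    rw [hc, Matrix.mul_smul, Matrix.mul_one]
  have hmult : mult (stdPlus F m) g = c * c := by
    apply mult_unique _ hQ0
    intro v
    change stdPlus F m (((g : GL (Fin m ⊕ Fin m) F) : Matrix (Fin m ⊕ Fin m) (Fin m ⊕ Fin m) F) *ᵥ v) = _
    rw [hg, Matrix.smul_mulVec, QuadraticMap.map_smul, (mem_iso_iff _ _).1 hsiso v, Units.val_mul,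
      smul_eq_mul]
  apply hμ
  rw [hmult, Units.val_mul]
  exact ⟨(c : F), rfl⟩

end Cfsg.Agent.Helper5.OP8
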