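import Mathlib
import Cfsg.Agent.Lib.Helper5.OP8X4
import Cfsg.Agent.Lib.Helper14.OrthAutCount

/-!
# S2608 project (helper87), piece (X7b) in the `Theta`/`GamO` dialect:
a LINEAR similitude with non-square multiplier induces an element of `pgoAut ∖ psoAut`
-/

set_option autoImplicit false
set_option linter.unusedSectionVars false
set_option linter.unusedVariables false
set_option linter.unusedSimpArgs false

namespace Cfsg.Agent.Helper5.OP8

open Matrix QuadraticMap Cfsg.Agent.Helper13 Cfsg.Agent.Helper43 Cfsg.Agent.Helper5.OrthAut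
  Cfsg.Agent.Helper40.AutPOm
open Cfsg.Agent.Helper43.OGam Cfsg.Agent.Helper16.OSemiAut Cfsg.Agent.Helper14.OrthAutCount

variable {F : Type*} [Field F] [Fintype F]

theorem Theta_lin_nonsquare (hodd : Odd (Fintype.card F)) {m : ℕ} (hm : 3 ≤ m)
    (L : GamO ⇑(stdPlus F m)) (hL : L ∈ Lin ⇑(stdPlus F m)) (μ : F)
    (hμ : ∀ x, stdPlus F m ((L : Equiv.Perm (Fin m ⊕ Fin m → F)) x) = μ * stdPlus F m x)
    (hns : ¬ IsSquare μ) :
    Theta ⇑(stdPlus F m) L ∈ Cfsg.pgoAut F ⇑(stdPlus F m) ∧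
      Theta ⇑(stdPlus F m) L ∉ Cfsg.psoAut F ⇑(stdPlus F m) := by
  classical
  have : Nonempty (Fin m ⊕ Fin m) := ⟨Sum.inl ⟨0, by omega⟩⟩
  have hfam := stdPlus_isHypFamily F m
  have hQ0 := hQ0_of_hyp (stdPlus F m) hfam (by omega)
  have hμ0 : μ ≠ 0 := by
    rintro rfl
    exact hns ⟨0, by simp⟩
  refine ⟨?_, ?_⟩
  · rw [← map_Lin_eq_pgoAut]
    exact ⟨L, hL, rfl⟩
  · have hlin' : ∀ (c : F) (x : Fin m ⊕ Fin m → F),
        toAdd ⇑(stdPlus F m) L (c • x) = (RingEquiv.refl F) c • toAdd ⇑(stdPlus F m) L x := hL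
    set g : GL (Fin m ⊕ Fin m) F := colGL (RingEquiv.refl F) (toAdd ⇑(stdPlus F m) L) hlin' with hgdef
    have hg : ∀ x, (L : Equiv.Perm (Fin m ⊕ Fin m → F)) x =
        (g : Matrix (Fin m ⊕ Fin m) (Fin m ⊕ Fin m) F) *ᵥ x := by
      intro x
      have := colMat_mulVec (RingEquiv.refl F) (toAdd ⇑(stdPlus F m) L) hlin' x
      rw [hgdef, colGL_coe]
      exact this.symm
    have hsim : ∀ x, stdPlus F m ((g : Matrix (Fin m ⊕ Fin m) (Fin m ⊕ Fin m) F) *ᵥ x) =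
        ((Units.mk0 μ hμ0 : Fˣ) : F) * stdPlus F m x := by
      intro x
      rw [← hg, hμ, Units.val_mk0]
    have hgGO : g ∈ GO (stdPlus F m) := ⟨Units.mk0 μ hμ0, hsim⟩
    have hTheta : Theta ⇑(stdPlus F m) L = PhiGO ⇑(stdPlus F m) ⟨g, hgGO⟩ := by
      rw [PhiGO_apply]
      apply Theta_eq_Phi ⇑(stdPlus F m) L ⟨g, sim_le_NO _ hgGO⟩ 1
      intro x
      rw [one_smul, hg]
    rw [hTheta]
    apply PhiGO_not_mem_psoAut hodd hm
    have hmult : mult (stdPlus F m) ⟨g, hgGO⟩ = Units.mk0 μ hμ0 :=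
      mult_unique _ hQ0 _ _ hsim
    rw [hmult, Units.val_mk0]
    exact hns

end Cfsg.Agent.Helper5.OP8
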