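import Mathlib
import Cfsg.Agent.Lib.Helper40.OPF.Defs
import Cfsg.Agent.Lib.Helper42.GFE1

/-!
# OPF project (S2715), piece (PE): class preservation is stable under base change, plus type

Port of `Cfsg.Agent.Helper5.OMF.preserves_emb_iff` to the plus form.
-/

set_option autoImplicit false
set_option linter.unusedSectionVars false
set_option linter.unusedSimpArgs false
set_option linter.unusedVariables false

namespace Cfsg.Agent.Helper5.OPF

open Matrix QuadraticMap Cfsg.Agent.Helper5.OrthAut Cfsg.Agent.Helper40.AutPOm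
  Cfsg.Agent.Helper40.OrthEven Cfsg.Agent.Helper43 Cfsg.Agent.Helper40.OPF
  Cfsg.Agent.Helper5.OrthLag Cfsg.Agent.Helper5.OMF Cfsg.Agent.Helper40.FieldCent

variable {F₀ : Type*} [Field F₀] [Fintype F₀] {F : Type*} [Field F] [Fintype F]

/-- characteristic two: a similarity of the plus form is a scalar times a product of reflections -/
theorem h5_exists_smul_list_char2_plus (h2 : (2 : F) = 0) {m : ℕ} (hm : 3 ≤ m)
    (g : GL (Fin m ⊕ Fin m) F) (hg : g ∈ GO (stdPlus F m)) :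
    ∃ (c : F) (l : List (Fin m ⊕ Fin m → F)), c ≠ 0 ∧
      (∀ w ∈ l, stdPlus F m w ≠ 0) ∧
      (g : Matrix (Fin m ⊕ Fin m) (Fin m ⊕ Fin m) F) =
        c • (l.map (Cfsg.reflectionMatrix (⇑(stdPlus F m)))).prod := by
  classical
  have hnd := stdPlus_nondegenerate F m
  have hcard := Cfsg.Agent.Helper42.GF.e1_card_Ip m
  have hexc : Fintype.card F ≠ 2 ∨ Fintype.card (Fin m ⊕ Fin m) ≠ 4 := by
    right; rw [hcard]; intro h4; omega
  obtain ⟨c, h, hh, hgc⟩ := exists_scl_mul_iso_char2 h2 (stdPlus F m) g hg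
  obtain ⟨l, hl, hMl⟩ := Cfsg.Agent.S0786.matrix_cd_all (stdPlus F m) hnd hexc
    ((h : GL (Fin m ⊕ Fin m) F) : Matrix (Fin m ⊕ Fin m) (Fin m ⊕ Fin m) F)
    (fun u => (mem_iso_iff _ h).1 hh u)
  refine ⟨(c : F), l, Units.ne_zero c, hl, ?_⟩
  rw [← hMl, hgc, Units.val_mul, sclHom_coe, Matrix.smul_mul, Matrix.one_mul]

/-- piece PE -/
theorem preserves_emb_iff_plus {m : ℕ} (hm : 3 ≤ m) (emb : F₀ →+* F)
    (g₀ : GL (Fin m ⊕ Fin m) F₀) (hg₀ : g₀ ∈ GO (stdPlus F₀ m)) :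
    Cfsg.PreservesSingularClasses (⇑(stdPlus F₀ m))
        (g₀ : Matrix (Fin m ⊕ Fin m) (Fin m ⊕ Fin m) F₀) ↔
      Cfsg.PreservesSingularClasses (⇑(stdPlus F m))
        ((g₀ : Matrix (Fin m ⊕ Fin m) (Fin m ⊕ Fin m) F₀).map emb) := by
  classical
  have hB := isBC_stdPlus m emb
  have hgF := emb_mem_GO' emb _ _ hB g₀ hg₀
  have hcoe : ((Matrix.GeneralLinearGroup.map emb g₀ : GL (Fin m ⊕ Fin m) F) :
      Matrix (Fin m ⊕ Fin m) (Fin m ⊕ Fin m) F) =
      (g₀ : Matrix (Fin m ⊕ Fin m) (Fin m ⊕ Fin m) F₀).map emb := rfl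
  by_cases hodd : Odd (Fintype.card F)
  · have h2 := two_ne_zero_of_odd_card hodd
    have h2₀ : (2 : F₀) ≠ 0 := two_ne_zero_of_emb emb h2
    have hQ0₀ := hQ0_of_hyp (stdPlus F₀ m) (stdPlus_isHypFamily F₀ m) (by omega)
    have hQ0 := hQ0_of_hyp (stdPlus F m) (stdPlus_isHypFamily F m) (by omega)
    rw [← hcoe, coe_stdPlus, coe_stdPlus, preserves_iff_dHom_plus m h2₀ hQ0₀ g₀ hg₀,
      preserves_iff_dHom_plus m h2 hQ0 _ hgF]
    have hmu : mult (stdPlus F m) ⟨_, hgF⟩ =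
        Units.map (emb : F₀ →* F) (mult (stdPlus F₀ m) ⟨g₀, hg₀⟩) := by
      apply mult_unique _ hQ0
      intro v
      exact emb_sim emb _ _ hB g₀ hg₀ v
    have hdet : (gmat (stdPlus F m) ⟨_, hgF⟩).det =
        emb (gmat (stdPlus F₀ m) ⟨g₀, hg₀⟩).det := by
      show ((g₀ : Matrix (Fin m ⊕ Fin m) (Fin m ⊕ Fin m) F₀).map emb).det = _
      exact (RingHom.map_det emb _).symm
    rw [Units.ext_iff, Units.ext_iff, dHom_coe, dHom_coe, hmu, hdet]
    have e : ((Units.map (emb : F₀ →* F) (mult (stdPlus F₀ m) ⟨g₀, hg₀⟩) : Fˣ) : F) =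
        emb ((mult (stdPlus F₀ m) ⟨g₀, hg₀⟩ : F₀ˣ) : F₀) := rfl
    rw [e, ← map_pow, ← map_inv₀, ← map_mul, Units.val_one, Units.val_one]
    constructor
    · intro h
      rw [h, map_one]
    · intro h
      apply emb.injective
      rw [h, map_one]
  · have h2 := two_eq_zero_of_not_odd hodd
    have h2₀ : (2 : F₀) = 0 := by
      apply emb.injective
      rw [map_ofNat, h2, map_zero]
    obtain ⟨c, l, hc, hl, hM⟩ := h5_exists_smul_list_char2_plus h2₀ hm g₀ hg₀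
    have hM' : (g₀ : Matrix (Fin m ⊕ Fin m) (Fin m ⊕ Fin m) F₀).map emb =
        emb c • ((l.map (mapV emb)).map (Cfsg.reflectionMatrix (⇑(stdPlus F m)))).prod := by
      rw [hM, map_smul_I, map_list_refl emb _ _ hB]
    have hl' : ∀ w ∈ l.map (mapV emb), stdPlus F m w ≠ 0 := by
      intro w hw
      obtain ⟨w₀, hw₀, rfl⟩ := List.mem_map.1 hw
      rw [hB w₀, Ne, map_eq_zero_iff emb emb.injective]
      exact hl w₀ hw₀
    have hc' : emb c ≠ 0 := by
      rw [Ne, map_eq_zero_iff emb emb.injective]; exact hc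
    rw [hM', hM, Cfsg.Agent.Helper42.GF.e1_preserves_plus_list_iff m l hl c hc,
      Cfsg.Agent.Helper42.GF.e1_preserves_plus_list_iff m _ hl' (emb c) hc', List.length_map]

end Cfsg.Agent.Helper5.OPF
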