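import Mathlib
import Cfsg.Agent.Lib.Helper40.AutPSpBasic
import Cfsg.Agent.Lib.Helper40.AutPSpKer
import Cfsg.Agent.Lib.Helper41.RingAutFin

/-!
# SPX (N): the order of the image of `PΓSp_{2m}(q)` in `Aut(PSp_{2m}(q))`

`|gammaSub m F| = gcd(2, q-1) · f · |PSp_{2m}(q)|` for `|F| = q = p^f`, `m ≥ 2`.
-/

set_option autoImplicit false
set_option linter.unusedSectionVars false
set_option linter.unusedSimpArgs false
set_option linter.unusedVariables false

namespace Cfsg.Agent.Helper5.SPX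

open Matrix Cfsg Cfsg.Agent.Helper5 Cfsg.Agent.Helper40.AutPSp

variable {F : Type*} [Field F] {m : ℕ}

/-! ### unipotent matrices: `Y = ± X` forces `Y = X` -/

theorem n_eq_of_unipotent (hm : 1 ≤ m)
    {X Y Y' : Matrix (Fin m ⊕ Fin m) (Fin m ⊕ Fin m) F}
    (hX : (X - 1) * (X - 1) = 0) (hY : (Y - 1) * (Y - 1) = 0) (hYY' : Y * Y' = 1)
    (h : Y = X ∨ Y = -X) : Y = X := by
  rcases h with h | h
  · exact h
  · have hX' : X = -Y := by rw [h, neg_neg]
    rw [hX'] at hX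
    have e1 : (-Y - 1) * (-Y - 1) - (Y - 1) * (Y - 1) = (4 : F) • Y := by
      rw [Matrix.sub_mul, Matrix.mul_sub, Matrix.mul_sub, Matrix.neg_mul, Matrix.mul_neg,
        Matrix.one_mul, Matrix.mul_one, Matrix.mul_one, Matrix.sub_mul, Matrix.mul_sub,
        Matrix.mul_sub, Matrix.one_mul, Matrix.mul_one, Matrix.mul_one,
        show (4 : F) = 1 + 1 + 1 + 1 by norm_num, add_smul, add_smul, add_smul, one_smul]
      abel
    rw [hX, hY, sub_zero] at e1
    have e2 : (4 : F) • (Y * Y') = 0 := by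
      rw [← Matrix.smul_mul, ← e1, Matrix.zero_mul]
    rw [hYY'] at e2
    have e3 := congrFun (congrFun e2 (Sum.inl ⟨0, hm⟩)) (Sum.inl ⟨0, hm⟩)
    rw [Matrix.smul_apply, Matrix.one_apply_eq, smul_eq_mul, mul_one, Matrix.zero_apply] at e3
    have e4 : (2 : F) = 0 := by
      have : (2 : F) * 2 = 0 := by rw [← e3]; norm_num
      exact mul_self_eq_zero.1 this
    have e5 : -X = X := by
      have : (2 : F) • X = 0 := by rw [e4, zero_smul]
      rw [show (2 : F) = 1 + 1 by norm_num, add_smul, one_smul] at this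
      exact neg_eq_of_add_eq_zero_left this
    rw [h, e5]

/-! ### a field automorphism in the range of `PhiSp` is trivial -/

theorem n_e1_apply_one (hm : 1 ≤ m) :
    (1 : Matrix (Fin m ⊕ Fin m) (Fin m ⊕ Fin m) F) (Sum.inl ⟨0, hm⟩) (Sum.inr ⟨0, hm⟩) = 0 :=
  Matrix.one_apply_ne (by simp)

theorem n_fieldAut_eq_one (hm : 1 ≤ m) (g : ↥(Cfsg.GSp m F)) (τ : F ≃+* F)
    (h : PhiSp g = fieldAutPSp (m := m) τ) : τ = 1 := by
  set G : Matrix (Fin m ⊕ Fin m) (Fin m ⊕ Fin m) F :=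
    ((g.1 : GL (Fin m ⊕ Fin m) F) : Matrix (Fin m ⊕ Fin m) (Fin m ⊕ Fin m) F) with hG
  set G' : Matrix (Fin m ⊕ Fin m) (Fin m ⊕ Fin m) F :=
    (((g.1)⁻¹ : GL (Fin m ⊕ Fin m) F) : Matrix (Fin m ⊕ Fin m) (Fin m ⊕ Fin m) F) with hG'
  have hGG' : G * G' = 1 := coe_mul_inv' g.1
  have hG'G : G' * G = 1 := coe_inv_mul' g.1
  -- the key relation
  have key : ∀ a : F, (spTv (e1 (F := F) hm) a).map τ = G * spTv (e1 (F := F) hm) a * G' := by
    intro a
    have h1 : PhiSp g (QuotientGroup.mk (tvSp (e1 hm) a) : Cfsg.PSp m F) =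
        fieldAutPSp τ (QuotientGroup.mk (tvSp (e1 hm) a) : Cfsg.PSp m F) := by rw [h]
    rw [PhiSp_mk, fieldAutPSp_mk] at h1
    have h2 := QuotientGroup.eq.1 h1
    have h3 := center_val hm _ h2
    have hmul : ∀ z : ↥(Matrix.symplecticGroup (Fin m) F),
        (conjSp g (tvSp (e1 hm) a))⁻¹ * sigmaSp τ (tvSp (e1 hm) a) = z →
        (spTv (e1 (F := F) hm) a).map τ = (G * spTv (e1 (F := F) hm) a * G') *
          (z : Matrix (Fin m ⊕ Fin m) (Fin m ⊕ Fin m) F) := by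
      intro z hz
      have h4 : sigmaSp τ (tvSp (e1 hm) a) = conjSp g (tvSp (e1 hm) a) * z := by rw [← hz]; group
      exact congrArg (fun s : ↥(Matrix.symplecticGroup (Fin m) F) =>
        (s : Matrix (Fin m ⊕ Fin m) (Fin m ⊕ Fin m) F)) h4
    have h5 := hmul _ rfl
    have hX : (G * spTv (e1 (F := F) hm) a * G' - 1) * (G * spTv (e1 (F := F) hm) a * G' - 1) = 0 := by
      have e1' : G * spTv (e1 (F := F) hm) a * G' - 1 = G * (spTv (e1 (F := F) hm) a - 1) * G' := by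
        rw [Matrix.mul_sub, Matrix.sub_mul, Matrix.mul_one, hGG']
      rw [e1']
      calc G * (spTv (e1 (F := F) hm) a - 1) * G' * (G * (spTv (e1 (F := F) hm) a - 1) * G')
          = G * ((spTv (e1 (F := F) hm) a - 1) * (G' * G) * (spTv (e1 (F := F) hm) a - 1)) * G' := by
            simp only [Matrix.mul_assoc]
        _ = 0 := by
          rw [hG'G, Matrix.mul_one, spTv_sub_one_sq, Matrix.mul_zero, Matrix.zero_mul]
    have hY : ((spTv (e1 (F := F) hm) a).map τ - 1) * ((spTv (e1 (F := F) hm) a).map τ - 1) = 0 := by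
      have e2 : (spTv (e1 (F := F) hm) a).map τ - 1 = (spTv (e1 (F := F) hm) a - 1).map τ := by
        ext i j
        rw [Matrix.sub_apply, Matrix.map_apply, Matrix.map_apply, Matrix.sub_apply, map_sub]
        congr 1
        rw [Matrix.one_apply]
        split_ifs <;> simp
      rw [e2, ← map_mul_sigma, spTv_sub_one_sq]
      ext i j
      simp
    have hYY' : (spTv (e1 (F := F) hm) a).map τ *
        (((sigmaSp τ (tvSp (e1 hm) a))⁻¹ : ↥(Matrix.symplecticGroup (Fin m) F)) :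
          Matrix (Fin m ⊕ Fin m) (Fin m ⊕ Fin m) F) = 1 := by
      have := congrArg (fun s : ↥(Matrix.symplecticGroup (Fin m) F) =>
        (s : Matrix (Fin m ⊕ Fin m) (Fin m ⊕ Fin m) F)) (mul_inv_cancel (sigmaSp τ (tvSp (e1 hm) a)))
      exact this
    apply n_eq_of_unipotent hm hX hY hYY'
    rcases h3 with h3 | h3
    · left
      rw [h3, Matrix.mul_one] at h5
      exact h5
    · right
      rw [h3, Matrix.mul_neg, Matrix.mul_one] at h5
      exact h5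
  have hN : ∀ a : F, spTv (e1 (F := F) hm) a - 1 = a • (spTv (e1 (F := F) hm) 1 - 1) := by
    intro a
    unfold spTv
    rw [add_sub_cancel_left, add_sub_cancel_left, one_smul]
  have hconj : ∀ a : F, (spTv (e1 (F := F) hm) a).map τ - 1 =
      G * (spTv (e1 (F := F) hm) a - 1) * G' := by
    intro a
    rw [Matrix.mul_sub, Matrix.sub_mul, Matrix.mul_one, hGG', key a]
  apply RingEquiv.ext
  intro a
  have h1 : (spTv (e1 (F := F) hm) a).map τ - 1 = a • ((spTv (e1 (F := F) hm) 1).map τ - 1) := by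
    rw [hconj a, hN a, Matrix.mul_smul, Matrix.smul_mul, ← hconj 1]
  have h2 := congrFun (congrFun h1 (Sum.inl ⟨0, hm⟩)) (Sum.inr ⟨0, hm⟩)
  rw [Matrix.sub_apply, Matrix.map_apply, spTv_e1_apply, Matrix.smul_apply, Matrix.sub_apply,
    Matrix.map_apply, spTv_e1_apply, n_e1_apply_one, sub_zero, map_one, sub_zero, smul_eq_mul,
    mul_one] at h2
  exact h2

/-! ### `|gammaSub| = |range PhiSp| · |Aut F|` -/

theorem n_card_gammaSub_eq (hm : 1 ≤ m) :
    Nat.card ↥(gammaSub m F) =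
      Nat.card ↥((PhiSp (F := F) (m := m)).range) * Nat.card (F ≃+* F) := by
  rw [← Nat.card_prod]
  symm
  let f : ↥((PhiSp (F := F) (m := m)).range) × (F ≃+* F) → ↥(gammaSub m F) := fun x =>
    ⟨x.1.1 * fieldAutPSp x.2, by
      obtain ⟨g, hg⟩ := x.1.2
      exact (mem_gammaSub _).2 ⟨g, x.2, by rw [hg]⟩⟩
  apply Nat.card_congr (Equiv.ofBijective f ⟨?_, ?_⟩)
  · rintro ⟨⟨x, g, rfl⟩, σ⟩ ⟨⟨_, g', rfl⟩, σ'⟩ hxy
    have h1 : PhiSp g * fieldAutPSp σ = PhiSp g' * fieldAutPSp σ' :=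
      congrArg (fun k : ↥(gammaSub m F) => (k : MulAut (Cfsg.PSp m F))) hxy
    have h2 : PhiSp (g'⁻¹ * g) = fieldAutPSp (m := m) (σ' * σ⁻¹) := by
      rw [map_mul, map_inv, fieldAutPSp_mul', fieldAutPSp_inv, inv_mul_eq_iff_eq_mul,
        ← mul_assoc, eq_mul_inv_iff_mul_eq]
      exact h1
    have h3 := n_fieldAut_eq_one hm _ _ h2
    have h4 : σ' = σ := mul_inv_eq_one.1 h3
    subst h4
    have h5 : PhiSp g = PhiSp g' := mul_right_cancel h1
    simp only [Prod.mk.injEq, and_true]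
    exact Subtype.ext h5
  · rintro ⟨β, hβ⟩
    obtain ⟨g, σ, rfl⟩ := (mem_gammaSub β).1 hβ
    exact ⟨⟨⟨PhiSp g, g, rfl⟩, σ⟩, rfl⟩

/-! ### the kernel of `PhiSp` has `q - 1` elements -/

theorem n_card_of_surj {G H : Type*} [Group G] [Group H] (θ : G →* H)
    (hθ : Function.Surjective θ) : Nat.card G = Nat.card H * Nat.card θ.ker := by
  rw [Subgroup.card_eq_card_quotient_mul_card_subgroup θ.ker,
    Nat.card_congr (QuotientGroup.quotientKerEquivOfSurjective θ hθ).toEquiv]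

theorem n_card_ker_PhiSp [Fintype F] (hm : 1 ≤ m) :
    Nat.card ↥((PhiSp (F := F) (m := m)).ker) = Fintype.card F - 1 := by
  classical
  rw [← Fintype.card_units, ← Nat.card_eq_fintype_card]
  symm
  let f : Fˣ → ↥((PhiSp (F := F) (m := m)).ker) := fun l => ⟨scGSp l, PhiSp_scGSp hm l⟩
  apply Nat.card_congr (Equiv.ofBijective f ⟨?_, ?_⟩)
  · intro l l' h
    have h1 : scGSp (F := F) (m := m) l = scGSp l' :=
      congrArg (fun k : ↥((PhiSp (F := F) (m := m)).ker) => (k : ↥(Cfsg.GSp m F))) h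
    have h2 := congrArg (fun g : ↥(Cfsg.GSp m F) =>
      ((g.1 : GL (Fin m ⊕ Fin m) F) : Matrix (Fin m ⊕ Fin m) (Fin m ⊕ Fin m) F)
        (Sum.inl ⟨0, hm⟩) (Sum.inl ⟨0, hm⟩)) h1
    simp only [scGSp_coe, Matrix.smul_apply, Matrix.one_apply_eq, smul_eq_mul, mul_one] at h2
    exact Units.ext h2
  · intro k
    have hk := (PhiSp_eq_one_iff hm k.1).1 k.2
    rw [Cfsg.Geo.mem_scalars_iff] at hk
    obtain ⟨c, hc⟩ := hk
    refine ⟨c, ?_⟩
    apply Subtype.ext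
    apply Subtype.ext
    apply Units.ext
    show (((scGSp c : ↥(Cfsg.GSp m F)) : GL (Fin m ⊕ Fin m) F) :
      Matrix (Fin m ⊕ Fin m) (Fin m ⊕ Fin m) F) = _
    rw [scGSp_coe]
    exact hc.symm

theorem n_card_GSp_eq_range [Fintype F] (hm : 1 ≤ m) :
    Nat.card ↥(Cfsg.GSp m F) =
      Nat.card ↥((PhiSp (F := F) (m := m)).range) * (Fintype.card F - 1) := by
  have h1 := n_card_of_surj (PhiSp (F := F) (m := m)).rangeRestrict
    (PhiSp (F := F) (m := m)).rangeRestrict_surjective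
  rw [MonoidHom.ker_rangeRestrict, n_card_ker_PhiSp hm] at h1
  exact h1

/-! ### the multiplier `GSp → Fˣ` -/

theorem n_exists_mult (g : ↥(Cfsg.GSp m F)) : ∃ c : Fˣ,
    ((g.1 : GL (Fin m ⊕ Fin m) F) : Matrix (Fin m ⊕ Fin m) (Fin m ⊕ Fin m) F)ᵀ *
      Matrix.J (Fin m) F *
      ((g.1 : GL (Fin m ⊕ Fin m) F) : Matrix (Fin m ⊕ Fin m) (Fin m ⊕ Fin m) F) =
      (c : F) • Matrix.J (Fin m) F :=
  (mem_GSp_iff_mat g.1).1 g.2

theorem n_J_apply (hm : 1 ≤ m) :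
    (Matrix.J (Fin m) F) (Sum.inr ⟨0, hm⟩) (Sum.inl ⟨0, hm⟩) = 1 := by
  rw [Matrix.J, Matrix.fromBlocks_apply₂₁, Matrix.one_apply_eq]

theorem n_mult_unique (hm : 1 ≤ m) {c d : Fˣ}
    (h : (c : F) • Matrix.J (Fin m) F = (d : F) • Matrix.J (Fin m) F) : c = d := by
  have h1 := congrFun (congrFun h (Sum.inr ⟨0, hm⟩)) (Sum.inl ⟨0, hm⟩)
  rw [Matrix.smul_apply, Matrix.smul_apply, n_J_apply, smul_eq_mul, mul_one, smul_eq_mul,
    mul_one] at h1
  exact Units.ext h1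

/-- the multiplier of a similitude -/
noncomputable def nMult (g : ↥(Cfsg.GSp m F)) : Fˣ := Classical.choose (n_exists_mult g)

theorem nMult_spec (g : ↥(Cfsg.GSp m F)) :
    ((g.1 : GL (Fin m ⊕ Fin m) F) : Matrix (Fin m ⊕ Fin m) (Fin m ⊕ Fin m) F)ᵀ *
      Matrix.J (Fin m) F *
      ((g.1 : GL (Fin m ⊕ Fin m) F) : Matrix (Fin m ⊕ Fin m) (Fin m ⊕ Fin m) F) =
      ((nMult g : Fˣ) : F) • Matrix.J (Fin m) F :=
  Classical.choose_spec (n_exists_mult g)

theorem nMult_eq (hm : 1 ≤ m) (g : ↥(Cfsg.GSp m F)) (c : Fˣ)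
    (h : ((g.1 : GL (Fin m ⊕ Fin m) F) : Matrix (Fin m ⊕ Fin m) (Fin m ⊕ Fin m) F)ᵀ *
      Matrix.J (Fin m) F *
      ((g.1 : GL (Fin m ⊕ Fin m) F) : Matrix (Fin m ⊕ Fin m) (Fin m ⊕ Fin m) F) =
      (c : F) • Matrix.J (Fin m) F) : nMult g = c :=
  n_mult_unique hm ((nMult_spec g).symm.trans h)

/-- the multiplier as a homomorphism -/
noncomputable def nMultHom (hm : 1 ≤ m) : ↥(Cfsg.GSp m F) →* Fˣ where
  toFun := nMult
  map_one' := by
    apply nMult_eq hm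
    show ((1 : GL (Fin m ⊕ Fin m) F) : Matrix (Fin m ⊕ Fin m) (Fin m ⊕ Fin m) F)ᵀ *
      Matrix.J (Fin m) F * ((1 : GL (Fin m ⊕ Fin m) F) : Matrix (Fin m ⊕ Fin m) (Fin m ⊕ Fin m) F) = _
    rw [Units.val_one, Matrix.transpose_one, Matrix.one_mul, Matrix.mul_one, Units.val_one,
      one_smul]
  map_mul' g h := by
    apply nMult_eq hm
    show ((g.1 * h.1 : GL (Fin m ⊕ Fin m) F) : Matrix (Fin m ⊕ Fin m) (Fin m ⊕ Fin m) F)ᵀ *
      Matrix.J (Fin m) F *
      ((g.1 * h.1 : GL (Fin m ⊕ Fin m) F) : Matrix (Fin m ⊕ Fin m) (Fin m ⊕ Fin m) F) = _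
    rw [Units.val_mul, Matrix.transpose_mul]
    calc ((h.1 : GL (Fin m ⊕ Fin m) F) : Matrix (Fin m ⊕ Fin m) (Fin m ⊕ Fin m) F)ᵀ *
          ((g.1 : GL (Fin m ⊕ Fin m) F) : Matrix (Fin m ⊕ Fin m) (Fin m ⊕ Fin m) F)ᵀ *
          Matrix.J (Fin m) F *
          (((g.1 : GL (Fin m ⊕ Fin m) F) : Matrix (Fin m ⊕ Fin m) (Fin m ⊕ Fin m) F) *
           ((h.1 : GL (Fin m ⊕ Fin m) F) : Matrix (Fin m ⊕ Fin m) (Fin m ⊕ Fin m) F))
        = ((h.1 : GL (Fin m ⊕ Fin m) F) : Matrix (Fin m ⊕ Fin m) (Fin m ⊕ Fin m) F)ᵀ *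
          (((g.1 : GL (Fin m ⊕ Fin m) F) : Matrix (Fin m ⊕ Fin m) (Fin m ⊕ Fin m) F)ᵀ *
          Matrix.J (Fin m) F *
          ((g.1 : GL (Fin m ⊕ Fin m) F) : Matrix (Fin m ⊕ Fin m) (Fin m ⊕ Fin m) F)) *
           ((h.1 : GL (Fin m ⊕ Fin m) F) : Matrix (Fin m ⊕ Fin m) (Fin m ⊕ Fin m) F) := by
          simp only [Matrix.mul_assoc]
      _ = _ := by
          rw [nMult_spec g, Matrix.mul_smul, Matrix.smul_mul, nMult_spec h, smul_smul,
            Units.val_mul]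

theorem nMultHom_apply (hm : 1 ≤ m) (g : ↥(Cfsg.GSp m F)) : nMultHom hm g = nMult g := rfl

/-- the diagonal vector `(l, …, l, 1, …, 1)` -/
def nDvec (l : F) : Fin m ⊕ Fin m → F := Sum.elim (fun _ => l) (fun _ => 1)

theorem nDvec_mul (l l' : F) (h : l * l' = 1) :
    (Matrix.diagonal (nDvec (m := m) l) : Matrix (Fin m ⊕ Fin m) (Fin m ⊕ Fin m) F) *
      Matrix.diagonal (nDvec (m := m) l') = 1 := by
  rw [Matrix.diagonal_mul_diagonal, ← Matrix.diagonal_one]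
  congr 1
  funext i
  rcases i with i | i
  · simp [nDvec, h]
  · simp [nDvec]

theorem nDvec_form (l : F) :
    (Matrix.diagonal (nDvec (m := m) l) : Matrix (Fin m ⊕ Fin m) (Fin m ⊕ Fin m) F)ᵀ *
      Matrix.J (Fin m) F * Matrix.diagonal (nDvec (m := m) l) = l • Matrix.J (Fin m) F := by
  rw [Matrix.diagonal_transpose]
  ext i j
  rw [Matrix.mul_diagonal, Matrix.diagonal_mul, Matrix.smul_apply, smul_eq_mul]
  rcases i with i | i <;> rcases j with j | j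
  · simp [nDvec, Matrix.J]
  · simp [nDvec, Matrix.J]
  · simp [nDvec, Matrix.J, mul_comm]
  · simp [nDvec, Matrix.J]

/-- `diag(l, …, l, 1, …, 1)` as an element of `GSp` -/
noncomputable def nDiag (l : Fˣ) : ↥(Cfsg.GSp m F) :=
  ⟨⟨Matrix.diagonal (nDvec (l : F)), Matrix.diagonal (nDvec ((l⁻¹ : Fˣ) : F)),
      nDvec_mul _ _ (by rw [← Units.val_mul, mul_inv_cancel, Units.val_one]),
      nDvec_mul _ _ (by rw [← Units.val_mul, inv_mul_cancel, Units.val_one])⟩,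
    (mem_GSp_iff_mat _).2 ⟨l, nDvec_form (l : F)⟩⟩

theorem nMult_nDiag (hm : 1 ≤ m) (l : Fˣ) : nMult (nDiag (m := m) l) = l :=
  nMult_eq hm _ l (nDvec_form (l : F))

theorem nMultHom_surjective (hm : 1 ≤ m) :
    Function.Surjective (nMultHom (F := F) (m := m) hm) :=
  fun l => ⟨nDiag l, nMult_nDiag hm l⟩

theorem n_mem_ker_iff (hm : 1 ≤ m) (g : ↥(Cfsg.GSp m F)) :
    g ∈ (nMultHom (F := F) (m := m) hm).ker ↔
      ((g.1 : GL (Fin m ⊕ Fin m) F) : Matrix (Fin m ⊕ Fin m) (Fin m ⊕ Fin m) F) ∈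
        Matrix.symplecticGroup (Fin m) F := by
  rw [MonoidHom.mem_ker, nMultHom_apply, SymplecticGroup.mem_iff']
  constructor
  · intro h
    have h1 := nMult_spec g
    rw [h, Units.val_one, one_smul] at h1
    exact h1
  · intro h
    apply nMult_eq hm
    rw [h, Units.val_one, one_smul]

theorem n_card_ker_mult (hm : 1 ≤ m) :
    Nat.card ↥((nMultHom (F := F) (m := m) hm).ker) =
      Nat.card ↥(Matrix.symplecticGroup (Fin m) F) := by
  let f : ↥((nMultHom (F := F) (m := m) hm).ker) → ↥(Matrix.symplecticGroup (Fin m) F) :=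
    fun k => ⟨((k.1.1 : GL (Fin m ⊕ Fin m) F) : Matrix (Fin m ⊕ Fin m) (Fin m ⊕ Fin m) F),
      (n_mem_ker_iff hm k.1).1 k.2⟩
  apply Nat.card_congr (Equiv.ofBijective f ⟨?_, ?_⟩)
  · intro k k' h
    have h1 : ((k.1.1 : GL (Fin m ⊕ Fin m) F) : Matrix (Fin m ⊕ Fin m) (Fin m ⊕ Fin m) F) =
        ((k'.1.1 : GL (Fin m ⊕ Fin m) F) : Matrix (Fin m ⊕ Fin m) (Fin m ⊕ Fin m) F) :=
      congrArg (fun s : ↥(Matrix.symplecticGroup (Fin m) F) =>
        (s : Matrix (Fin m ⊕ Fin m) (Fin m ⊕ Fin m) F)) h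
    exact Subtype.ext (Subtype.ext (Units.ext h1))
  · intro s
    let gl : GL (Fin m ⊕ Fin m) F :=
      (Matrix.symplecticGroup (Fin m) F).subtype.toHomUnits s
    have hgl : (gl : Matrix (Fin m ⊕ Fin m) (Fin m ⊕ Fin m) F) = s := rfl
    have hmem : gl ∈ Cfsg.GSp m F := by
      rw [mem_GSp_iff_mat]
      refine ⟨1, ?_⟩
      rw [hgl, Units.val_one, one_smul]
      exact SymplecticGroup.mem_iff'.1 s.2
    have hker : (⟨gl, hmem⟩ : ↥(Cfsg.GSp m F)) ∈ (nMultHom (F := F) (m := m) hm).ker := by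
      rw [n_mem_ker_iff]
      show (gl : Matrix (Fin m ⊕ Fin m) (Fin m ⊕ Fin m) F) ∈ _
      rw [hgl]
      exact s.2
    exact ⟨⟨⟨gl, hmem⟩, hker⟩, Subtype.ext hgl⟩

theorem n_card_GSp [Fintype F] (hm : 1 ≤ m) :
    Nat.card ↥(Cfsg.GSp m F) =
      (Fintype.card F - 1) * Nat.card ↥(Matrix.symplecticGroup (Fin m) F) := by
  classical
  rw [n_card_of_surj (nMultHom (F := F) (m := m) hm) (nMultHom_surjective hm),
    n_card_ker_mult hm, Nat.card_eq_fintype_card, Fintype.card_units]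

theorem n_card_range [Fintype F] (hm : 1 ≤ m) :
    Nat.card ↥((PhiSp (F := F) (m := m)).range) =
      Nat.card ↥(Matrix.symplecticGroup (Fin m) F) := by
  have h1 := n_card_GSp_eq_range (F := F) hm
  rw [n_card_GSp hm, mul_comm] at h1
  have hq : 0 < Fintype.card F - 1 := by
    have : 1 < Fintype.card F := Fintype.one_lt_card
    omega
  exact (Nat.eq_of_mul_eq_mul_right hq h1).symm

theorem n_card_sp [Fintype F] (hm : 1 ≤ m) :
    Nat.card ↥(Matrix.symplecticGroup (Fin m) F) =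
      Nat.card (Cfsg.PSp m F) * Nat.gcd 2 (Fintype.card F - 1) := by
  have : Nonempty (Fin m) := ⟨⟨0, hm⟩⟩
  rw [Subgroup.card_eq_card_quotient_mul_card_subgroup
    (Subgroup.center ↥(Matrix.symplecticGroup (Fin m) F)), card_center_sp]

/-- **(N) the order of the image of `PΓSp_{2m}(q)` in `Aut(PSp_{2m}(q))`.** -/
theorem card_gammaSub {F : Type*} [Field F] [Fintype F] (p f : ℕ) [Fact p.Prime] (hf : 1 ≤ f)
    (hF : Fintype.card F = p ^ f) (m : ℕ) (hm : 2 ≤ m) :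
    Nat.card ↥(gammaSub m F) = Nat.gcd 2 (p ^ f - 1) * f * Nat.card (Cfsg.PSp m F) := by
  have hm1 : 1 ≤ m := by omega
  have hcp : CharP F p := charP_of_card_eq_prime_pow hF
  have hcardF : Nat.card (F ≃+* F) = f := (Cfsg.Agent.Helper41.ringAut_cyclic_card p f hF).2
  rw [n_card_gammaSub_eq hm1, n_card_range hm1, n_card_sp hm1, hcardF, hF]
  ring

end Cfsg.Agent.Helper5.SPX
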