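import Mathlib
import Cfsg.Agent.Lib.Helper5.PSUGr6

/-!
# Gram matrices, twisting data, and the centralizer of `gamU (aOf D)`
-/

set_option autoImplicit false
set_option linter.unusedSectionVars false
set_option linter.unusedSimpArgs false

namespace Cfsg.Agent.Helper5.PSUGr

open Matrix Cfsg.Agent.Helper13.PSLAut Cfsg.Agent.Helper5 Cfsg.Agent.Helper5.PSUAut

variable {F : Type*} [Field F] [Fintype F] {n q : ℕ} (hF : Fintype.card F = q ^ 2)

/-- the hermitian Gram matrix of the columns of `X` -/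
noncomputable def gram (X : Matrix (Fin n) (Fin n) F) : Matrix (Fin n) (Fin n) F := Xᵀ * X.map (sigmaQ hF)

theorem map_mul_sigmaQ (X Y : Matrix (Fin n) (Fin n) F) :
    (X * Y).map (sigmaQ hF) = X.map (sigmaQ hF) * Y.map (sigmaQ hF) :=
  Matrix.map_mul (f := ((sigmaQ hF : F ≃+* F) : F →+* F))

theorem gram_mul (X Y : Matrix (Fin n) (Fin n) F) :
    gram hF (X * Y) = Yᵀ * gram hF X * Y.map (sigmaQ hF) := by
  unfold gram
  rw [Matrix.transpose_mul, map_mul_sigmaQ]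
  simp only [Matrix.mul_assoc]

theorem map_smul_sigmaQ (c : F) (X : Matrix (Fin n) (Fin n) F) :
    (c • X).map (sigmaQ hF) = sigmaQ hF c • X.map (sigmaQ hF) := by
  ext i j
  simp only [Matrix.map_apply, Matrix.smul_apply, smul_eq_mul, map_mul]

theorem gram_smul (c : F) (X : Matrix (Fin n) (Fin n) F) :
    gram hF (c • X) = (c * sigmaQ hF c) • gram hF X := by
  unfold gram
  rw [Matrix.transpose_smul, map_smul_sigmaQ, Matrix.smul_mul, Matrix.mul_smul, smul_smul]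

theorem gram_of_mem_GU (A : GL (Fin n) F) (hA : A ∈ Cfsg.GU n F q) :
    gram hF (A : Matrix (Fin n) (Fin n) F) = 1 :=
  matrix_of_mem_GU (sigmaQ hF) (sigmaQ_apply hF) A hA

theorem hermForm_col (X : Matrix (Fin n) (Fin n) F) (a b : Fin n) :
    Cfsg.hermForm n F q (X.col a) (X.col b) = gram hF X a b := by
  unfold gram Cfsg.hermForm
  rw [Matrix.mul_apply]
  apply Finset.sum_congr rfl
  intro i _
  rw [Matrix.transpose_apply, Matrix.map_apply, sigmaQ_apply]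
  rfl

theorem cancel4 (A B C D' Y : Matrix (Fin n) (Fin n) F) (hAB : A * B = 1) (hCD : C * D' = 1) :
    A * (B * (C * (D' * Y))) = Y := by
  rw [← Matrix.mul_assoc C, hCD, Matrix.one_mul, ← Matrix.mul_assoc, hAB, Matrix.one_mul]

/-- transport of the unitary condition along `X ↦ D⁻¹ X D` -/
theorem gram_twist (D : GL (Fin n) F) (X : Matrix (Fin n) (Fin n) F) :
    (((D⁻¹ : GL (Fin n) F) : Matrix (Fin n) (Fin n) F) * X * (D : Matrix (Fin n) (Fin n) F))ᵀ *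
      gram hF (D : Matrix (Fin n) (Fin n) F) *
      (((D⁻¹ : GL (Fin n) F) : Matrix (Fin n) (Fin n) F) * X *
        (D : Matrix (Fin n) (Fin n) F)).map (sigmaQ hF) =
    (D : Matrix (Fin n) (Fin n) F)ᵀ * gram hF X *
      (D : Matrix (Fin n) (Fin n) F).map (sigmaQ hF) := by
  set Dm : Matrix (Fin n) (Fin n) F := (D : Matrix (Fin n) (Fin n) F) with hDm
  set Di : Matrix (Fin n) (Fin n) F := ((D⁻¹ : GL (Fin n) F) : Matrix (Fin n) (Fin n) F) with hDi
  have h1 : Dm * Di = 1 := coe_mul_inv D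
  have h2 : Diᵀ * Dmᵀ = 1 := by rw [← Matrix.transpose_mul, h1, Matrix.transpose_one]
  have h3 : Dm.map (sigmaQ hF) * Di.map (sigmaQ hF) = 1 := by
    rw [← map_mul_sigmaQ, h1]
    ext i j
    simp [Matrix.one_apply]
  unfold gram
  rw [Matrix.transpose_mul, Matrix.transpose_mul, map_mul_sigmaQ, map_mul_sigmaQ]
  simp only [Matrix.mul_assoc]
  rw [cancel4 _ _ _ _ _ h2 h3]

section Datum

variable {F₀ : Type*} [Field F₀] [Fintype F₀] (hF₀ : Fintype.card F₀ = q) (ι₀ : F₀ →+* F)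

/-- `D` realises the form `η S₀`: `Dᵀ σ(D) = η S₀` -/
def IsDatum (D : GL (Fin n) F) (S₀ : Matrix (Fin n) (Fin n) F₀) (η : F) : Prop :=
  gram hF (D : Matrix (Fin n) (Fin n) F) = η • S₀.map ι₀

include hF₀ in
theorem emb_map_sigmaQ (k : Matrix (Fin n) (Fin n) F₀) :
    (k.map ι₀).map (sigmaQ hF) = k.map ι₀ :=
  map_sigma_map hF₀ ι₀ (sigmaQ hF) (sigmaQ_apply hF) k

include hF₀ in
theorem aOf_mem_CU {D : GL (Fin n) F} {S₀ : Matrix (Fin n) (Fin n) F₀} {η : F} (hη : η ≠ 0)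
    (hdat : IsDatum hF ι₀ D S₀ η) : aOf hF D ∈ CU n F q := by
  set Dm : Matrix (Fin n) (Fin n) F := (D : Matrix (Fin n) (Fin n) F) with hDm
  set Di : Matrix (Fin n) (Fin n) F := ((D⁻¹ : GL (Fin n) F) : Matrix (Fin n) (Fin n) F) with hDi
  set P : Matrix (Fin n) (Fin n) F := Dm.map (sigmaQ hF) with hP
  set Si : Matrix (Fin n) (Fin n) F := (((sG hF D)⁻¹ : GL (Fin n) F) :
    Matrix (Fin n) (Fin n) F) with hSi
  have hση : sigmaQ hF η ≠ 0 := by rw [map_ne_zero]; exact hη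
  have hc0 : η * (sigmaQ hF η)⁻¹ ≠ 0 := mul_ne_zero hη (inv_ne_zero hση)
  apply mem_CU_of_matrix (sigmaQ hF) (sigmaQ_apply hF) (aOf hF D) (Units.mk0 _ hc0)
  rw [Units.val_mk0]
  have hPS : P * Si = 1 := by
    rw [hP, hSi, ← sG_coe]
    exact coe_mul_inv (sG hF D)
  have hDD : Dm * Di = 1 := coe_mul_inv D
  have hSiσ : Si.map (sigmaQ hF) = Di := by
    have : sG hF ((sG hF D)⁻¹) = D⁻¹ := by rw [map_inv, sG_sG]
    rw [hSi, ← sG_coe, this]
  have hX : ((aOf hF D : GL (Fin n) F) : Matrix (Fin n) (Fin n) F) = Dm * Si := rfl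
  have hg1 : Dmᵀ * P = η • S₀.map ι₀ := hdat
  have hg2 : Pᵀ * Dm = sigmaQ hF η • S₀.map ι₀ := by
    have := congrArg (fun M : Matrix (Fin n) (Fin n) F => M.map (sigmaQ hF)) hg1
    simp only [map_mul_sigmaQ, map_smul_sigmaQ, emb_map_sigmaQ hF hF₀ ι₀] at this
    rw [hP, map_map_sigmaQ] at this
    rw [hP, ← Matrix.transpose_map]
    exact this
  have hS' : S₀.map ι₀ = (sigmaQ hF η)⁻¹ • (Pᵀ * Dm) := by
    rw [hg2, smul_smul, inv_mul_cancel₀ hση, one_smul]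
  rw [hX, Matrix.transpose_mul, map_mul_sigmaQ, hSiσ]
  calc Siᵀ * Dmᵀ * (P * Di) = Siᵀ * (Dmᵀ * P) * Di := by simp only [Matrix.mul_assoc]
    _ = Siᵀ * (η • ((sigmaQ hF η)⁻¹ • (Pᵀ * Dm))) * Di := by rw [hg1, ← hS']
    _ = (η * (sigmaQ hF η)⁻¹) • ((Siᵀ * Pᵀ) * (Dm * Di)) := by
        simp only [Matrix.mul_smul, Matrix.smul_mul, smul_smul, Matrix.mul_assoc]
    _ = _ := by rw [← Matrix.transpose_mul, hPS, hDD, Matrix.transpose_one, Matrix.mul_one]

end Datum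

end Cfsg.Agent.Helper5.PSUGr
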