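import Mathlib
import Cfsg.Agent.Lib.Helper5.PSUGr7

/-!
# The centralizer of `gamU (aOf D)` in `Inndiag(PSU_n(q))`

It is the group of similarities of the bilinear form `S₀` over the field with `q` elements, modulo
scalars.
-/

set_option autoImplicit false
set_option linter.unusedSectionVars false
set_option linter.unusedSimpArgs false

namespace Cfsg.Agent.Helper5.PSUGr

open Matrix Cfsg.Agent.Helper13.PSLAut Cfsg.Agent.Helper5 Cfsg.Agent.Helper5.PSUAut

variable {F : Type*} [Field F] [Fintype F] {n q : ℕ} (hF : Fintype.card F = q ^ 2)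
  {F₀ : Type*} [Field F₀] [Fintype F₀] (hF₀ : Fintype.card F₀ = q) (ι₀ : F₀ →+* F)

theorem cancel_twist (D : GL (Fin n) F) (Y Z : Matrix (Fin n) (Fin n) F)
    (h : (D : Matrix (Fin n) (Fin n) F)ᵀ * Y * (D : Matrix (Fin n) (Fin n) F).map (sigmaQ hF) =
      (D : Matrix (Fin n) (Fin n) F)ᵀ * Z * (D : Matrix (Fin n) (Fin n) F).map (sigmaQ hF)) :
    Y = Z := by
  set Dm : Matrix (Fin n) (Fin n) F := (D : Matrix (Fin n) (Fin n) F) with hDm
  set Di : Matrix (Fin n) (Fin n) F := ((D⁻¹ : GL (Fin n) F) : Matrix (Fin n) (Fin n) F) with hDi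
  set P : Matrix (Fin n) (Fin n) F := Dm.map (sigmaQ hF) with hP
  have h1 : Dm * Di = 1 := coe_mul_inv D
  have h2 : Diᵀ * Dmᵀ = 1 := by rw [← Matrix.transpose_mul, h1, Matrix.transpose_one]
  have h3 : P * Di.map (sigmaQ hF) = 1 := by
    rw [hP, ← map_mul_sigmaQ, h1]
    ext i j
    simp [Matrix.one_apply]
  have key : ∀ W : Matrix (Fin n) (Fin n) F,
      Diᵀ * (Dmᵀ * W * P) * Di.map (sigmaQ hF) = W := by
    intro W
    calc Diᵀ * (Dmᵀ * W * P) * Di.map (sigmaQ hF)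
        = (Diᵀ * Dmᵀ) * W * (P * Di.map (sigmaQ hF)) := by simp only [Matrix.mul_assoc]
      _ = W := by rw [h2, h3, Matrix.one_mul, Matrix.mul_one]
  rw [← key Y, h, key Z]

theorem gram_eq_of_twist (D : GL (Fin n) F) (X : Matrix (Fin n) (Fin n) F) (c : F)
    (h : (((D⁻¹ : GL (Fin n) F) : Matrix (Fin n) (Fin n) F) * X *
        (D : Matrix (Fin n) (Fin n) F))ᵀ * gram hF (D : Matrix (Fin n) (Fin n) F) *
      (((D⁻¹ : GL (Fin n) F) : Matrix (Fin n) (Fin n) F) * X *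
        (D : Matrix (Fin n) (Fin n) F)).map (sigmaQ hF) =
      c • gram hF (D : Matrix (Fin n) (Fin n) F)) :
    gram hF X = c • (1 : Matrix (Fin n) (Fin n) F) := by
  rw [gram_twist] at h
  apply cancel_twist hF D
  rw [h, Matrix.mul_smul, Matrix.mul_one, Matrix.smul_mul]
  rfl

theorem twist_of_gram (D : GL (Fin n) F) (X : Matrix (Fin n) (Fin n) F) (c : F)
    (h : gram hF X = c • (1 : Matrix (Fin n) (Fin n) F)) :
    (((D⁻¹ : GL (Fin n) F) : Matrix (Fin n) (Fin n) F) * X *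
        (D : Matrix (Fin n) (Fin n) F))ᵀ * gram hF (D : Matrix (Fin n) (Fin n) F) *
      (((D⁻¹ : GL (Fin n) F) : Matrix (Fin n) (Fin n) F) * X *
        (D : Matrix (Fin n) (Fin n) F)).map (sigmaQ hF) =
      c • gram hF (D : Matrix (Fin n) (Fin n) F) := by
  rw [gram_twist, h, Matrix.mul_smul, Matrix.mul_one, Matrix.smul_mul]
  rfl

/-- `k ↦ D ι(k) D⁻¹` -/
noncomputable def thetaD (D : GL (Fin n) F) (N : Subgroup (GL (Fin n) F₀)) :
    ↥N →* GL (Fin n) F :=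
  ((MulAut.conj D).toMonoidHom.comp (Matrix.GeneralLinearGroup.map ι₀)).comp N.subtype

theorem thetaD_apply (D : GL (Fin n) F) (N : Subgroup (GL (Fin n) F₀)) (k : ↥N) :
    thetaD ι₀ D N k = D * Matrix.GeneralLinearGroup.map ι₀ k.1 * D⁻¹ := rfl

include hF₀ in
theorem thetaD_mem_CU {D : GL (Fin n) F} {S₀ : Matrix (Fin n) (Fin n) F₀} {η : F}
    (hdat : IsDatum hF ι₀ D S₀ η) (N : Subgroup (GL (Fin n) F₀))
    (hN : ∀ k : GL (Fin n) F₀, k ∈ N ↔ ∃ c : F₀ˣ,
      (k : Matrix (Fin n) (Fin n) F₀)ᵀ * S₀ * (k : Matrix (Fin n) (Fin n) F₀) = (c : F₀) • S₀)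
    (k : ↥N) : thetaD ι₀ D N k ∈ CU n F q := by
  obtain ⟨c, hc⟩ := (hN k.1).1 k.2
  apply mem_CU_of_matrix (sigmaQ hF) (sigmaQ_apply hF) _ (Units.map ι₀.toMonoidHom c)
  show gram hF _ = _
  apply gram_eq_of_twist hF D
  set K : Matrix (Fin n) (Fin n) F := (k.1 : Matrix (Fin n) (Fin n) F₀).map ι₀ with hK
  have hX : ((thetaD ι₀ D N k : GL (Fin n) F) : Matrix (Fin n) (Fin n) F) =
      (D : Matrix (Fin n) (Fin n) F) * K * ((D⁻¹ : GL (Fin n) F) : Matrix (Fin n) (Fin n) F) := rfl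
  have hred : ((D⁻¹ : GL (Fin n) F) : Matrix (Fin n) (Fin n) F) *
      ((thetaD ι₀ D N k : GL (Fin n) F) : Matrix (Fin n) (Fin n) F) *
      (D : Matrix (Fin n) (Fin n) F) = K := by
    rw [hX]
    calc ((D⁻¹ : GL (Fin n) F) : Matrix (Fin n) (Fin n) F) *
          ((D : Matrix (Fin n) (Fin n) F) * K *
            ((D⁻¹ : GL (Fin n) F) : Matrix (Fin n) (Fin n) F)) * (D : Matrix (Fin n) (Fin n) F)
        = (((D⁻¹ : GL (Fin n) F) : Matrix (Fin n) (Fin n) F) * (D : Matrix (Fin n) (Fin n) F)) *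
            K * (((D⁻¹ : GL (Fin n) F) : Matrix (Fin n) (Fin n) F) *
              (D : Matrix (Fin n) (Fin n) F)) := by simp only [Matrix.mul_assoc]
      _ = K := by rw [coe_inv_mul, Matrix.one_mul, Matrix.mul_one]
  rw [hred, hdat, hK, emb_map_sigmaQ hF hF₀ ι₀, Matrix.mul_smul, Matrix.smul_mul,
    ← Matrix.transpose_map, ← Matrix.map_mul, ← Matrix.map_mul, hc]
  have : ((c : F₀) • S₀).map ι₀ = ι₀ c • S₀.map ι₀ := by
    ext i j
    simp only [Matrix.map_apply, Matrix.smul_apply, smul_eq_mul, map_mul]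
  rw [this, smul_smul, smul_smul, mul_comm]
  rfl

end Cfsg.Agent.Helper5.PSUGr
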