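import Mathlib
import Cfsg.Agent.Lib.Helper5.PSUGr8

/-!
# The centralizer of `gamU (aOf D)` in `Inndiag(PSU_n(q))` (main statement)
-/

set_option autoImplicit false
set_option linter.unusedSectionVars false
set_option linter.unusedSimpArgs false

namespace Cfsg.Agent.Helper5.PSUGr

open Matrix Cfsg.Agent.Helper13.PSLAut Cfsg.Agent.Helper5 Cfsg.Agent.Helper5.PSUAut

variable {F : Type*} [Field F] [Fintype F] {n q : ℕ} (hF : Fintype.card F = q ^ 2)
  {F₀ : Type*} [Field F₀] [Fintype F₀] (hF₀ : Fintype.card F₀ = q) (ι₀ : F₀ →+* F)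

theorem conj_mem_scalars_iff (D x : GL (Fin n) F) :
    D * x * D⁻¹ ∈ Cfsg.Geo.scalars (Fin n) F ↔ x ∈ Cfsg.Geo.scalars (Fin n) F := by
  constructor
  · intro h
    have := (Cfsg.Geo.scalars_normal (ι := Fin n) (F := F)).conj_mem _ h D⁻¹
    have e : D⁻¹ * (D * x * D⁻¹) * D⁻¹⁻¹ = x := by group
    rw [e] at this
    exact this
  · intro h
    exact (Cfsg.Geo.scalars_normal (ι := Fin n) (F := F)).conj_mem _ h D

theorem gl_ne_zero (hn : 0 < n) (K : GL (Fin n) F) : (K : Matrix (Fin n) (Fin n) F) ≠ 0 := by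
  intro h0
  have h1 := coe_mul_inv K
  rw [h0, Matrix.zero_mul] at h1
  have := congrFun (congrFun h1 ⟨0, hn⟩) ⟨0, hn⟩
  simp at this

include hF₀ in
/-- a twisted-fixed element of `GL_n(F)` is a scalar multiple of the image of an element of
`GL_n(F₀)` -/
theorem exists_GL_descent (hn : 0 < n) (K : GL (Fin n) F) (lam : Fˣ)
    (hK : sG hF K = K * scGL n lam) :
    ∃ (μ : Fˣ) (k : GL (Fin n) F₀), Matrix.GeneralLinearGroup.map ι₀ k = K * scGL n μ := by
  have hKm : (K : Matrix (Fin n) (Fin n) F).map (sigmaQ hF) =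
      (lam : F) • (K : Matrix (Fin n) (Fin n) F) := by
    rw [← sG_coe, hK, mul_scGL_coe]
  obtain ⟨μ, H, hμ0, hH⟩ := exists_descent hF hF₀ ι₀ _ _ hKm (gl_ne_zero hn K)
  have hdetK : (K : Matrix (Fin n) (Fin n) F).det ≠ 0 :=
    Matrix.det_ne_zero_of_right_inverse (coe_mul_inv K)
  have hdetH : H.det ≠ 0 := by
    intro h0
    have h1 : (H.map ι₀).det = ι₀ H.det := (RingHom.map_det ι₀ H).symm
    rw [h0, map_zero, hH, Matrix.det_smul] at h1
    exact mul_ne_zero (pow_ne_zero _ hμ0) hdetK h1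
  refine ⟨Units.mk0 μ hμ0, Matrix.GeneralLinearGroup.mkOfDetNeZero H hdetH, ?_⟩
  apply Units.ext
  rw [emb_coe, mul_scGL_coe, Units.val_mk0]
  exact hH

include hF hF₀ in
/-- The centralizer in `Inndiag(PSU_n(q))` of `gamU (D σ(D)⁻¹)`, where `Dᵀ σ(D) = η S₀`, is the
group of similarities of the bilinear form `S₀` over `F₀` modulo scalars. -/
theorem cent_gamU_equiv (hn : 3 ≤ n) (h32 : ¬ (n = 3 ∧ q = 2)) {D : GL (Fin n) F}
    {S₀ : Matrix (Fin n) (Fin n) F₀} {η : F} (hη : η ≠ 0) (hS₀ : S₀ ≠ 0)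
    (hdat : IsDatum hF ι₀ D S₀ η) (a : ↥(CU n F q)) (ha : a.1 = aOf hF D)
    (N : Subgroup (GL (Fin n) F₀))
    (hN : ∀ k : GL (Fin n) F₀, k ∈ N ↔ ∃ c : F₀ˣ,
      (k : Matrix (Fin n) (Fin n) F₀)ᵀ * S₀ * (k : Matrix (Fin n) (Fin n) F₀) = (c : F₀) • S₀) :
    Nonempty (↥(Cfsg.inndiagPSU n F q ⊓ Subgroup.centralizer {gamU hF a}) ≃* Cfsg.projQuot N) := by
  have hn0 : 0 < n := by omega
  let thetaCU : ↥N →* ↥(CU n F q) := (thetaD ι₀ D N).codRestrict (CU n F q)
    (fun k => thetaD_mem_CU hF hF₀ ι₀ hdat N hN k)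
  let ψ : ↥N →* MulAut (Cfsg.PSU n F q) := (PhiU (F := F) (n := n) (q := q)).comp thetaCU
  have hval : ∀ k : ↥N, (thetaCU k).1 = D * Matrix.GeneralLinearGroup.map ι₀ k.1 * D⁻¹ :=
    fun k => rfl
  have hrange : ψ.range = Cfsg.inndiagPSU n F q ⊓ Subgroup.centralizer {gamU hF a} := by
    ext x
    constructor
    · rintro ⟨k, rfl⟩
      refine ⟨PhiU_mem_inndiag hF hn h32 _, ?_⟩
      show PhiU (thetaCU k) ∈ Subgroup.centralizer {gamU hF a}
      rw [mem_centralizer_gamU_iff hF hn h32, sigmaCU_val', hval, ha]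
      have e : (aOf hF D * sG hF (D * Matrix.GeneralLinearGroup.map ι₀ k.1 * D⁻¹))⁻¹ *
          (D * Matrix.GeneralLinearGroup.map ι₀ k.1 * D⁻¹ * aOf hF D) = 1 := by
        unfold aOf
        rw [map_mul, map_mul, map_inv, sG_emb hF hF₀ ι₀]
        group
      rw [e]
      exact Subgroup.one_mem _
    · rintro ⟨h1, h3⟩
      obtain ⟨g, hgGU, rfl⟩ := (mem_inndiagPSU_iff x).1 h1
      replace h3 : PhiU g ∈ Subgroup.centralizer {gamU hF a} := h3
      rw [mem_centralizer_gamU_iff hF hn h32, sigmaCU_val', ha] at h3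
      obtain ⟨lam, hlam⟩ := h3
      have hz : (aOf hF D * sG hF g.1)⁻¹ * (g.1 * aOf hF D) = scGL n lam := hlam.symm
      -- the twisted-fixed element
      set K : GL (Fin n) F := D⁻¹ * g.1 * D with hK
      have hsGg : sG hF g.1 = (aOf hF D)⁻¹ * g.1 * aOf hF D * scGL n lam⁻¹ := by
        have h4 : g.1 * aOf hF D = aOf hF D * sG hF g.1 * scGL n lam := by
          rw [← hz]; group
        have h5 : scGL n lam * scGL n lam⁻¹ = (1 : GL (Fin n) F) := by
          unfold scGL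
          rw [← map_mul, mul_inv_cancel, map_one]
        have h6 : (aOf hF D)⁻¹ * (aOf hF D * sG hF g.1 * scGL n lam) * scGL n lam⁻¹ =
            sG hF g.1 * (scGL n lam * scGL n lam⁻¹) := by group
        calc sG hF g.1 = (aOf hF D)⁻¹ * (aOf hF D * sG hF g.1 * scGL n lam) * scGL n lam⁻¹ := by
              rw [h6, h5, mul_one]
          _ = _ := by rw [← h4]; group
      have hKfix : sG hF K = K * scGL n lam⁻¹ := by
        rw [hK, map_mul, map_mul, map_inv, hsGg]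
        have hc := scGL_comm (sG hF D) lam⁻¹
        unfold aOf
        calc (sG hF D)⁻¹ * ((D * (sG hF D)⁻¹)⁻¹ * g.1 * (D * (sG hF D)⁻¹) * scGL n lam⁻¹) * sG hF D
            = D⁻¹ * g.1 * D * (sG hF D)⁻¹ * (scGL n lam⁻¹ * sG hF D) := by group
          _ = D⁻¹ * g.1 * D * (sG hF D)⁻¹ * (sG hF D * scGL n lam⁻¹) := by rw [hc]
          _ = _ := by group
      obtain ⟨μ, k, hk⟩ := exists_GL_descent hF hF₀ ι₀ hn0 K lam⁻¹ hKfix
      -- `k` is a similarity of `S₀`
      have hKm : (K : Matrix (Fin n) (Fin n) F).map (sigmaQ hF) =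
          ((lam⁻¹ : Fˣ) : F) • (K : Matrix (Fin n) (Fin n) F) := by
        rw [← sG_coe, hKfix, mul_scGL_coe]
      have hKval : (K : Matrix (Fin n) (Fin n) F) =
          ((D⁻¹ : GL (Fin n) F) : Matrix (Fin n) (Fin n) F) *
            (g.1 : Matrix (Fin n) (Fin n) F) * (D : Matrix (Fin n) (Fin n) F) := rfl
      have hgram : gram hF (g.1 : Matrix (Fin n) (Fin n) F) =
          (1 : F) • (1 : Matrix (Fin n) (Fin n) F) := by
        rw [one_smul]; exact gram_of_mem_GU hF g.1 hgGU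
      have htw := twist_of_gram hF D _ 1 hgram
      rw [← hKval, hKm, one_smul, hdat] at htw
      have hlam0 : ((lam⁻¹ : Fˣ) : F) ≠ 0 := Units.ne_zero _
      have hKSK : (K : Matrix (Fin n) (Fin n) F)ᵀ * S₀.map ι₀ * (K : Matrix (Fin n) (Fin n) F) =
          (lam : F) • S₀.map ι₀ := by
        have h6 : (η * ((lam⁻¹ : Fˣ) : F)) •
            ((K : Matrix (Fin n) (Fin n) F)ᵀ * S₀.map ι₀ * (K : Matrix (Fin n) (Fin n) F)) =
            η • S₀.map ι₀ := by
          rw [← htw]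
          simp only [Matrix.mul_smul, Matrix.smul_mul, smul_smul]
          rw [mul_comm]
        have h7 := congrArg (fun M : Matrix (Fin n) (Fin n) F => (η⁻¹ * (lam : F)) • M) h6
        simp only [smul_smul] at h7
        have e1 : η⁻¹ * (lam : F) * (η * ((lam⁻¹ : Fˣ) : F)) = 1 := by
          rw [Units.val_inv_eq_inv_val]
          field_simp
        have e2 : η⁻¹ * (lam : F) * η = (lam : F) := by field_simp
        rw [e1, e2, one_smul] at h7
        exact h7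
      have hkm : (k : Matrix (Fin n) (Fin n) F₀).map ι₀ =
          (μ : F) • (K : Matrix (Fin n) (Fin n) F) := by
        rw [← emb_coe, hk, mul_scGL_coe]
      have hkS : ((k : Matrix (Fin n) (Fin n) F₀)ᵀ * S₀ * (k : Matrix (Fin n) (Fin n) F₀)).map ι₀ =
          ((μ : F) * μ * lam) • S₀.map ι₀ := by
        rw [Matrix.map_mul, Matrix.map_mul, Matrix.transpose_map, hkm, Matrix.transpose_smul]
        simp only [Matrix.mul_smul, Matrix.smul_mul, smul_smul]
        rw [hKSK, smul_smul]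
      have ht0 : (μ : F) * μ * lam ≠ 0 :=
        mul_ne_zero (mul_ne_zero μ.ne_zero μ.ne_zero) lam.ne_zero
      obtain ⟨r, hr0, hr⟩ := scalar_descends ι₀ _ S₀ _ ht0 hS₀ hkS
      have hkN : k ∈ N := (hN k).2 ⟨Units.mk0 r hr0, hr⟩
      refine ⟨⟨k, hkN⟩, ?_⟩
      show PhiU (thetaCU ⟨k, hkN⟩) = PhiU g
      symm
      rw [PhiU_eq_iff hF hn h32, hval]
      show (g.1)⁻¹ * (D * Matrix.GeneralLinearGroup.map ι₀ k * D⁻¹) ∈ _
      rw [hk, hK]
      have hc := scGL_comm (D⁻¹ : GL (Fin n) F) μ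
      have e : (g.1)⁻¹ * (D * (D⁻¹ * g.1 * D * scGL n μ) * D⁻¹) = scGL n μ := by
        calc (g.1)⁻¹ * (D * (D⁻¹ * g.1 * D * scGL n μ) * D⁻¹)
            = D * (scGL n μ * D⁻¹) := by group
          _ = D * (D⁻¹ * scGL n μ) := by rw [hc]
          _ = _ := by group
      rw [e]
      exact scGL_mem μ
  have hker : ψ.ker = (Cfsg.Geo.scalars (Fin n) F₀).subgroupOf N := by
    ext k
    rw [MonoidHom.mem_ker, Subgroup.mem_subgroupOf]
    show PhiU (thetaCU k) = 1 ↔ _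
    rw [PhiU_eq_one_iff hF hn h32, hval, conj_mem_scalars_iff, emb_mem_scalars_iff ι₀ hn0]
  have e1 : ↥N ⧸ ψ.ker ≃* ψ.range := QuotientGroup.quotientKerEquivRange ψ
  have e2 : ↥N ⧸ ψ.ker ≃* ↥N ⧸ (Cfsg.Geo.scalars (Fin n) F₀).subgroupOf N :=
    QuotientGroup.quotientMulEquivOfEq hker
  have e3 : ψ.range ≃* ↥(Cfsg.inndiagPSU n F q ⊓ Subgroup.centralizer {gamU hF a}) :=
    MulEquiv.subgroupCongr hrange
  exact ⟨(e3.symm.trans e1.symm).trans e2⟩

end Cfsg.Agent.Helper5.PSUGr
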