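import Mathlib
import Cfsg.Agent.Lib.Helper5.PSUGr9

/-!
# Conjugacy of the automorphisms `gamU (aOf D)` versus congruence of the forms `S₀`
-/

set_option autoImplicit false
set_option linter.unusedSectionVars false
set_option linter.unusedSimpArgs false

namespace Cfsg.Agent.Helper5.PSUGr

open Matrix Cfsg.Agent.Helper13.PSLAut Cfsg.Agent.Helper5 Cfsg.Agent.Helper5.PSUAut

variable {F : Type*} [Field F] [Fintype F] {n q : ℕ} (hF : Fintype.card F = q ^ 2)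
  {F₀ : Type*} [Field F₀] [Fintype F₀] (hF₀ : Fintype.card F₀ = q) (ι₀ : F₀ →+* F)

theorem map_smul_emb (c : F₀) (S : Matrix (Fin n) (Fin n) F₀) :
    (c • S).map ι₀ = ι₀ c • S.map ι₀ := by
  ext i j
  simp only [Matrix.map_apply, Matrix.smul_apply, smul_eq_mul, map_mul]

include hF hF₀ in
/-- congruent forms (up to a scalar) give conjugate automorphisms -/
theorem conj_of_cong (hn : 3 ≤ n) (h32 : ¬ (n = 3 ∧ q = 2)) {D D' : GL (Fin n) F}
    {S₀ S₀' : Matrix (Fin n) (Fin n) F₀} {η : F} (hη : η ≠ 0)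
    (hdat : IsDatum hF ι₀ D S₀ η) (hdat' : IsDatum hF ι₀ D' S₀' η)
    (a a' : ↥(CU n F q)) (ha : a.1 = aOf hF D) (ha' : a'.1 = aOf hF D')
    (k : Matrix (Fin n) (Fin n) F₀) (hk : k.det ≠ 0) (c : F₀) (hc : c ≠ 0)
    (hcong : kᵀ * S₀ * k = c • S₀') :
    Cfsg.IsConjUnder (Cfsg.inndiagPSU n F q) (gamU hF a) (gamU hF a') := by
  set kG : GL (Fin n) F₀ := Matrix.GeneralLinearGroup.mkOfDetNeZero k hk with hkG
  have hιc0 : ι₀ c ≠ 0 := by rw [map_ne_zero]; exact hc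
  have hfix : ((ι₀ c)⁻¹) ^ q = (ι₀ c)⁻¹ := by
    rw [inv_pow, ← sigmaQ_apply hF, sigma_emb hF₀ ι₀ (sigmaQ hF) (sigmaQ_apply hF)]
  obtain ⟨l, hl0, hl⟩ := exists_pow_add_one hF _ (inv_ne_zero hιc0) hfix
  set D'' : GL (Fin n) F := D * Matrix.GeneralLinearGroup.map ι₀ kG * scGL n (Units.mk0 l hl0)
    with hD''
  have hD''m : (D'' : Matrix (Fin n) (Fin n) F) =
      l • ((D : Matrix (Fin n) (Fin n) F) * k.map ι₀) := by
    rw [hD'', mul_scGL_coe, Units.val_mk0, Units.val_mul, emb_coe]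
    rfl
  have hcong' : (k.map ι₀)ᵀ * S₀.map ι₀ * k.map ι₀ = ι₀ c • S₀'.map ι₀ := by
    rw [← Matrix.transpose_map, ← Matrix.map_mul, ← Matrix.map_mul, hcong, map_smul_emb]
  have hgram'' : gram hF (D'' : Matrix (Fin n) (Fin n) F) = η • S₀'.map ι₀ := by
    rw [hD''m, gram_smul, gram_mul, hdat, emb_map_sigmaQ hF hF₀ ι₀]
    simp only [Matrix.mul_smul, Matrix.smul_mul, smul_smul]
    rw [hcong', smul_smul]
    congr 1
    have : l * sigmaQ hF l = (ι₀ c)⁻¹ := by rw [sigmaQ_apply, ← pow_succ', hl]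
    rw [this]
    field_simp
  have hx : LinearIndependent F (D'' : Matrix (Fin n) (Fin n) F).col :=
    Matrix.linearIndependent_cols_iff_isUnit.2 (Units.isUnit D'')
  have hy : LinearIndependent F (D' : Matrix (Fin n) (Fin n) F).col :=
    Matrix.linearIndependent_cols_iff_isUnit.2 (Units.isUnit D')
  have hG : ∀ i j, Cfsg.hermForm n F q ((D'' : Matrix (Fin n) (Fin n) F).col i)
      ((D'' : Matrix (Fin n) (Fin n) F).col j) =
      Cfsg.hermForm n F q ((D' : Matrix (Fin n) (Fin n) F).col i)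
        ((D' : Matrix (Fin n) (Fin n) F).col j) := by
    intro i j
    rw [hermForm_col hF, hermForm_col hF, hgram'', hdat']
  obtain ⟨A, hA, hAv⟩ := Cfsg.Agent.Helper13.exists_GU_frame hF _ _ hx hy hG
  have hAD : A * D'' = D' := by
    apply Units.ext
    rw [Units.val_mul]
    ext i b
    have := congrFun (hAv b) i
    rw [Matrix.mul_apply]
    exact this
  obtain ⟨ν, hν⟩ := aOf_mul_scalar hF (D * Matrix.GeneralLinearGroup.map ι₀ kG) (Units.mk0 l hl0)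
  have haD' : aOf hF D' = A * aOf hF D * (sG hF A)⁻¹ * scGL n ν := by
    rw [← hAD, aOf_mul_left, hD'', hν, aOf_mul_emb hF hF₀ ι₀]
    have hcm := scGL_comm (sG hF A)⁻¹ ν
    calc A * (aOf hF D * scGL n ν) * (sG hF A)⁻¹
        = A * aOf hF D * (scGL n ν * (sG hF A)⁻¹) := by group
      _ = A * aOf hF D * ((sG hF A)⁻¹ * scGL n ν) := by rw [hcm]
      _ = _ := by group
  refine ⟨PhiU ⟨A, GU_le_CU hA⟩, PhiU_mem_inndiag hF hn h32 _, ?_⟩
  rw [conj_gamU, gamU_eq_iff hF hn h32]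
  show (a'.1)⁻¹ * (A * a.1 * (sG hF A)⁻¹) ∈ _
  rw [ha', ha, haD']
  have : (A * aOf hF D * (sG hF A)⁻¹ * scGL n ν)⁻¹ * (A * aOf hF D * (sG hF A)⁻¹) =
      (scGL n ν)⁻¹ := by group
  rw [this]
  exact inv_mem (scGL_mem ν)

include hF hF₀ in
/-- conjugate automorphisms have congruent forms (up to a scalar) -/
theorem cong_of_conj (hn : 3 ≤ n) (h32 : ¬ (n = 3 ∧ q = 2)) {D D' : GL (Fin n) F}
    {S₀ S₀' : Matrix (Fin n) (Fin n) F₀} {η η' : F} (hη : η ≠ 0) (hη' : η' ≠ 0)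
    (hS₀' : S₀' ≠ 0)
    (hdat : IsDatum hF ι₀ D S₀ η) (hdat' : IsDatum hF ι₀ D' S₀' η')
    (a a' : ↥(CU n F q)) (ha : a.1 = aOf hF D) (ha' : a'.1 = aOf hF D')
    (hconj : Cfsg.IsConjUnder (Cfsg.inndiagPSU n F q) (gamU hF a) (gamU hF a')) :
    ∃ (k : Matrix (Fin n) (Fin n) F₀) (c : F₀), k.det ≠ 0 ∧ c ≠ 0 ∧ kᵀ * S₀ * k = c • S₀' := by
  have hn0 : 0 < n := by omega
  obtain ⟨h, hh, he⟩ := hconj
  obtain ⟨A', hAGU, rfl⟩ := (mem_inndiagPSU_iff h).1 hh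
  rw [conj_gamU, gamU_eq_iff hF hn h32] at he
  obtain ⟨z, hz⟩ := he
  set A : GL (Fin n) F := A'.1 with hA
  have hz' : scGL n z = (a'.1)⁻¹ * (A * a.1 * (sG hF A)⁻¹) := hz
  rw [ha, ha'] at hz'
  set E : GL (Fin n) F := (A * D)⁻¹ * D' with hE
  have hEfix : sG hF E = E * scGL n z := by
    have h1 : A * aOf hF D * (sG hF A)⁻¹ = aOf hF D' * scGL n z := by
      rw [hz']; group
    unfold aOf at h1
    have h2 : (sG hF (A * D))⁻¹ = (A * D)⁻¹ * (D' * (sG hF D')⁻¹ * scGL n z) := by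
      rw [← h1, map_mul]; group
    have hcm := scGL_comm (sG hF D') z
    rw [hE, map_mul, map_inv, h2]
    calc (A * D)⁻¹ * (D' * (sG hF D')⁻¹ * scGL n z) * sG hF D'
        = (A * D)⁻¹ * D' * (sG hF D')⁻¹ * (scGL n z * sG hF D') := by group
      _ = (A * D)⁻¹ * D' * (sG hF D')⁻¹ * (sG hF D' * scGL n z) := by rw [hcm]
      _ = _ := by group
  obtain ⟨μ, k, hk⟩ := exists_GL_descent hF hF₀ ι₀ hn0 E z hEfix
  have hEm : (E : Matrix (Fin n) (Fin n) F).map (sigmaQ hF) =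
      (z : F) • (E : Matrix (Fin n) (Fin n) F) := by
    rw [← sG_coe, hEfix, mul_scGL_coe]
  have hD' : D' = A * D * E := by rw [hE]; group
  have hgram : gram hF (D' : Matrix (Fin n) (Fin n) F) =
      (η * (z : F)) • ((E : Matrix (Fin n) (Fin n) F)ᵀ * S₀.map ι₀ *
        (E : Matrix (Fin n) (Fin n) F)) := by
    rw [hD', Units.val_mul, Units.val_mul, gram_mul, gram_mul, gram_of_mem_GU hF A hAGU,
      Matrix.mul_one]
    have : (D : Matrix (Fin n) (Fin n) F)ᵀ * (D : Matrix (Fin n) (Fin n) F).map (sigmaQ hF) =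
        η • S₀.map ι₀ := hdat
    rw [this, hEm]
    simp only [Matrix.mul_smul, Matrix.smul_mul, smul_smul]
    rw [mul_comm]
  have hdat'' : gram hF (D' : Matrix (Fin n) (Fin n) F) = η' • S₀'.map ι₀ := hdat'
  have hz0 : (z : F) ≠ 0 := z.ne_zero
  have hESE : (E : Matrix (Fin n) (Fin n) F)ᵀ * S₀.map ι₀ * (E : Matrix (Fin n) (Fin n) F) =
      (η' * (η * (z : F))⁻¹) • S₀'.map ι₀ := by
    have h7 := congrArg (fun M : Matrix (Fin n) (Fin n) F => ((η * (z : F))⁻¹) • M)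
      (hgram.symm.trans hdat'')
    simp only [smul_smul] at h7
    rw [inv_mul_cancel₀ (mul_ne_zero hη hz0), one_smul] at h7
    rw [h7, mul_comm]
  have hkm : (k : Matrix (Fin n) (Fin n) F₀).map ι₀ =
      (μ : F) • (E : Matrix (Fin n) (Fin n) F) := by
    rw [← emb_coe, hk, mul_scGL_coe]
  have hkS : ((k : Matrix (Fin n) (Fin n) F₀)ᵀ * S₀ * (k : Matrix (Fin n) (Fin n) F₀)).map ι₀ =
      ((μ : F) * μ * (η' * (η * (z : F))⁻¹)) • S₀'.map ι₀ := by
    rw [Matrix.map_mul, Matrix.map_mul, Matrix.transpose_map, hkm, Matrix.transpose_smul]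
    simp only [Matrix.mul_smul, Matrix.smul_mul, smul_smul]
    rw [hESE, smul_smul]
  have ht0 : (μ : F) * μ * (η' * (η * (z : F))⁻¹) ≠ 0 :=
    mul_ne_zero (mul_ne_zero μ.ne_zero μ.ne_zero)
      (mul_ne_zero hη' (inv_ne_zero (mul_ne_zero hη hz0)))
  obtain ⟨r, hr0, hr⟩ := scalar_descends ι₀ _ S₀' _ ht0 hS₀' hkS
  exact ⟨(k : Matrix (Fin n) (Fin n) F₀), r, Matrix.GeneralLinearGroup.det_ne_zero k, hr0, hr⟩

end Cfsg.Agent.Helper5.PSUGr
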