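import Mathlib
import Cfsg.Agent.Lib.Helper5.PSUGr10

/-!
# Every involutory graph automorphism of `PSU_n(q)` comes from a twisting datum
-/

set_option autoImplicit false
set_option linter.unusedSectionVars false
set_option linter.unusedSimpArgs false

namespace Cfsg.Agent.Helper5.PSUGr

open Matrix Cfsg.Agent.Helper13.PSLAut Cfsg.Agent.Helper5 Cfsg.Agent.Helper5.PSUAut

theorem isConjUnder_symm {X : Type*} [Group X] {H : Subgroup X} {x y : X}
    (h : Cfsg.IsConjUnder H x y) : Cfsg.IsConjUnder H y x := by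
  obtain ⟨g, hg, rfl⟩ := h
  exact ⟨g⁻¹, inv_mem hg, by group⟩

variable {F : Type*} [Field F] [Fintype F] {n q : ℕ} (hF : Fintype.card F = q ^ 2)
  {F₀ : Type*} [Field F₀] [Fintype F₀] (hF₀ : Fintype.card F₀ = q) (ι₀ : F₀ →+* F)

theorem aOf_mul_sG (D : GL (Fin n) F) : aOf hF D * sG hF (aOf hF D) = 1 := by
  unfold aOf
  rw [map_mul, map_inv, sG_sG]
  group

include hF₀ in
/-- a matrix fixed entrywise by the `q`-power map comes from `F₀` -/
theorem exists_emb_of_fixed (S : Matrix (Fin n) (Fin n) F) (hS : S.map (sigmaQ hF) = S) :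
    ∃ S₀ : Matrix (Fin n) (Fin n) F₀, S₀.map ι₀ = S := by
  have hfix : ∀ i j, (S i j) ^ q = S i j := by
    intro i j
    have := congrFun (congrFun hS i) j
    rw [Matrix.map_apply, sigmaQ_apply] at this
    exact this
  choose H₀ hH₀ using fun i j => exists_of_pow_q_eq hF hF₀ ι₀ (S i j) (hfix i j)
  refine ⟨Matrix.of H₀, ?_⟩
  ext i j
  rw [Matrix.map_apply, Matrix.of_apply, hH₀]

include hF₀ in
/-- existence of a twisting datum for a given hermitian `η S₀` -/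
theorem exists_datum (S₀ : Matrix (Fin n) (Fin n) F₀) (hdet : S₀.det ≠ 0) (η : F) (hη : η ≠ 0)
    (h : (sigmaQ hF η = η ∧ S₀ᵀ = S₀) ∨ (sigmaQ hF η = -η ∧ S₀ᵀ = -S₀)) :
    ∃ D : GL (Fin n) F, IsDatum hF ι₀ D S₀ η := by
  have hherm : (η • S₀.map ι₀).map (sigmaQ hF) = (η • S₀.map ι₀)ᵀ := by
    rw [map_smul_sigmaQ, emb_map_sigmaQ hF hF₀ ι₀, Matrix.transpose_smul, ← Matrix.transpose_map]
    rcases h with ⟨h1, h2⟩ | ⟨h1, h2⟩
    · rw [h1, h2]
    · rw [h1, h2]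
      ext i j
      simp
  have hdet' : (η • S₀.map ι₀).det ≠ 0 := by
    rw [Matrix.det_smul]
    apply mul_ne_zero (pow_ne_zero _ hη)
    have h1 : (S₀.map ι₀).det = ι₀ S₀.det := (RingHom.map_det ι₀ S₀).symm
    rw [h1, map_ne_zero]
    exact hdet
  obtain ⟨Dm, hDdet, hD⟩ := exists_gram (sigmaQ hF) (sigmaQ_sigmaQ hF) (exists_sigmaQ_ne hF)
    _ hherm hdet'
  exact ⟨Matrix.GeneralLinearGroup.mkOfDetNeZero Dm hDdet, hD⟩

theorem gram_det_ne_zero (D : GL (Fin n) F) :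
    (gram hF (D : Matrix (Fin n) (Fin n) F)).det ≠ 0 := by
  unfold gram
  rw [Matrix.det_mul, Matrix.det_transpose]
  have h1 : (D : Matrix (Fin n) (Fin n) F).det ≠ 0 := Matrix.GeneralLinearGroup.det_ne_zero D
  have h2 : ((D : Matrix (Fin n) (Fin n) F).map (sigmaQ hF)).det =
      sigmaQ hF (D : Matrix (Fin n) (Fin n) F).det :=
    (RingHom.map_det ((sigmaQ hF : F ≃+* F) : F →+* F) _).symm
  rw [h2]
  exact mul_ne_zero h1 ((map_ne_zero _).2 h1)

/-- the descent step: `A` unitary with `Aᵀ = ε A`, `μ σ(μ) = ε`, `ε² = 1` -/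
theorem exists_twist (g : GL (Fin n) F) (hgGU : g ∈ Cfsg.GU n F q) (ε : F) (hε2 : ε * ε = 1)
    (hε : (g : Matrix (Fin n) (Fin n) F)ᵀ = ε • (g : Matrix (Fin n) (Fin n) F)) (μ : Fˣ)
    (hμ : (μ : F) * sigmaQ hF μ = ε) :
    ∃ (D : GL (Fin n) F), g * scGL n μ = aOf hF D ∧
      (gram hF (D : Matrix (Fin n) (Fin n) F)).map (sigmaQ hF) =
        ε • gram hF (D : Matrix (Fin n) (Fin n) F) ∧
      (gram hF (D : Matrix (Fin n) (Fin n) F))ᵀ =
        ε • gram hF (D : Matrix (Fin n) (Fin n) F) := by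
  set A : Matrix (Fin n) (Fin n) F := (g : Matrix (Fin n) (Fin n) F) with hA
  have hGU : Aᵀ * A.map (sigmaQ hF) = 1 := matrix_of_mem_GU (sigmaQ hF) (sigmaQ_apply hF) g hgGU
  have hAA : A * A.map (sigmaQ hF) = ε • (1 : Matrix (Fin n) (Fin n) F) := by
    have h1 : A = ε • Aᵀ := by rw [hε, smul_smul, hε2, one_smul]
    calc A * A.map (sigmaQ hF) = (ε • Aᵀ) * A.map (sigmaQ hF) := by rw [← h1]
      _ = _ := by rw [Matrix.smul_mul, hGU]
  set A' : Matrix (Fin n) (Fin n) F := (μ : F) • A with hA'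
  have hA'A' : A' * A'.map (sigmaQ hF) = 1 := by
    rw [hA', map_smul_sigmaQ, Matrix.smul_mul, Matrix.mul_smul, smul_smul, hAA, smul_smul,
      hμ, hε2, one_smul]
  obtain ⟨Dm, hDdet, hD⟩ := exists_fixed_basis (sigmaQ hF) (sigmaQ_sigmaQ hF)
    (exists_sigmaQ_ne hF) A' hA'A'
  set D : GL (Fin n) F := Matrix.GeneralLinearGroup.mkOfDetNeZero Dm hDdet with hDdef
  have hDm : (D : Matrix (Fin n) (Fin n) F) = Dm := rfl
  set P : Matrix (Fin n) (Fin n) F := Dm.map (sigmaQ hF) with hP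
  have hA'T : A'ᵀ = ε • A' := by
    rw [hA', Matrix.transpose_smul, hε, smul_smul, smul_smul, mul_comm]
  have hS1 : gram hF Dm = ε • (Pᵀ * A' * P) := by
    calc gram hF Dm = Dmᵀ * P := rfl
      _ = (A' * P)ᵀ * P := by rw [hD]
      _ = ε • (Pᵀ * A' * P) := by
          rw [Matrix.transpose_mul, hA'T, Matrix.mul_smul, Matrix.smul_mul]
  have hS2 : (gram hF Dm).map (sigmaQ hF) = Pᵀ * A' * P := by
    calc (gram hF Dm).map (sigmaQ hF) = (Dmᵀ * P).map (sigmaQ hF) := rfl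
      _ = Pᵀ * Dm := by
          rw [map_mul_sigmaQ, Matrix.transpose_map, hP, map_map_sigmaQ]
      _ = Pᵀ * (A' * P) := by rw [hD]
      _ = _ := by rw [Matrix.mul_assoc]
  refine ⟨D, ?_, ?_, ?_⟩
  · have h1 : g * scGL n μ * sG hF D = D := by
      apply Units.ext
      rw [Units.val_mul, mul_scGL_coe, sG_coe, hDm]
      exact hD
    exact eq_mul_inv_of_mul_eq h1
  · rw [hDm, hS2, hS1, smul_smul, hε2, one_smul]
  · rw [hDm, hS1, Matrix.transpose_smul]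
    congr 1
    rw [Matrix.transpose_mul, Matrix.transpose_mul, Matrix.transpose_transpose, hA'T]
    simp only [Matrix.mul_smul, Matrix.smul_mul, Matrix.mul_assoc]

include hF hF₀ in
/-- an involutory graph automorphism is `gamU (aOf D)` for a datum with `S₀` symmetric (and
`η = 1`) or skew-symmetric (and `η = η₀`) -/
theorem graph_invol_datum (hn : 3 ≤ n) (h32 : ¬ (n = 3 ∧ q = 2)) (η₀ : F) (hη₀0 : η₀ ≠ 0)
    (hη₀ : sigmaQ hF η₀ = -η₀) (γ : MulAut (Cfsg.PSU n F q))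
    (hγ : Cfsg.IsGraphAutClassPSU γ) (h2 : orderOf γ = 2) :
    ∃ (D : GL (Fin n) F) (S₀ : Matrix (Fin n) (Fin n) F₀) (a : ↥(CU n F q)),
      a.1 = aOf hF D ∧ γ = gamU hF a ∧ S₀.det ≠ 0 ∧
      ((S₀ᵀ = S₀ ∧ IsDatum hF ι₀ D S₀ 1) ∨ (S₀ᵀ = -S₀ ∧ IsDatum hF ι₀ D S₀ η₀)) := by
  obtain ⟨g, hgGU, rfl, hsym⟩ := graph_invol hF hn h32 γ hγ h2
  rcases hsym with hsym | hsym
  · -- symmetric
    obtain ⟨D, hgD, hS1, hS2⟩ := exists_twist hF g.1 hgGU 1 (one_mul 1)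
      (by rw [one_smul]; exact hsym) 1 (by rw [Units.val_one, map_one, one_mul])
    rw [one_smul] at hS1 hS2
    obtain ⟨S₀, hS₀⟩ := exists_emb_of_fixed hF hF₀ ι₀ _ hS1
    have hscGL1 : scGL n (1 : Fˣ) = 1 := by unfold scGL; rw [map_one]
    rw [hscGL1, mul_one] at hgD
    refine ⟨D, S₀, g, hgD, rfl, ?_, Or.inl ⟨?_, ?_⟩⟩
    · intro h0
      have h1 : (S₀.map ι₀).det = ι₀ S₀.det := (RingHom.map_det ι₀ S₀).symm
      rw [h0, map_zero, hS₀] at h1
      exact gram_det_ne_zero hF D h1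
    · apply map_injective_matrix ι₀
      rw [Matrix.transpose_map, hS₀, hS2]
    · unfold IsDatum
      rw [one_smul, hS₀]
  · -- skew
    have hm1 : ((-1 : F)) ^ q = -1 := by
      rw [← sigmaQ_apply hF, map_neg, map_one]
    obtain ⟨κ, hκ0, hκ⟩ := exists_pow_add_one hF (-1) (neg_ne_zero.2 one_ne_zero) hm1
    obtain ⟨D, hgD, hS1, hS2⟩ := exists_twist hF g.1 hgGU (-1) (by ring)
      (by rw [neg_smul, one_smul]; exact hsym) (Units.mk0 κ hκ0)
      (by rw [Units.val_mk0, sigmaQ_apply, ← pow_succ', hκ])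
    rw [neg_smul, one_smul] at hS1 hS2
    set S : Matrix (Fin n) (Fin n) F := gram hF (D : Matrix (Fin n) (Fin n) F) with hS
    have hTfix : (η₀⁻¹ • S).map (sigmaQ hF) = η₀⁻¹ • S := by
      rw [map_smul_sigmaQ, hS1, map_inv₀, hη₀, smul_neg, inv_neg, neg_smul, neg_neg]
    obtain ⟨S₀, hS₀⟩ := exists_emb_of_fixed hF hF₀ ι₀ _ hTfix
    have hdat : IsDatum hF ι₀ D S₀ η₀ := by
      unfold IsDatum
      rw [hS₀, smul_smul, mul_inv_cancel₀ hη₀0, one_smul]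
    have hmem : g.1 * scGL n (Units.mk0 κ hκ0) ∈ CU n F q := by
      rw [hgD]; exact aOf_mem_CU hF hF₀ ι₀ hη₀0 hdat
    refine ⟨D, S₀, ⟨g.1 * scGL n (Units.mk0 κ hκ0), hmem⟩, hgD, ?_, ?_, Or.inr ⟨?_, hdat⟩⟩
    · show gamU hF g = _
      rw [gamU_eq_iff hF hn h32]
      show (g.1)⁻¹ * (g.1 * scGL n (Units.mk0 κ hκ0)) ∈ _
      rw [inv_mul_cancel_left]
      exact scGL_mem _
    · intro h0
      have h1 : (S₀.map ι₀).det = ι₀ S₀.det := (RingHom.map_det ι₀ S₀).symm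
      rw [h0, map_zero, hS₀, Matrix.det_smul] at h1
      exact mul_ne_zero (pow_ne_zero _ (inv_ne_zero hη₀0)) (gram_det_ne_zero hF D) h1
    · apply map_injective_matrix ι₀
      rw [Matrix.transpose_map, hS₀, Matrix.transpose_smul, hS2]
      have : (-S₀).map ι₀ = -(S₀.map ι₀) := by
        ext i j
        simp
      rw [this, hS₀, smul_neg]

end Cfsg.Agent.Helper5.PSUGr
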