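import Mathlib
import Cfsg.Agent.Lib.Helper5.PSUGr11
import Cfsg.Agent.Lib.Helper13.GraphAutClasses
import Cfsg.Agent.Lib.Helper43.GraphAutOddDim

/-!
# Involutory graph automorphisms of `PSU_n(q)`, `n` odd: one class, centralizer `PGO(quadFormOdd)`
-/

set_option autoImplicit false
set_option linter.unusedSectionVars false
set_option linter.unusedSimpArgs false

namespace Cfsg.Agent.Helper5.PSUGr

open Matrix Cfsg.Agent.Helper13.PSLAut Cfsg.Agent.Helper5 Cfsg.Agent.Helper5.PSUAut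

variable {F : Type*} [Field F] [Fintype F] {n q : ℕ} (hF : Fintype.card F = q ^ 2)
  {F₀ : Type*} [Field F₀] [Fintype F₀] (hF₀ : Fintype.card F₀ = q) (ι₀ : F₀ →+* F)

include hF hF₀ in
/-- in odd dimension every involutory graph automorphism comes from a symmetric datum -/
theorem graph_invol_datum_odd (hn : 3 ≤ n) (h32 : ¬ (n = 3 ∧ q = 2)) (hodd : Odd n)
    (γ : MulAut (Cfsg.PSU n F q)) (hγ : Cfsg.IsGraphAutClassPSU γ) (h2 : orderOf γ = 2) :
    ∃ (D : GL (Fin n) F) (S₀ : Matrix (Fin n) (Fin n) F₀) (a : ↥(CU n F q)),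
      a.1 = aOf hF D ∧ γ = gamU hF a ∧ S₀.det ≠ 0 ∧ S₀ᵀ = S₀ ∧ IsDatum hF ι₀ D S₀ 1 := by
  obtain ⟨e, he⟩ := exists_sigmaQ_ne hF
  set η₀ : F := e - sigmaQ hF e with hη₀def
  have hη₀0 : η₀ ≠ 0 := fun h => he (sub_eq_zero.1 h).symm
  have hη₀ : sigmaQ hF η₀ = -η₀ := by
    rw [hη₀def, map_sub, sigmaQ_sigmaQ]; ring
  obtain ⟨D, S₀, a, ha, hγa, hdet, hcase⟩ :=
    graph_invol_datum hF hF₀ ι₀ hn h32 η₀ hη₀0 hη₀ γ hγ h2
  rcases hcase with ⟨hsym, hdat⟩ | ⟨hsk, hdat⟩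
  · exact ⟨D, S₀, a, ha, hγa, hdet, hsym, hdat⟩
  · by_cases h2' : (2 : F₀) = 0
    · have hneg : ∀ x : F₀, -x = x := fun x => by linear_combination (-x) * h2'
      have h2F : (2 : F) = 0 := by
        have h5 : ι₀ 2 = 0 := by rw [h2', map_zero]
        rwa [map_ofNat] at h5
      have hfix : η₀ ^ q = η₀ := by
        rw [← sigmaQ_apply hF, hη₀]
        linear_combination (-η₀) * h2F
      obtain ⟨r, hr⟩ := exists_of_pow_q_eq hF hF₀ ι₀ η₀ hfix
      have hr0 : r ≠ 0 := by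
        rintro rfl
        rw [map_zero] at hr
        exact hη₀0 hr.symm
      refine ⟨D, r • S₀, a, ha, hγa, ?_, ?_, ?_⟩
      · rw [Matrix.det_smul]
        exact mul_ne_zero (pow_ne_zero _ hr0) hdet
      · rw [Matrix.transpose_smul, hsk]
        ext i j
        simp [hneg]
      · unfold IsDatum at hdat ⊢
        rw [hdat, one_smul, map_smul_emb, hr]
    · exfalso
      have h3 := congrArg Matrix.det hsk
      rw [Matrix.det_transpose, Matrix.det_neg, Fintype.card_fin, hodd.neg_one_pow] at h3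
      apply hdet
      have : (2 : F₀) * S₀.det = 0 := by linear_combination h3
      rcases mul_eq_zero.1 this with h | h
      · exact absurd h h2'
      · exact h

include hF hF₀ in
/-- in odd dimension any two symmetric data give conjugate automorphisms -/
theorem conj_of_symm_odd (hn : 3 ≤ n) (h32 : ¬ (n = 3 ∧ q = 2)) (hodd : Odd n)
    {D D' : GL (Fin n) F} {S₀ S₀' : Matrix (Fin n) (Fin n) F₀}
    (hdet : S₀.det ≠ 0) (hdet' : S₀'.det ≠ 0) (hsym : S₀ᵀ = S₀) (hsym' : S₀'ᵀ = S₀')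
    (hdat : IsDatum hF ι₀ D S₀ 1) (hdat' : IsDatum hF ι₀ D' S₀' 1)
    (a a' : ↥(CU n F q)) (ha : a.1 = aOf hF D) (ha' : a'.1 = aOf hF D') :
    Cfsg.IsConjUnder (Cfsg.inndiagPSU n F q) (gamU hF a) (gamU hF a') := by
  set g : GL (Fin n) F₀ := Matrix.GeneralLinearGroup.mkOfDetNeZero S₀ hdet with hg
  set g' : GL (Fin n) F₀ := Matrix.GeneralLinearGroup.mkOfDetNeZero S₀' hdet' with hg'
  have hgs : ((g : Matrix (Fin n) (Fin n) F₀))ᵀ = (g : Matrix (Fin n) (Fin n) F₀) := hsym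
  have hgs' : ((g' : Matrix (Fin n) (Fin n) F₀))ᵀ = (g' : Matrix (Fin n) (Fin n) F₀) := hsym'
  by_cases h2 : (2 : F₀) = 0
  · have : CharP F₀ 2 := CharTwo.of_one_ne_zero_of_two_eq_zero one_ne_zero h2
    obtain ⟨h, hh⟩ := Cfsg.Agent.Helper43.GraphAutCongr.exists_congr_char_two g g' hgs hgs'
      (Cfsg.Agent.Helper43.GraphAutCongr.not_alt_of_odd hodd g)
      (Cfsg.Agent.Helper43.GraphAutCongr.not_alt_of_odd hodd g')
    exact conj_of_cong hF hF₀ ι₀ hn h32 one_ne_zero hdat hdat' a a' ha ha'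
      (h : Matrix (Fin n) (Fin n) F₀)ᵀ
      (by rw [Matrix.det_transpose]; exact Matrix.GeneralLinearGroup.det_ne_zero h) 1 one_ne_zero
      (by rw [Matrix.transpose_transpose, one_smul]; exact hh)
  · obtain ⟨h, c, hh⟩ := Cfsg.Agent.Helper43.GraphAutCongr.exists_congr_odd h2 hodd g g' hgs hgs'
    exact conj_of_cong hF hF₀ ι₀ hn h32 one_ne_zero hdat hdat' a a' ha ha'
      (h : Matrix (Fin n) (Fin n) F₀)ᵀ
      (by rw [Matrix.det_transpose]; exact Matrix.GeneralLinearGroup.det_ne_zero h) (c : F₀)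
      c.ne_zero (by rw [Matrix.transpose_transpose]; exact hh)

end Cfsg.Agent.Helper5.PSUGr
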