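import Mathlib
import Cfsg.Agent.Lib.Helper5.PSUGr12
import Cfsg.Agent.Lib.Helper43.GraphAutEven2

/-!
# Involutory graph automorphisms of `PSU_n(q)`, `n = 2m` even, `q` even: two classes
-/

set_option autoImplicit false
set_option linter.unusedSectionVars false
set_option linter.unusedSimpArgs false

namespace Cfsg.Agent.Helper5.PSUGr

open Matrix Cfsg.Agent.Helper13.PSLAut Cfsg.Agent.Helper5 Cfsg.Agent.Helper5.PSUAut
  Cfsg.Agent.Helper13.SimForms Cfsg.Agent.Helper13.GraphAutClasses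

section Generic

variable {K : Type*} [Field K] {κ : Type} [Fintype κ] [DecidableEq κ]

theorem charP_two_of_emb {F F₀ : Type*} [Field F] [Field F₀] [CharP F 2] (ι₀ : F₀ →+* F) :
    CharP F₀ 2 := by
  have h2 : (2 : F₀) = 0 := by
    apply ι₀.injective
    rw [map_ofNat, map_zero]
    exact CharTwo.two_eq_zero
  exact CharTwo.of_one_ne_zero_of_two_eq_zero one_ne_zero h2

theorem bsim_eq_congrSubgroup (g P : Matrix κ κ K) (hgP : g * P = 1) (hPg : P * g = 1) :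
    Cfsg.Geo.similarityGroup (F := K) (bform P) =
      Cfsg.Agent.Helper43.GraphAutEven2.congrSubgroup g := by
  ext h
  rw [mem_bsim_iff, Cfsg.Agent.Helper43.GraphAutEven2.mem_congrSubgroup]
  have hh1 : h.1 * (h⁻¹).1 = 1 := by
    rw [← Units.val_mul, mul_inv_cancel, Units.val_one]
  have hh2 : (h⁻¹).1 * h.1 = 1 := by
    rw [← Units.val_mul, inv_mul_cancel, Units.val_one]
  constructor
  · rintro ⟨c, hc⟩
    exact ⟨c, (Cfsg.Agent.Helper43.GraphAutCongr.congr_inv_iff _ _ _ _ hh1 hh2 hgP hPg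
      (c : K)).2 hc⟩
  · rintro ⟨c, hc⟩
    exact ⟨c, (Cfsg.Agent.Helper43.GraphAutCongr.congr_inv_iff _ _ _ _ hh1 hh2 hgP hPg
      (c : K)).1 hc⟩

theorem nonalt_inv (g P : Matrix κ κ K) (hPg : P * g = 1)
    (hna : ∃ v : κ → K, v ⬝ᵥ g *ᵥ v ≠ 0) : ∃ v : κ → K, v ⬝ᵥ P *ᵥ v ≠ 0 := by
  obtain ⟨v, hv⟩ := hna
  refine ⟨g *ᵥ v, ?_⟩
  rw [Matrix.mulVec_mulVec, hPg, Matrix.one_mulVec, dotProduct_comm]
  exact hv

theorem nonalt_submatrix {κ₁ : Type} [Fintype κ₁] [DecidableEq κ₁] (σ : κ₁ ≃ κ)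
    (P : Matrix κ κ K) (hna : ∃ v : κ → K, v ⬝ᵥ P *ᵥ v ≠ 0) :
    ∃ v : κ₁ → K, v ⬝ᵥ (P.submatrix σ σ) *ᵥ v ≠ 0 := by
  obtain ⟨v, hv⟩ := hna
  refine ⟨fun i => v (σ i), ?_⟩
  rw [bform_submatrix σ P v v]
  exact hv

theorem alt_submatrix {κ₁ : Type} [Fintype κ₁] [DecidableEq κ₁] (σ : κ₁ ≃ κ)
    (P : Matrix κ κ K) (hal : ∀ v : κ → K, v ⬝ᵥ P *ᵥ v = 0) (v : κ₁ → K) :
    v ⬝ᵥ (P.submatrix σ σ) *ᵥ v = 0 := by
  have h1 := bform_submatrix σ P (fun j => v (σ.symm j)) (fun j => v (σ.symm j))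
  simp only [Equiv.symm_apply_apply] at h1
  rw [h1]
  exact hal _

theorem cong_submatrix {κ₁ : Type} [Fintype κ₁] [DecidableEq κ₁] (σ : κ₁ ≃ κ)
    (h A B : Matrix κ κ K) (hh : h * A * hᵀ = B) :
    (h.submatrix σ σ) * (A.submatrix σ σ) * (h.submatrix σ σ)ᵀ = B.submatrix σ σ := by
  rw [Matrix.transpose_submatrix, Matrix.submatrix_mul_equiv, Matrix.submatrix_mul_equiv, hh]

theorem symm_of_inv (g P : Matrix κ κ K) (hgP : g * P = 1) (hg : gᵀ = g) : Pᵀ = P := by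
  calc Pᵀ = Pᵀ * (g * P) := by rw [hgP, Matrix.mul_one]
    _ = (g * P)ᵀ * P := by rw [Matrix.transpose_mul, hg, Matrix.mul_assoc]
    _ = P := by rw [hgP, Matrix.transpose_one, Matrix.one_mul]

end Generic

section AltReindex

variable {K : Type*} [Field K] {n m : ℕ}

/-- an alternating invertible matrix on `Fin n` is congruent to the reindexed `J` -/
theorem alt_normal_form_reindex (e' : Fin n ≃ Fin m ⊕ Fin m) (S₀ : Matrix (Fin n) (Fin n) K)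
    (hdet : S₀.det ≠ 0) (hAlt : ∀ v : Fin n → K, v ⬝ᵥ S₀ *ᵥ v = 0) :
    ∃ H : Matrix (Fin n) (Fin n) K, H.det ≠ 0 ∧
      H * S₀ * Hᵀ = (Matrix.J (Fin m) K).submatrix e' e' := by
  have hdet' : (S₀.submatrix e'.symm e'.symm).det ≠ 0 := by
    rw [Matrix.det_submatrix_equiv_self]; exact hdet
  obtain ⟨h, hh⟩ := Cfsg.Agent.Helper43.GraphAutEven2.alt_normal_form
    (Matrix.GeneralLinearGroup.mkOfDetNeZero (S₀.submatrix e'.symm e'.symm) hdet')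
    (alt_submatrix e'.symm S₀ hAlt)
  have hh' : (h : Matrix (Fin m ⊕ Fin m) (Fin m ⊕ Fin m) K) * (S₀.submatrix e'.symm e'.symm) *
      ((h : Matrix (Fin m ⊕ Fin m) (Fin m ⊕ Fin m) K))ᵀ = Matrix.J (Fin m) K := hh
  have h1 := cong_submatrix e' _ _ _ hh'
  have h2 : (S₀.submatrix e'.symm e'.symm).submatrix e' e' = S₀ := by
    rw [Matrix.submatrix_submatrix]
    simp
  rw [h2] at h1
  refine ⟨(h : Matrix (Fin m ⊕ Fin m) (Fin m ⊕ Fin m) K).submatrix e' e', ?_, h1⟩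
  rw [Matrix.det_submatrix_equiv_self]
  exact Matrix.GeneralLinearGroup.det_ne_zero h

end AltReindex

section Cent

variable {F : Type*} [Field F] [Fintype F] {n q : ℕ} (hF : Fintype.card F = q ^ 2)
  {F₀ : Type*} [Field F₀] [Fintype F₀] (hF₀ : Fintype.card F₀ = q) (ι₀ : F₀ →+* F)

include hF hF₀ in
/-- characteristic two: the centralizer of `gamU a` in `Inndiag` is the isometry group of the inverse Gram
matrix, presented as a subgroup of `Sp`. -/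
theorem cent_equiv_char_two [CharP F₀ 2] {m : ℕ} (hn : 3 ≤ n) (h32 : ¬ (n = 3 ∧ q = 2))
    (e' : Fin n ≃ Fin m ⊕ Fin m) (g P : Matrix (Fin m ⊕ Fin m) (Fin m ⊕ Fin m) F₀)
    (hgP : g * P = 1) (hPg : P * g = 1) {D : GL (Fin n) F}
    (hdat : IsDatum hF ι₀ D (P.submatrix e' e') 1) (a : ↥(CU n F q)) (ha : a.1 = aOf hF D)
    (S : Subgroup ↥(Matrix.symplecticGroup (Fin m) F₀))
    (hS : ∀ h : GL (Fin m ⊕ Fin m) F₀,
      (h : Matrix (Fin m ⊕ Fin m) (Fin m ⊕ Fin m) F₀) * g *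
        ((h : Matrix (Fin m ⊕ Fin m) (Fin m ⊕ Fin m) F₀))ᵀ = g ↔
        ∃ s ∈ S, Cfsg.Agent.Helper43.GraphAutEven2.spToGL m F₀ s = h) :
    Nonempty (↥(Cfsg.inndiagPSU n F q ⊓ Subgroup.centralizer {gamU hF a}) ≃* ↥S) := by
  have hne : Nonempty (Fin m ⊕ Fin m) := ⟨e' ⟨0, by omega⟩⟩
  have hgne : g ≠ 0 := by
    intro h0
    rw [h0, Matrix.zero_mul] at hgP
    obtain ⟨i⟩ := hne
    have := congrFun (congrFun hgP i) i
    rw [Matrix.zero_apply, Matrix.one_apply_eq] at this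
    exact zero_ne_one this
  have hSrne : P.submatrix e' e' ≠ 0 := by
    intro h0
    have h1 : P = 0 := by
      ext i j
      have := congrFun (congrFun h0 (e'.symm i)) (e'.symm j)
      simpa using this
    rw [h1, Matrix.mul_zero] at hgP
    obtain ⟨i⟩ := hne
    have := congrFun (congrFun hgP i) i
    rw [Matrix.zero_apply, Matrix.one_apply_eq] at this
    exact zero_ne_one this
  obtain ⟨e1⟩ := cent_gamU_equiv hF hF₀ ι₀ hn h32 one_ne_zero hSrne hdat a ha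
    (Cfsg.Geo.similarityGroup (F := F₀) (bform (P.submatrix e' e')))
    (fun k => mem_bsim_iff _ k)
  obtain ⟨e2⟩ := bsim_congr (LinearEquiv.funCongrLeft F₀ F₀ e') (bform (P.submatrix e' e'))
    (bform P) (fun u v => bform_submatrix e' _ u v)
  rw [bsim_eq_congrSubgroup g P hgP hPg] at e2
  obtain ⟨e3⟩ := Cfsg.Agent.Helper43.GraphAutEven2.iso_of_sub g hgne S hS
  exact ⟨(e1.trans e2).trans e3⟩

end Cent

section Main

open Cfsg.Agent.Helper43.GraphAutEven2 Cfsg.Agent.Helper43.GraphAutCent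

variable {F : Type*} [Field F] [Fintype F] {n q : ℕ} (hF : Fintype.card F = q ^ 2)
  {F₀ : Type*} [Field F₀] [Fintype F₀] (hF₀ : Fintype.card F₀ = q)

include hF hF₀ in
theorem psu_even_char_two_main [CharP F 2] {m : ℕ} (hm : 2 ≤ m) (hnm : n = 2 * m) :
    ∃ (γ₁ γ₃ : MulAut (Cfsg.PSU n F q)) (t : ↥(Matrix.symplecticGroup (Fin m) F₀)),
      Cfsg.IsTransvection (t : Matrix (Fin m ⊕ Fin m) (Fin m ⊕ Fin m) F₀) ∧
      Cfsg.IsGraphAutClassPSU γ₁ ∧ orderOf γ₁ = 2 ∧ Cfsg.IsGraphAutClassPSU γ₃ ∧ orderOf γ₃ = 2 ∧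
      ¬ Cfsg.IsConjUnder (Cfsg.inndiagPSU n F q) γ₁ γ₃ ∧
      (∀ γ : MulAut (Cfsg.PSU n F q), Cfsg.IsGraphAutClassPSU γ → orderOf γ = 2 →
        Cfsg.IsConjUnder (Cfsg.inndiagPSU n F q) γ₁ γ ∨
          Cfsg.IsConjUnder (Cfsg.inndiagPSU n F q) γ₃ γ) ∧
      Nonempty (↥(Cfsg.inndiagPSU n F q ⊓ Subgroup.centralizer {γ₁}) ≃*
        ↥(Matrix.symplecticGroup (Fin m) F₀)) ∧
      Nonempty (↥(Cfsg.inndiagPSU n F q ⊓ Subgroup.centralizer {γ₃}) ≃*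
        ↥(Subgroup.centralizer ({t} : Set ↥(Matrix.symplecticGroup (Fin m) F₀)))) := by
  classical
  obtain ⟨ι₀⟩ := exists_ringHom_of_card hF hF₀
  have hchar : CharP F₀ 2 := charP_two_of_emb ι₀
  have hn : 3 ≤ n := by omega
  have h32 : ¬ (n = 3 ∧ q = 2) := by omega
  have hm0 : 0 < m := by omega
  have e' : Fin n ≃ Fin m ⊕ Fin m :=
    Fintype.equivOfCardEq (by simp only [Fintype.card_sum, Fintype.card_fin]; omega)
  let w : Fin m ⊕ Fin m → F₀ := Pi.single (Sum.inl ⟨0, hm0⟩) 1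
  have hww : w ⬝ᵥ w = 1 := by
    show (Pi.single (Sum.inl ⟨0, hm0⟩) 1 : Fin m ⊕ Fin m → F₀) ⬝ᵥ Pi.single (Sum.inl ⟨0, hm0⟩) 1 = 1
    rw [single_dotProduct, one_mul, Pi.single_eq_same]
  have hw : w ≠ 0 := by
    intro h
    rw [h, zero_dotProduct] at hww
    exact zero_ne_one hww
  -- the two Gram matrices
  have hJJ : Matrix.J (Fin m) F₀ * Matrix.J (Fin m) F₀ = 1 := by
    rw [Matrix.J_squared, neg_mat]
  have hJsym : (Matrix.J (Fin m) F₀)ᵀ = Matrix.J (Fin m) F₀ := by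
    rw [Matrix.J_transpose, neg_mat]
  have hgP₃ : (Matrix.J (Fin m) F₀ + Matrix.vecMulVec w w) *
      (((g3 w)⁻¹ : GL (Fin m ⊕ Fin m) F₀) : Matrix (Fin m ⊕ Fin m) (Fin m ⊕ Fin m) F₀) = 1 := by
    rw [← g3_coe, ← Units.val_mul, mul_inv_cancel, Units.val_one]
  have hPg₃ : (((g3 w)⁻¹ : GL (Fin m ⊕ Fin m) F₀) : Matrix (Fin m ⊕ Fin m) (Fin m ⊕ Fin m) F₀) *
      (Matrix.J (Fin m) F₀ + Matrix.vecMulVec w w) = 1 := by
    rw [← g3_coe, ← Units.val_mul, inv_mul_cancel, Units.val_one]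
  have hg₃sym : (Matrix.J (Fin m) F₀ + Matrix.vecMulVec w w)ᵀ =
      Matrix.J (Fin m) F₀ + Matrix.vecMulVec w w := by
    rw [← g3_coe]; exact g3_symm w
  have hP₃sym := symm_of_inv _ _ hgP₃ hg₃sym
  have hna₃g : ∃ v : Fin m ⊕ Fin m → F₀,
      v ⬝ᵥ (Matrix.J (Fin m) F₀ + Matrix.vecMulVec w w) *ᵥ v ≠ 0 := by
    refine ⟨w, ?_⟩
    rw [quad_g3, hww, one_pow]
    exact one_ne_zero
  have hna₃P := nonalt_inv _ _ hPg₃ hna₃g
  set S₁ : Matrix (Fin n) (Fin n) F₀ := (Matrix.J (Fin m) F₀).submatrix e' e' with hS₁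
  set S₃ : Matrix (Fin n) (Fin n) F₀ :=
    ((((g3 w)⁻¹ : GL (Fin m ⊕ Fin m) F₀) : Matrix (Fin m ⊕ Fin m) (Fin m ⊕ Fin m) F₀)).submatrix
      e' e' with hS₃
  have hS₁sym : S₁ᵀ = S₁ := by rw [hS₁, Matrix.transpose_submatrix, hJsym]
  have hS₃sym : S₃ᵀ = S₃ := by rw [hS₃, Matrix.transpose_submatrix, hP₃sym]
  have hS₁det : S₁.det ≠ 0 := by
    rw [hS₁, Matrix.det_submatrix_equiv_self]
    exact Matrix.det_ne_zero_of_right_inverse hJJ
  have hS₃det : S₃.det ≠ 0 := by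
    rw [hS₃, Matrix.det_submatrix_equiv_self]
    exact Matrix.det_ne_zero_of_right_inverse hPg₃
  have hS₁alt : ∀ v : Fin n → F₀, v ⬝ᵥ S₁ *ᵥ v = 0 :=
    alt_submatrix e' _ (fun v => dotProduct_J_mulVec_self v)
  have hS₃na : ∃ v : Fin n → F₀, v ⬝ᵥ S₃ *ᵥ v ≠ 0 := nonalt_submatrix e' _ hna₃P
  have hS₃ne : S₃ ≠ 0 := by
    intro h0
    apply hS₃det
    rw [h0]
    have : Nonempty (Fin n) := ⟨⟨0, by omega⟩⟩
    exact Matrix.det_zero
  obtain ⟨D₁, hD₁⟩ := exists_datum hF hF₀ ι₀ S₁ hS₁det 1 one_ne_zero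
    (Or.inl ⟨map_one _, hS₁sym⟩)
  obtain ⟨D₃, hD₃⟩ := exists_datum hF hF₀ ι₀ S₃ hS₃det 1 one_ne_zero
    (Or.inl ⟨map_one _, hS₃sym⟩)
  set a₁ : ↥(CU n F q) := ⟨aOf hF D₁, aOf_mem_CU hF hF₀ ι₀ one_ne_zero hD₁⟩ with ha₁
  set a₃ : ↥(CU n F q) := ⟨aOf hF D₃, aOf_mem_CU hF hF₀ ι₀ one_ne_zero hD₃⟩ with ha₃
  have hord : ∀ (D : GL (Fin n) F) (a : ↥(CU n F q)), a.1 = aOf hF D →
      orderOf (gamU hF a) = 2 := by
    intro D a ha
    apply orderOf_gamU hF hn h32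
    rw [sigmaCU_val', ha, aOf_mul_sG]
    exact Subgroup.one_mem _
  refine ⟨gamU hF a₁, gamU hF a₃, ⟨spTv w 1, spTv_mem w 1⟩, isTransvection_spTv w hw,
    isGraph_gamU hF hn h32 a₁, hord D₁ a₁ rfl, isGraph_gamU hF hn h32 a₃, hord D₃ a₃ rfl,
    ?_, ?_, ?_, ?_⟩
  · -- not conjugate
    intro hc
    obtain ⟨k, c, _, hc0, e⟩ := cong_of_conj hF hF₀ ι₀ hn h32 one_ne_zero one_ne_zero hS₃ne
      hD₁ hD₃ a₁ a₃ rfl rfl hc
    obtain ⟨v, hv⟩ := hS₃na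
    have h1 := Cfsg.Agent.Helper43.GraphAutCongr.quad_transform S₁ k v v
    rw [hS₁alt, e, Matrix.smul_mulVec, dotProduct_smul, smul_eq_mul] at h1
    rcases mul_eq_zero.1 h1.symm with h | h
    · exact hc0 h
    · exact hv h
  · -- classification
    intro γ hγ hγ2
    have hone : sigmaQ hF (1 : F) = -1 := by
      rw [map_one]; exact (CharTwo.neg_eq (1 : F)).symm
    obtain ⟨D, S₀, a, ha, rfl, hdetS, hcase⟩ :=
      graph_invol_datum hF hF₀ ι₀ hn h32 1 one_ne_zero hone γ hγ hγ2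
    have hsymdat : S₀ᵀ = S₀ ∧ IsDatum hF ι₀ D S₀ 1 := by
      rcases hcase with h | ⟨hsk, hdat⟩
      · exact h
      · exact ⟨by rw [hsk, neg_mat], hdat⟩
    obtain ⟨hsym, hdat⟩ := hsymdat
    by_cases hAlt : ∀ v : Fin n → F₀, v ⬝ᵥ S₀ *ᵥ v = 0
    · left
      obtain ⟨H, hH, e⟩ := alt_normal_form_reindex e' S₀ hdetS hAlt
      apply isConjUnder_symm
      exact conj_of_cong hF hF₀ ι₀ hn h32 one_ne_zero hdat hD₁ a a₁ ha rfl Hᵀ
        (by rw [Matrix.det_transpose]; exact hH) 1 one_ne_zero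
        (by rw [Matrix.transpose_transpose, one_smul]; exact e)
    · right
      push Not at hAlt
      obtain ⟨h, hh⟩ := Cfsg.Agent.Helper43.GraphAutCongr.exists_congr_char_two
        (Matrix.GeneralLinearGroup.mkOfDetNeZero S₃ hS₃det)
        (Matrix.GeneralLinearGroup.mkOfDetNeZero S₀ hdetS) hS₃sym hsym hS₃na hAlt
      exact conj_of_cong hF hF₀ ι₀ hn h32 one_ne_zero hD₃ hdat a₃ a rfl ha
        (h : Matrix (Fin n) (Fin n) F₀)ᵀ
        (by rw [Matrix.det_transpose]; exact Matrix.GeneralLinearGroup.det_ne_zero h) 1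
        one_ne_zero (by rw [Matrix.transpose_transpose, one_smul]; exact hh)
  · -- centralizer of γ₁
    obtain ⟨e1⟩ := cent_equiv_char_two hF hF₀ ι₀ hn h32 e' _ _ hJJ hJJ hD₁ a₁ rfl ⊤ gJ_iso_iff
    exact ⟨e1.trans Subgroup.topEquiv⟩
  · -- centralizer of γ₃
    exact cent_equiv_char_two hF hF₀ ι₀ hn h32 e' _ _ hgP₃ hPg₃ hD₃ a₃ rfl
      (Subgroup.centralizer ({⟨spTv w 1, spTv_mem w 1⟩} :
        Set ↥(Matrix.symplecticGroup (Fin m) F₀))) (g3_iso_iff w hw)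

end Main

end Cfsg.Agent.Helper5.PSUGr
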