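import Mathlib
import Cfsg.Agent.Lib.Helper5.OAut18

/-!
# TRI project (S0817), piece UC : an automorphism of `PΩ` mapping ONE point radical to a point
radical lies in `PΓO`.
-/

set_option autoImplicit false

namespace Cfsg.Agent.Helper5.Tri

open Matrix QuadraticMap Cfsg.Agent.Helper13 Cfsg.Agent.Helper43 Cfsg.Agent.Helper5.OAut Module

variable {F : Type*} [Field F] [Fintype F] {ι : Type} [Fintype ι] [DecidableEq ι]
  {Q : QuadraticForm F (ι → F)}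

/-- moving the hypothesis on `u` to any other singular point -/
theorem uc_transfer (C : Ctx Q) (α : Cfsg.POmega F ⇑Q ≃* Cfsg.POmega F ⇑Q)
    {u u' : ι → F} (hu0 : u ≠ 0) (hu : Q u = 0) (hu'0 : u' ≠ 0) (hu' : Q u' = 0)
    (h : (Qb Q u).map α.toMonoidHom = Qb Q u')
    {v : ι → F} (hv : Q v = 0) (huv : polar (⇑Q) u v = 1) :
    ∃ v1 : ι → F, v1 ≠ 0 ∧ Q v1 = 0 ∧ (Qb Q v).map α.toMonoidHom = Qb Q v1 := by
  have hv0 : v ≠ 0 := by
    rintro rfl
    rw [polar_zero_right] at huv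
    exact zero_ne_one huv
  have hvu : polar (⇑Q) v u ≠ 0 := by
    rw [polar_comm, huv]
    exact one_ne_zero
  have huv' : polar (⇑Q) u v ≠ 0 := by
    rw [huv]
    exact one_ne_zero
  obtain ⟨g, c, d, hc, hd, hgu, hgv⟩ :=
    Cfsg.Agent.Helper13.OAutNG.NG_move C hv0 hv hu hvu hu0 hu hv huv'
  -- `g ⋆ u = c • v`
  obtain ⟨g', hg'⟩ := prj_surjective (Q := Q) (α (prj Q g))
  refine ⟨act Q g' u', ?_, ?_, ?_⟩
  · intro h0
    exact hu'0 ((act_eq_zero g' u').mp h0)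
  · rw [Q_act, hu']
  · have e1 : Qb Q v = (Qb Q u).map (MulAut.conj (prj Q g)).toMonoidHom := by
      rw [Qb_conj C hu, hgu, Qb_smul C hv hc]
    rw [e1, Subgroup.map_map]
    have e2 : α.toMonoidHom.comp (MulAut.conj (prj Q g)).toMonoidHom =
        (MulAut.conj (prj Q g')).toMonoidHom.comp α.toMonoidHom := by
      ext x
      simp only [MonoidHom.comp_apply, MulEquiv.coe_toMonoidHom, MulAut.conj_apply, map_mul,
        map_inv, hg']
    rw [e2, ← Subgroup.map_map, h, Qb_conj C hu']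

/-- piece UC -/
theorem mem_gamma_of_Qb (C : Ctx Q) (α : Cfsg.POmega F ⇑Q ≃* Cfsg.POmega F ⇑Q)
    {u u' : ι → F} (hu0 : u ≠ 0) (hu : Q u = 0) (hu'0 : u' ≠ 0) (hu' : Q u' = 0)
    (h : (Qb Q u).map α.toMonoidHom = Qb Q u') : α ∈ Cfsg.gammaPOmega F ⇑Q := by
  have : Fact (ringChar F).Prime := ⟨CharP.char_is_prime F (ringChar F)⟩
  obtain ⟨v, hv, huv⟩ := exists_partner C hu0 hu
  have P : Pole Q u v (perpK Q ![u, v]) :=
    ⟨hu, hv, huv, fun x => by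
      rw [mem_perpK]
      constructor
      · intro h
        exact ⟨h 0, h 1⟩
      · rintro ⟨h1, h2⟩ i
        fin_cases i
        · exact h1
        · exact h2⟩
  obtain ⟨u1, hu10, hu1, hαu⟩ : ∃ u1 : ι → F, u1 ≠ 0 ∧ Q u1 = 0 ∧
      (Qb Q u).map α.toMonoidHom = Qb Q u1 := ⟨u', hu'0, hu', h⟩
  obtain ⟨v1, hv10, hv1, hαv⟩ := uc_transfer C α hu0 hu hu'0 hu' h hv huv
  have huv1 : polar (⇑Q) u1 v1 ≠ 0 := by
    intro h0
    apply Qb_inf_ne_bot C hu10 hv10 hu1 hv1 h0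
    rw [← hαu, ← hαv, ← Subgroup.map_inf _ _ _ α.injective,
      Qb_inf_eq_bot C hu hv (by rw [huv]; exact one_ne_zero), Subgroup.map_bot]
  obtain ⟨g, c, d, hc, hd, hgu, hgv⟩ :=
    Cfsg.Agent.Helper13.OAutNG.NG_move C hu0 hu hv (by rw [huv]; exact one_ne_zero) hu10 hu1 hv1
      huv1
  set α' : MulAut (Cfsg.POmega F ⇑Q) := MulAut.conj (prj Q g) * α with hα'
  have h1 : (Qb Q u).map (α' : Cfsg.POmega F ⇑Q ≃* Cfsg.POmega F ⇑Q).toMonoidHom = Qb Q u := by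
    have : (Qb Q u).map (α' : Cfsg.POmega F ⇑Q ≃* Cfsg.POmega F ⇑Q).toMonoidHom
        = ((Qb Q u).map α.toMonoidHom).map (MulAut.conj (prj Q g)).toMonoidHom := by
      rw [Subgroup.map_map]
      rfl
    rw [this, hαu, Qb_conj C hu1, hgu, Qb_smul C hu hc]
  have h2 : (Qb Q v).map (α' : Cfsg.POmega F ⇑Q ≃* Cfsg.POmega F ⇑Q).toMonoidHom = Qb Q v := by
    have : (Qb Q v).map (α' : Cfsg.POmega F ⇑Q ≃* Cfsg.POmega F ⇑Q).toMonoidHom
        = ((Qb Q v).map α.toMonoidHom).map (MulAut.conj (prj Q g)).toMonoidHom := by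
      rw [Subgroup.map_map]
      rfl
    rw [this, hαv, Qb_conj C hv1, hgv, Qb_smul C hv hd]
  have h3 : α' ∈ Cfsg.gammaPOmega F ⇑Q :=
    mem_gamma_of_normalised (p := ringChar F) C P (nGeo C hu hv huv)
      (Cfsg.Agent.Helper76.OAutBR.Qrad_sup_eq_top C hu hv huv) α' h1 h2
  have h4 : MulAut.conj (prj Q g) ∈ Cfsg.gammaPOmega F ⇑Q :=
    Cfsg.Agent.Helper16.OSemiAut.inn_le_gamma Q ⟨prj Q g, rfl⟩
  have h5 : α = (MulAut.conj (prj Q g))⁻¹ * α' := by rw [hα', inv_mul_cancel_left]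
  rw [h5]
  exact Subgroup.mul_mem _ (Subgroup.inv_mem _ h4) h3

end Cfsg.Agent.Helper5.Tri
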