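import Mathlib
import Cfsg.Prelude.Def_Classical

set_option autoImplicit false
set_option linter.unusedSectionVars false
set_option linter.unusedSimpArgs false

namespace Cfsg.Agent.Helper5

open Matrix

section ad3

variable {F : Type*} [Field F]

/-- The adjoint action of `g ∈ GL_2` on trace-zero matrices `[[a,b],[c,-a]]`, in coordinates `(a,b,c)`. -/
def ad3 (g : Matrix (Fin 2) (Fin 2) F) : Matrix (Fin 3) (Fin 3) F :=
  (g.det)⁻¹ • !![g 0 0 * g 1 1 + g 0 1 * g 1 0, -(g 0 0 * g 1 0), g 0 1 * g 1 1;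
                -(2 * g 0 0 * g 0 1), g 0 0 ^ 2, -(g 0 1 ^ 2);
                2 * g 1 0 * g 1 1, -(g 1 0 ^ 2), g 1 1 ^ 2]

/-- The form `a² + bc` (minus the determinant). -/
def q3 (w : Fin 3 → F) : F := w 0 ^ 2 + w 1 * w 2

lemma ad3_one : ad3 (1 : Matrix (Fin 2) (Fin 2) F) = 1 := by
  ext i j
  fin_cases i <;> fin_cases j <;> simp [ad3, Matrix.one_apply]

lemma ad3_mul (g h : Matrix (Fin 2) (Fin 2) F) (hg : g.det ≠ 0) (hh : h.det ≠ 0) :
    ad3 (g * h) = ad3 g * ad3 h := by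
  have hg' : g 0 0 * g 1 1 - g 0 1 * g 1 0 ≠ 0 := by rwa [Matrix.det_fin_two] at hg
  have hh' : h 0 0 * h 1 1 - h 0 1 * h 1 0 ≠ 0 := by rwa [Matrix.det_fin_two] at hh
  ext i j
  fin_cases i <;> fin_cases j <;>
    simp [ad3, Matrix.mul_apply, Fin.sum_univ_three, Fin.sum_univ_two, Matrix.det_fin_two] <;>
    field_simp <;> ring

lemma q3_ad3 (g : Matrix (Fin 2) (Fin 2) F) (hg : g.det ≠ 0) (w : Fin 3 → F) :
    q3 (ad3 g *ᵥ w) = q3 w := by
  have hg' : g 0 0 * g 1 1 - g 0 1 * g 1 0 ≠ 0 := by rwa [Matrix.det_fin_two] at hg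
  simp [q3, ad3, Matrix.mulVec, dotProduct, Fin.sum_univ_three, Matrix.det_fin_two]
  field_simp
  ring

lemma det_ad3 (g : Matrix (Fin 2) (Fin 2) F) (hg : g.det ≠ 0) : (ad3 g).det = 1 := by
  have hg' : g 0 0 * g 1 1 - g 0 1 * g 1 0 ≠ 0 := by rwa [Matrix.det_fin_two] at hg
  rw [ad3, Matrix.det_smul, Matrix.det_fin_three, Fintype.card_fin, Matrix.det_fin_two]
  simp
  field_simp
  ring


lemma ad3_smul_one (a : F) (ha : a ≠ 0) : ad3 (a • (1 : Matrix (Fin 2) (Fin 2) F)) = 1 := by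
  ext i j
  fin_cases i <;> fin_cases j <;>
    simp [ad3, Matrix.one_apply, Matrix.det_fin_two] <;> field_simp

lemma eq_smul_one_of_ad3_eq_one (g : Matrix (Fin 2) (Fin 2) F) (hg : g.det ≠ 0)
    (h : ad3 g = 1) : g = g 0 0 • (1 : Matrix (Fin 2) (Fin 2) F) := by
  have e12 : ad3 g 1 2 = (g.det)⁻¹ * (-(g 0 1 ^ 2)) := by simp [ad3]
  have e21 : ad3 g 2 1 = (g.det)⁻¹ * (-(g 1 0 ^ 2)) := by simp [ad3]
  have e11 : ad3 g 1 1 = (g.det)⁻¹ * g 0 0 ^ 2 := by simp [ad3]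
  rw [h] at e12 e21 e11
  have hdi : (g.det)⁻¹ ≠ 0 := inv_ne_zero hg
  have hb : g 0 1 = 0 := by
    have h1 : (1 : Matrix (Fin 3) (Fin 3) F) 1 2 = 0 := by simp
    rw [h1] at e12
    have h2 := (mul_eq_zero.1 e12.symm).resolve_left hdi
    exact pow_eq_zero_iff (two_ne_zero) |>.1 (neg_eq_zero.1 h2)
  have hc : g 1 0 = 0 := by
    have h1 : (1 : Matrix (Fin 3) (Fin 3) F) 2 1 = 0 := by simp
    rw [h1] at e21
    have h2 := (mul_eq_zero.1 e21.symm).resolve_left hdi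
    exact pow_eq_zero_iff (two_ne_zero) |>.1 (neg_eq_zero.1 h2)
  have hdet : g.det = g 0 0 * g 1 1 := by rw [Matrix.det_fin_two, hb, hc]; ring
  have h3 : g 0 0 ^ 2 = g 0 0 * g 1 1 := by
    have h1 : (1 : Matrix (Fin 3) (Fin 3) F) 1 1 = 1 := by simp
    rw [h1] at e11
    have h2 : g.det * 1 = g.det * ((g.det)⁻¹ * g 0 0 ^ 2) := by rw [← e11]
    rw [← mul_assoc, mul_inv_cancel₀ hg, one_mul, mul_one] at h2
    rw [← h2, hdet]
  have ha0 : g 0 0 ≠ 0 := by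
    intro h0
    apply hg
    rw [hdet, h0, zero_mul]
  have h4 : g 0 0 = g 1 1 := by
    have : g 0 0 * g 0 0 = g 0 0 * g 1 1 := by rw [← h3]; ring
    exact mul_left_cancel₀ ha0 this
  ext i j
  fin_cases i <;> fin_cases j <;> simp [hb, hc, ← h4]

end ad3

end Cfsg.Agent.Helper5
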