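import Mathlib

/-!
Piece (ABS) of helper92's lemma server "G24" (S1679): the diagonal argument.
-/

set_option autoImplicit false

namespace Cfsg.Agent.Helper5.G24

/-- a subgroup `T` that a homomorphism maps onto `K`, with `|T| ≤ |K|`, `T` finite, is isomorphic to `K` -/
theorem h5_diag_proj {A B : Type*} [Group A] [Group B] (f : A →* B) (T : Subgroup A) (K : Subgroup B)
    (hmap : T.map f = K) [Finite T] (hcard : Nat.card T ≤ Nat.card K) : Nonempty (T ≃* K) := by
  subst hmap
  have hsurj : Function.Surjective (f.subgroupMap T) := f.subgroupMap_surjective T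
  have hbij := hsurj.bijective_of_nat_card_le hcard
  exact ⟨MulEquiv.ofBijective _ hbij⟩

/-- (ABS) the diagonal argument -/
theorem iso_of_diagonal {P G : Type*} [Group P] [Group G] (N : ℕ) (hN : 0 < N) (x : ℕ → P) (y : ℕ → G) (m : ℕ)
    (hfin : Finite ↥(Subgroup.closure ((fun g => ((x g, y g) : P × G)) '' {g | g < m})))
    (hbound : Nat.card ↥(Subgroup.closure ((fun g => ((x g, y g) : P × G)) '' {g | g < m})) ≤ N)
    (hH : Nat.card ↥(Subgroup.closure (x '' {g | g < m})) = N)
    (hS : Nat.card ↥(Subgroup.closure (y '' {g | g < m})) = N) :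
    Nonempty (↥(Subgroup.closure (x '' {g | g < m})) ≃* ↥(Subgroup.closure (y '' {g | g < m}))) := by
  have h1 : (Subgroup.closure ((fun g => ((x g, y g) : P × G)) '' {g | g < m})).map (MonoidHom.fst P G) =
      Subgroup.closure (x '' {g | g < m}) := by
    rw [MonoidHom.map_closure, Set.image_image]
    rfl
  have h2 : (Subgroup.closure ((fun g => ((x g, y g) : P × G)) '' {g | g < m})).map (MonoidHom.snd P G) =
      Subgroup.closure (y '' {g | g < m}) := by
    rw [MonoidHom.map_closure, Set.image_image]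
    rfl
  obtain ⟨e1⟩ := h5_diag_proj (MonoidHom.fst P G) _ _ h1 (by rw [hH]; exact hbound)
  obtain ⟨e2⟩ := h5_diag_proj (MonoidHom.snd P G) _ _ h2 (by rw [hS]; exact hbound)
  exact ⟨e1.symm.trans e2⟩

end Cfsg.Agent.Helper5.G24
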