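import Mathlib

/-!
# G2 server of helper31 (S3795): piece (ORB) `g2_orb`

Counting on a finite abelian group `X` of odd order with an automorphism `σ`, `σ^(2^c) = 1`.
-/

set_option autoImplicit false
set_option linter.style.haveILetI false

namespace Cfsg.Agent.Helper5.G2

open MulAction

/-- powers of a multiplicative permutation are multiplicative -/
theorem orb_pow_mul {X : Type*} [Group X] (σ : Equiv.Perm X)
    (hmul : ∀ a b : X, σ (a * b) = σ a * σ b) (k : ℕ) (a b : X) :
    (σ ^ k) (a * b) = (σ ^ k) a * (σ ^ k) b := by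
  induction k with
  | zero => simp
  | succ k ih => rw [pow_succ', Equiv.Perm.mul_apply, ih, hmul, Equiv.Perm.mul_apply,
      Equiv.Perm.mul_apply]

/-- in a group of odd order, an element equal to its inverse is trivial -/
theorem orb_eq_one_of_eq_inv {X : Type*} [Group X] [Finite X] (hodd : Odd (Nat.card X)) (a : X)
    (h : a = a⁻¹) : a = 1 := by
  have h2 : a ^ 2 = 1 := by
    rw [pow_two]
    nth_rw 2 [h]
    exact mul_inv_cancel a
  have h3 : orderOf a ∣ 2 := orderOf_dvd_of_pow_eq_one h2
  have h4 : orderOf a ∣ Nat.card X := orderOf_dvd_natCard a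
  have h5 : orderOf a = 1 := by
    rcases (Nat.dvd_prime Nat.prime_two).1 h3 with h | h
    · exact h
    · exfalso
      rw [h] at h4
      exact (Nat.not_even_iff_odd.2 hodd) (even_iff_two_dvd.2 h4)
  exact orderOf_eq_one_iff.1 h5

/-- `|X| = |C| * |I|` for an involutory automorphism `t` of an abelian group of odd order -/
theorem orb_card_mul {X : Type*} [Group X] [Finite X] (hcomm : ∀ a b : X, a * b = b * a)
    (hodd : Odd (Nat.card X)) (t : Equiv.Perm X) (htmul : ∀ a b : X, t (a * b) = t a * t b)
    (htt : ∀ a : X, t (t a) = a) :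
    Nat.card X = Nat.card {a : X // t a = a} * Nat.card {a : X // t a = a⁻¹} := by
  classical
  let φ : X →* X :=
    { toFun := fun a => a * t a
      map_one' := by
        have : t 1 = 1 := by
          have h := htmul 1 1
          rw [mul_one] at h
          exact (mul_eq_left.1 h.symm)
        rw [this, mul_one]
      map_mul' := by
        intro a b
        rw [htmul]
        calc a * b * (t a * t b) = a * (b * t a) * t b := by group
          _ = a * (t a * b) * t b := by rw [hcomm b (t a)]
          _ = a * t a * (b * t b) := by group }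
  have hφ : ∀ a, φ a = a * t a := fun a => rfl
  have h1 : Nat.card X = Nat.card (X ⧸ φ.ker) * Nat.card φ.ker :=
    Subgroup.card_eq_card_quotient_mul_card_subgroup _
  have h2 : Nat.card (X ⧸ φ.ker) = Nat.card φ.range :=
    Nat.card_congr (QuotientGroup.quotientKerEquivRange φ).toEquiv
  have h3 : Nat.card φ.ker = Nat.card {a : X // t a = a⁻¹} := by
    apply Nat.card_congr
    apply Equiv.subtypeEquivRight
    intro a
    rw [MonoidHom.mem_ker, hφ]
    constructor
    · intro h
      exact eq_inv_of_mul_eq_one_right h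
    · intro h
      rw [h, mul_inv_cancel]
  have h4 : Nat.card φ.range = Nat.card {a : X // t a = a} := by
    apply Nat.card_congr
    apply Equiv.subtypeEquivRight
    intro a
    rw [MonoidHom.mem_range]
    constructor
    · rintro ⟨b, rfl⟩
      rw [hφ, htmul, htt, hcomm]
    · intro h
      obtain ⟨m, hm⟩ := hodd
      refine ⟨a ^ (m + 1), ?_⟩
      have hta : t (a ^ (m + 1)) = a ^ (m + 1) := by
        have hpow : ∀ k : ℕ, t (a ^ k) = a ^ k := by
          intro k
          induction k with
          | zero =>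
            have h1' : t 1 = 1 := by
              have h := htmul 1 1
              rw [mul_one] at h
              exact (mul_eq_left.1 h.symm)
            simpa using h1'
          | succ k ih => rw [pow_succ, htmul, ih, h]
        exact hpow _
      rw [hφ, hta, ← pow_add]
      have : m + 1 + (m + 1) = Nat.card X + 1 := by omega
      rw [this, pow_succ, pow_card_eq_one', one_mul]
  rw [h1, h2, h3, h4]


/-- every nontrivial element of a cyclic group of order `2^(c'+1)` has the involution as a power -/
theorem orb_pow_eq_invol {Y : Type*} [Group Y] (σ : Y) (c' : ℕ) (hord : orderOf σ = 2 ^ (c' + 1))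
    (g : Y) (hg : g ∈ Subgroup.zpowers σ) (hg1 : g ≠ 1) : ∃ e : ℕ, g ^ e = σ ^ 2 ^ c' := by
  obtain ⟨k, hk⟩ := Subgroup.mem_zpowers_iff.1 hg
  have hopos : (0 : ℤ) < (orderOf σ : ℤ) := by
    rw [hord]; positivity
  set j := (k % (orderOf σ : ℤ)).toNat with hj
  have hjk : ((j : ℕ) : ℤ) = k % (orderOf σ : ℤ) :=
    Int.toNat_of_nonneg (Int.emod_nonneg _ hopos.ne')
  have hσj : σ ^ j = g := by
    rw [← zpow_natCast, hjk, zpow_mod_orderOf, hk]
  have hjlt : j < 2 ^ (c' + 1) := by
    have h1 : k % (orderOf σ : ℤ) < (orderOf σ : ℤ) := Int.emod_lt_of_pos _ hopos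
    rw [← hjk, hord] at h1
    exact_mod_cast h1
  have hj0 : j ≠ 0 := by
    intro h0
    rw [h0, pow_zero] at hσj
    exact hg1 hσj.symm
  obtain ⟨i, u, hu, hju⟩ := Nat.exists_eq_two_pow_mul_odd hj0
  have hupos : 0 < u := hu.pos
  have hi : i < c' + 1 := by
    have h1 : 2 ^ i ≤ j := by
      rw [hju]
      exact Nat.le_mul_of_pos_right _ hupos
    exact (Nat.pow_lt_pow_iff_right (by norm_num : 1 < 2)).1 (lt_of_le_of_lt h1 hjlt)
  have ht2 : (σ ^ 2 ^ c') ^ 2 = 1 := by
    rw [← pow_mul, ← pow_succ, ← hord, pow_orderOf_eq_one]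
  refine ⟨2 ^ (c' - i), ?_⟩
  rw [← hσj, ← pow_mul, hju]
  have h3 : 2 ^ i * u * 2 ^ (c' - i) = 2 ^ c' * u := by
    have : 2 ^ c' = 2 ^ i * 2 ^ (c' - i) := by
      rw [← pow_add]; congr 1; omega
    rw [this]; ring
  rw [h3, pow_mul]
  obtain ⟨w, hw⟩ := hu
  rw [hw, pow_succ, pow_mul, ht2, one_pow, one_mul]

theorem g2_orb {X : Type*} [Group X] [Finite X] (hcomm : ∀ a b : X, a * b = b * a)
    (hodd : Odd (Nat.card X)) (σ : Equiv.Perm X) (hmul : ∀ a b : X, σ (a * b) = σ a * σ b)
    (c : ℕ) (hc : 1 ≤ c) (hσ : σ ^ 2 ^ c = 1)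
    (hd : Nat.card X ≤
      (2 ^ c - 1) * Nat.card (MulAction.orbitRel.Quotient (Subgroup.zpowers σ) X)) :
    Nat.card {a : X // (σ ^ 2 ^ (c - 1)) a = a⁻¹} ≤ (2 ^ c - 1) ^ 2 ∧
    (Nat.card {a : X // (σ ^ 2 ^ (c - 1)) a = a⁻¹} = (2 ^ c - 1) ^ 2 →
      ∀ a : X, (σ ^ 2 ^ (c - 1)) a = a → σ a = a) := by
  classical
  obtain ⟨c', rfl⟩ : ∃ c', c = c' + 1 := ⟨c - 1, by omega⟩
  simp only [Nat.add_sub_cancel]
  set t := σ ^ 2 ^ c' with ht
  have htt2 : t * t = 1 := by
    rw [ht, ← pow_two, ← pow_mul, ← pow_succ]; exact hσ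
  have htt : ∀ a, t (t a) = a := fun a => by
    have := congrArg (fun f : Equiv.Perm X => f a) htt2
    simpa using this
  have htmul := orb_pow_mul σ hmul (2 ^ c')
  have hXI := orb_card_mul hcomm hodd t htmul htt
  have ht1' : t 1 = 1 := by
    have h := htmul 1 1
    rw [mul_one] at h
    exact (mul_eq_left.1 h.symm)
  have hCpos : 0 < Nat.card {a : X // t a = a} := by
    haveI : Nonempty {a : X // t a = a} := ⟨⟨1, ht1'⟩⟩
    exact Nat.card_pos
  have hP2 : 2 ≤ 2 ^ (c' + 1) := by
    calc 2 = 2 ^ 1 := rfl
      _ ≤ 2 ^ (c' + 1) := Nat.pow_le_pow_right (by norm_num) (by omega)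
  obtain ⟨m, hm⟩ : ∃ m, 2 ^ (c' + 1) = m + 1 := ⟨2 ^ (c' + 1) - 1, by omega⟩
  have hm1 : 1 ≤ m := by omega
  have hmsub : 2 ^ (c' + 1) - 1 = m := by omega
  rw [hmsub] at hd ⊢
  by_cases ht1 : t = 1
  · -- the involution is trivial
    have hI1 : Nat.card {a : X // t a = a⁻¹} = 1 := by
      rw [Nat.card_eq_one_iff_unique]
      constructor
      · constructor
        rintro ⟨a, ha⟩ ⟨b, hb⟩
        apply Subtype.ext
        rw [ht1] at ha hb
        simp only [Equiv.Perm.coe_one, id_eq] at ha hb
        show a = b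
        rw [orb_eq_one_of_eq_inv hodd a ha, orb_eq_one_of_eq_inv hodd b hb]
      · exact ⟨⟨1, by rw [ht1']; simp⟩⟩
    rw [hI1]
    constructor
    · exact Nat.one_le_pow _ _ hm1
    · intro heq a ha
      have hc0 : c' = 0 := by
        by_contra hne
        have h4 : 2 ^ 2 ≤ 2 ^ (c' + 1) := Nat.pow_le_pow_right (by norm_num) (by omega)
        have h3 : 3 ≤ m := by omega
        have h9 : 9 ≤ m ^ 2 := by nlinarith
        omega
      subst hc0
      simpa [ht] using ha
  · -- the involution is nontrivial: `σ` has order exactly `2^(c'+1)`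
    haveI : Fact (Nat.Prime 2) := ⟨Nat.prime_two⟩
    have hord : orderOf σ = 2 ^ (c' + 1) := orderOf_eq_prime_pow ht1 hσ
    have hσ1 : σ ≠ 1 := by
      intro h
      apply ht1
      rw [ht, h, one_pow]
    set H := Subgroup.zpowers σ with hH
    haveI : Fintype X := Fintype.ofFinite X
    haveI : Fintype H := Fintype.ofFinite H
    haveI : ∀ g : H, Fintype (fixedBy X g) := fun g => Fintype.ofFinite _
    haveI : Fintype (Quotient (orbitRel H X)) := Fintype.ofFinite _
    have hburn := MulAction.sum_card_fixedBy_eq_card_orbits_mul_card_group H X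
    have hcardH : Fintype.card H = m + 1 := by
      rw [Fintype.card_eq_nat_card, hH, Nat.card_zpowers, hord, hm]
    set N := Nat.card (MulAction.orbitRel.Quotient H X) with hN
    have hNq : Fintype.card (Quotient (orbitRel H X)) = N := by
      rw [Fintype.card_eq_nat_card]
    rw [hNq, hcardH] at hburn
    set Cc := Nat.card {a : X // t a = a} with hCc
    set Ii := Nat.card {a : X // t a = a⁻¹} with hIi
    -- fixed points of nontrivial elements are fixed by `t`
    have hsub : ∀ g : H, g ≠ 1 → ∀ a : X, g • a = a → t a = a := by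
      intro g hg1 a ha
      have hg1' : (g : Equiv.Perm X) ≠ 1 := fun h => hg1 (Subtype.ext h)
      obtain ⟨e, he⟩ := orb_pow_eq_invol σ c' hord (g : Equiv.Perm X) g.2 hg1'
      have ha' : (g : Equiv.Perm X) a = a := ha
      have := Equiv.Perm.pow_apply_eq_self_of_apply_eq_self ha' e
      rw [he] at this
      exact this
    have hfle : ∀ g : H, g ≠ 1 → Fintype.card (fixedBy X g) ≤ Cc := by
      intro g hg1
      rw [Fintype.card_eq_nat_card, hCc]
      apply Nat.card_le_card_of_injective
        (fun a : fixedBy X g => (⟨a.1, hsub g hg1 a.1 a.2⟩ : {a : X // t a = a}))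
      intro a b hab
      apply Subtype.ext
      exact congrArg (fun z : {a : X // t a = a} => (z : X)) hab
    have hf1 : Fintype.card (fixedBy X (1 : H)) = Nat.card X := by
      rw [Fintype.card_eq_nat_card]
      apply Nat.card_congr
      exact (Equiv.subtypeUnivEquiv (fun a => by simp))
    have hsplit : (∑ g : H, Fintype.card (fixedBy X g)) =
        Nat.card X + ∑ g ∈ Finset.univ.erase (1 : H), Fintype.card (fixedBy X g) := by
      rw [← hf1]
      exact (Finset.add_sum_erase Finset.univ (fun g : H => Fintype.card (fixedBy X g))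
        (Finset.mem_univ (1 : H))).symm
    have hcarderase : (Finset.univ.erase (1 : H)).card = m := by
      rw [Finset.card_erase_of_mem (Finset.mem_univ _), Finset.card_univ, hcardH]
      omega
    have hSle : ∑ g ∈ Finset.univ.erase (1 : H), Fintype.card (fixedBy X g) ≤ m * Cc := by
      have := Finset.sum_le_card_nsmul (Finset.univ.erase (1 : H))
        (fun g : H => Fintype.card (fixedBy X g)) Cc
        (fun g hg => hfle g (Finset.ne_of_mem_erase hg))
      rwa [hcarderase, smul_eq_mul] at this
    set Ssum := ∑ g ∈ Finset.univ.erase (1 : H), Fintype.card (fixedBy X g) with hSsum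
    rw [hsplit] at hburn
    -- arithmetic
    set x := Nat.card X with hx
    have hkey : x * (m + 1) ≤ m * (x + m * Cc) := by
      calc x * (m + 1) ≤ (m * N) * (m + 1) := Nat.mul_le_mul_right _ hd
        _ = m * (N * (m + 1)) := by ring
        _ = m * (x + Ssum) := by rw [hburn]
        _ ≤ m * (x + m * Cc) := Nat.mul_le_mul_left _ (Nat.add_le_add_left hSle _)
    have hxle : x ≤ m * m * Cc := by nlinarith
    have hIle : Ii ≤ m ^ 2 := by
      have h1 : Cc * Ii ≤ Cc * (m * m) := by
        rw [← hXI]
        calc x ≤ m * m * Cc := hxle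
          _ = Cc * (m * m) := by ring
      have := Nat.le_of_mul_le_mul_left h1 hCpos
      rwa [← pow_two] at this
    refine ⟨hIle, ?_⟩
    intro heq a ha
    -- equality case
    have hxeq : x = m * m * Cc := by
      rw [hXI, heq]; ring
    have hS : m * (x + m * Cc) ≤ m * (x + Ssum) := by
      calc m * (x + m * Cc) = x * (m + 1) := by rw [hxeq]; ring
        _ ≤ (m * N) * (m + 1) := Nat.mul_le_mul_right _ hd
        _ = m * (N * (m + 1)) := by ring
        _ = m * (x + Ssum) := by rw [hburn]
    have hS2 : m * Cc ≤ Ssum := by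
      have := Nat.le_of_mul_le_mul_left hS (by omega : 0 < m)
      omega
    have hSeq : Ssum = ∑ g ∈ Finset.univ.erase (1 : H), Cc := by
      rw [Finset.sum_const, hcarderase, smul_eq_mul]
      exact le_antisymm hSle hS2
    have hall := (Finset.sum_eq_sum_iff_of_le
      (fun g hg => hfle g (Finset.ne_of_mem_erase hg))).1 hSeq
    let σH : H := ⟨σ, Subgroup.mem_zpowers σ⟩
    have hσH1 : σH ≠ 1 := fun h => hσ1 (congrArg Subtype.val h)
    have hσcard : Fintype.card (fixedBy X σH) = Cc :=
      hall σH (Finset.mem_erase.2 ⟨hσH1, Finset.mem_univ _⟩)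
    -- `fixedBy X σH = {a | t a = a}`
    by_contra hne
    have hlt : Fintype.card (fixedBy X σH) < Cc := by
      rw [Fintype.card_eq_nat_card, hCc]
      have hinj : Function.Injective
          (fun b : fixedBy X σH => (⟨b.1, hsub σH hσH1 b.1 b.2⟩ : {a : X // t a = a})) := by
        intro b b' hbb
        apply Subtype.ext
        exact congrArg (fun z : {a : X // t a = a} => (z : X)) hbb
      have hnsurj : ¬ Function.Surjective
          (fun b : fixedBy X σH => (⟨b.1, hsub σH hσH1 b.1 b.2⟩ : {a : X // t a = a})) := by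
        intro hs
        obtain ⟨b, hb⟩ := hs ⟨a, ha⟩
        have hba : b.1 = a := congrArg Subtype.val hb
        apply hne
        have := b.2
        rw [MulAction.mem_fixedBy] at this
        rw [← hba]
        exact this
      rw [← Fintype.card_eq_nat_card, ← Fintype.card_eq_nat_card]
      exact Fintype.card_lt_of_injective_not_surjective _ hinj hnsurj
    omega

end Cfsg.Agent.Helper5.G2
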