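import Mathlib

set_option autoImplicit false

namespace Cfsg.Agent.Helper5

open Matrix Matrix.GeneralLinearGroup

variable {F : Type*} [Field F]

/-- The upper unitriangular subgroup of `GL_2`. -/
def unipU (F : Type*) [Field F] : Subgroup (GL (Fin 2) F) :=
  (upperRightHom (R := F)).toMonoidHom.range

lemma mem_unipU_iff {g : GL (Fin 2) F} : g ∈ unipU F ↔ ∃ x : F, upperRightHom x = g := by
  unfold unipU
  rw [MonoidHom.mem_range]
  constructor
  · rintro ⟨x, hx⟩
    exact ⟨Multiplicative.toAdd x, hx⟩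
  · rintro ⟨x, hx⟩
    exact ⟨Multiplicative.ofAdd x, hx⟩

/-- The Borel subgroup (upper triangular matrices) of `GL_2`. -/
def borel (F : Type*) [Field F] : Subgroup (GL (Fin 2) F) where
  carrier := {g | g.val 1 0 = 0}
  one_mem' := by simp
  mul_mem' {a b} ha hb := by
    simp only [Set.mem_setOf_eq] at ha hb ⊢
    simp [Matrix.mul_apply, Fin.sum_univ_two, ha, hb]
  inv_mem' {a} ha := by
    simp only [Set.mem_setOf_eq] at ha ⊢
    have h1 : (a⁻¹ * a).val 1 0 = 0 := by simp
    have hdet : a.val.det ≠ 0 := det_ne_zero a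
    rw [Matrix.det_fin_two, ha, mul_zero, sub_zero] at hdet
    have h00 : a.val 0 0 ≠ 0 := left_ne_zero_of_mul hdet
    simp only [Units.val_mul, Matrix.mul_apply, Fin.sum_univ_two, ha, mul_zero, add_zero] at h1
    rcases mul_eq_zero.1 h1 with h | h
    · exact h
    · exact absurd h h00

lemma mem_borel_iff {g : GL (Fin 2) F} : g ∈ borel F ↔ g.val 1 0 = 0 := Iff.rfl

/-- Key computation: if `k * u₂ = u₁ * k` with `u₂` a nontrivial unipotent then `k` is upper
triangular. -/
lemma lower_left_eq_zero_of_conj {k : GL (Fin 2) F} {x₁ x₂ : F} (hx : x₂ ≠ 0)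
    (h : k * upperRightHom x₂ = upperRightHom x₁ * k) : k.val 1 0 = 0 := by
  have h11 := congrArg (fun g : GL (Fin 2) F => g.val 1 1) h
  simp [Matrix.mul_apply, Fin.sum_univ_two, upperRightHom] at h11
  rcases h11 with h | h
  · exact h
  · exact absurd h hx

lemma borel_diag_ne_zero {g : GL (Fin 2) F} (hg : g ∈ borel F) :
    g.val 0 0 ≠ 0 ∧ g.val 1 1 ≠ 0 := by
  have hdet : g.val.det ≠ 0 := det_ne_zero g
  rw [Matrix.det_fin_two, mem_borel_iff.1 hg, mul_zero, sub_zero] at hdet
  exact ⟨left_ne_zero_of_mul hdet, right_ne_zero_of_mul hdet⟩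

lemma borel_mul_upperRightHom {g : GL (Fin 2) F} (hg : g ∈ borel F) (x : F) :
    g * upperRightHom x = upperRightHom (g.val 0 0 * x / g.val 1 1) * g := by
  obtain ⟨h0, h1⟩ := borel_diag_ne_zero hg
  have hc := mem_borel_iff.1 hg
  apply Matrix.GeneralLinearGroup.ext
  intro i j
  fin_cases i <;> fin_cases j <;>
    simp [Matrix.mul_apply, Fin.sum_univ_two, upperRightHom, hc] <;> field_simp <;> ring

lemma borel_le_normalizer_aux {g : GL (Fin 2) F} (hg : g ∈ borel F) {h : GL (Fin 2) F}
    (hh : h ∈ unipU F) : g * h * g⁻¹ ∈ unipU F := by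
  obtain ⟨x, rfl⟩ := mem_unipU_iff.1 hh
  rw [borel_mul_upperRightHom hg, mul_inv_cancel_right]
  exact mem_unipU_iff.2 ⟨_, rfl⟩

lemma normalizer_unipU :
    Subgroup.normalizer ((unipU F : Subgroup (GL (Fin 2) F)) : Set (GL (Fin 2) F)) = borel F := by
  ext g
  constructor
  · intro hg
    rw [Subgroup.mem_normalizer_iff] at hg
    have h1 : (upperRightHom (1 : F) : GL (Fin 2) F) ∈ unipU F := mem_unipU_iff.2 ⟨1, rfl⟩
    obtain ⟨x, hx⟩ := mem_unipU_iff.1 ((hg _).1 h1)
    rw [mem_borel_iff]
    refine lower_left_eq_zero_of_conj (x₁ := x) (x₂ := 1) one_ne_zero ?_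
    rw [hx, inv_mul_cancel_right]
  · intro hg
    rw [Subgroup.mem_normalizer_iff]
    intro h
    constructor
    · exact fun hh ↦ borel_le_normalizer_aux hg hh
    · intro hh
      have := borel_le_normalizer_aux (inv_mem hg) hh
      simpa [mul_assoc] using this

/-- Upper triangular matrix as an element of `GL_2`. -/
noncomputable def upperTri (a d : Fˣ) (b : F) : GL (Fin 2) F :=
  mkOfDetNeZero !![(a : F), b; 0, (d : F)] (by simp [Matrix.det_fin_two])

lemma upperTri_mem_borel (a d : Fˣ) (b : F) : upperTri a d b ∈ borel F := by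
  simp [mem_borel_iff, upperTri]

/-- The Borel subgroup is in bijection with `Fˣ × Fˣ × F`. -/
noncomputable def borelEquiv : borel F ≃ Fˣ × Fˣ × F where
  toFun g := (Units.mk0 (g.1.val 0 0) (borel_diag_ne_zero g.2).1,
    Units.mk0 (g.1.val 1 1) (borel_diag_ne_zero g.2).2, g.1.val 0 1)
  invFun t := ⟨upperTri t.1 t.2.1 t.2.2, upperTri_mem_borel _ _ _⟩
  left_inv g := by
    apply Subtype.ext
    apply Matrix.GeneralLinearGroup.ext
    intro i j
    have hc := mem_borel_iff.1 g.2
    fin_cases i <;> fin_cases j <;> simp [upperTri, hc]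
  right_inv t := by
    obtain ⟨a, d, b⟩ := t
    simp [upperTri]

lemma card_borel [Fintype F] {q : ℕ} (hF : Fintype.card F = q) :
    Nat.card (borel F) = q * (q - 1) ^ 2 := by
  rw [Nat.card_congr borelEquiv, Nat.card_prod, Nat.card_prod, Nat.card_units,
    Nat.card_eq_fintype_card, hF]
  ring

lemma card_unipU [Fintype F] {q : ℕ} (hF : Fintype.card F = q) :
    Nat.card (unipU F) = q := by
  unfold unipU
  have hinj : Function.Injective (upperRightHom (R := F)).toMonoidHom := by
    intro x y hxy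
    exact injective_upperRightHom (R := F) hxy
  rw [← Nat.card_congr (MonoidHom.ofInjective hinj).toEquiv,
    Nat.card_congr (Multiplicative.toAdd (α := F)), Nat.card_eq_fintype_card]
  exact hF

lemma card_GL2 [Fintype F] {q : ℕ} (hF : Fintype.card F = q) :
    Nat.card (GL (Fin 2) F) = (q ^ 2 - 1) * (q ^ 2 - q) := by
  rw [Matrix.card_GL_field, hF, Fin.prod_univ_two]
  simp

end Cfsg.Agent.Helper5
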