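import Mathlib
import Cfsg.Agent.Lib.Helper5.GL2
import Cfsg.Agent.Lib.Helper5.GLCard

set_option autoImplicit false

namespace Cfsg.Agent.Helper5

open Matrix Matrix.GeneralLinearGroup
open scoped Pointwise

variable {F : Type*} [Field F] [Fintype F] (p : ℕ) [Fact p.Prime] [CharP F p]

lemma card_sylow_GL2_eq {q : ℕ} (hF : Fintype.card F = q) (P : Sylow p (GL (Fin 2) F)) :
    Nat.card P = q := by
  have := card_sylow_GL hF p 2 P
  simpa using this

lemma card_unipU_eq_pow :
    Nat.card (unipU F) = p ^ (Nat.card (GL (Fin 2) F)).factorization p := by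
  have P : Sylow p (GL (Fin 2) F) := default
  rw [← Sylow.card_eq_multiplicity P, card_sylow_GL2_eq p rfl P, card_unipU rfl]

/-- The upper unitriangular group as a Sylow subgroup. -/
noncomputable def unipSylow : Sylow p (GL (Fin 2) F) :=
  Sylow.ofCard (unipU F) (card_unipU_eq_pow p)

lemma coe_unipSylow : ((unipSylow p : Sylow p (GL (Fin 2) F)) : Subgroup (GL (Fin 2) F)) = unipU F :=
  rfl

lemma arith_aux (q : ℕ) (hq : 1 ≤ q) :
    (q ^ 2 - 1) * (q ^ 2 - q) = (q * (q - 1) ^ 2) * (q + 1) := by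
  obtain ⟨k, rfl⟩ : ∃ k, q = k + 1 := ⟨q - 1, by omega⟩
  have h1 : (k + 1) ^ 2 - 1 = k * (k + 2) := by
    have : (k + 1) ^ 2 = k * (k + 2) + 1 := by ring
    omega
  have h2 : (k + 1) ^ 2 - (k + 1) = k * (k + 1) := by
    have : (k + 1) ^ 2 = k * (k + 1) + (k + 1) := by ring
    omega
  rw [h1, h2, Nat.add_sub_cancel]
  ring

lemma index_normalizer_coe {G : Type*} [Group G] [Finite G] (P : Sylow p G) :
    (Subgroup.normalizer ((P : Subgroup G) : Set G)).index = Nat.card (Sylow p G) :=
  (Sylow.card_eq_index_normalizer P).symm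

theorem card_sylow_GL2 {q : ℕ} (hF : Fintype.card F = q) :
    Nat.card (Sylow p (GL (Fin 2) F)) = q + 1 := by
  have hq : 1 ≤ q := by rw [← hF]; exact Fintype.card_pos
  rw [← index_normalizer_coe p (unipSylow p), coe_unipSylow, normalizer_unipU]
  have h1 := Subgroup.card_mul_index (borel F)
  rw [card_borel hF, card_GL2 hF, arith_aux q hq] at h1
  have hpos : 0 < q * (q - 1) ^ 2 := by
    have h2 : 2 ≤ q := by rw [← hF]; exact Fintype.one_lt_card
    have : 0 < q - 1 := by omega
    positivity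
  exact Nat.eq_of_mul_eq_mul_left hpos h1

theorem card_normalizer_sylow_GL2 {q : ℕ} (hF : Fintype.card F = q) (P : Sylow p (GL (Fin 2) F)) :
    Nat.card (Subgroup.normalizer ((P : Subgroup (GL (Fin 2) F)) : Set (GL (Fin 2) F))) =
      q * (q - 1) ^ 2 := by
  have hq : 1 ≤ q := by rw [← hF]; exact Fintype.card_pos
  have h1 := Subgroup.card_mul_index
    (Subgroup.normalizer ((P : Subgroup (GL (Fin 2) F)) : Set (GL (Fin 2) F)))
  rw [index_normalizer_coe p P, card_sylow_GL2 p hF, card_GL2 hF, arith_aux q hq] at h1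
  exact Nat.eq_of_mul_eq_mul_right (Nat.succ_pos q) h1

end Cfsg.Agent.Helper5
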