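import Mathlib
import Cfsg.Agent.Lib.Helper5.GL2Sylow

set_option autoImplicit false

namespace Cfsg.Agent.Helper5

open Matrix Matrix.GeneralLinearGroup
open scoped Pointwise

variable {F : Type*} [Field F] [Fintype F] (p : ℕ) [Fact p.Prime] [CharP F p]

lemma mem_smul_unipSylow_iff (g x : GL (Fin 2) F) :
    x ∈ ((g • unipSylow p : Sylow p (GL (Fin 2) F)) : Subgroup (GL (Fin 2) F)) ↔
      g⁻¹ * x * g ∈ unipU F := by
  rw [Sylow.coe_subgroup_smul, Subgroup.mem_pointwise_smul_iff_inv_smul_mem, coe_unipSylow]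
  simp [MulAut.smul_def]

lemma upperRightHom_eq_one_iff (x : F) : (upperRightHom x : GL (Fin 2) F) = 1 ↔ x = 0 := by
  constructor
  · intro h
    have := congrArg (fun g : GL (Fin 2) F => g.val 0 1) h
    simpa [upperRightHom] using this
  · rintro rfl
    exact (upperRightHom (R := F)).map_zero_eq_one

theorem sylow_GL2_inf_eq_bot (P Q : Sylow p (GL (Fin 2) F)) (h : P ≠ Q) :
    (P : Subgroup (GL (Fin 2) F)) ⊓ (Q : Subgroup (GL (Fin 2) F)) = ⊥ := by
  obtain ⟨g, rfl⟩ := MulAction.exists_smul_eq (GL (Fin 2) F) (unipSylow p) P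
  obtain ⟨k, rfl⟩ := MulAction.exists_smul_eq (GL (Fin 2) F) (unipSylow p) Q
  rw [eq_bot_iff]
  intro x hx
  rw [Subgroup.mem_inf] at hx
  obtain ⟨hxP, hxQ⟩ := hx
  rw [Subgroup.mem_bot]
  by_contra hx1
  apply h
  rw [mem_smul_unipSylow_iff] at hxP hxQ
  obtain ⟨x₁, h₁⟩ := mem_unipU_iff.1 hxP
  obtain ⟨x₂, h₂⟩ := mem_unipU_iff.1 hxQ
  have hx₂ : x₂ ≠ 0 := by
    intro h0
    rw [h0, (upperRightHom_eq_one_iff 0).2 rfl] at h₂
    apply hx1
    have : x = k * (k⁻¹ * x * k) * k⁻¹ := by group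
    rw [this, ← h₂]
    group
  have hm : (g⁻¹ * k) * upperRightHom x₂ = upperRightHom x₁ * (g⁻¹ * k) := by
    rw [h₁, h₂]
    group
  have hb : g⁻¹ * k ∈ borel F := mem_borel_iff.2 (lower_left_eq_zero_of_conj hx₂ hm)
  rw [← normalizer_unipU, ← coe_unipSylow p] at hb
  have hfix : (g⁻¹ * k) • unipSylow p = unipSylow p := Sylow.smul_eq_iff_mem_normalizer.2 hb
  calc g • unipSylow p = g • ((g⁻¹ * k) • unipSylow p) := by rw [hfix]
    _ = k • unipSylow p := by rw [smul_smul, mul_inv_cancel_left]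

omit [Fintype F] in
lemma mem_centralizer_upperRightHom_iff {x : F} (hx : x ≠ 0) (k : GL (Fin 2) F) :
    k ∈ Subgroup.centralizer {(upperRightHom x : GL (Fin 2) F)} ↔
      k.val 1 0 = 0 ∧ k.val 0 0 = k.val 1 1 := by
  rw [Subgroup.mem_centralizer_singleton_iff]
  constructor
  · intro h
    have hc : k.val 1 0 = 0 := lower_left_eq_zero_of_conj hx h
    refine ⟨hc, ?_⟩
    have h01 := congrArg (fun g : GL (Fin 2) F => g.val 0 1) h
    simp [Matrix.mul_apply, Fin.sum_univ_two, upperRightHom] at h01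
    have : x * (k.val 1 1 - k.val 0 0) = 0 := by linear_combination (-1 : F) * h01
    rcases mul_eq_zero.1 this with h0 | h0
    · exact absurd h0 hx
    · exact (sub_eq_zero.1 h0).symm
  · rintro ⟨hc, had⟩
    apply Matrix.GeneralLinearGroup.ext
    intro i j
    fin_cases i <;> fin_cases j <;>
      simp [Matrix.mul_apply, Fin.sum_univ_two, upperRightHom, hc, had]
    ring

/-- The centralizer of a nontrivial upper unipotent is in bijection with `Fˣ × F`. -/
noncomputable def centralizerEquiv {x : F} (hx : x ≠ 0) :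
    Subgroup.centralizer {(upperRightHom x : GL (Fin 2) F)} ≃ Fˣ × F where
  toFun k := (Units.mk0 (k.1.val 0 0) (borel_diag_ne_zero
    (mem_borel_iff.2 ((mem_centralizer_upperRightHom_iff hx k.1).1 k.2).1)).1, k.1.val 0 1)
  invFun t := ⟨upperTri t.1 t.1 t.2, (mem_centralizer_upperRightHom_iff hx _).2
    (by simp [upperTri])⟩
  left_inv k := by
    apply Subtype.ext
    apply Matrix.GeneralLinearGroup.ext
    intro i j
    obtain ⟨hc, had⟩ := (mem_centralizer_upperRightHom_iff hx k.1).1 k.2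
    fin_cases i <;> fin_cases j <;> simp [upperTri, hc, had]
  right_inv t := by
    obtain ⟨a, b⟩ := t
    simp [upperTri]

/-- Conjugation carries centralizers to centralizers. -/
def centralizerConjEquiv {G : Type*} [Group G] (g u : G) :
    Subgroup.centralizer {u} ≃ Subgroup.centralizer {g * u * g⁻¹} where
  toFun k := ⟨g * k.1 * g⁻¹, by
    have := Subgroup.mem_centralizer_singleton_iff.1 k.2
    rw [Subgroup.mem_centralizer_singleton_iff]
    calc g * k.1 * g⁻¹ * (g * u * g⁻¹) = g * (k.1 * u) * g⁻¹ := by group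
      _ = g * (u * k.1) * g⁻¹ := by rw [this]
      _ = g * u * g⁻¹ * (g * k.1 * g⁻¹) := by group⟩
  invFun k := ⟨g⁻¹ * k.1 * g, by
    have := Subgroup.mem_centralizer_singleton_iff.1 k.2
    rw [Subgroup.mem_centralizer_singleton_iff]
    calc g⁻¹ * k.1 * g * u = g⁻¹ * (k.1 * (g * u * g⁻¹)) * g := by group
      _ = g⁻¹ * ((g * u * g⁻¹) * k.1) * g := by rw [this]
      _ = u * (g⁻¹ * k.1 * g) := by group⟩
  left_inv k := by
    apply Subtype.ext
    simp only
    group
  right_inv k := by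
    apply Subtype.ext
    simp only
    group

theorem card_centralizer_unipotent_GL2 {q : ℕ} (hF : Fintype.card F = q)
    (P : Sylow p (GL (Fin 2) F)) (a : GL (Fin 2) F) (ha : a ∈ P) (ha1 : a ≠ 1) :
    Nat.card (Subgroup.centralizer ({a} : Set (GL (Fin 2) F))) = q * (q - 1) := by
  obtain ⟨g, rfl⟩ := MulAction.exists_smul_eq (GL (Fin 2) F) (unipSylow p) P
  have ha' : g⁻¹ * a * g ∈ unipU F := (mem_smul_unipSylow_iff p g a).1 ha
  obtain ⟨x, hx⟩ := mem_unipU_iff.1 ha'
  have hx0 : x ≠ 0 := by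
    intro h0
    rw [h0, (upperRightHom_eq_one_iff 0).2 rfl] at hx
    apply ha1
    have : a = g * (g⁻¹ * a * g) * g⁻¹ := by group
    rw [this, ← hx]
    group
  have haeq : a = g * upperRightHom x * g⁻¹ := by
    rw [hx]
    group
  rw [haeq, ← Nat.card_congr (centralizerConjEquiv g (upperRightHom x : GL (Fin 2) F)),
    Nat.card_congr (centralizerEquiv hx0), Nat.card_prod, Nat.card_units,
    Nat.card_eq_fintype_card, hF]
  ring

end Cfsg.Agent.Helper5
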