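import Mathlib
import Cfsg.Agent.Lib.Helper5.SL

set_option autoImplicit false
set_option linter.unusedSimpArgs false

namespace Cfsg.Agent.Helper5

open Matrix Matrix.SpecialLinearGroup
open scoped commutatorElement

variable {ι F : Type*} [DecidableEq ι] [Fintype ι] [Field F]

lemma diagOne_aux (i : ι) (a b : F) (hab : a * b = 1) :
    (1 + single i i (a - 1) : Matrix ι ι F) * (1 + single i i (b - 1)) = 1 := by
  simp only [mul_add, add_mul, mul_one, one_mul, single_mul_single_same]
  rw [add_assoc, ← single_add, ← single_add]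
  have : (a - 1 + (b - 1 + (a - 1) * (b - 1))) = 0 := by
    linear_combination hab
  rw [this]
  simp

/-- diagonal matrix with `a` at position `i` and ones elsewhere, as a unit. -/
noncomputable def diagOne (i : ι) (a : F) (ha : a ≠ 0) : GL ι F where
  val := 1 + single i i (a - 1)
  inv := 1 + single i i (a⁻¹ - 1)
  val_inv := diagOne_aux i a a⁻¹ (mul_inv_cancel₀ ha)
  inv_val := diagOne_aux i a⁻¹ a (inv_mul_cancel₀ ha)

lemma toGL_transvection_eq_commutator {i j : ι} (hij : i ≠ j) (a : F) (ha : a ≠ 0) (b : F) :
    (toGL (SpecialLinearGroup.transvection hij ((a - 1) * b)) : GL ι F) =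
      ⁅diagOne i a ha, toGL (SpecialLinearGroup.transvection hij b)⁆ := by
  rw [commutatorElement_def, ← map_inv, SpecialLinearGroup.transvection_inv]
  apply Units.ext
  simp only [Units.val_mul, coe_GL_coe_matrix]
  change (Matrix.transvection i j ((a - 1) * b) : Matrix ι ι F) =
    (1 + single i i (a - 1)) * Matrix.transvection i j b * (1 + single i i (a⁻¹ - 1)) *
      Matrix.transvection i j (-b)
  simp only [Matrix.transvection]
  simp [mul_add, add_mul, single_mul_single_same, single_mul_single_of_ne, hij, hij.symm]
  ext x y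
  simp only [Matrix.add_apply, one_apply, single_apply]
  by_cases hxi : x = i <;> by_cases hyi : y = i <;> by_cases hyj : y = j <;>
    simp_all [eq_comm] <;> field_simp <;> ring

theorem commutator_GL_eq_ker_det (h : Fintype.card ι = 2 → ∃ a : F, a ≠ 0 ∧ a ≠ 1) :
    commutator (GL ι F) = (GeneralLinearGroup.det : GL ι F →* Fˣ).ker := by
  apply le_antisymm (Abelianization.commutator_subset_ker _)
  intro g hg
  rw [MonoidHom.mem_ker] at hg
  have hdet : (g : Matrix ι ι F).det = 1 := by
    have := congrArg Units.val hg
    simpa using this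
  obtain ⟨s, rfl⟩ : ∃ s : SpecialLinearGroup ι F, toGL s = g := ⟨⟨g.val, hdet⟩, Units.ext rfl⟩
  rcases subsingleton_or_nontrivial ι with hsub | hnt
  · have : s = 1 := Subsingleton.elim _ _
    rw [this, map_one]
    exact one_mem _
  · by_cases hF : ∃ a : F, a ≠ 0 ∧ a ≠ 1
    · obtain ⟨a, ha0, ha1⟩ := hF
      refine transvection_induction (fun A ↦ toGL A ∈ commutator (GL ι F)) (fun i j hij c ↦ ?_)
        (fun A B hA hB ↦ by simpa using mul_mem hA hB) s
      have ha1' : a - 1 ≠ 0 := sub_ne_zero_of_ne ha1
      have : c = (a - 1) * (c / (a - 1)) := by field_simp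
      rw [this, toGL_transvection_eq_commutator hij a ha0]
      exact Subgroup.commutator_mem_commutator (Subgroup.mem_top _) (Subgroup.mem_top _)
    · have h3 : 3 ≤ Fintype.card ι := by
        have h1 : 1 < Fintype.card ι := Fintype.one_lt_card_iff_nontrivial.2 hnt
        have h2 : Fintype.card ι ≠ 2 := fun h2 ↦ hF (h h2)
        omega
      refine transvection_induction (fun A ↦ toGL A ∈ commutator (GL ι F)) (fun i j hij c ↦ ?_)
        (fun A B hA hB ↦ by simpa using mul_mem hA hB) s
      obtain ⟨k, hki, hkj⟩ := exists_ne_ne h3 i j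
      rw [transvection_eq_commutator hij (Ne.symm hki) hkj c, map_commutatorElement]
      exact Subgroup.commutator_mem_commutator (Subgroup.mem_top _) (Subgroup.mem_top _)

end Cfsg.Agent.Helper5
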