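import Mathlib
import Cfsg.Agent.Lib.Helper14.GLIDefs

/-!
# GLI (helper14, S5958), piece (LINES), core: the conclusions of (GFIX) and (GST) are hypotheses

`V = U ⊕ M`, `U = ker (x - 1)`, `M = ⨁ W_k` with `W_k` irreducible of dimension `c = r - 1`, `m ≤ dim U`:
`v_i = b_i + u_i`, `{x^j v_i}` together with the remaining basis vectors of `U` is a basis of `V` permuted by `x`.
-/

set_option autoImplicit false

namespace Cfsg.Agent.Helper5.GLI

open Module Polynomial Cfsg.Agent.Helper14.GLI

/-- the dimension of a finite supremum of an independent family is the sum of the dimensions -/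
theorem h5_finrank_biSup {F V : Type*} [Field F] [AddCommGroup V] [Module F V]
    [FiniteDimensional F V] {K : Type*} (W : K → Submodule F V) (hind : iSupIndep W)
    (s : Finset K) : finrank F ↥(⨆ k ∈ s, W k) = ∑ k ∈ s, finrank F (W k) := by
  classical
  induction s using Finset.induction_on with
  | empty => simp
  | insert k s₀ hk ih =>
    rw [Finset.iSup_insert, Finset.sum_insert hk, ← ih]
    have hdisj : Disjoint (W k) (⨆ i ∈ s₀, W i) := by
      have h := hind.disjoint_biSup (x := k) (y := (↑s₀ : Set K)) (by simpa using hk)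
      simpa using h
    have h := Submodule.finrank_sup_add_finrank_inf_eq (W k) (⨆ i ∈ s₀, W i)
    rw [disjoint_iff.mp hdisj, finrank_bot, add_zero] at h
    exact h

theorem h5_finrank_iSup {F V : Type*} [Field F] [AddCommGroup V] [Module F V]
    [FiniteDimensional F V] {K : Type*} [Fintype K] (W : K → Submodule F V) (hind : iSupIndep W) :
    finrank F ↥(⨆ k, W k) = ∑ k, finrank F (W k) := by
  have h := h5_finrank_biSup W hind Finset.univ
  have e : (⨆ k ∈ (Finset.univ : Finset K), W k) = ⨆ k, W k := by simp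
  rw [e] at h
  exact h

/-- powers reduce modulo `r` -/
theorem h5_pow_mod {F V : Type*} [Field F] [AddCommGroup V] [Module F V]
    (x : V →ₗ[F] V) (r : ℕ) (hxr : x ^ r = 1) (k : ℕ) : x ^ (k % r) = x ^ k := by
  conv_rhs => rw [← Nat.div_add_mod k r, pow_add, pow_mul, hxr, one_pow, one_mul]

/-- one block: `span {x^j (b + u)}` contains `u` and the irreducible block `Y` -/
theorem h5_block_span {F V : Type*} [Field F] [AddCommGroup V] [Module F V]
    (x : V →ₗ[F] V) (r : ℕ) (hr0 : (r : F) ≠ 0) (hxr : x ^ r = 1)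
    (Y : Submodule F V) (hYx : Y.map x ≤ Y)
    (hYirr : ∀ Z : Submodule F V, Z ≤ Y → Z.map x ≤ Z → Z = ⊥ ∨ Z = Y)
    (hYrange : ∀ y ∈ Y, ∃ w, (x - 1) w = y)
    (b : V) (hbY : b ∈ Y) (hb0 : b ≠ 0) (u : V) (hu : x u = u) :
    u ∈ Submodule.span F (Set.range fun j : Fin r => (x ^ (j : ℕ)) (b + u)) ∧
    Y ≤ Submodule.span F (Set.range fun j : Fin r => (x ^ (j : ℕ)) (b + u)) := by
  have hrpos : 0 < r := by
    rcases Nat.eq_zero_or_pos r with h | h
    · exfalso; apply hr0; rw [h]; simp
    · exact h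
  set S := Submodule.span F (Set.range fun j : Fin r => (x ^ (j : ℕ)) (b + u)) with hS
  have hmem : ∀ j : Fin r, (x ^ (j : ℕ)) (b + u) ∈ S := fun j => Submodule.subset_span ⟨j, rfl⟩
  have hpu : ∀ k : ℕ, (x ^ k) u = u := by
    intro k
    induction k with
    | zero => simp
    | succ k ih => rw [pow_succ, Module.End.mul_apply, hu, ih]
  have hNb : ∑ j ∈ Finset.range r, (x ^ j) b = 0 := by
    obtain ⟨w, hw⟩ := hYrange b hbY
    have h1 : (∑ j ∈ Finset.range r, x ^ j) * (x - 1) = x ^ r - 1 := geom_sum_mul x r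
    rw [hxr, sub_self] at h1
    have h2 := congrArg (fun f : Module.End F V => f w) h1
    simp only [Module.End.mul_apply, LinearMap.sum_apply, hw, LinearMap.zero_apply] at h2
    exact h2
  have hru : (r : F) • u ∈ S := by
    have h1 : ∑ j : Fin r, (x ^ (j : ℕ)) (b + u) ∈ S := Submodule.sum_mem _ fun j _ => hmem j
    have h2 : ∑ j : Fin r, (x ^ (j : ℕ)) (b + u) = (r : F) • u := by
      rw [← Finset.sum_range (fun j => (x ^ j) (b + u))]
      simp only [map_add, hpu, Finset.sum_add_distrib, hNb, zero_add, Finset.sum_const,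
        Finset.card_range]
      rw [Nat.cast_smul_eq_nsmul]
    rwa [h2] at h1
  have huS : u ∈ S := by
    have := S.smul_mem (r : F)⁻¹ hru
    rwa [smul_smul, inv_mul_cancel₀ hr0, one_smul] at this
  refine ⟨huS, ?_⟩
  have hbS : ∀ j : Fin r, (x ^ (j : ℕ)) b ∈ S := by
    intro j
    have := S.sub_mem (hmem j) huS
    rwa [map_add, hpu, add_sub_cancel_right] at this
  set Z := Submodule.span F (Set.range fun j : Fin r => (x ^ (j : ℕ)) b) with hZ
  have hZS : Z ≤ S := Submodule.span_le.2 (by rintro _ ⟨j, rfl⟩; exact hbS j)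
  have hpY : ∀ k : ℕ, (x ^ k) b ∈ Y := by
    intro k
    induction k with
    | zero => simpa using hbY
    | succ k ih => rw [pow_succ', Module.End.mul_apply]; exact hYx ⟨_, ih, rfl⟩
  have hZY : Z ≤ Y := Submodule.span_le.2 (by rintro _ ⟨j, rfl⟩; exact hpY j)
  have hZx : Z.map x ≤ Z := by
    rw [Submodule.map_span_le]
    rintro _ ⟨j, rfl⟩
    have h1 : x ((x ^ (j : ℕ)) b) = (x ^ (((j : ℕ) + 1) % r)) b := by
      rw [h5_pow_mod x r hxr, pow_succ', Module.End.mul_apply]
    rw [h1]
    exact Submodule.subset_span ⟨⟨((j : ℕ) + 1) % r, Nat.mod_lt _ hrpos⟩, rfl⟩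
  have hZ0 : Z ≠ ⊥ := by
    intro h
    have : b ∈ Z := Submodule.subset_span ⟨⟨0, hrpos⟩, by simp⟩
    rw [h] at this
    exact hb0 ((Submodule.mem_bot F).1 this)
  rcases hYirr Z hZY hZx with h | h
  · exact absurd h hZ0
  · rw [← h]; exact hZS

/-- a basis permuted by `x` gives a decomposition into lines permuted by `x` -/
theorem h5_lines_of_perm_basis {F V : Type*} [Field F] [AddCommGroup V] [Module F V]
    [FiniteDimensional F V] (x : V →ₗ[F] V) {ι : Type*} [Fintype ι] (B : Basis ι F V)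
    (π : Equiv.Perm ι) (hx : ∀ i, x (B i) = B (π i)) (t : ℕ) (e : ι ≃ Fin t) :
    ∃ D : Fin t → Submodule F V, IsIndepFam ⊤ D ∧ (∀ j, finrank F (D j) = 1) ∧
      ∃ σ : Equiv.Perm (Fin t), ∀ j, (D j).map x = D (σ j) := by
  refine ⟨fun j => Submodule.span F {B (e.symm j)}, ⟨?_, ?_⟩, ?_, e.symm.trans (π.trans e), ?_⟩
  · have hli : LinearIndependent F (fun j : Fin t => B (e.symm j)) :=
      B.linearIndependent.comp e.symm e.symm.injective
    exact hli.iSupIndep_span_singleton
  · rw [← Submodule.span_range_eq_iSup]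
    have : Set.range (fun j : Fin t => B (e.symm j)) = Set.range B := by
      ext v
      constructor
      · rintro ⟨j, rfl⟩; exact ⟨e.symm j, rfl⟩
      · rintro ⟨i, rfl⟩; exact ⟨e i, by simp⟩
    rw [this, B.span_eq]
  · intro j
    exact finrank_span_singleton (B.ne_zero _)
  · intro j
    rw [Submodule.map_span, Set.image_singleton, hx]
    simp

/-- (LINES), core -/
theorem lines_decomp_core {F V : Type*} [Field F] [AddCommGroup V] [Module F V]
    [FiniteDimensional F V] (x : V →ₗ[F] V) (r : ℕ) (hr0 : (r : F) ≠ 0) (hxr : x ^ r = 1)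
    (c : ℕ) (hc1 : 1 < c) (hcr : c = r - 1)
    (t : ℕ) (ht : finrank F V = t) (hnk : t ≤ (t % c) * r)
    (M : Submodule F V) (hMrange : ∀ y ∈ M, ∃ w, (x - 1) w = y)
    (hinf : LinearMap.ker (x - 1) ⊓ M = ⊥) (hsup : LinearMap.ker (x - 1) ⊔ M = ⊤)
    (m : ℕ) (W : Fin m → Submodule F V) (hW : IsIndepFam M W)
    (hWx : ∀ k, (W k).map x ≤ W k) (hWc : ∀ k, finrank F (W k) = c)
    (hWirr : ∀ k, ∀ Z : Submodule F V, Z ≤ W k → Z.map x ≤ Z → Z = ⊥ ∨ Z = W k) :
    ∃ D : Fin t → Submodule F V, IsIndepFam ⊤ D ∧ (∀ j, finrank F (D j) = 1) ∧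
      ∃ σ : Equiv.Perm (Fin t), ∀ j, (D j).map x = D (σ j) := by
  classical
  have hr1 : r = c + 1 := by omega
  subst hr1
  set U := LinearMap.ker (x - 1) with hU
  set u := finrank F U with hu
  -- dimensions
  have hdimM : finrank F M = m * c := by
    rw [← hW.sup, h5_finrank_iSup W hW.indep]
    simp [hWc]
  have hdim : t = u + m * c := by
    have h := Submodule.finrank_sup_add_finrank_inf_eq U M
    rw [hsup, hinf, finrank_bot, add_zero, finrank_top, ht, hdimM] at h
    exact h
  have hmu : m ≤ u := by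
    have h1 : t % c = u % c := by rw [hdim, Nat.add_mul_mod_self_right]
    have h2 : u % c ≤ u := Nat.mod_le _ _
    rw [h1, hdim] at hnk
    have h3 : u + m * c ≤ u * (c + 1) := le_trans hnk (Nat.mul_le_mul_right _ h2)
    have h4 : m * c ≤ u * c := by nlinarith
    exact Nat.le_of_mul_le_mul_right h4 (by omega)
  -- basis of U
  let bU : Basis (Fin u) F U := Module.finBasis F U
  have hbUfix : ∀ l, x (bU l : V) = (bU l : V) := by
    intro l
    have h0 : (x - 1) (bU l : V) = 0 := LinearMap.mem_ker.1 (bU l).2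
    rw [LinearMap.sub_apply, Module.End.one_apply, sub_eq_zero] at h0
    exact h0
  -- nonzero vectors in the blocks
  have hWne : ∀ k, ∃ b ∈ W k, b ≠ 0 := by
    intro k
    have : W k ≠ ⊥ := by
      intro h
      have := hWc k
      rw [h, finrank_bot] at this
      omega
    exact (Submodule.ne_bot_iff _).1 this
  choose bb hbbW hbb0 using hWne
  let uu : Fin m → V := fun i => (bU (Fin.castLE hmu i) : V)
  have huu : ∀ i, x (uu i) = uu i := fun i => hbUfix _
  have hum : m + (u - m) = u := by omega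
  let f : (Fin m × Fin (c + 1)) ⊕ Fin (u - m) → V := Sum.elim
    (fun p => (x ^ (p.2 : ℕ)) (bb p.1 + uu p.1))
    (fun k => (bU (Fin.cast hum (Fin.natAdd m k)) : V))
  set S := Submodule.span F (Set.range f) with hS
  have hblock : ∀ i : Fin m, uu i ∈ S ∧ W i ≤ S := by
    intro i
    have hWr : ∀ y ∈ W i, ∃ w, (x - 1) w = y := by
      intro y hy
      apply hMrange
      rw [← hW.sup]
      exact Submodule.mem_iSup_of_mem i hy
    obtain ⟨h1, h2⟩ := h5_block_span x (c + 1) hr0 hxr (W i) (hWx i) (hWirr i) hWr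
      (bb i) (hbbW i) (hbb0 i) (uu i) (huu i)
    have hle : Submodule.span F (Set.range fun j : Fin (c + 1) => (x ^ (j : ℕ)) (bb i + uu i)) ≤ S := by
      rw [Submodule.span_le]
      rintro _ ⟨j, rfl⟩
      exact Submodule.subset_span ⟨Sum.inl (i, j), rfl⟩
    exact ⟨hle h1, le_trans h2 hle⟩
  have hMS : M ≤ S := by
    rw [← hW.sup]
    exact iSup_le fun i => (hblock i).2
  have hbUS : ∀ l : Fin u, (bU l : V) ∈ S := by
    intro l
    by_cases hl : (l : ℕ) < m
    · have : l = Fin.castLE hmu ⟨l, hl⟩ := by ext; simp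
      rw [this]
      exact (hblock ⟨l, hl⟩).1
    · have hl' : (l : ℕ) - m < u - m := by omega
      have : l = Fin.cast hum (Fin.natAdd m ⟨(l : ℕ) - m, hl'⟩) := by
        ext
        simp
        omega
      rw [this]
      exact Submodule.subset_span ⟨Sum.inr ⟨(l : ℕ) - m, hl'⟩, rfl⟩
  have hUS : U ≤ S := by
    have h1 : U = Submodule.span F (Set.range fun l => (bU l : V)) := by
      have := bU.span_eq
      have h2 := congrArg (Submodule.map U.subtype) this
      rw [Submodule.map_span, Submodule.map_subtype_top, ← Set.range_comp] at h2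
      exact h2.symm
    rw [h1, Submodule.span_le]
    rintro _ ⟨l, rfl⟩
    exact hbUS l
  have hspan : ⊤ ≤ S := by
    rw [← hsup]
    exact sup_le hUS hMS
  have hcard : Fintype.card ((Fin m × Fin (c + 1)) ⊕ Fin (u - m)) = finrank F V := by
    rw [Fintype.card_sum, Fintype.card_prod, Fintype.card_fin, Fintype.card_fin, Fintype.card_fin,
      ht, hdim]
    have : m * (c + 1) = m * c + m := by ring
    omega
  let B : Basis ((Fin m × Fin (c + 1)) ⊕ Fin (u - m)) F V :=
    basisOfTopLeSpanOfCardEqFinrank f hspan hcard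
  have hB : ∀ i, B i = f i := fun i => by
    show (basisOfTopLeSpanOfCardEqFinrank f hspan hcard) i = f i
    rw [coe_basisOfTopLeSpanOfCardEqFinrank]
  let π : Equiv.Perm ((Fin m × Fin (c + 1)) ⊕ Fin (u - m)) :=
    Equiv.sumCongr (Equiv.prodCongr (Equiv.refl (Fin m)) (Equiv.addRight (1 : Fin (c + 1))))
      (Equiv.refl _)
  have hx : ∀ i, x (B i) = B (π i) := by
    intro i
    rw [hB, hB]
    rcases i with ⟨i, j⟩ | k
    · show x ((x ^ (j : ℕ)) (bb i + uu i)) = (x ^ ((j + 1 : Fin (c + 1)) : ℕ)) (bb i + uu i)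
      have h1 : ((j + 1 : Fin (c + 1)) : ℕ) = ((j : ℕ) + 1) % (c + 1) := by
        rw [Fin.val_add, Fin.val_one', Nat.add_mod_mod]
      rw [h1, h5_pow_mod x (c + 1) hxr, pow_succ', Module.End.mul_apply]
    · exact hbUfix _
  exact h5_lines_of_perm_basis x B π hx t ((Fintype.equivFinOfCardEq (hcard.trans ht)))

end Cfsg.Agent.Helper5.GLI
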