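import Mathlib
import Cfsg.Agent.Lib.Helper14.GLIDefs
import Cfsg.Agent.Lib.Helper5.GLILINESCore
import Cfsg.Agent.Lib.Helper63.GLIGFIX
import Cfsg.Agent.Lib.Helper23.GLIGST

/-!
# GLI (helper14, S5958), piece (LINES): `a = 1`, `c = r - 1 > 1`: a decomposition into lines permuted by `x`

Wrapper of `lines_decomp_core` on the landed (GFIX) (helper63) and (GST) (helper23).
-/

set_option autoImplicit false

namespace Cfsg.Agent.Helper5.GLI

open Module Polynomial Cfsg.Agent.Helper14.GLI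

/-- (LINES) -/
theorem lines_decomp {F V : Type*} [Field F] [Fintype F] [AddCommGroup V] [Module F V]
    [FiniteDimensional F V] (x : V →ₗ[F] V) (r : ℕ) [Fact r.Prime]
    (hr0 : (r : F) ≠ 0) (hrq : ¬ r ∣ Fintype.card F) (hxr : x ^ r = 1)
    (hc1 : 1 < orderOf ((Fintype.card F : ℕ) : ZMod r))
    (hcr : orderOf ((Fintype.card F : ℕ) : ZMod r) = r - 1)
    (t : ℕ) (ht : finrank F V = t)
    (hnk : t ≤ (t % orderOf ((Fintype.card F : ℕ) : ZMod r)) * r) :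
    ∃ D : Fin t → Submodule F V, IsIndepFam ⊤ D ∧ (∀ j, finrank F (D j) = 1) ∧
      ∃ σ : Equiv.Perm (Fin t), ∀ j, (D j).map x = D (σ j) := by
  obtain ⟨h1, h2, h3, h4⟩ :=
    Cfsg.Agent.Helper63.GLI.gl_fix_decomp x r hr0 hxr ⊤ le_top
  rw [top_inf_eq] at h1 h2
  obtain ⟨m, W, hW, hWx, hWc, hWirr⟩ :=
    Cfsg.Agent.Helper23.GLI.gl_block_decomp x r hr0 hrq hxr ((⊤ : Submodule F V).map (x - 1)) h3 h4
  refine lines_decomp_core x r hr0 hxr _ hc1 hcr t ht hnk ((⊤ : Submodule F V).map (x - 1)) ?_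
    h1 h2 m W hW hWx hWc hWirr
  rintro y ⟨w, -, rfl⟩
  exact ⟨w, rfl⟩

end Cfsg.Agent.Helper5.GLI
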