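import Mathlib

/-!
# HEC project (S2134), piece (DATA): from the computed data to the isomorphism
-/

set_option autoImplicit false

namespace Cfsg.Agent.Helper5.HEC

/-- (DATA) -/
theorem iso_of_data {G : Type*} [Group G] (ζ : G) (hζ1 : ζ ≠ 1)
    (hfin : Finite ↥(Subgroup.centralizer ({ζ} : Set G)))
    (hC : Nat.card ↥(Subgroup.centralizer ({ζ} : Set G)) ≤ 21504)
    (U M : Subgroup G)
    (hU : U ≤ Subgroup.centralizer ({ζ} : Set G)) (hM : M ≤ Subgroup.centralizer ({ζ} : Set G))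
    (hζU : ζ ∈ U)
    (hUcomm : ∀ a ∈ U, ∀ b ∈ U, a * b = b * a)
    (hUexp : ∀ a ∈ U, a * a = 1)
    (hUcard : Nat.card ↥U = 16)
    (hnorm : ∀ m ∈ M, ∀ u ∈ U, m * u * m⁻¹ ∈ U)
    (hint : U ⊓ M = ⊥)
    (f : Fin 1344 → G) (hf : ∀ k, f k ∈ M)
    (hinj : ∀ k k', (∀ u ∈ U, f k * u * (f k)⁻¹ = f k' * u * (f k')⁻¹) → k = k')
    (s : Matrix.SpecialLinearGroup (Fin 5) (ZMod 2))
    (hs : (s : Matrix (Fin 5) (Fin 5) (ZMod 2)) = Matrix.transvection 0 1 1)
    (hiso : ∀ (U' M' : Subgroup ↥(Subgroup.centralizer ({ζ} : Set G))),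
      Nat.card ↥(Subgroup.centralizer ({ζ} : Set G)) = 21504 → U'.Normal →
      (∀ a ∈ U', ∀ b ∈ U', a * b = b * a) → (∀ a ∈ U', a * a = 1) → Nat.card ↥U' = 16 →
      U' ⊓ M' = ⊥ → U' ⊔ M' = ⊤ →
      (∀ m ∈ M', (∀ u ∈ U', m * u * m⁻¹ = u) → m = 1) →
      ∀ z : ↥(Subgroup.centralizer ({ζ} : Set G)), z ∈ U' → z ≠ 1 → (∀ g, g * z = z * g) →
      Nonempty (↥(Subgroup.centralizer ({ζ} : Set G)) ≃*
        Subgroup.centralizer ({s} : Set (Matrix.SpecialLinearGroup (Fin 5) (ZMod 2))))) :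
    Nonempty (↥(Subgroup.centralizer ({ζ} : Set G)) ≃*
      Subgroup.centralizer ({s} : Set (Matrix.SpecialLinearGroup (Fin 5) (ZMod 2)))) := by
  classical
  set Cz : Subgroup G := Subgroup.centralizer ({ζ} : Set G) with hCz
  have : Finite ↥Cz := hfin
  have : Finite ↥U := Finite.of_injective (Subgroup.inclusion hU) (Subgroup.inclusion_injective hU)
  have : Finite ↥M := Finite.of_injective (Subgroup.inclusion hM) (Subgroup.inclusion_injective hM)
  -- the injection `Fin 1344 → M`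
  let F : Fin 1344 → ↥M := fun k => ⟨f k, hf k⟩
  have hFinj : Function.Injective F := by
    intro k k' h
    apply hinj
    intro u _
    have : f k = f k' := congrArg Subtype.val h
    rw [this]
  have hM1 : 1344 ≤ Nat.card ↥M := by
    have := Nat.card_le_card_of_injective F hFinj
    simpa using this
  -- the injection `U × M → Cz`
  let P : ↥U × ↥M → ↥Cz := fun x => ⟨(x.1 : G) * (x.2 : G), Cz.mul_mem (hU x.1.2) (hM x.2.2)⟩
  have hPinj : Function.Injective P := by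
    rintro ⟨u, m⟩ ⟨u', m'⟩ h
    have h1 : (u : G) * (m : G) = (u' : G) * (m' : G) := congrArg Subtype.val h
    have h2 : (u' : G)⁻¹ * (u : G) = (m' : G) * (m : G)⁻¹ := by
      have : (u : G) = (u' : G) * (m' : G) * (m : G)⁻¹ := by
        rw [← h1, mul_inv_cancel_right]
      rw [this]; group
    have h3 : (u' : G)⁻¹ * (u : G) ∈ U ⊓ M := by
      refine Subgroup.mem_inf.2 ⟨U.mul_mem (U.inv_mem u'.2) u.2, ?_⟩
      rw [h2]
      exact M.mul_mem m'.2 (M.inv_mem m.2)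
    rw [hint, Subgroup.mem_bot] at h3
    have hu : (u : G) = (u' : G) := by
      have := inv_mul_eq_one.1 h3
      exact this.symm
    have hm : (m : G) = (m' : G) := by
      rw [hu] at h1
      exact mul_left_cancel h1
    exact Prod.ext (Subtype.ext hu) (Subtype.ext hm)
  have hPcard : Nat.card (↥U × ↥M) = 16 * Nat.card ↥M := by
    rw [Nat.card_prod, hUcard]
  have hle : 16 * Nat.card ↥M ≤ Nat.card ↥Cz := by
    rw [← hPcard]
    exact Nat.card_le_card_of_injective P hPinj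
  have hMcard : Nat.card ↥M = 1344 := by omega
  have hCcard : Nat.card ↥Cz = 21504 := by omega
  -- `P` is bijective
  have hPbij : Function.Bijective P := by
    refine (Nat.bijective_iff_injective_and_card P).2 ⟨hPinj, ?_⟩
    rw [hPcard, hMcard, hCcard]
  -- `F` is bijective
  have hFbij : Function.Bijective F := by
    refine (Nat.bijective_iff_injective_and_card F).2 ⟨hFinj, ?_⟩
    rw [hMcard]; simp
  have hdecomp : ∀ g : ↥Cz, ∃ u ∈ U, ∃ m ∈ M, (g : G) = u * m := by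
    intro g
    obtain ⟨⟨u, m⟩, hum⟩ := hPbij.2 g
    exact ⟨u, u.2, m, m.2, (congrArg Subtype.val hum).symm⟩
  set U' : Subgroup ↥Cz := U.subgroupOf Cz with hU'
  set M' : Subgroup ↥Cz := M.subgroupOf Cz with hM'
  have hUn : U'.Normal := by
    constructor
    intro n hn g
    rw [hU', Subgroup.mem_subgroupOf] at hn ⊢
    obtain ⟨u, hu, m, hm, hg⟩ := hdecomp g
    have : ((g * n * g⁻¹ : ↥Cz) : G) = u * (m * (n : G) * m⁻¹) * u⁻¹ := by
      push_cast
      rw [hg]; group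
    rw [this]
    exact U.mul_mem (U.mul_mem hu (hnorm m hm _ hn)) (U.inv_mem hu)
  have hcomm' : ∀ a ∈ U', ∀ b ∈ U', a * b = b * a := by
    intro a ha b hb
    rw [hU', Subgroup.mem_subgroupOf] at ha hb
    exact Subtype.ext (hUcomm _ ha _ hb)
  have hexp' : ∀ a ∈ U', a * a = 1 := by
    intro a ha
    rw [hU', Subgroup.mem_subgroupOf] at ha
    exact Subtype.ext (hUexp _ ha)
  have hcard' : Nat.card ↥U' = 16 := by
    rw [← hUcard]
    exact Nat.card_congr (Subgroup.subgroupOfEquivOfLe hU).toEquiv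
  have hinf' : U' ⊓ M' = ⊥ := by
    rw [eq_bot_iff]
    intro x hx
    obtain ⟨h1, h2⟩ := Subgroup.mem_inf.1 hx
    rw [hU', Subgroup.mem_subgroupOf] at h1
    rw [hM', Subgroup.mem_subgroupOf] at h2
    have : (x : G) ∈ U ⊓ M := Subgroup.mem_inf.2 ⟨h1, h2⟩
    rw [hint, Subgroup.mem_bot] at this
    rw [Subgroup.mem_bot]
    exact Subtype.ext this
  have hsup' : U' ⊔ M' = ⊤ := by
    rw [eq_top_iff]
    intro g _
    obtain ⟨u, hu, m, hm, hg⟩ := hdecomp g
    have : g = (⟨u, hU hu⟩ : ↥Cz) * (⟨m, hM hm⟩ : ↥Cz) := Subtype.ext hg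
    rw [this]
    exact Subgroup.mul_mem_sup (Subgroup.mem_subgroupOf.2 hu) (Subgroup.mem_subgroupOf.2 hm)
  have hfaith' : ∀ m ∈ M', (∀ u ∈ U', m * u * m⁻¹ = u) → m = 1 := by
    intro m hm hact
    rw [hM', Subgroup.mem_subgroupOf] at hm
    obtain ⟨k, hk⟩ := hFbij.2 ⟨(m : G), hm⟩
    obtain ⟨k₀, hk₀⟩ := hFbij.2 (1 : ↥M)
    have hfk : f k = (m : G) := congrArg Subtype.val hk
    have hfk₀ : f k₀ = 1 := congrArg Subtype.val hk₀
    have hkk : k = k₀ := by
      apply hinj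
      intro u hu
      rw [hfk, hfk₀]
      have := hact ⟨u, hU hu⟩ (Subgroup.mem_subgroupOf.2 hu)
      have h2 : (m : G) * u * (m : G)⁻¹ = u := congrArg Subtype.val this
      rw [h2]; simp
    apply Subtype.ext
    rw [← hfk, hkk, hfk₀]
    rfl
  have hζC : ζ ∈ Cz := by
    rw [hCz, Subgroup.mem_centralizer_iff]
    intro h hh
    rw [Set.mem_singleton_iff.1 hh]
  refine hiso U' M' hCcard hUn hcomm' hexp' hcard' hinf' hsup' hfaith' ⟨ζ, hζC⟩
    (Subgroup.mem_subgroupOf.2 hζU) ?_ ?_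
  · intro h
    exact hζ1 (congrArg Subtype.val h)
  · intro g
    have := (Subgroup.mem_centralizer_iff.1 g.2) ζ rfl
    exact Subtype.ext this.symm

end Cfsg.Agent.Helper5.HEC
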