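import Mathlib

/-!
# HEC project (S2134), piece (U16): the subgroup generated by four commuting involutions
-/

set_option autoImplicit false

namespace Cfsg.Agent.Helper5.HEC

/-- (U16) -/
theorem closure_four {G : Type*} [Group G] (u : Fin 4 → G) (hinv : ∀ i, u i * u i = 1)
    (hcomm : ∀ i j, u i * u j = u j * u i) :
    Finite ↥(Subgroup.closure (Set.range u)) ∧
    Nat.card ↥(Subgroup.closure (Set.range u)) ≤ 16 ∧
    (∀ a ∈ Subgroup.closure (Set.range u), ∀ b ∈ Subgroup.closure (Set.range u), a * b = b * a) ∧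
    (∀ a ∈ Subgroup.closure (Set.range u), a * a = 1) ∧
    (∀ g ∈ Subgroup.closure (Set.range u), ∃ a : Fin 4 → Bool,
      g = (if a 0 then u 0 else 1) * ((if a 1 then u 1 else 1) * ((if a 2 then u 2 else 1) *
        ((if a 3 then u 3 else 1) * 1)))) := by
  classical
  -- the 16 products
  let φ : (Fin 4 → Bool) → G := fun a =>
    (if a 0 then u 0 else 1) * ((if a 1 then u 1 else 1) * ((if a 2 then u 2 else 1) *
      ((if a 3 then u 3 else 1) * 1)))
  have hfac : ∀ (i : Fin 4) (s t : Bool),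
      (if s then u i else 1) * (if t then u i else 1) = if xor s t then u i else 1 := by
    intro i s t
    cases s <;> cases t <;> simp [hinv]
  have hc : ∀ (i j : Fin 4) (s t : Bool),
      Commute (if s then u i else (1 : G)) (if t then u j else 1) := by
    intro i j s t
    cases s <;> cases t <;> simp [Commute, SemiconjBy, hcomm i j]
  have hφmul : ∀ a b, φ a * φ b = φ (fun i => xor (a i) (b i)) := by
    intro a b
    show (_ * (_ * (_ * (_ * 1)))) * (_ * (_ * (_ * (_ * 1)))) = _ * (_ * (_ * (_ * 1)))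
    simp only [mul_one]
    rw [← hfac 0 (a 0) (b 0), ← hfac 1 (a 1) (b 1), ← hfac 2 (a 2) (b 2), ← hfac 3 (a 3) (b 3)]
    set x0 := (if a 0 then u 0 else (1 : G)) with hx0
    set x1 := (if a 1 then u 1 else (1 : G)) with hx1
    set x2 := (if a 2 then u 2 else (1 : G)) with hx2
    set x3 := (if a 3 then u 3 else (1 : G)) with hx3
    set y0 := (if b 0 then u 0 else (1 : G)) with hy0
    set y1 := (if b 1 then u 1 else (1 : G)) with hy1
    set y2 := (if b 2 then u 2 else (1 : G)) with hy2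
    set y3 := (if b 3 then u 3 else (1 : G)) with hy3
    have c10 : x1 * y0 = y0 * x1 := hc 1 0 _ _
    have c20 : x2 * y0 = y0 * x2 := hc 2 0 _ _
    have c30 : x3 * y0 = y0 * x3 := hc 3 0 _ _
    have c21 : x2 * y1 = y1 * x2 := hc 2 1 _ _
    have c31 : x3 * y1 = y1 * x3 := hc 3 1 _ _
    have c32 : x3 * y2 = y2 * x3 := hc 3 2 _ _
    calc x0 * (x1 * (x2 * x3)) * (y0 * (y1 * (y2 * y3)))
        = x0 * (x1 * (x2 * (x3 * y0))) * (y1 * (y2 * y3)) := by group
      _ = x0 * (x1 * (x2 * (y0 * x3))) * (y1 * (y2 * y3)) := by rw [c30]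
      _ = x0 * (x1 * ((x2 * y0) * x3)) * (y1 * (y2 * y3)) := by group
      _ = x0 * (x1 * ((y0 * x2) * x3)) * (y1 * (y2 * y3)) := by rw [c20]
      _ = x0 * ((x1 * y0) * (x2 * x3)) * (y1 * (y2 * y3)) := by group
      _ = x0 * ((y0 * x1) * (x2 * x3)) * (y1 * (y2 * y3)) := by rw [c10]
      _ = x0 * y0 * (x1 * (x2 * (x3 * y1))) * (y2 * y3) := by group
      _ = x0 * y0 * (x1 * (x2 * (y1 * x3))) * (y2 * y3) := by rw [c31]
      _ = x0 * y0 * (x1 * ((x2 * y1) * x3)) * (y2 * y3) := by group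
      _ = x0 * y0 * (x1 * ((y1 * x2) * x3)) * (y2 * y3) := by rw [c21]
      _ = x0 * y0 * (x1 * y1) * (x2 * (x3 * y2)) * y3 := by group
      _ = x0 * y0 * (x1 * y1) * (x2 * (y2 * x3)) * y3 := by rw [c32]
      _ = x0 * y0 * (x1 * y1 * (x2 * y2 * (x3 * y3))) := by group
  have hφ1 : φ (fun _ => false) = 1 := by simp [φ]
  have hφsq : ∀ a, φ a * φ a = 1 := by
    intro a
    rw [hφmul]
    simpa using hφ1
  have hφu : ∀ i, ∃ a, u i = φ a := by
    intro i
    refine ⟨fun j => decide (j = i), ?_⟩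
    fin_cases i <;> simp [φ]
  -- every element of the closure is one of the products
  have hrep : ∀ g ∈ Subgroup.closure (Set.range u), ∃ a, g = φ a := by
    intro g hg
    induction hg using Subgroup.closure_induction with
    | mem x hx =>
      obtain ⟨i, rfl⟩ := hx
      exact hφu i
    | one => exact ⟨fun _ => false, hφ1.symm⟩
    | mul x y _ _ hx hy =>
      obtain ⟨a, rfl⟩ := hx
      obtain ⟨b, rfl⟩ := hy
      exact ⟨fun i => xor (a i) (b i), hφmul a b⟩
    | inv x _ hx =>
      obtain ⟨a, rfl⟩ := hx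
      exact ⟨a, inv_eq_of_mul_eq_one_left (hφsq a)⟩
  have hφmem : ∀ a, φ a ∈ Subgroup.closure (Set.range u) := by
    intro a
    have hm : ∀ (i : Fin 4) (s : Bool), (if s then u i else (1 : G)) ∈
        Subgroup.closure (Set.range u) := by
      intro i s
      cases s
      · simp
      · simpa using Subgroup.subset_closure (Set.mem_range_self i)
    exact Subgroup.mul_mem _ (hm 0 _) (Subgroup.mul_mem _ (hm 1 _) (Subgroup.mul_mem _ (hm 2 _)
      (Subgroup.mul_mem _ (hm 3 _) (Subgroup.one_mem _))))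
  let ψ : (Fin 4 → Bool) → ↥(Subgroup.closure (Set.range u)) := fun a => ⟨φ a, hφmem a⟩
  have hψ : Function.Surjective ψ := by
    rintro ⟨g, hg⟩
    obtain ⟨a, rfl⟩ := hrep g hg
    exact ⟨a, rfl⟩
  have hfin : Finite ↥(Subgroup.closure (Set.range u)) := Finite.of_surjective ψ hψ
  refine ⟨hfin, ?_, ?_, ?_, hrep⟩
  · have h1 := Nat.card_le_card_of_surjective ψ hψ
    have h2 : Nat.card (Fin 4 → Bool) = 16 := by
      rw [Nat.card_eq_fintype_card]; rfl
    omega
  · intro a ha b hb
    obtain ⟨a', rfl⟩ := hrep a ha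
    obtain ⟨b', rfl⟩ := hrep b hb
    rw [hφmul, hφmul]
    have : (fun i => xor (a' i) (b' i)) = fun i => xor (b' i) (a' i) := by
      funext i
      exact Bool.xor_comm _ _
    rw [this]
  · intro a ha
    obtain ⟨a', rfl⟩ := hrep a ha
    exact hφsq a'

end Cfsg.Agent.Helper5.HEC
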