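import Mathlib
import Cfsg.Agent.Lib.Helper53.IPDefs
import Cfsg.Agent.Lib.Helper81.CharClifford
import Cfsg.Agent.Lib.Helper81.CharCorr
import Cfsg.Agent.Lib.Helper79.Restrict

/-!
# IP (helper53, S4463), piece (G6): an irreducible character vanishing off a normal subgroup `N`
has `|H:N| = e² t` with `e t ∣ ψ(1)`

Clifford: `ψ_N = e (φ_1 + ... + φ_t)`; `[ψ_N, ψ_N] = e² t`, and `= |H:N|` by the vanishing.
-/

set_option autoImplicit false

namespace Cfsg.Agent.Helper5.IP

open Cfsg Cfsg.Agent.Helper53.IP Cfsg.Agent.Helper81 Cfsg.Agent.Helper79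
open scoped ComplexConjugate

universe u

/-- (G6) -/
theorem index_eq_of_vanish {H : Type u} [Group H] [Finite H] (N : Subgroup H) [N.Normal]
    (ψ : IrrCharacter H) (hvan : ∀ x : H, x ∉ N → (ψ : H → ℂ) x = 0) :
    ∃ e t : ℕ, N.index = e ^ 2 * t ∧ e * t ∣ charDegree (ψ : H → ℂ) := by
  classical
  haveI : Fintype H := Fintype.ofFinite H
  have hN : N.Normal := inferInstance
  have hres : IsCharacter N (fun n : N => (ψ : H → ℂ) n) :=
    isCharacter_restrict N (IsIrrCharacter.isCharacter ψ.2)
  have hne0 : (fun n : N => (ψ : H → ℂ) n) ≠ 0 := by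
    intro h0
    have := congrFun h0 1
    exact irr_one_ne_zero ψ this
  obtain ⟨θ, hθ, hθc⟩ := exists_irr_constituent hres hne0
  obtain ⟨e, he⟩ := exists_nat_classInner hres hθ
  have hcl := clifford N hN ψ.2 hθ hθc
  have hS := conjSet_finite N hN θ
  rw [finsum_mem_eq_finite_toFinset_sum _ hS, he] at hcl
  -- members of the conjugacy set
  have hmem : ∀ φ ∈ hS.toFinset, IsIrrCharacter N φ ∧ φ 1 = θ 1 := by
    intro φ hφ
    rw [Set.Finite.mem_toFinset] at hφ
    obtain ⟨g, rfl⟩ := hφ
    refine ⟨conjFun_isIrrCharacter N hN hθ g, ?_⟩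
    rw [conjFun_apply]
    congr 1
    apply Subtype.ext
    simp
  refine ⟨e, hS.toFinset.card, ?_, ?_⟩
  · -- norm computation
    have hb : classInner (fun n : N => (ψ : H → ℂ) n) (fun n : N => (ψ : H → ℂ) n) =
        ((e ^ 2 * hS.toFinset.card : ℕ) : ℂ) := by
      conv_lhs => rw [hcl]
      rw [classInner_smul_left, classInner_smul_right, classInner_sum_left]
      have h1 : ∀ φ ∈ hS.toFinset, classInner φ (∑ φ' ∈ hS.toFinset, φ') = 1 := by
        intro φ hφ
        rw [classInner_sum_right, Finset.sum_eq_single φ]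
        · rw [irr_orthonormal (hmem φ hφ).1 (hmem φ hφ).1, if_pos rfl]
        · intro φ' hφ' hne
          rw [irr_orthonormal (hmem φ hφ).1 (hmem φ' hφ').1, if_neg (fun h => hne h.symm)]
        · intro h; exact absurd hφ h
      rw [Finset.sum_congr rfl h1, Finset.sum_const, Complex.conj_natCast]
      simp only [nsmul_eq_mul, mul_one]
      push_cast
      ring
    have hc : classInner (fun n : N => (ψ : H → ℂ) n) (fun n : N => (ψ : H → ℂ) n) =
        ((N.index : ℕ) : ℂ) := by
      unfold classInner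
      have h2 : ∀ n : N, (ψ : H → ℂ) n * conj ((ψ : H → ℂ) n) =
          ((Complex.normSq ((ψ : H → ℂ) n) : ℝ) : ℂ) := fun n => Complex.mul_conj _
      simp only [h2]
      have h3 : ∑ n : N, ((Complex.normSq ((ψ : H → ℂ) n) : ℝ) : ℂ) =
          ∑ x : H, ((Complex.normSq ((ψ : H → ℂ) x) : ℝ) : ℂ) := by
        rw [← Finset.sum_subtype (Finset.univ.filter (fun x : H => x ∈ N)) (by simp)
          (fun x : H => ((Complex.normSq ((ψ : H → ℂ) x) : ℝ) : ℂ))]
        apply Finset.sum_filter_of_ne
        intro x _ hx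
        by_contra hxN
        apply hx
        rw [hvan x hxN]
        simp
      rw [h3, ← Complex.ofReal_sum, irr_sum_normSq ψ]
      have h4 : (Nat.card H : ℂ) = (N.index : ℂ) * (Nat.card N : ℂ) := by
        rw [← Nat.cast_mul, Subgroup.index_mul_card]
      have h5 : (Nat.card N : ℂ) ≠ 0 := by
        exact_mod_cast Nat.card_pos.ne'
      push_cast
      rw [h4]
      field_simp
    rw [hb] at hc
    exact_mod_cast hc.symm
  · -- degrees
    have h1 := congrFun hcl 1
    simp only [Pi.smul_apply, Finset.sum_apply, smul_eq_mul] at h1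
    rw [Finset.sum_congr rfl (fun φ hφ => (hmem φ hφ).2), Finset.sum_const] at h1
    have h2 := (irr_one_eq ψ).1
    have h3 := (irr_one_eq (⟨θ, hθ⟩ : IrrCharacter N)).1
    simp only at h3
    have h4 : ((ψ : H → ℂ) ((1 : N) : H)) = (ψ : H → ℂ) 1 := rfl
    rw [h4, h2, h3] at h1
    refine ⟨charDegree θ, ?_⟩
    have : ((charDegree (ψ : H → ℂ) : ℕ) : ℂ) =
        ((e * hS.toFinset.card * charDegree θ : ℕ) : ℂ) := by
      rw [h1]
      push_cast
      simp only [nsmul_eq_mul]
      ring
    exact_mod_cast this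

end Cfsg.Agent.Helper5.IP
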