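import Mathlib

set_option autoImplicit false

namespace Cfsg.Agent.Helper5

open Matrix

section klein

variable {R : Type*} [CommRing R]

/-- First index of the (oriented) pair attached to a coordinate of the Klein quadric. -/
def pairFst : Fin 3 ⊕ Fin 3 → Fin 4 :=
  Sum.elim ![0, 0, 0] ![2, 3, 1]

/-- Second index of the pair. -/
def pairSnd : Fin 3 ⊕ Fin 3 → Fin 4 :=
  Sum.elim ![1, 2, 3] ![3, 1, 2]

/-- The second compound matrix (exterior square) of a `4 × 4` matrix. -/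
def compound2 (A : Matrix (Fin 4) (Fin 4) R) : Matrix (Fin 3 ⊕ Fin 3) (Fin 3 ⊕ Fin 3) R :=
  Matrix.of fun x y =>
    A (pairFst x) (pairFst y) * A (pairSnd x) (pairSnd y) -
      A (pairFst x) (pairSnd y) * A (pairSnd x) (pairFst y)

lemma compound2_one : compound2 (1 : Matrix (Fin 4) (Fin 4) R) = 1 := by
  ext x y
  rcases x with x | x <;> rcases y with y | y <;> fin_cases x <;> fin_cases y <;>
    simp [compound2, pairFst, pairSnd, Matrix.one_apply]


set_option maxHeartbeats 4000000 in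
lemma compound2_mul (A B : Matrix (Fin 4) (Fin 4) R) :
    compound2 (A * B) = compound2 A * compound2 B := by
  ext x y
  rcases x with x | x <;> rcases y with y | y <;> fin_cases x <;> fin_cases y <;>
    simp [compound2, pairFst, pairSnd, Matrix.mul_apply, Fin.sum_univ_four,
      Fintype.sum_sum_type, Fin.sum_univ_three] <;> ring


lemma det_fin_four (A : Matrix (Fin 4) (Fin 4) R) :
    A.det =
      A 0 0 * (A 1 1 * (A 2 2 * A 3 3 - A 2 3 * A 3 2) - A 1 2 * (A 2 1 * A 3 3 - A 2 3 * A 3 1)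
        + A 1 3 * (A 2 1 * A 3 2 - A 2 2 * A 3 1))
      - A 0 1 * (A 1 0 * (A 2 2 * A 3 3 - A 2 3 * A 3 2) - A 1 2 * (A 2 0 * A 3 3 - A 2 3 * A 3 0)
        + A 1 3 * (A 2 0 * A 3 2 - A 2 2 * A 3 0))
      + A 0 2 * (A 1 0 * (A 2 1 * A 3 3 - A 2 3 * A 3 1) - A 1 1 * (A 2 0 * A 3 3 - A 2 3 * A 3 0)
        + A 1 3 * (A 2 0 * A 3 1 - A 2 1 * A 3 0))
      - A 0 3 * (A 1 0 * (A 2 1 * A 3 2 - A 2 2 * A 3 1) - A 1 1 * (A 2 0 * A 3 2 - A 2 2 * A 3 0)
        + A 1 2 * (A 2 0 * A 3 1 - A 2 1 * A 3 0)) := by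
  rw [Matrix.det_succ_row_zero, Fin.sum_univ_four]
  simp only [Matrix.det_fin_three, Matrix.submatrix_apply]
  simp [Fin.succAbove, Fin.succ]
  ring

/-- The Klein quadric (Pfaffian) form. -/
def kleinQ (p : Fin 3 ⊕ Fin 3 → R) : R :=
  ∑ i : Fin 3, p (Sum.inl i) * p (Sum.inr i)

lemma pairFst_inl (i : Fin 3) : pairFst (Sum.inl i) = 0 := by fin_cases i <;> rfl
lemma pairFst_inr0 : pairFst (Sum.inr 0) = 2 := rfl
lemma pairFst_inr1 : pairFst (Sum.inr 1) = 3 := rfl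
lemma pairFst_inr2 : pairFst (Sum.inr 2) = 1 := rfl
lemma pairSnd_inl0 : pairSnd (Sum.inl 0) = 1 := rfl
lemma pairSnd_inl1 : pairSnd (Sum.inl 1) = 2 := rfl
lemma pairSnd_inl2 : pairSnd (Sum.inl 2) = 3 := rfl
lemma pairSnd_inr0 : pairSnd (Sum.inr 0) = 3 := rfl
lemma pairSnd_inr1 : pairSnd (Sum.inr 1) = 1 := rfl
lemma pairSnd_inr2 : pairSnd (Sum.inr 2) = 2 := rfl

set_option maxHeartbeats 4000000 in
set_option maxRecDepth 10000 in
lemma kleinQ_compound2 (A : Matrix (Fin 4) (Fin 4) R) (p : Fin 3 ⊕ Fin 3 → R) :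
    kleinQ (compound2 A *ᵥ p) = A.det * kleinQ p := by
  rw [det_fin_four]
  simp only [kleinQ, Fin.sum_univ_three, Matrix.mulVec, dotProduct, Fintype.sum_sum_type,
    compound2, Matrix.of_apply, pairFst_inl, pairFst_inr0, pairFst_inr1, pairFst_inr2,
    pairSnd_inl0, pairSnd_inl1, pairSnd_inl2, pairSnd_inr0, pairSnd_inr1, pairSnd_inr2]
  ring

end klein

end Cfsg.Agent.Helper5
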