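import Mathlib
import Cfsg.Prelude.Def_OddOrderLocal
import Cfsg.Agent.Lib.Helper53.MC3Defs

set_option autoImplicit false

/-!
# MC3 lemma server (helper53, S4079): piece (A1) `not_isCyclic`
-/

namespace Cfsg.Agent.Helper5.MC3

open Cfsg.Agent.Helper53.MC3
open Subgroup

universe u

section A
variable {L : Type u} [Group L] [Finite L] {p : ℕ} [Fact p.Prime]

/-- (A1) a nontrivial `p`-group without cyclic subgroups of index `p` is not cyclic. -/
theorem not_isCyclic (hL : IsPGroup p L) (hnt : Nontrivial L)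
    (hnc : ∀ C : Subgroup L, IsCyclic C → C.index ≠ p) : ¬ IsCyclic L := by
  have hp : p.Prime := Fact.out
  intro hcyc
  obtain ⟨g, hg⟩ := hcyc.exists_generator
  obtain ⟨n, hn⟩ := IsPGroup.iff_card.1 hL
  have hn0 : n ≠ 0 := by
    intro h0
    rw [h0, pow_zero] at hn
    have : Subsingleton L := (Nat.card_eq_one_iff_unique.1 hn).1
    exact not_subsingleton L this
  have hord : orderOf g = p ^ n := by
    rw [← hn]
    exact orderOf_eq_card_of_forall_mem_zpowers hg
  apply hnc (zpowers (g ^ p)) inferInstance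
  have hcardC : Nat.card (zpowers (g ^ p)) = p ^ (n - 1) := by
    rw [Nat.card_zpowers, orderOf_pow, hord]
    have hgcd : Nat.gcd (p ^ n) p = p := by
      apply Nat.gcd_eq_right
      exact dvd_pow_self p hn0
    rw [hgcd]
    obtain ⟨k, rfl⟩ := Nat.exists_eq_succ_of_ne_zero hn0
    rw [pow_succ, Nat.mul_div_cancel _ hp.pos]
    rfl
  have hmul := Subgroup.card_mul_index (zpowers (g ^ p))
  rw [hcardC, hn] at hmul
  obtain ⟨k, rfl⟩ := Nat.exists_eq_succ_of_ne_zero hn0
  have hpk : 0 < p ^ k := pow_pos hp.pos k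
  have : p ^ (k + 1 - 1) * (zpowers (g ^ p)).index = p ^ k * p := by
    rw [hmul, pow_succ]
  simp only [Nat.add_sub_cancel] at this
  exact Nat.eq_of_mul_eq_mul_left hpk this

end A

end Cfsg.Agent.Helper5.MC3
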