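import Mathlib
import Cfsg.Prelude.Def_OddOrderLocal
import Cfsg.Agent.Lib.Helper53.MC3Defs
import Cfsg.Agent.Lib.Helper64.Metacyclic7

set_option autoImplicit false

/-!
# MC3 lemma server (helper53, S4079): piece (A4) `commute_pow_of_comm_pow`
-/

namespace Cfsg.Agent.Helper5.MC3

open Cfsg.Agent.Helper53.MC3
open Subgroup

universe u

section A
variable {L : Type u} [Group L] [Finite L] {p : ℕ} [Fact p.Prime]

/-- (A4) if the commutator has order dividing `p` then `x` commutes with `y ^ p`. -/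
theorem commute_pow_of_comm_pow (hL : IsPGroup p L) (hmc : Cfsg.IsMetacyclic L) (x y : L)
    (h : (x * y * x⁻¹ * y⁻¹) ^ p = 1) : x * y ^ p = y ^ p * x := by
  have hp : p.Prime := Fact.out
  obtain ⟨D⟩ := Cfsg.Agent.Helper64.exists_mcData hmc
  have hza : x * y * x⁻¹ * y⁻¹ ∈ zpowers D.a := D.zpowers_comm_le (D.comm_mem x y)
  by_cases ha1 : orderOf D.a = 1
  · have h1 : D.a = 1 := orderOf_eq_one_iff.mp ha1
    rw [h1, zpowers_one_eq_bot, mem_bot] at hza
    have hxy : x * y = y * x := by
      have := congrArg (· * y * x) hza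
      simpa [mul_assoc] using this
    exact ((Commute.pow_right (show Commute x y from hxy) p)).eq
  · obtain ⟨T, hT, hconjT⟩ := D.exists_conj_pow hL y
    have hT1 := hT ha1
    have hconj := hconjT _ hza
    have h1 : x * y ^ p * x⁻¹ = ((x * y * x⁻¹ * y⁻¹) * y) ^ p := by
      rw [← conj_pow]; congr 1; group
    rw [Cfsg.Agent.Helper64.mul_pow_of_conj y _ _ hconj] at h1
    obtain ⟨k, hk⟩ := Cfsg.Agent.Helper64.geom_sum_prime_dvd hp T hT1
    rw [hk, pow_mul, h, one_pow, one_mul] at h1
    have := congrArg (· * x) h1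
    simpa using this

end A

end Cfsg.Agent.Helper5.MC3
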