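import Mathlib
import Cfsg.Prelude.Def_OddOrderLocal
import Cfsg.Agent.Lib.Helper53.MC3Defs
import Cfsg.Agent.Lib.Helper64.Metacyclic7

set_option autoImplicit false

/-!
# MC3 lemma server (helper53, S4079): piece (A8) `comm_cyc`
-/

namespace Cfsg.Agent.Helper5.MC3

open Cfsg.Agent.Helper53.MC3
open Subgroup

universe u

section A
variable {L : Type u} [Group L] [Finite L] {p : ℕ} [Fact p.Prime]

/-- (A8) commutators of a metacyclic group lie in a cyclic subgroup. -/
theorem comm_cyc (hmc : Cfsg.IsMetacyclic L) :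
    ∃ c : L, ∀ x y : L, x * y * x⁻¹ * y⁻¹ ∈ Subgroup.zpowers c := by
  obtain ⟨D⟩ := Cfsg.Agent.Helper64.exists_mcData hmc
  exact ⟨D.a ^ (D.t - 1), fun x y => D.comm_mem x y⟩

end A

end Cfsg.Agent.Helper5.MC3
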