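import Mathlib
import Cfsg.Prelude.Def_Classical
import Cfsg.Agent.Lib.Helper5.Adjoint
import Cfsg.Agent.Lib.Helper5.GL2
import Cfsg.Agent.Lib.Helper5.GLComm
import Cfsg.Agent.Lib.Helper5.SLCard
import Cfsg.Agent.S0286

set_option autoImplicit false
set_option linter.unusedSectionVars false
set_option linter.unusedSimpArgs false

namespace Cfsg.Agent.Helper5

open Matrix
open scoped commutatorElement

section GroupLemmas

variable {G : Type*} [Group G]

lemma commutatorElement_center_mul_left (c i y : G) (hc : c ∈ Subgroup.center G) :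
    ⁅c * i, y⁆ = ⁅i, y⁆ := by
  have h2 : ∀ g, g * c⁻¹ = c⁻¹ * g := Subgroup.mem_center_iff.1 (inv_mem hc)
  rw [commutatorElement_def, commutatorElement_def, _root_.mul_inv_rev]
  calc c * i * y * (i⁻¹ * c⁻¹) * y⁻¹ = c * ((i * y * i⁻¹) * c⁻¹) * y⁻¹ := by group
    _ = c * (c⁻¹ * (i * y * i⁻¹)) * y⁻¹ := by rw [h2]
    _ = i * y * i⁻¹ * y⁻¹ := by group

lemma commutatorElement_center_mul_right (c x j : G) (hc : c ∈ Subgroup.center G) :
    ⁅x, c * j⁆ = ⁅x, j⁆ := by
  have h := commutatorElement_center_mul_left c j x hc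
  rw [← commutatorElement_inv (c * j) x, h, commutatorElement_inv]

/-- If `I` has index two and some central element lies outside `I`, the commutator subgroup of
`G` is that of `I`. -/
lemma commutator_eq_of_index_two (I : Subgroup G) (hI : I.index = 2) (z : G)
    (hz : z ∈ Subgroup.center G) (hzI : z ∉ I) : commutator G = ⁅I, I⁆ := by
  have key : ∀ x : G, ∃ c ∈ Subgroup.center G, ∃ i ∈ I, x = c * i := by
    intro x
    by_cases hx : x ∈ I
    · exact ⟨1, one_mem _, x, hx, (one_mul x).symm⟩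
    · refine ⟨z⁻¹, inv_mem hz, z * x, ?_, by group⟩
      rw [Subgroup.mul_mem_iff_of_index_two hI]
      exact ⟨fun h => absurd h hzI, fun h => absurd h hx⟩
  apply le_antisymm
  · rw [commutator_def, Subgroup.commutator_le]
    intro x _ y _
    obtain ⟨c, hc, i, hi, rfl⟩ := key x
    obtain ⟨d, hd, j, hj, rfl⟩ := key y
    rw [commutatorElement_center_mul_left _ _ _ hc, commutatorElement_center_mul_right _ _ _ hd]
    exact Subgroup.commutator_mem_commutator hi hj
  · rw [commutator_def]
    exact Subgroup.commutator_mono le_top le_top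

end GroupLemmas

section O3

variable {F : Type*} [Field F]

/-- The index type of `quadFormOdd 1`. -/
abbrev I3 : Type := Unit ⊕ (Fin 1 ⊕ Fin 1)

/-- Reindexing `Unit ⊕ (Fin 1 ⊕ Fin 1) ≃ Fin 3`. -/
def e3 : I3 ≃ Fin 3 where
  toFun := fun x => match x with
    | .inl _ => 0
    | .inr (.inl _) => 1
    | .inr (.inr _) => 2
  invFun := fun i => match i with
    | 0 => .inl ()
    | 1 => .inr (.inl 0)
    | 2 => .inr (.inr 0)
  left_inv := by
    rintro (_ | x | x)
    · rfl
    · fin_cases x; rfl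
    · fin_cases x; rfl
  right_inv := by intro i; fin_cases i <;> rfl

lemma quadFormOdd_one_eq (v : I3 → F) : Cfsg.quadFormOdd 1 F v = q3 (v ∘ e3.symm) := by
  simp [Cfsg.quadFormOdd, q3, e3]

/-- The adjoint matrix in the index type of `quadFormOdd 1`. -/
def adMat (g : Matrix (Fin 2) (Fin 2) F) : Matrix I3 I3 F := (ad3 g).submatrix e3 e3

lemma adMat_one : adMat (1 : Matrix (Fin 2) (Fin 2) F) = 1 := by
  rw [adMat, ad3_one, Matrix.submatrix_one_equiv]

lemma adMat_mul (g h : Matrix (Fin 2) (Fin 2) F) (hg : g.det ≠ 0) (hh : h.det ≠ 0) :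
    adMat (g * h) = adMat g * adMat h := by
  rw [adMat, adMat, adMat, Matrix.submatrix_mul_equiv, ad3_mul g h hg hh]

lemma quadFormOdd_adMat (g : Matrix (Fin 2) (Fin 2) F) (hg : g.det ≠ 0) (v : I3 → F) :
    Cfsg.quadFormOdd 1 F (adMat g *ᵥ v) = Cfsg.quadFormOdd 1 F v := by
  rw [quadFormOdd_one_eq, quadFormOdd_one_eq, adMat, Matrix.submatrix_mulVec_equiv]
  have : ((ad3 g *ᵥ (v ∘ ⇑e3.symm)) ∘ ⇑e3) ∘ ⇑e3.symm = ad3 g *ᵥ (v ∘ ⇑e3.symm) := by
    ext i; simp
  rw [this, q3_ad3 g hg]

lemma det_adMat (g : Matrix (Fin 2) (Fin 2) F) (hg : g.det ≠ 0) : (adMat g).det = 1 := by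
  rw [adMat, Matrix.det_submatrix_equiv_self, det_ad3 g hg]

lemma adMat_eq_one_iff (g : Matrix (Fin 2) (Fin 2) F) : adMat g = 1 ↔ ad3 g = 1 := by
  constructor
  · intro h
    have h1 : (adMat g).submatrix e3.symm e3.symm = (1 : Matrix I3 I3 F).submatrix e3.symm e3.symm := by
      rw [h]
    rw [Matrix.submatrix_one_equiv] at h1
    rw [← h1, adMat]
    ext i j; simp
  · intro h
    rw [adMat, h, Matrix.submatrix_one_equiv]

/-- The adjoint action as a monoid hom into matrices. -/
noncomputable def adHom0 : GL (Fin 2) F →* Matrix I3 I3 F where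
  toFun g := adMat g.val
  map_one' := by simp [adMat_one]
  map_mul' g h := by
    have hg : (g.val).det ≠ 0 := (Matrix.isUnits_det_units g).ne_zero
    have hh : (h.val).det ≠ 0 := (Matrix.isUnits_det_units h).ne_zero
    simp only [Units.val_mul]
    exact adMat_mul _ _ hg hh

/-- The adjoint action as a hom into the isometry group of `quadFormOdd 1`. -/
noncomputable def adO : GL (Fin 2) F →* Cfsg.isometryGroup F (Cfsg.quadFormOdd 1 F) :=
  (adHom0 (F := F)).toHomUnits.codRestrict _ (by
    intro g u v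
    have hg : (g.val).det ≠ 0 := (Matrix.isUnits_det_units g).ne_zero
    change Cfsg.quadFormOdd 1 F (adMat g.val *ᵥ u) = _
    exact quadFormOdd_adMat _ hg u)

lemma adO_val (g : GL (Fin 2) F) : ((adO g).val : Matrix I3 I3 F) = adMat g.val := rfl

lemma adO_eq_one_iff (g : GL (Fin 2) F) : adO g = 1 ↔ ad3 g.val = 1 := by
  rw [← adMat_eq_one_iff, ← adO_val]
  constructor
  · intro h; rw [h]; rfl
  · intro h
    apply Subtype.ext
    apply Units.ext
    rw [h]; rfl

lemma scalar_val (a : Fˣ) : ((GeneralLinearGroup.scalar (Fin 2) a : GL (Fin 2) F) : Matrix (Fin 2) (Fin 2) F)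
    = (a : F) • (1 : Matrix (Fin 2) (Fin 2) F) := by
  rw [GeneralLinearGroup.coe_scalar]
  ext i j
  simp [Matrix.smul_apply, Matrix.one_apply, Matrix.diagonal_apply]

lemma ker_adO : (adO (F := F)).ker = (Matrix.GeneralLinearGroup.scalar (Fin 2)).range := by
  ext g
  rw [MonoidHom.mem_ker, adO_eq_one_iff, MonoidHom.mem_range]
  constructor
  · intro h
    have hg : (g.val).det ≠ 0 := (Matrix.isUnits_det_units g).ne_zero
    have h1 := eq_smul_one_of_ad3_eq_one g.val hg h
    have h0 : g.val 0 0 ≠ 0 := by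
      intro h0
      rw [h0, zero_smul] at h1
      rw [h1] at hg
      simp at hg
    refine ⟨Units.mk0 _ h0, ?_⟩
    apply Units.ext
    rw [scalar_val, Units.val_mk0]
    exact h1.symm
  · rintro ⟨a, rfl⟩
    rw [scalar_val]
    exact ad3_smul_one _ a.ne_zero

lemma scalar_injective : Function.Injective (GeneralLinearGroup.scalar (Fin 2) : Fˣ →* GL (Fin 2) F) := by
  intro a b hab
  have h1 := congrArg (fun g : GL (Fin 2) F => (g : Matrix (Fin 2) (Fin 2) F) 0 0) hab
  simp only [scalar_val] at h1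
  apply Units.ext
  simpa using h1

end O3

section O3card

variable {F : Type*} [Field F] [Fintype F]

lemma card_ker_adO {q : ℕ} (hF : Fintype.card F = q) : Nat.card (adO (F := F)).ker = q - 1 := by
  rw [ker_adO, ← Nat.card_congr (MonoidHom.ofInjective (scalar_injective (F := F))).toEquiv,
    Nat.card_units, Nat.card_eq_fintype_card, hF]

lemma card_range_adO {q : ℕ} (hF : Fintype.card F = q) :
    Nat.card (adO (F := F)).range = q * (q ^ 2 - 1) := by
  have h1 := Subgroup.card_mul_index (adO (F := F)).ker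
  rw [Subgroup.index_ker, card_ker_adO hF, card_GL2 hF] at h1
  have hq : 2 ≤ q := by rw [← hF]; exact Fintype.one_lt_card
  obtain ⟨k, rfl⟩ : ∃ k, q = k + 2 := ⟨q - 2, by omega⟩
  have h2 : ((k + 2) ^ 2 - (k + 2)) = (k + 2 - 1) * (k + 2) := by
    have : (k + 2) ^ 2 = (k + 2 - 1) * (k + 2) + (k + 2) := by
      have : k + 2 - 1 = k + 1 := by omega
      rw [this]; ring
    omega
  rw [h2] at h1
  have h3 : (k + 2 - 1) * Nat.card (adO (F := F)).range = (k + 2 - 1) * ((k + 2) * ((k + 2) ^ 2 - 1)) := by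
    rw [h1]; ring
  exact Nat.eq_of_mul_eq_mul_left (by omega) h3

lemma index_range_adO (hodd : Odd (Fintype.card F)) : (adO (F := F)).range.index = 2 := by
  have h1 := Subgroup.card_mul_index (adO (F := F)).range
  rw [card_range_adO rfl, Cfsg.Agent.S0286.result rfl hodd 1] at h1
  simp only [one_pow, pow_one, Finset.prod_range_one, zero_add, mul_one] at h1
  have hq : 2 ≤ Fintype.card F := Fintype.one_lt_card
  have hpos : 0 < Fintype.card F * (Fintype.card F ^ 2 - 1) := by
    apply Nat.mul_pos (by omega)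
    have : 2 ^ 2 ≤ Fintype.card F ^ 2 := Nat.pow_le_pow_left hq 2
    omega
  have h3 : Fintype.card F * (Fintype.card F ^ 2 - 1) * (adO (F := F)).range.index
      = Fintype.card F * (Fintype.card F ^ 2 - 1) * 2 := by
    rw [h1]; ring
  exact Nat.eq_of_mul_eq_mul_left hpos h3

end O3card

section PSL2center

variable {F : Type*} [Field F]

lemma center_PSL2_eq_bot :
    Subgroup.center (Matrix.ProjectiveSpecialLinearGroup (Fin 2) F) = ⊥ := by
  rw [eq_bot_iff]
  intro x hx
  obtain ⟨g, rfl⟩ := QuotientGroup.mk_surjective x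
  rw [Subgroup.mem_bot, QuotientGroup.eq_one_iff]
  rw [Subgroup.mem_center_iff] at hx
  have key : ∀ h : SpecialLinearGroup (Fin 2) F, ∃ r : F, r ^ 2 = 1 ∧
      g.val * h.val = r • (h.val * g.val) := by
    intro h
    have h1 := hx (QuotientGroup.mk h)
    rw [← QuotientGroup.mk_mul, ← QuotientGroup.mk_mul, QuotientGroup.eq] at h1
    rw [Matrix.SpecialLinearGroup.mem_center_iff] at h1
    obtain ⟨r, hr, hrA⟩ := h1
    refine ⟨r, by simpa using hr, ?_⟩
    have h2 : (g * h) = (h * g) * ((h * g)⁻¹ * (g * h)) := by group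
    have h3 : ((g * h : Matrix.SpecialLinearGroup (Fin 2) F) : Matrix (Fin 2) (Fin 2) F) =
        ((h * g * ((h * g)⁻¹ * (g * h)) : Matrix.SpecialLinearGroup (Fin 2) F) :
          Matrix (Fin 2) (Fin 2) F) := by rw [← h2]
    rw [Matrix.SpecialLinearGroup.coe_mul, Matrix.SpecialLinearGroup.coe_mul (h * g), ← hrA,
      Matrix.SpecialLinearGroup.coe_mul] at h3
    rw [h3]
    ext i j
    simp [Matrix.mul_apply, Matrix.smul_apply, Matrix.diagonal_apply, mul_comm]
  have hdet : g.val 0 0 * g.val 1 1 - g.val 0 1 * g.val 1 0 = 1 := by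
    rw [← Matrix.det_fin_two]; exact g.prop
  obtain ⟨U, hU⟩ : ∃ A : SpecialLinearGroup (Fin 2) F, A.val = !![1, 1; 0, 1] :=
    ⟨⟨!![1, 1; 0, 1], by simp [Matrix.det_fin_two]⟩, rfl⟩
  obtain ⟨L, hL⟩ : ∃ A : SpecialLinearGroup (Fin 2) F, A.val = !![1, 0; 1, 1] :=
    ⟨⟨!![1, 0; 1, 1], by simp [Matrix.det_fin_two]⟩, rfl⟩
  obtain ⟨r, hr, hrU⟩ := key U
  obtain ⟨s, hs, hsL⟩ := key L
  rw [hU] at hrU
  rw [hL] at hsL
  have u00 := congrFun (congrFun hrU 0) 0
  have u01 := congrFun (congrFun hrU 0) 1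
  have u10 := congrFun (congrFun hrU 1) 0
  have u11 := congrFun (congrFun hrU 1) 1
  have l00 := congrFun (congrFun hsL 0) 0
  have l01 := congrFun (congrFun hsL 0) 1
  have l10 := congrFun (congrFun hsL 1) 0
  have l11 := congrFun (congrFun hsL 1) 1
  simp [Matrix.mul_apply, Fin.sum_univ_two, Matrix.smul_apply, Matrix.vecMul, dotProduct] at u00 u01 u10 u11 l00 l01 l10 l11
  have hr1 : r = 1 := by
    by_contra hne
    have hne' : 1 - r ≠ 0 := sub_ne_zero.2 (Ne.symm hne)
    have hc : g.val 1 0 = 0 := by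
      have : (1 - r) * g.val 1 0 = 0 := by linear_combination u10
      exact (mul_eq_zero.1 this).resolve_left hne'
    have hd : g.val 1 1 = 0 := by
      have : (1 - r) * g.val 1 1 = 0 := by linear_combination u11 - hc
      exact (mul_eq_zero.1 this).resolve_left hne'
    rw [hc, hd] at hdet
    simp at hdet
  have hs1 : s = 1 := by
    by_contra hne
    have hne' : 1 - s ≠ 0 := sub_ne_zero.2 (Ne.symm hne)
    have hb : g.val 0 1 = 0 := by
      have : (1 - s) * g.val 0 1 = 0 := by linear_combination l01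
      exact (mul_eq_zero.1 this).resolve_left hne'
    have ha : g.val 0 0 = 0 := by
      have : (1 - s) * g.val 0 0 = 0 := by linear_combination l00 - hb
      exact (mul_eq_zero.1 this).resolve_left hne'
    rw [hb, ha] at hdet
    simp at hdet
  subst hr1
  subst hs1
  have hc : g.val 1 0 = 0 := by linear_combination -u00
  have hb : g.val 0 1 = 0 := by linear_combination l00
  have had : g.val 0 0 = g.val 1 1 := by linear_combination u01
  rw [Matrix.SpecialLinearGroup.mem_center_iff]
  refine ⟨g.val 0 0, ?_, ?_⟩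
  · rw [hb, hc, ← had] at hdet
    simp only [Fintype.card_fin]
    linear_combination hdet
  · ext i j
    fin_cases i <;> fin_cases j <;> simp [hb, hc, ← had]

end PSL2center

section Omega3

variable {F : Type*} [Field F]

/-- `-1` as an isometry of `quadFormOdd 1`. -/
def negOneO : Cfsg.isometryGroup F (Cfsg.quadFormOdd 1 F) :=
  ⟨-1, by
    intro u v
    change Cfsg.quadFormOdd 1 F (((-1 : GL I3 F) : Matrix I3 I3 F) *ᵥ u) = _
    rw [Units.val_neg, Units.val_one, Matrix.neg_mulVec, Matrix.one_mulVec]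
    simp [Cfsg.quadFormOdd]⟩

lemma negOneO_mem_center : (negOneO (F := F)) ∈ Subgroup.center (Cfsg.isometryGroup F (Cfsg.quadFormOdd 1 F)) := by
  rw [Subgroup.mem_center_iff]
  intro g
  apply Subtype.ext
  apply Units.ext
  change (g.val : Matrix I3 I3 F) * ((-1 : GL I3 F) : Matrix I3 I3 F) = ((-1 : GL I3 F) : Matrix I3 I3 F) * g.val
  rw [Units.val_neg, Units.val_one, mul_neg, neg_mul, mul_one, one_mul]

lemma negOneO_not_mem_range (h2 : (2 : F) ≠ 0) : (negOneO (F := F)) ∉ (adO (F := F)).range := by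
  rintro ⟨g, hg⟩
  have hdg : (g.val).det ≠ 0 := (Matrix.isUnits_det_units g).ne_zero
  have h1 : adMat g.val = -1 := by
    rw [← adO_val, hg]
    change ((-1 : GL I3 F) : Matrix I3 I3 F) = -1
    rw [Units.val_neg, Units.val_one]
  have h3 := det_adMat g.val hdg
  rw [h1, Matrix.det_neg, Matrix.det_one] at h3
  have hc : Fintype.card I3 = 3 := by simp
  rw [hc] at h3
  apply h2
  linear_combination -h3

/-- The adjoint hom restricted to `SL_2`. -/
noncomputable def adSL : Matrix.SpecialLinearGroup (Fin 2) F →*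
    Cfsg.isometryGroup F (Cfsg.quadFormOdd 1 F) :=
  (adO (F := F)).comp Matrix.SpecialLinearGroup.toGL

lemma ker_adSL : (adSL (F := F)).ker = Subgroup.center (Matrix.SpecialLinearGroup (Fin 2) F) := by
  ext g
  rw [MonoidHom.mem_ker, adSL, MonoidHom.comp_apply, adO_eq_one_iff,
    Matrix.SpecialLinearGroup.mem_center_iff]
  have hv : ((Matrix.SpecialLinearGroup.toGL g : GL (Fin 2) F) : Matrix (Fin 2) (Fin 2) F) = g.val := rfl
  rw [hv]
  have hdet : g.val.det = 1 := g.prop
  constructor
  · intro h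
    have h1 := eq_smul_one_of_ad3_eq_one g.val (by rw [hdet]; exact one_ne_zero) h
    refine ⟨g.val 0 0, ?_, ?_⟩
    · have hdet2 : (g.val 0 0 • (1 : Matrix (Fin 2) (Fin 2) F)).det = 1 := by
        rw [← h1]; exact hdet
      simp only [Fintype.card_fin]
      rw [Matrix.det_smul, Matrix.det_one, Fintype.card_fin, mul_one] at hdet2
      exact hdet2
    · rw [Matrix.scalar_apply, ← Matrix.smul_one_eq_diagonal]
      exact h1.symm
  · rintro ⟨r, hr, hrg⟩
    rw [← hrg, Matrix.scalar_apply, ← Matrix.smul_one_eq_diagonal]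
    apply ad3_smul_one
    intro h0
    rw [h0] at hr
    simp at hr

variable [Fintype F]

lemma omega_three_eq_range (hodd : Odd (Fintype.card F)) :
    Cfsg.Omega F (Cfsg.quadFormOdd 1 F) = (adSL (F := F)).range := by
  have h2 : (2 : F) ≠ 0 := Cfsg.Agent.S0286.two_ne_zero_of_odd hodd
  have h21 : (2 : F) ≠ 1 := by
    intro h
    have : (1 : F) = 0 := by linear_combination h
    exact one_ne_zero this
  change commutator _ = _
  rw [commutator_eq_of_index_two _ (index_range_adO hodd) negOneO negOneO_mem_center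
    (negOneO_not_mem_range h2)]
  rw [MonoidHom.range_eq_map, ← Subgroup.map_commutator, ← commutator_def,
    commutator_GL_eq_ker_det (fun _ => ⟨2, h2, h21⟩), ← range_toGL_eq_ker_det,
    MonoidHom.range_eq_map, Subgroup.map_map, ← MonoidHom.range_eq_map]
  rfl

/-- `Ω_3(q) ≃* PSL_2(q)` for `q` odd. -/
noncomputable def omegaThreeEquiv (hodd : Odd (Fintype.card F)) :
    Cfsg.Omega F (Cfsg.quadFormOdd 1 F) ≃* Matrix.ProjectiveSpecialLinearGroup (Fin 2) F :=
  (MulEquiv.subgroupCongr (omega_three_eq_range hodd)).trans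
    ((QuotientGroup.quotientKerEquivRange (adSL (F := F))).symm.trans
      (QuotientGroup.quotientMulEquivOfEq ker_adSL))

lemma center_omega_three (hodd : Odd (Fintype.card F)) :
    Subgroup.center (Cfsg.Omega F (Cfsg.quadFormOdd 1 F)) = ⊥ := by
  rw [eq_bot_iff]
  intro x hx
  rw [Subgroup.mem_bot]
  have h1 : omegaThreeEquiv hodd x ∈
      Subgroup.center (Matrix.ProjectiveSpecialLinearGroup (Fin 2) F) := by
    rw [Subgroup.mem_center_iff]
    intro p
    obtain ⟨y, rfl⟩ := (omegaThreeEquiv hodd).surjective p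
    rw [← map_mul, ← map_mul, Subgroup.mem_center_iff.1 hx y]
  rw [center_PSL2_eq_bot, Subgroup.mem_bot] at h1
  exact (omegaThreeEquiv hodd).injective (h1.trans (map_one _).symm)

/-- `PΩ_3(q) ≃* PSL_2(q)` for `q` odd. -/
noncomputable def pomegaThreeEquiv (hodd : Odd (Fintype.card F)) :
    Cfsg.POmega F (Cfsg.quadFormOdd 1 F) ≃* Matrix.ProjectiveSpecialLinearGroup (Fin 2) F :=
  ((QuotientGroup.quotientMulEquivOfEq (center_omega_three hodd)).trans
    QuotientGroup.quotientBot).trans (omegaThreeEquiv hodd)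

end Omega3

end Cfsg.Agent.Helper5
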