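import Mathlib
import Cfsg.Prelude.Def_Classical
import Cfsg.Agent.Lib.Lead.PerfectIndex
import Cfsg.Agent.Lib.Helper5.GLComm
import Cfsg.Agent.Lib.Helper5.SLCard
import Cfsg.Agent.Lib.Helper5.SL2Sylow
import Cfsg.Agent.Lib.Helper5.O3
import Cfsg.Agent.S0287

set_option autoImplicit false
set_option linter.unusedSectionVars false
set_option linter.unusedSimpArgs false

namespace Cfsg.Agent.Helper5

open Matrix
open scoped commutatorElement

section R4

variable {F : Type*} [Field F]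

/-- The matrix of `X ↦ g X adj(h)` on `M_2(F)` in coordinates `X = [[w0, w1], [-w3, w2]]`. -/
def R4 (g h : Matrix (Fin 2) (Fin 2) F) : Matrix (Fin 4) (Fin 4) F :=
  !![g 0 0 * h 1 1, -(g 0 0 * h 1 0), -(g 0 1 * h 1 0), -(g 0 1 * h 1 1);
     -(g 0 0 * h 0 1), g 0 0 * h 0 0, g 0 1 * h 0 0, g 0 1 * h 0 1;
     -(g 1 0 * h 0 1), g 1 0 * h 0 0, g 1 1 * h 0 0, g 1 1 * h 0 1;
     -(g 1 0 * h 1 1), g 1 0 * h 1 0, g 1 1 * h 1 0, g 1 1 * h 1 1]

/-- The determinant form on `M_2(F)` in these coordinates. -/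
def q4 (w : Fin 4 → F) : F := w 0 * w 2 + w 1 * w 3

/-- The matrix of transposition `X ↦ Xᵀ`. -/
def T4 : Matrix (Fin 4) (Fin 4) F :=
  !![1, 0, 0, 0; 0, 0, 0, -1; 0, 0, 1, 0; 0, -1, 0, 0]

/-- The cofactor matrix of a `2 × 2` matrix. -/
def cof2 (h : Matrix (Fin 2) (Fin 2) F) : Matrix (Fin 2) (Fin 2) F :=
  !![h 1 1, -h 1 0; -h 0 1, h 0 0]

lemma R4_one : R4 (1 : Matrix (Fin 2) (Fin 2) F) 1 = 1 := by
  ext i j
  fin_cases i <;> fin_cases j <;> simp [R4, Matrix.one_apply]

lemma R4_mul (g g' h h' : Matrix (Fin 2) (Fin 2) F) :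
    R4 (g * g') (h * h') = R4 g h * R4 g' h' := by
  ext i j
  fin_cases i <;> fin_cases j <;>
    simp [R4, Matrix.mul_apply, Fin.sum_univ_four, Fin.sum_univ_two] <;> ring

lemma q4_R4 (g h : Matrix (Fin 2) (Fin 2) F) (w : Fin 4 → F) :
    q4 (R4 g h *ᵥ w) = g.det * h.det * q4 w := by
  simp [q4, R4, Matrix.mulVec, dotProduct, Fin.sum_univ_four, Matrix.det_fin_two]
  ring

lemma q4_T4 (w : Fin 4 → F) : q4 ((T4 : Matrix (Fin 4) (Fin 4) F) *ᵥ w) = q4 w := by
  simp [q4, T4, Matrix.mulVec, dotProduct, Fin.sum_univ_four]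
  ring

lemma T4_mul_T4 : (T4 : Matrix (Fin 4) (Fin 4) F) * T4 = 1 := by
  ext i j
  fin_cases i <;> fin_cases j <;>
    simp [T4, Matrix.mul_apply, Fin.sum_univ_four, Matrix.one_apply]

lemma T4_mul_R4 (g h : Matrix (Fin 2) (Fin 2) F) :
    (T4 : Matrix (Fin 4) (Fin 4) F) * R4 g h = R4 (cof2 h) (cof2 g) * T4 := by
  ext i j
  fin_cases i <;> fin_cases j <;>
    simp [T4, R4, cof2, Matrix.mul_apply, Fin.sum_univ_four] <;> ring

lemma det_cof2 (h : Matrix (Fin 2) (Fin 2) F) : (cof2 h).det = h.det := by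
  simp [cof2, Matrix.det_fin_two]
  ring

end R4

section RJ

variable {F : Type*} [Field F]

/-- The index type of `quadFormPlus 2`. -/
abbrev J4 : Type := Fin 2 ⊕ Fin 2

/-- Reindexing `Fin 2 ⊕ Fin 2 ≃ Fin 4`. -/
def e4 : J4 ≃ Fin 4 where
  toFun := fun x => match x with
    | .inl 0 => 0
    | .inl 1 => 1
    | .inr 0 => 2
    | .inr 1 => 3
  invFun := fun i => match i with
    | 0 => .inl 0
    | 1 => .inl 1
    | 2 => .inr 0
    | 3 => .inr 1
  left_inv := by
    rintro (x | x) <;> fin_cases x <;> rfl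
  right_inv := by intro i; fin_cases i <;> rfl

lemma quadFormPlus_two_eq (v : J4 → F) : Cfsg.quadFormPlus 2 F v = q4 (v ∘ e4.symm) := by
  simp [Cfsg.quadFormPlus, q4, e4, Fin.sum_univ_two]

/-- `R4` in the index type of `quadFormPlus 2`. -/
def RJ (g h : Matrix (Fin 2) (Fin 2) F) : Matrix J4 J4 F := (R4 g h).submatrix e4 e4

/-- `T4` in the index type of `quadFormPlus 2`. -/
def TJ : Matrix J4 J4 F := (T4 : Matrix (Fin 4) (Fin 4) F).submatrix e4 e4

lemma RJ_one : RJ (1 : Matrix (Fin 2) (Fin 2) F) 1 = 1 := by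
  rw [RJ, R4_one, Matrix.submatrix_one_equiv]

lemma RJ_mul (g g' h h' : Matrix (Fin 2) (Fin 2) F) :
    RJ (g * g') (h * h') = RJ g h * RJ g' h' := by
  rw [RJ, RJ, RJ, Matrix.submatrix_mul_equiv, R4_mul]

lemma quadFormPlus_RJ (g h : Matrix (Fin 2) (Fin 2) F) (v : J4 → F) :
    Cfsg.quadFormPlus 2 F (RJ g h *ᵥ v) = g.det * h.det * Cfsg.quadFormPlus 2 F v := by
  rw [quadFormPlus_two_eq, quadFormPlus_two_eq, RJ, Matrix.submatrix_mulVec_equiv]
  have : ((R4 g h *ᵥ (v ∘ ⇑e4.symm)) ∘ ⇑e4) ∘ ⇑e4.symm = R4 g h *ᵥ (v ∘ ⇑e4.symm) := by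
    ext i; simp
  rw [this, q4_R4]

lemma quadFormPlus_TJ (v : J4 → F) :
    Cfsg.quadFormPlus 2 F ((TJ : Matrix J4 J4 F) *ᵥ v) = Cfsg.quadFormPlus 2 F v := by
  rw [quadFormPlus_two_eq, quadFormPlus_two_eq, TJ, Matrix.submatrix_mulVec_equiv]
  have : (((T4 : Matrix (Fin 4) (Fin 4) F) *ᵥ (v ∘ ⇑e4.symm)) ∘ ⇑e4) ∘ ⇑e4.symm =
      (T4 : Matrix (Fin 4) (Fin 4) F) *ᵥ (v ∘ ⇑e4.symm) := by
    ext i; simp
  rw [this, q4_T4]

lemma TJ_mul_TJ : (TJ : Matrix J4 J4 F) * TJ = 1 := by
  rw [TJ, Matrix.submatrix_mul_equiv, T4_mul_T4, Matrix.submatrix_one_equiv]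

lemma TJ_mul_RJ (g h : Matrix (Fin 2) (Fin 2) F) :
    (TJ : Matrix J4 J4 F) * RJ g h = RJ (cof2 h) (cof2 g) * TJ := by
  rw [TJ, RJ, RJ, Matrix.submatrix_mul_equiv, Matrix.submatrix_mul_equiv, T4_mul_R4]

lemma RJ_eq_iff (g h g' h' : Matrix (Fin 2) (Fin 2) F) : RJ g h = RJ g' h' ↔ R4 g h = R4 g' h' := by
  constructor
  · intro h1
    have h2 : (RJ g h).submatrix e4.symm e4.symm = (RJ g' h').submatrix e4.symm e4.symm := by
      rw [h1]
    simpa [RJ] using h2
  · intro h1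
    rw [RJ, RJ, h1]

/-- The pairs `(g, h)` in `GL_2 × GL_2` with `det g * det h = 1`. -/
def detProd : GL (Fin 2) F × GL (Fin 2) F →* Fˣ :=
  (GeneralLinearGroup.det.comp (MonoidHom.fst _ _)) *
    (GeneralLinearGroup.det.comp (MonoidHom.snd _ _))

/-- The group of pairs `(g, h)` with `det g * det h = 1`. -/
def Hd (F : Type*) [Field F] : Subgroup (GL (Fin 2) F × GL (Fin 2) F) := (detProd (F := F)).ker

lemma mem_Hd_iff (x : GL (Fin 2) F × GL (Fin 2) F) :
    x ∈ Hd F ↔ x.1.val.det * x.2.val.det = 1 := by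
  rw [Hd, MonoidHom.mem_ker, detProd, MonoidHom.mul_apply, Units.ext_iff]
  rfl

/-- The action of `Hd` as a monoid hom into matrices. -/
noncomputable def rhoH0 : Hd F →* Matrix J4 J4 F where
  toFun x := RJ x.1.1.val x.1.2.val
  map_one' := by
    change RJ (1 : Matrix (Fin 2) (Fin 2) F) 1 = 1
    exact RJ_one
  map_mul' x y := by
    change RJ (x.1.1.val * y.1.1.val) (x.1.2.val * y.1.2.val) = _
    exact RJ_mul _ _ _ _

/-- The action of `Hd` on `M_2(F)` as isometries of the determinant. -/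
noncomputable def rhoH : Hd F →* Cfsg.isometryGroup F (Cfsg.quadFormPlus 2 F) :=
  (rhoH0 (F := F)).toHomUnits.codRestrict _ (by
    intro x u v
    change Cfsg.quadFormPlus 2 F (RJ x.1.1.val x.1.2.val *ᵥ u) = _
    rw [quadFormPlus_RJ, (mem_Hd_iff x.1).1 x.2, one_mul])

lemma rhoH_val (x : Hd F) : ((rhoH x).val : Matrix J4 J4 F) = RJ x.1.1.val x.1.2.val := rfl

/-- Transposition as an isometry. -/
noncomputable def tauO : Cfsg.isometryGroup F (Cfsg.quadFormPlus 2 F) :=
  ⟨⟨TJ, TJ, TJ_mul_TJ, TJ_mul_TJ⟩, by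
    intro u v
    change Cfsg.quadFormPlus 2 F ((TJ : Matrix J4 J4 F) *ᵥ u) = _
    exact quadFormPlus_TJ u⟩

lemma tauO_val : ((tauO (F := F)).val : Matrix J4 J4 F) = TJ := rfl

lemma tauO_mul_self : (tauO (F := F)) * tauO = 1 := by
  apply Subtype.ext
  apply Units.ext
  exact TJ_mul_TJ

/-- The inclusion of `SL_2 × SL_2` into `Hd`. -/
noncomputable def inclS : Matrix.SpecialLinearGroup (Fin 2) F × Matrix.SpecialLinearGroup (Fin 2) F →* Hd F :=
  (MonoidHom.prodMap Matrix.SpecialLinearGroup.toGL Matrix.SpecialLinearGroup.toGL).codRestrict _ (by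
    intro x
    rw [mem_Hd_iff]
    change x.1.val.det * x.2.val.det = 1
    rw [x.1.prop, x.2.prop, one_mul])

lemma inclS_val (x : Matrix.SpecialLinearGroup (Fin 2) F × Matrix.SpecialLinearGroup (Fin 2) F) :
    ((inclS x).1.1.val = x.1.val) ∧ ((inclS x).1.2.val = x.2.val) := ⟨rfl, rfl⟩

lemma mem_range_inclS_iff (y : Hd F) : y ∈ (inclS (F := F)).range ↔ y.1.1.val.det = 1 := by
  constructor
  · rintro ⟨x, rfl⟩
    exact x.1.prop
  · intro h
    have h2 : y.1.2.val.det = 1 := by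
      have := (mem_Hd_iff y.1).1 y.2
      rwa [h, one_mul] at this
    refine ⟨(⟨y.1.1.val, h⟩, ⟨y.1.2.val, h2⟩), ?_⟩
    apply Subtype.ext
    apply Prod.ext
    · exact Units.ext rfl
    · exact Units.ext rfl

/-- The action of `SL_2 × SL_2`. -/
noncomputable def rhoS : Matrix.SpecialLinearGroup (Fin 2) F × Matrix.SpecialLinearGroup (Fin 2) F →*
    Cfsg.isometryGroup F (Cfsg.quadFormPlus 2 F) :=
  (rhoH (F := F)).comp inclS

lemma rhoS_val (x : Matrix.SpecialLinearGroup (Fin 2) F × Matrix.SpecialLinearGroup (Fin 2) F) :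
    ((rhoS x).val : Matrix J4 J4 F) = RJ x.1.val x.2.val := rfl

end RJ

section Kernel

variable {F : Type*} [Field F]

lemma R4_eq_one (g h : Matrix (Fin 2) (Fin 2) F) (hR : R4 g h = 1) :
    g = g 0 0 • (1 : Matrix (Fin 2) (Fin 2) F) ∧ h = h 0 0 • (1 : Matrix (Fin 2) (Fin 2) F) ∧
      g 0 0 * h 0 0 = 1 := by
  have e00 := congrFun (congrFun hR 0) 0
  have e01 := congrFun (congrFun hR 0) 1
  have e03 := congrFun (congrFun hR 0) 3
  have e10 := congrFun (congrFun hR 1) 0
  have e11 := congrFun (congrFun hR 1) 1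
  have e21 := congrFun (congrFun hR 2) 1
  have e22 := congrFun (congrFun hR 2) 2
  simp [R4] at e00 e01 e03 e10 e11 e21 e22
  have hg00 : g 0 0 ≠ 0 := by
    intro h0; rw [h0, zero_mul] at e00; exact zero_ne_one e00
  have hh11 : h 1 1 ≠ 0 := by
    intro h0; rw [h0, mul_zero] at e00; exact zero_ne_one e00
  have hh00 : h 0 0 ≠ 0 := by
    intro h0; rw [h0, mul_zero] at e11; exact zero_ne_one e11
  have h10 : h 1 0 = 0 := by
    rcases e01 with h1 | h1
    · exact absurd h1 hg00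
    · exact h1
  have g01 : g 0 1 = 0 := by
    rcases e03 with h1 | h1
    · exact h1
    · exact absurd h1 hh11
  have h01 : h 0 1 = 0 := by
    rcases e10 with h1 | h1
    · exact absurd h1 hg00
    · exact h1
  have g10 : g 1 0 = 0 := by
    rcases e21 with h1 | h1
    · exact h1
    · exact absurd h1 hh00
  have g11 : g 1 1 = g 0 0 := by
    have : g 1 1 * h 0 0 = g 0 0 * h 0 0 := by rw [e22, e11]
    exact mul_right_cancel₀ hh00 this
  have h11 : h 1 1 = h 0 0 := by
    have : g 0 0 * h 1 1 = g 0 0 * h 0 0 := by rw [e00, e11]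
    exact mul_left_cancel₀ hg00 this
  refine ⟨?_, ?_, e11⟩
  · ext i j
    fin_cases i <;> fin_cases j <;> simp [g01, g10, g11]
  · ext i j
    fin_cases i <;> fin_cases j <;> simp [h01, h10, h11]

lemma det_eq_zero_of_R4 (g h : Matrix (Fin 2) (Fin 2) F) (h00 : R4 g h 0 0 ≠ 0)
    (h10 : R4 g h 1 0 = 0) (h11 : R4 g h 1 1 = 0) : h.det = 0 := by
  simp [R4] at h00 h10 h11
  have e1 : h 0 1 = 0 := by
    rcases h10 with h1 | h1
    · exact absurd h1 h00.1
    · exact h1
  have e2 : h 0 0 = 0 := by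
    rcases h11 with h1 | h1
    · exact absurd h1 h00.1
    · exact h1
  rw [Matrix.det_fin_two, e1, e2]
  ring

lemma tauO_not_mem_range_rhoH : (tauO (F := F)) ∉ (rhoH (F := F)).range := by
  rintro ⟨x, hx⟩
  have h1 : RJ x.1.1.val x.1.2.val = TJ := by
    rw [← rhoH_val, hx, tauO_val]
  have h2 : R4 x.1.1.val x.1.2.val = T4 := by
    have h3 : (RJ x.1.1.val x.1.2.val).submatrix e4.symm e4.symm =
        (TJ : Matrix J4 J4 F).submatrix e4.symm e4.symm := by rw [h1]
    simpa [RJ, TJ] using h3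
  have h3 := det_eq_zero_of_R4 x.1.1.val x.1.2.val (by rw [h2]; simp [T4]) (by rw [h2]; simp [T4])
    (by rw [h2]; simp [T4])
  exact (Matrix.isUnits_det_units x.1.2).ne_zero h3

lemma rhoH_eq_one (x : Hd F) (hx : rhoH x = 1) :
    x.1.1.val = x.1.1.val 0 0 • (1 : Matrix (Fin 2) (Fin 2) F) ∧
    x.1.2.val = x.1.2.val 0 0 • (1 : Matrix (Fin 2) (Fin 2) F) ∧
      x.1.1.val 0 0 * x.1.2.val 0 0 = 1 := by
  apply R4_eq_one
  have h1 : RJ x.1.1.val x.1.2.val = 1 := by
    rw [← rhoH_val, hx]; rfl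
  have h3 : (RJ x.1.1.val x.1.2.val).submatrix e4.symm e4.symm =
      (1 : Matrix J4 J4 F).submatrix e4.symm e4.symm := by rw [h1]
  rw [Matrix.submatrix_one_equiv] at h3
  simpa [RJ] using h3

/-- If `rhoH x` lies in the image of `SL_2 × SL_2` then `det x.1` is a square. -/
lemma det_sq_of_rhoH_mem_range_rhoS (x : Hd F) (hx : rhoH x ∈ (rhoS (F := F)).range) :
    ∃ z : F, x.1.1.val.det = z ^ 2 := by
  obtain ⟨s, hs⟩ := hx
  have h1 : rhoH ((inclS s)⁻¹ * x) = 1 := by
    rw [map_mul, map_inv, ← hs]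
    change (rhoS s)⁻¹ * rhoS s = 1
    exact inv_mul_cancel _
  obtain ⟨h2, -, -⟩ := rhoH_eq_one _ h1
  obtain ⟨z, hz⟩ : ∃ z, z = ((inclS s)⁻¹ * x).1.1.val 0 0 := ⟨_, rfl⟩
  rw [← hz] at h2
  refine ⟨z, ?_⟩
  have h3 : x.1.1.val = s.1.val * (z • (1 : Matrix (Fin 2) (Fin 2) F)) := by
    rw [← h2]
    change x.1.1.val = s.1.val * (((Matrix.SpecialLinearGroup.toGL s.1)⁻¹ * x.1.1 : GL (Fin 2) F) :
      Matrix (Fin 2) (Fin 2) F)
    rw [Units.val_mul, ← Matrix.mul_assoc]
    have : s.1.val * (((Matrix.SpecialLinearGroup.toGL s.1)⁻¹ : GL (Fin 2) F) :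
        Matrix (Fin 2) (Fin 2) F) = 1 := by
      have := Units.mul_inv (Matrix.SpecialLinearGroup.toGL s.1)
      exact this
    rw [this, Matrix.one_mul]
  rw [h3, Matrix.det_mul, s.1.prop, one_mul, Matrix.det_smul, Matrix.det_one, Fintype.card_fin,
    mul_one]

lemma rhoS_eq_one (s : Matrix.SpecialLinearGroup (Fin 2) F × Matrix.SpecialLinearGroup (Fin 2) F)
    (hs : rhoS s = 1) : ∃ z : F, z ^ 2 = 1 ∧ s.1.val = z • (1 : Matrix (Fin 2) (Fin 2) F) ∧
      s.2.val = z • (1 : Matrix (Fin 2) (Fin 2) F) := by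
  obtain ⟨h1, h2, h3⟩ := rhoH_eq_one (inclS s) hs
  rw [(inclS_val s).1] at h1 h3
  rw [(inclS_val s).2] at h2 h3
  obtain ⟨z, hz⟩ : ∃ z, z = s.1.val 0 0 := ⟨_, rfl⟩
  obtain ⟨w, hw⟩ : ∃ w, w = s.2.val 0 0 := ⟨_, rfl⟩
  rw [← hz] at h1 h3
  rw [← hw] at h2 h3
  have hd1 : z ^ 2 = 1 := by
    have := s.1.prop
    rw [h1, Matrix.det_smul, Matrix.det_one, Fintype.card_fin, mul_one] at this
    exact this
  have hzw : w = z := by
    have : z * w = z * z := by rw [h3, ← pow_two, hd1]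
    have hz0 : z ≠ 0 := by
      intro h0; rw [h0] at hd1; simp at hd1
    exact mul_left_cancel₀ hz0 this
  exact ⟨z, hd1, h1, by rw [h2, hzw]⟩

end Kernel

section GroupLemmas4

variable {G : Type*} [Group G]

/-- A subgroup of index dividing four normalised by two elements `a`, `b` with `a`, `b`,
`a⁻¹ b` outside it is normal. -/
lemma normal_of_index_dvd_four (N : Subgroup G) (h4 : N.index ∣ 4) (a b : G)
    (ha : a ∈ (Subgroup.normalizer (N : Set G))) (hb : b ∈ (Subgroup.normalizer (N : Set G))) (haN : a ∉ N) (hbN : b ∉ N)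
    (habN : a⁻¹ * b ∉ N) : N.Normal := by
  have hle : N ≤ (Subgroup.normalizer (N : Set G)) := Subgroup.le_normalizer
  have h := Subgroup.relIndex_mul_index hle
  have hdvd : N.relIndex (Subgroup.normalizer (N : Set G)) ∣ 4 := Dvd.dvd.trans ⟨_, h.symm⟩ h4
  have hne : N.relIndex (Subgroup.normalizer (N : Set G)) ≠ 0 := by
    intro h0; rw [h0] at hdvd; simp at hdvd
  have h3 : 2 < N.relIndex (Subgroup.normalizer (N : Set G)) := by
    change 2 < (N.subgroupOf (Subgroup.normalizer (N : Set G))).index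
    have : (N.subgroupOf (Subgroup.normalizer (N : Set G))).FiniteIndex := ⟨hne⟩
    have : Fintype ((Subgroup.normalizer (N : Set G)) ⧸ N.subgroupOf (Subgroup.normalizer (N : Set G))) := Fintype.ofFinite _
    rw [Subgroup.index_eq_card, Nat.card_eq_fintype_card, Fintype.two_lt_card_iff]
    refine ⟨((1 : (Subgroup.normalizer (N : Set G))) : (Subgroup.normalizer (N : Set G)) ⧸ N.subgroupOf (Subgroup.normalizer (N : Set G))),
      ((⟨a, ha⟩ : (Subgroup.normalizer (N : Set G))) : (Subgroup.normalizer (N : Set G)) ⧸ N.subgroupOf (Subgroup.normalizer (N : Set G))),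
      ((⟨b, hb⟩ : (Subgroup.normalizer (N : Set G))) : (Subgroup.normalizer (N : Set G)) ⧸ N.subgroupOf (Subgroup.normalizer (N : Set G))), ?_, ?_, ?_⟩
    · rw [Ne, QuotientGroup.eq, Subgroup.mem_subgroupOf]
      simpa using haN
    · rw [Ne, QuotientGroup.eq, Subgroup.mem_subgroupOf]
      simpa using hbN
    · rw [Ne, QuotientGroup.eq, Subgroup.mem_subgroupOf]
      simpa using habN
  have h5 : N.relIndex (Subgroup.normalizer (N : Set G)) = 4 := by
    have hle4 : N.relIndex (Subgroup.normalizer (N : Set G)) ≤ 4 := Nat.le_of_dvd (by norm_num) hdvd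
    interval_cases hh : N.relIndex (Subgroup.normalizer (N : Set G)) <;>
      first | rfl | (exfalso; revert hdvd; decide)
  have h6 : N.index = 4 := by
    have hle4 : N.index ≤ 4 := Nat.le_of_dvd (by norm_num) h4
    have : 4 ∣ N.index := ⟨_, by rw [← h, h5]⟩
    exact Nat.le_antisymm hle4 (Nat.le_of_dvd (Nat.pos_of_ne_zero (by
      intro h0; rw [h0] at h4; simp at h4)) this)
  rw [h5, h6] at h
  have h7 : (Subgroup.normalizer (N : Set G)).index = 1 := by omega
  rw [Subgroup.index_eq_one] at h7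
  exact Subgroup.normalizer_eq_top_iff.1 h7

lemma comm_of_card_dvd_four {H : Type*} [Group H] (h : Nat.card H ∣ 4) :
    ∀ a b : H, a * b = b * a := by
  have hle4 : Nat.card H ≤ 4 := Nat.le_of_dvd (by norm_num) h
  have h0 : Nat.card H ≠ 0 := by
    intro h0; rw [h0] at h; simp at h
  interval_cases hh : Nat.card H
  · omega
  · have := (Nat.card_eq_one_iff_unique.1 hh).1
    intro a b
    rw [Subsingleton.elim a 1, Subsingleton.elim b 1]
  · exact Cfsg.Agent.Lead.PerfectIndex.comm_of_card_two_or_four (Or.inl hh)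
  · exfalso; revert h; decide
  · exact Cfsg.Agent.Lead.PerfectIndex.comm_of_card_two_or_four (Or.inr hh)

lemma commutator_le_of_normal_of_index_dvd_four (N : Subgroup G) [N.Normal] (h4 : N.index ∣ 4) :
    commutator G ≤ N := by
  have hab := comm_of_card_dvd_four (H := G ⧸ N) h4
  let _ : CommGroup (G ⧸ N) := { (inferInstance : Group (G ⧸ N)) with mul_comm := hab }
  have := Abelianization.commutator_subset_ker (QuotientGroup.mk' N)
  rwa [QuotientGroup.ker_mk'] at this

lemma mem_normalizer_of_conj_mem (N : Subgroup G) (g : G) (h1 : ∀ n ∈ N, g * n * g⁻¹ ∈ N)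
    (h2 : ∀ n ∈ N, g⁻¹ * n * g ∈ N) : g ∈ (Subgroup.normalizer (N : Set G)) := by
  rw [Subgroup.mem_normalizer_iff]
  intro n
  constructor
  · exact h1 n
  · intro h
    have := h2 _ h
    simpa [mul_assoc] using this

lemma map_commutator_le {H : Type*} [Group H] (f : G →* H) :
    (commutator G).map f ≤ commutator H := by
  rw [commutator_def, Subgroup.map_commutator, commutator_def]
  exact Subgroup.commutator_mono le_top le_top

end GroupLemmas4

section Psi

variable {F : Type*} [Field F]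

/-- `u ↦ diag(1, u)` as a monoid hom into matrices. -/
def diagM : F →* Matrix (Fin 2) (Fin 2) F where
  toFun u := Matrix.diagonal ![1, u]
  map_one' := by
    ext i j
    fin_cases i <;> fin_cases j <;> simp [Matrix.diagonal_apply, Matrix.one_apply]
  map_mul' u v := by
    ext i j
    fin_cases i <;> fin_cases j <;> simp [Matrix.diagonal_apply, Matrix.mul_apply, Fin.sum_univ_two]

/-- `u ↦ diag(1, u)` as a hom `Fˣ →* GL_2`. -/
noncomputable def diagU : Fˣ →* GL (Fin 2) F := Units.map (diagM (F := F))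

lemma diagU_det (u : Fˣ) : ((diagU u : GL (Fin 2) F) : Matrix (Fin 2) (Fin 2) F).det = u := by
  change (Matrix.diagonal ![1, (u : F)]).det = u
  rw [Matrix.det_diagonal, Fin.prod_univ_two]
  simp

lemma det_val (g : GL (Fin 2) F) : ((GeneralLinearGroup.det g : Fˣ) : F) = g.val.det := rfl

/-- `g ↦ (g, diag(1, (det g)⁻¹))`. -/
noncomputable def psi1 : GL (Fin 2) F →* Hd F :=
  (MonoidHom.prod (MonoidHom.id _)
    ((diagU (F := F)).comp ((invMonoidHom : Fˣ →* Fˣ).comp GeneralLinearGroup.det))).codRestrict _ (by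
    intro g
    rw [mem_Hd_iff]
    change g.val.det * ((diagU ((GeneralLinearGroup.det g)⁻¹) : GL (Fin 2) F) :
      Matrix (Fin 2) (Fin 2) F).det = 1
    rw [diagU_det, ← det_val, ← Units.val_mul, mul_inv_cancel, Units.val_one])

/-- `g ↦ (diag(1, (det g)⁻¹), g)`. -/
noncomputable def psi2 : GL (Fin 2) F →* Hd F :=
  (MonoidHom.prod ((diagU (F := F)).comp ((invMonoidHom : Fˣ →* Fˣ).comp GeneralLinearGroup.det))
    (MonoidHom.id _)).codRestrict _ (by
    intro g
    rw [mem_Hd_iff]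
    change ((diagU ((GeneralLinearGroup.det g)⁻¹) : GL (Fin 2) F) :
      Matrix (Fin 2) (Fin 2) F).det * g.val.det = 1
    rw [diagU_det, ← det_val, ← Units.val_mul, inv_mul_cancel, Units.val_one])

lemma psi1_fst (g : GL (Fin 2) F) : (psi1 g).1.1 = g := rfl

lemma det_toGL_eq_one (s : Matrix.SpecialLinearGroup (Fin 2) F) :
    GeneralLinearGroup.det (Matrix.SpecialLinearGroup.toGL s) = 1 := Units.ext s.prop

lemma psi1_toGL (s : Matrix.SpecialLinearGroup (Fin 2) F) :
    psi1 (Matrix.SpecialLinearGroup.toGL s) = inclS (s, 1) := by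
  apply Subtype.ext
  apply Prod.ext
  · rfl
  · change diagU ((GeneralLinearGroup.det (Matrix.SpecialLinearGroup.toGL s))⁻¹) =
      Matrix.SpecialLinearGroup.toGL 1
    rw [det_toGL_eq_one, inv_one, map_one, map_one]

lemma psi2_toGL (s : Matrix.SpecialLinearGroup (Fin 2) F) :
    psi2 (Matrix.SpecialLinearGroup.toGL s) = inclS (1, s) := by
  apply Subtype.ext
  apply Prod.ext
  · change diagU ((GeneralLinearGroup.det (Matrix.SpecialLinearGroup.toGL s))⁻¹) =
      Matrix.SpecialLinearGroup.toGL 1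
    rw [det_toGL_eq_one, inv_one, map_one, map_one]
  · rfl

lemma range_inclS_le_commutator (h3 : ∃ a : F, a ≠ 0 ∧ a ≠ 1) :
    (inclS (F := F)).range ≤ commutator (Hd F) := by
  have hc := commutator_GL_eq_ker_det (ι := Fin 2) (F := F) (fun _ => h3)
  have hmem : ∀ s : Matrix.SpecialLinearGroup (Fin 2) F,
      Matrix.SpecialLinearGroup.toGL s ∈ commutator (GL (Fin 2) F) := by
    intro s
    rw [hc, MonoidHom.mem_ker]
    exact det_toGL_eq_one s
  rintro _ ⟨⟨s, t⟩, rfl⟩
  have h1 : inclS (s, t) = inclS (s, 1) * inclS (1, t) := by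
    rw [← map_mul]
    congr 1
    simp
  rw [h1, ← psi1_toGL, ← psi2_toGL]
  exact mul_mem (map_commutator_le psi1 (Subgroup.mem_map_of_mem _ (hmem s)))
    (map_commutator_le psi2 (Subgroup.mem_map_of_mem _ (hmem t)))

lemma range_rhoS_le_commutator (h3 : ∃ a : F, a ≠ 0 ∧ a ≠ 1) :
    (rhoS (F := F)).range ≤ commutator (Cfsg.isometryGroup F (Cfsg.quadFormPlus 2 F)) := by
  rintro _ ⟨x, rfl⟩
  apply map_commutator_le (rhoH (F := F))
  exact Subgroup.mem_map_of_mem _ (range_inclS_le_commutator h3 ⟨x, rfl⟩)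

lemma range_rhoS_le_range_rhoH : (rhoS (F := F)).range ≤ (rhoH (F := F)).range := by
  rintro _ ⟨x, rfl⟩
  exact ⟨inclS x, rfl⟩

lemma conj_inclS_mem (y : Hd F)
    (s : Matrix.SpecialLinearGroup (Fin 2) F × Matrix.SpecialLinearGroup (Fin 2) F) :
    y * inclS s * y⁻¹ ∈ (inclS (F := F)).range := by
  rw [mem_range_inclS_iff]
  change ((y.1.1 * Matrix.SpecialLinearGroup.toGL s.1 * (y.1.1)⁻¹ : GL (Fin 2) F) :
    Matrix (Fin 2) (Fin 2) F).det = 1
  rw [← det_val, map_mul, map_mul, map_inv, det_toGL_eq_one, mul_one, mul_inv_cancel,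
    Units.val_one]

lemma rhoH_conj_mem (y : Hd F) (n : Cfsg.isometryGroup F (Cfsg.quadFormPlus 2 F))
    (hn : n ∈ (rhoS (F := F)).range) : rhoH y * n * (rhoH y)⁻¹ ∈ (rhoS (F := F)).range := by
  obtain ⟨s, rfl⟩ := hn
  obtain ⟨t, ht⟩ := conj_inclS_mem y s
  refine ⟨t, ?_⟩
  change rhoH (inclS t) = rhoH y * rhoH (inclS s) * (rhoH y)⁻¹
  rw [ht, map_mul, map_mul, map_inv]

lemma rhoH_mem_normalizer (y : Hd F) :
    rhoH y ∈ Subgroup.normalizer (((rhoS (F := F)).range :
      Subgroup (Cfsg.isometryGroup F (Cfsg.quadFormPlus 2 F))) : Set _) := by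
  apply mem_normalizer_of_conj_mem
  · exact rhoH_conj_mem y
  · intro n hn
    have := rhoH_conj_mem y⁻¹ n hn
    rwa [map_inv, inv_inv] at this

/-- The cofactor matrix as a map on `SL_2`. -/
def cofSL (s : Matrix.SpecialLinearGroup (Fin 2) F) : Matrix.SpecialLinearGroup (Fin 2) F :=
  ⟨cof2 s.val, by rw [det_cof2]; exact s.prop⟩

lemma tauO_inv : (tauO (F := F))⁻¹ = tauO := inv_eq_of_mul_eq_one_right tauO_mul_self

lemma tauO_conj_rhoS
    (s : Matrix.SpecialLinearGroup (Fin 2) F × Matrix.SpecialLinearGroup (Fin 2) F) :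
    tauO * rhoS s * (tauO (F := F))⁻¹ = rhoS (cofSL s.2, cofSL s.1) := by
  rw [tauO_inv]
  apply Subtype.ext
  apply Units.ext
  change (TJ : Matrix J4 J4 F) * RJ s.1.val s.2.val * TJ = RJ (cof2 s.2.val) (cof2 s.1.val)
  rw [TJ_mul_RJ, Matrix.mul_assoc, TJ_mul_TJ, Matrix.mul_one]

lemma tauO_mem_normalizer :
    (tauO (F := F)) ∈ Subgroup.normalizer (((rhoS (F := F)).range :
      Subgroup (Cfsg.isometryGroup F (Cfsg.quadFormPlus 2 F))) : Set _) := by
  have key : ∀ n ∈ (rhoS (F := F)).range, tauO * n * (tauO (F := F))⁻¹ ∈ (rhoS (F := F)).range := by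
    rintro _ ⟨s, rfl⟩
    rw [tauO_conj_rhoS]
    exact ⟨_, rfl⟩
  apply mem_normalizer_of_conj_mem
  · exact key
  · intro n hn
    have := key n hn
    rwa [tauO_inv] at this ⊢

end Psi

section Index

variable {F : Type*} [Field F] [Fintype F]

lemma sq_eq_one_cases (z : F) (hz : z ^ 2 = 1) : z = 1 ∨ z = -1 := by
  have : (z - 1) * (z + 1) = 0 := by linear_combination hz
  rcases mul_eq_zero.1 this with h | h
  · left; linear_combination h
  · right; linear_combination h

lemma card_ker_rhoS_le : Nat.card (rhoS (F := F)).ker ≤ 2 := by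
  classical
  let f : (rhoS (F := F)).ker → Bool := fun s => decide (s.1.1.val 0 0 = 1)
  have hf : Function.Injective f := by
    intro s t hst
    obtain ⟨z, hz, hs1, hs2⟩ := rhoS_eq_one s.1 (MonoidHom.mem_ker.1 s.2)
    obtain ⟨w, hw, ht1, ht2⟩ := rhoS_eq_one t.1 (MonoidHom.mem_ker.1 t.2)
    have hsz : s.1.1.val 0 0 = z := by rw [hs1]; simp
    have htw : t.1.1.val 0 0 = w := by rw [ht1]; simp
    have hiff : z = 1 ↔ w = 1 := by
      have := hst
      simp only [f, hsz, htw, decide_eq_decide] at this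
      exact this
    have hzw : z = w := by
      rcases sq_eq_one_cases z hz with h | h
      · rw [h, hiff.1 h]
      · rcases sq_eq_one_cases w hw with h' | h'
        · rw [hiff.2 h', h']
        · rw [h, h']
    apply Subtype.ext
    apply Prod.ext
    · apply Subtype.ext
      rw [hs1, ht1, hzw]
    · apply Subtype.ext
      rw [hs2, ht2, hzw]
  have := Nat.card_le_card_of_injective f hf
  simpa using this

lemma ker_rhoS_eq_bot (h2 : (2 : F) = 0) : (rhoS (F := F)).ker = ⊥ := by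
  rw [eq_bot_iff]
  intro s hs
  obtain ⟨z, hz, hs1, hs2⟩ := rhoS_eq_one s (MonoidHom.mem_ker.1 hs)
  have hz1 : z = 1 := by
    have : (z - 1) ^ 2 = 0 := by linear_combination hz + (1 - z) * h2
    have := pow_eq_zero_iff (two_ne_zero) |>.1 this
    linear_combination this
  rw [hz1, one_smul] at hs1 hs2
  rw [Subgroup.mem_bot]
  apply Prod.ext
  · exact Subtype.ext hs1
  · exact Subtype.ext hs2

lemma index_range_rhoS :
    (rhoS (F := F)).range.index = 2 * Nat.card (rhoS (F := F)).ker := by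
  have h1 := Subgroup.card_mul_index (rhoS (F := F)).ker
  rw [Subgroup.index_ker, Nat.card_prod, card_SL2 (F := F) rfl] at h1
  have h2 := Subgroup.card_mul_index (rhoS (F := F)).range
  rw [Cfsg.Agent.S0287.result (F := F) rfl 2 (by norm_num)] at h2
  simp only [Nat.add_one_sub_one, Nat.reduceSub, mul_one, Finset.range_one, Finset.prod_singleton,
    zero_add, Nat.reduceMul] at h2
  obtain ⟨A, hA⟩ : ∃ A, A = Fintype.card F ^ 2 - 1 := ⟨_, rfl⟩
  rw [← hA] at h1 h2
  have hpos : 0 < Nat.card (rhoS (F := F)).range := Nat.card_pos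
  have h3 : Nat.card (rhoS (F := F)).range * (rhoS (F := F)).range.index =
      Nat.card (rhoS (F := F)).range * (2 * Nat.card (rhoS (F := F)).ker) := by
    rw [h2]
    calc 2 * Fintype.card F ^ 2 * A * A = 2 * (Fintype.card F * A * (Fintype.card F * A)) := by ring
      _ = 2 * (Nat.card (rhoS (F := F)).ker * Nat.card (rhoS (F := F)).range) := by rw [h1]
      _ = _ := by ring
  exact Nat.eq_of_mul_eq_mul_left hpos h3

lemma index_range_rhoS_dvd : (rhoS (F := F)).range.index ∣ 4 := by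
  rw [index_range_rhoS]
  have h1 := card_ker_rhoS_le (F := F)
  have h0 : 0 < Nat.card (rhoS (F := F)).ker := Nat.card_pos
  interval_cases Nat.card (rhoS (F := F)).ker <;> decide

lemma exists_nonsquare (h2 : (2 : F) ≠ 0) : ∃ a : F, ∀ z : F, a ≠ z ^ 2 := by
  by_contra hcon
  push Not at hcon
  have hsurj : Function.Surjective (fun z : F => z ^ 2) := fun a => by
    obtain ⟨z, hz⟩ := hcon a
    exact ⟨z, hz.symm⟩
  have hinj := Finite.injective_iff_surjective.2 hsurj
  have h1 : (1 : F) = -1 := hinj (by simp)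
  apply h2
  linear_combination h1

theorem range_rhoS_normal : ((rhoS (F := F)).range).Normal := by
  by_cases h2 : (2 : F) = 0
  · apply Subgroup.normal_of_index_eq_two
    rw [index_range_rhoS, ker_rhoS_eq_bot h2]
    simp
  · obtain ⟨a, ha⟩ := exists_nonsquare h2
    have ha0 : a ≠ 0 := by
      intro h0
      exact ha 0 (by rw [h0]; ring)
    have hdet : (psi1 (diagU (Units.mk0 a ha0))).1.1.val.det = a := by
      rw [psi1_fst, diagU_det, Units.val_mk0]
    have hd : rhoH (psi1 (diagU (Units.mk0 a ha0))) ∉ (rhoS (F := F)).range := by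
      intro hmem
      obtain ⟨z, hz⟩ := det_sq_of_rhoH_mem_range_rhoS _ hmem
      rw [hdet] at hz
      exact ha z hz
    have ht : (tauO (F := F)) ∉ (rhoS (F := F)).range := fun hmem =>
      tauO_not_mem_range_rhoH (range_rhoS_le_range_rhoH hmem)
    have hdt : (rhoH (psi1 (diagU (Units.mk0 a ha0))))⁻¹ * tauO ∉ (rhoS (F := F)).range := by
      intro hmem
      apply tauO_not_mem_range_rhoH (F := F)
      have h5 := mul_mem (⟨_, rfl⟩ : rhoH (psi1 (diagU (Units.mk0 a ha0))) ∈ (rhoH (F := F)).range)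
        (range_rhoS_le_range_rhoH hmem)
      rwa [mul_inv_cancel_left] at h5
    exact normal_of_index_dvd_four _ index_range_rhoS_dvd _ _ (rhoH_mem_normalizer _)
      tauO_mem_normalizer hd ht hdt

theorem omega_four_eq_range (h3 : ∃ a : F, a ≠ 0 ∧ a ≠ 1) :
    Cfsg.Omega F (Cfsg.quadFormPlus 2 F) = (rhoS (F := F)).range := by
  have := range_rhoS_normal (F := F)
  exact le_antisymm (commutator_le_of_normal_of_index_dvd_four _ index_range_rhoS_dvd)
    (range_rhoS_le_commutator h3)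

/-- `SL_2 × SL_2 → Ω_4^+`. -/
noncomputable def toOmega4 (h3 : ∃ a : F, a ≠ 0 ∧ a ≠ 1) :
    Matrix.SpecialLinearGroup (Fin 2) F × Matrix.SpecialLinearGroup (Fin 2) F →*
      Cfsg.Omega F (Cfsg.quadFormPlus 2 F) :=
  (rhoS (F := F)).codRestrict _ (fun x => by
    rw [omega_four_eq_range h3]
    exact ⟨x, rfl⟩)

lemma toOmega4_surjective (h3 : ∃ a : F, a ≠ 0 ∧ a ≠ 1) :
    Function.Surjective (toOmega4 (F := F) h3) := by
  rintro ⟨y, hy⟩
  have hy' := hy
  rw [omega_four_eq_range h3] at hy'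
  obtain ⟨x, hx⟩ := hy'
  exact ⟨x, Subtype.ext hx⟩

/-- `SL_2 × SL_2 → PΩ_4^+`. -/
noncomputable def toPOmega4 (h3 : ∃ a : F, a ≠ 0 ∧ a ≠ 1) :
    Matrix.SpecialLinearGroup (Fin 2) F × Matrix.SpecialLinearGroup (Fin 2) F →*
      Cfsg.POmega F (Cfsg.quadFormPlus 2 F) :=
  (QuotientGroup.mk' (Subgroup.center (Cfsg.Omega F (Cfsg.quadFormPlus 2 F)))).comp (toOmega4 h3)

lemma toPOmega4_surjective (h3 : ∃ a : F, a ≠ 0 ∧ a ≠ 1) :
    Function.Surjective (toPOmega4 (F := F) h3) :=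
  (QuotientGroup.mk'_surjective _).comp (toOmega4_surjective h3)

/-- `SL_2 × SL_2 → PSL_2 × PSL_2`. -/
noncomputable def toPSLProd :
    Matrix.SpecialLinearGroup (Fin 2) F × Matrix.SpecialLinearGroup (Fin 2) F →*
      Matrix.ProjectiveSpecialLinearGroup (Fin 2) F × Matrix.ProjectiveSpecialLinearGroup (Fin 2) F :=
  MonoidHom.prodMap (QuotientGroup.mk' _) (QuotientGroup.mk' _)

lemma toPSLProd_surjective : Function.Surjective (toPSLProd (F := F)) := by
  rintro ⟨a, b⟩
  obtain ⟨x, rfl⟩ := QuotientGroup.mk'_surjective _ a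
  obtain ⟨y, rfl⟩ := QuotientGroup.mk'_surjective _ b
  exact ⟨(x, y), rfl⟩

lemma mem_ker_toPSLProd_iff
    (x : Matrix.SpecialLinearGroup (Fin 2) F × Matrix.SpecialLinearGroup (Fin 2) F) :
    x ∈ (toPSLProd (F := F)).ker ↔ x.1 ∈ Subgroup.center (Matrix.SpecialLinearGroup (Fin 2) F) ∧
      x.2 ∈ Subgroup.center (Matrix.SpecialLinearGroup (Fin 2) F) := by
  rw [MonoidHom.mem_ker, toPSLProd, MonoidHom.prodMap_def, MonoidHom.prod_apply, Prod.mk_eq_one]
  simp only [MonoidHom.coe_comp, Function.comp_apply, MonoidHom.coe_fst, MonoidHom.coe_snd,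
    QuotientGroup.mk'_apply, QuotientGroup.eq_one_iff]

lemma ker_toPOmega4 (h3 : ∃ a : F, a ≠ 0 ∧ a ≠ 1) :
    (toPOmega4 (F := F) h3).ker = (toPSLProd (F := F)).ker := by
  ext x
  rw [MonoidHom.mem_ker, toPOmega4, MonoidHom.comp_apply, QuotientGroup.mk'_apply,
    QuotientGroup.eq_one_iff]
  constructor
  · intro hx
    -- `toPSLProd x` is central in `PSL_2 × PSL_2`
    have hcomm : ∀ y, toPSLProd (F := F) (x * y) = toPSLProd (y * x) := by
      intro y
      have h1 := Subgroup.mem_center_iff.1 hx (toOmega4 h3 y)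
      rw [← map_mul, ← map_mul] at h1
      have h2 : rhoS (F := F) ((x * y)⁻¹ * (y * x)) = 1 := by
        have h1' := congrArg Subtype.val h1
        change rhoS (F := F) (y * x) = rhoS (x * y) at h1'
        rw [map_mul, map_inv, h1', inv_mul_cancel]
      obtain ⟨z, hz, hz1, hz2⟩ := rhoS_eq_one _ h2
      have hk : (x * y)⁻¹ * (y * x) ∈ (toPSLProd (F := F)).ker := by
        rw [mem_ker_toPSLProd_iff, Matrix.SpecialLinearGroup.mem_center_iff,
          Matrix.SpecialLinearGroup.mem_center_iff]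
        refine ⟨⟨z, by simpa using hz, ?_⟩, ⟨z, by simpa using hz, ?_⟩⟩
        · rw [hz1, Matrix.scalar_apply, ← Matrix.smul_one_eq_diagonal]
        · rw [hz2, Matrix.scalar_apply, ← Matrix.smul_one_eq_diagonal]
      rw [MonoidHom.mem_ker, map_mul, map_inv, inv_mul_eq_one] at hk
      exact hk
    have hcen : toPSLProd (F := F) x ∈ Subgroup.center _ := by
      rw [Subgroup.mem_center_iff]
      intro p
      obtain ⟨y, rfl⟩ := toPSLProd_surjective p
      rw [← map_mul, ← map_mul, hcomm]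
    rw [MonoidHom.mem_ker]
    have h1 : (toPSLProd (F := F) x).1 ∈
        Subgroup.center (Matrix.ProjectiveSpecialLinearGroup (Fin 2) F) := by
      rw [Subgroup.mem_center_iff]
      intro p
      have := Subgroup.mem_center_iff.1 hcen (p, 1)
      exact congrArg Prod.fst this
    have h2 : (toPSLProd (F := F) x).2 ∈
        Subgroup.center (Matrix.ProjectiveSpecialLinearGroup (Fin 2) F) := by
      rw [Subgroup.mem_center_iff]
      intro p
      have := Subgroup.mem_center_iff.1 hcen (1, p)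
      exact congrArg Prod.snd this
    rw [center_PSL2_eq_bot, Subgroup.mem_bot] at h1 h2
    exact Prod.ext h1 h2
  · intro hx
    rw [mem_ker_toPSLProd_iff] at hx
    rw [Subgroup.mem_center_iff]
    intro w
    obtain ⟨y, rfl⟩ := toOmega4_surjective h3 w
    rw [← map_mul, ← map_mul]
    congr 1
    apply Prod.ext
    · exact Subgroup.mem_center_iff.1 hx.1 y.1
    · exact Subgroup.mem_center_iff.1 hx.2 y.2

/-- `PΩ_4^+(q) ≃* PSL_2(q) × PSL_2(q)` for `q ≥ 3`. -/
noncomputable def pomegaFourEquiv (h3 : ∃ a : F, a ≠ 0 ∧ a ≠ 1) :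
    Cfsg.POmega F (Cfsg.quadFormPlus 2 F) ≃*
      Matrix.ProjectiveSpecialLinearGroup (Fin 2) F × Matrix.ProjectiveSpecialLinearGroup (Fin 2) F :=
  ((QuotientGroup.quotientKerEquivOfSurjective _ (toPOmega4_surjective h3)).symm.trans
    (QuotientGroup.quotientMulEquivOfEq (ker_toPOmega4 h3))).trans
    (QuotientGroup.quotientKerEquivOfSurjective _ toPSLProd_surjective)

lemma exists_ne_zero_ne_one (h3 : 3 ≤ Fintype.card F) : ∃ a : F, a ≠ 0 ∧ a ≠ 1 := by
  classical
  by_contra hcon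
  push Not at hcon
  have hsub : (Finset.univ : Finset F) ⊆ {0, 1} := by
    intro a _
    by_cases h0 : a = 0
    · simp [h0]
    · simp [hcon a h0]
  have := Finset.card_le_card hsub
  rw [Finset.card_univ] at this
  have h2 : ({0, 1} : Finset F).card ≤ 2 := Finset.card_le_two
  omega

end Index

end Cfsg.Agent.Helper5
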