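import Mathlib
import Cfsg.Agent.Lib.Helper7.O5760Defs

set_option autoImplicit false

namespace Cfsg.Agent.Helper5.O5760

open Cfsg MulAction Cfsg.Agent.Helper7.O5760
open scoped ComplexConjugate

universe u v

section D

variable {G : Type u} [Group G] {X : Type v} [MulAction G X]

/-- an element `k` of order 3 conjugating `w` (order 3) into `zpowers w` commutes with `w`. -/
theorem h5_comm_of_conj_mem_zpowers (k w : G) (hk : orderOf k = 3) (hw : orderOf w = 3)
    (hkw : k * w * k⁻¹ ∈ Subgroup.zpowers w) : w * k = k * w := by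
  obtain ⟨n, hn⟩ := Subgroup.mem_zpowers_iff.mp hkw
  have hk3 : k ^ 3 = 1 := by rw [← hk]; exact pow_orderOf_eq_one k
  have hφ : MulAut.conj k w = w ^ n := by rw [MulAut.conj_apply]; exact hn.symm
  have h2 : MulAut.conj k (MulAut.conj k w) = w ^ (n * n) := by
    rw [hφ, map_zpow, hφ, ← zpow_mul]
  have h3 : MulAut.conj k (MulAut.conj k (MulAut.conj k w)) = w ^ (n * (n * n)) := by
    rw [h2, map_zpow, hφ, ← zpow_mul]
  have h3' : MulAut.conj k (MulAut.conj k (MulAut.conj k w)) = w := by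
    simp only [MulAut.conj_apply]
    have : k * (k * (k * w * k⁻¹) * k⁻¹) * k⁻¹ = k ^ 3 * w * (k ^ 3)⁻¹ := by
      simp only [pow_succ, pow_zero, one_mul, mul_inv_rev, mul_assoc]
    rw [this, hk3]; simp
  have h4 : w ^ (n * (n * n)) = w ^ (1 : ℤ) := by rw [← h3, h3', zpow_one]
  have h5 : (n * (n * n)) % 3 = 1 := by
    have := (zpow_eq_zpow_iff_modEq (x := w)).mp h4
    rw [hw] at this
    have h := this
    unfold Int.ModEq at h
    norm_num at h
    exact h
  have key : n % 3 = 1 := by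
    have : n % 3 = 0 ∨ n % 3 = 1 ∨ n % 3 = 2 := by omega
    rcases this with h0 | h1 | h2'
    · exfalso
      have : (n * (n * n)) % 3 = 0 := by rw [Int.mul_emod, h0]; simp
      omega
    · exact h1
    · exfalso
      have : (n * (n * n)) % 3 = 2 := by
        rw [Int.mul_emod, Int.mul_emod n n, h2']; norm_num
      omega
  have h6 : w ^ n = w ^ (1 : ℤ) := by
    rw [zpow_eq_zpow_iff_modEq, hw]
    unfold Int.ModEq
    push_cast
    omega
  rw [zpow_one] at h6
  have h7 : k * w * k⁻¹ = w := by rw [← hn, h6]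
  calc w * k = (k * w * k⁻¹) * k := by rw [h7]
    _ = k * w := by group

/-- (D3) -/
theorem K3_props [Finite G] (z : X → G) (h : Hyp G X z)
    (hbasic : (∀ (g : G) (a b : X) (k : G), k ∈ K3 G a b → g * k * g⁻¹ ∈ K3 G (g • a) (g • b)) ∧
      (∀ (g : G) (a b c : X), c ∈ line G a b → g • c ∈ line G (g • a) (g • b)) ∧
      (∀ a b c d : X, c ∈ line G a b → d ∈ line G a b → K3 G a b ≤ K3 G c d) ∧
      (∀ a b : X, a ∈ line G a b ∧ b ∈ line G a b))
    (a b : X) (hab : a ≠ b) :
    K3 G a b ≠ ⊥ ∧ K3 G a b ≤ Subgroup.centralizer ({z a} : Set G) ∧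
      K3 G a b ≤ stabilizer G a ⊓ stabilizer G b ∧
      (∀ g ∈ stabilizer G a ⊓ stabilizer G b, ∀ k ∈ K3 G a b, g * k * g⁻¹ ∈ K3 G a b) := by
  refine ⟨?_, ?_, ?_, ?_⟩
  · -- Cauchy in the two-point stabilizer of order 24
    have h24 := h.card24 a b hab
    have : Fact (Nat.Prime 3) := ⟨by norm_num⟩
    have hdvd : 3 ∣ Nat.card ↥(stabilizer G a ⊓ stabilizer G b) := by rw [h24]; norm_num
    obtain ⟨k, hk⟩ := exists_prime_orderOf_dvd_card' 3 hdvd
    have hk' : orderOf (k : G) = 3 := by rw [Subgroup.orderOf_coe]; exact hk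
    have hmem : (k : G) ∈ K3 G a b := by
      apply Subgroup.subset_closure
      have := k.2
      rw [Subgroup.mem_inf, mem_stabilizer_iff, mem_stabilizer_iff] at this
      exact ⟨this.1, this.2, hk'⟩
    intro hbot
    rw [hbot, Subgroup.mem_bot] at hmem
    rw [hmem, orderOf_one] at hk'
    norm_num at hk'
  · unfold K3
    rw [Subgroup.closure_le]
    rintro k ⟨hka, _, hk3⟩
    rw [SetLike.mem_coe, Subgroup.mem_centralizer_iff]
    intro y hy
    rw [Set.mem_singleton_iff] at hy
    subst hy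
    exact h5_comm_of_conj_mem_zpowers k (z a) hk3 (h.zOrder a) (h.zNorm a k hka)
  · unfold K3
    rw [Subgroup.closure_le]
    rintro k ⟨hka, hkb, _⟩
    rw [SetLike.mem_coe, Subgroup.mem_inf, mem_stabilizer_iff, mem_stabilizer_iff]
    exact ⟨hka, hkb⟩
  · intro g hg k hk
    rw [Subgroup.mem_inf, mem_stabilizer_iff, mem_stabilizer_iff] at hg
    have := hbasic.1 g a b k hk
    rw [hg.1, hg.2] at this
    exact this

end D

end Cfsg.Agent.Helper5.O5760
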