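import Mathlib
import Cfsg.Agent.Lib.Helper7.O5760Defs

set_option autoImplicit false

namespace Cfsg.Agent.Helper5.O5760

open Cfsg MulAction Cfsg.Agent.Helper7.O5760
open scoped ComplexConjugate

universe u v

section D

variable {G : Type u} [Group G] {X : Type v} [MulAction G X]

/-- (D4) -/
theorem line_basic [Finite G] (z : X → G) (h : Hyp G X z)
    (hprops : ∀ a b : X, a ≠ b → K3 G a b ≠ ⊥ ∧ K3 G a b ≤ Subgroup.centralizer ({z a} : Set G) ∧
      K3 G a b ≤ stabilizer G a ⊓ stabilizer G b ∧
      (∀ g ∈ stabilizer G a ⊓ stabilizer G b, ∀ k ∈ K3 G a b, g * k * g⁻¹ ∈ K3 G a b))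
    (a b : X) (hab : a ≠ b) :
    4 ≤ Nat.card (line G a b) ∧ Nat.card (line G a b) ≤ 15 ∧ Nat.card (line G a b) % 3 = 1 := by
  classical
  obtain ⟨hne, hcen, hstab, _⟩ := hprops a b hab
  have : Finite X := Nat.finite_of_card_ne_zero (by rw [h.cardX]; norm_num)
  set w : G := z a with hw
  have hw3 : w ^ 3 = 1 := by
    have := h.zOrder a
    rw [← this]; exact pow_orderOf_eq_one _
  -- a, b on the line
  have ha : a ∈ line G a b := by
    intro k hk
    have := hstab hk
    rw [Subgroup.mem_inf, mem_stabilizer_iff, mem_stabilizer_iff] at this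
    exact this.1
  have hb : b ∈ line G a b := by
    intro k hk
    have := hstab hk
    rw [Subgroup.mem_inf, mem_stabilizer_iff, mem_stabilizer_iff] at this
    exact this.2
  -- w maps the line to itself
  have hwl : ∀ c ∈ line G a b, w • c ∈ line G a b := by
    intro c hc k hk
    have hcomm : w * k = k * w := by
      have := hcen hk
      rw [Subgroup.mem_centralizer_iff] at this
      exact this w (Set.mem_singleton _)
    rw [← mul_smul, ← hcomm, mul_smul, hc k hk]
  -- the self-map of the line
  let f : Function.End ↥(line G a b) := fun c => ⟨w • (c : X), hwl c c.2⟩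
  have hf3 : f ^ 3 ^ 1 = 1 := by
    funext c
    apply Subtype.ext
    have : (f ^ 3 ^ 1) c = f (f (f c)) := by
      simp only [pow_succ, pow_zero, one_mul]
      rfl
    rw [this]
    change w • w • w • (c : X) = c
    rw [← mul_smul, ← mul_smul]
    have : w * w * w = w ^ 3 := by simp only [pow_succ, pow_zero, one_mul]
    rw [this, hw3, one_smul]
  have : Fact (Nat.Prime 3) := ⟨by norm_num⟩
  have : Fintype ↥(line G a b) := Fintype.ofFinite _
  have hmod := Equiv.Perm.card_fixedPoints_modEq (f := f) (p := 3) (n := 1) hf3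
  -- fixed points of f: only a
  have hfix : Fintype.card (Function.fixedPoints f) = 1 := by
    rw [Fintype.card_eq_one_iff]
    refine ⟨⟨⟨a, ha⟩, ?_⟩, ?_⟩
    · change f ⟨a, ha⟩ = ⟨a, ha⟩
      apply Subtype.ext
      change w • a = a
      exact (h.zFix a a).mpr rfl
    · rintro ⟨⟨c, hc⟩, hfc⟩
      apply Subtype.ext
      apply Subtype.ext
      change c = a
      have : f ⟨c, hc⟩ = ⟨c, hc⟩ := hfc
      have h2 : w • c = c := congrArg Subtype.val this
      exact (h.zFix a c).mp h2
  rw [hfix, ← Nat.card_eq_fintype_card] at hmod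
  have hmod1 : Nat.card ↥(line G a b) % 3 = 1 := by
    have := hmod
    unfold Nat.ModEq at this
    omega
  -- at least two points
  have h2 : 2 ≤ Nat.card ↥(line G a b) := by
    have : Nontrivial ↥(line G a b) :=
      ⟨⟨⟨a, ha⟩, ⟨b, hb⟩, fun hh => hab (congrArg Subtype.val hh)⟩⟩
    exact Finite.one_lt_card_iff_nontrivial.mpr inferInstance
  -- not everything
  have hlt : Nat.card ↥(line G a b) < 16 := by
    obtain ⟨⟨k, hk⟩, hk1'⟩ := (Subgroup.ne_bot_iff_exists_ne_one).mp hne
    have hk1 : k ≠ 1 := fun hh => hk1' (Subtype.ext hh)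
    have hex : ∃ c : X, (k : G) • c ≠ c := by
      by_contra hcon
      push Not at hcon
      exact hk1 (h.faithful k hcon)
    obtain ⟨c, hc⟩ := hex
    have hcl : c ∉ line G a b := fun hcl => hc (hcl k hk)
    have hne' : line G a b ≠ Set.univ := fun hh => hcl (hh ▸ Set.mem_univ c)
    have := Set.ncard_lt_card hne'
    rw [h.cardX] at this
    rw [_root_.Nat.card_coe_set_eq]
    exact this
  refine ⟨?_, ?_, hmod1⟩ <;> omega

end D

end Cfsg.Agent.Helper5.O5760
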