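import Mathlib
import Cfsg.Agent.S1017
import Cfsg.Agent.Lib.Helper17.Simple
import Cfsg.Agent.Lib.Helper17.FixedCount
import Cfsg.Agent.Lib.Helper17.ConjCount
import Cfsg.Agent.Lib.Helper75.FixKill
import Cfsg.Agent.Lib.Helper85.O4320BASE2

/-!
# No simple group of order 4536 = 2^3 * 3^4 * 7  (O6232 server, helper17, S0983)

`n_7 ∈ {36, 162}`.
* `n_7 = 36`: `|N(P)| = 126`, `3 ∣ |C(P)|`; an element of order 3 of `C(P)` fixes `f` Sylow 7-subgroups,
  `f ≡ 1 mod 7`, `f ≡ 0 mod 3`, `f < 36`: `f = 15`, and then `15 ∣ |C(x)|`: impossible (`FixOK`).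
* `n_7 = 162`: `|N(P)| = 28`, `|C(P)| = 14`, `t ∈ C(P)` an involution.  `8 ∣ |C(t)|` (mod-4 fixed point
  congruence on `G ⧸ ⟨t⟩`), `|C(t)| = a m'`, `a ≡ 1 mod 7` the number of Sylow 7-subgroups in `C(t)`,
  `m' = |N(P) ∩ C(t)| ∈ {14, 28}`; `a ≤ f = |Fix_{Syl_7}(t)|`, `f ≡ 1 mod 7`, `f ≡ 2 mod 4`, `f < 162`, and
  `|C(t)| = f m'` when `f ≥ 25`: no solution.
-/

set_option autoImplicit false

namespace Cfsg.Agent.Helper5.O6232

universe u

open MulAction Cfsg.Agent.Helper17 Cfsg.Agent.Helper17.Sieve Cfsg.Agent.Helper75.FixKill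

/-- in a simple group of order `4536` the centralizer of an involution has order divisible by `8`. -/
theorem h5_eight_dvd_centralizer {G : Type u} [Group G] [Finite G] [IsSimpleGroup G]
    (hn : Nat.card G = 4536) (t : G) (ht : orderOf t = 2) :
    8 ∣ Nat.card (Subgroup.centralizer ({t} : Set G)) := by
  have ht2 : t ^ 2 = 1 := by rw [← ht]; exact pow_orderOf_eq_one t
  have ht1 : t ≠ 1 := Cfsg.Agent.S1017.ne_one_of_orderOf_prime t Nat.prime_two ht
  set H : Subgroup G := Subgroup.zpowers t with hH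
  have hHc : Nat.card H = 2 := by rw [hH, Nat.card_zpowers, ht]
  have hidx : H.index = 2268 := by
    have := H.card_mul_index
    rw [hHc, hn] at this
    omega
  have hX : Nat.card (G ⧸ H) = 2268 := by rw [← hidx]; rfl
  have hm4 := Cfsg.Agent.S1017.card_fixedBy_mod_four (α := G ⧸ H) (by rw [hn]; norm_num) t ht
  rw [hX] at hm4
  have hcount := card_fixedBy_mul_card_conj H t
  rw [hidx] at hcount
  -- the elements of `H` conjugate to `t`: only `t`
  have hmemH : ∀ g : G, g ∈ H → g = 1 ∨ g = t := by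
    intro g hg
    obtain ⟨k, rfl⟩ := Subgroup.mem_zpowers_iff.mp hg
    rcases Int.even_or_odd k with ⟨j, rfl⟩ | ⟨j, rfl⟩
    · left
      rw [← two_mul, zpow_mul, zpow_ofNat, ht2, one_zpow]
    · right
      rw [zpow_add, zpow_mul, zpow_ofNat, ht2, one_zpow, one_mul, zpow_one]
  have hone : Nat.card {g : G // IsConj t g ∧ g ∈ H} = 1 := by
    rw [Nat.card_eq_one_iff_unique]
    refine ⟨⟨?_⟩, ⟨⟨t, IsConj.refl t, Subgroup.mem_zpowers t⟩⟩⟩
    rintro ⟨g, hg1, hg2⟩ ⟨g', hg1', hg2'⟩
    apply Subtype.ext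
    have e1 : g = t := by
      rcases hmemH g hg2 with h | h
      · exfalso
        rw [h] at hg1
        exact ht1 (isConj_one_right.mp hg1.symm)
      · exact h
    have e2 : g' = t := by
      rcases hmemH g' hg2' with h | h
      · exfalso
        rw [h] at hg1'
        exact ht1 (isConj_one_right.mp hg1'.symm)
      · exact h
    exact e1.trans e2.symm
  rw [hone, mul_one] at hcount
  have hcl := card_carrier_mul_card_centralizer t
  rw [hn] at hcl
  have hcl' : Nat.card {g : G // IsConj t g} = Nat.card (ConjClasses.mk t).carrier := rfl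
  rw [hcl'] at hcount
  set F := Nat.card (fixedBy (G ⧸ H) t) with hF
  set cl := Nat.card (ConjClasses.mk t).carrier with hcldef
  set c := Nat.card (Subgroup.centralizer ({t} : Set G)) with hc
  -- F * cl = 2268, cl * c = 4536  ⇒  c = 2 F
  have hclpos : 0 < cl := by
    rcases Nat.eq_zero_or_pos cl with h0 | h0
    · rw [h0, zero_mul] at hcl; omega
    · exact h0
  have h2F : c = 2 * F := by
    have h1 : cl * c = cl * (2 * F) := by
      rw [hcl]
      have : cl * (2 * F) = 2 * (F * cl) := by ring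
      rw [this, hcount]
    exact Nat.eq_of_mul_eq_mul_left hclpos h1
  rw [h2F]
  have : F % 4 = 0 := by
    unfold Nat.ModEq at hm4
    omega
  omega

theorem no_4536 {G : Type u} [Group G] [Finite G] [IsSimpleGroup G] : Nat.card G ≠ 4536 := by
  intro hn
  have hna : ¬ IsMulCommutative G := not_comm_of_not_prime (by rw [hn]; norm_num)
  have hp3 : Fact (Nat.Prime 3) := ⟨by norm_num⟩
  have hp7 : Fact (Nat.Prime 7) := ⟨by norm_num⟩
  have hp2 : Fact (Nat.Prime 2) := ⟨by norm_num⟩
  have h2G : 2 < Nat.card G := by rw [hn]; norm_num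
  have hn7 : Nat.card G = 7 ^ 1 * 648 := by rw [hn]; norm_num
  obtain ⟨hd7, hm7⟩ := sylow_count (G := G) (p := 7) hn7 (by norm_num)
  have hne7 := sylow_count_ne_one (G := G) (p := 7) hn7 (by norm_num) (by norm_num) (by norm_num)
  have key7 : ∀ d ∈ List.range 649, d ∣ 648 → d % 7 = 1 → d ≠ 1 → d = 8 ∨ d = 36 ∨ d = 162 := by
    decide +kernel
  obtain ⟨P⟩ : Nonempty (Sylow 7 G) := inferInstance
  have hPc : Nat.card (P : Subgroup G) = 7 := by
    have := sylow_card_eq P hn7 (by norm_num)
    simpa using this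
  obtain ⟨k, c, hk6, hk1, hC, hNc⟩ :=
    Cfsg.Agent.S1017.normalizer_structure P hPc (by rw [hn]; norm_num)
  have hcount := Cfsg.Agent.S1017.card_sylow_mul_card_normalizer P
  rw [hn] at hcount
  have hk6' : k ∣ 6 := hk6
  have hkle : k ≤ 6 := Nat.le_of_dvd (by norm_num) hk6'
  have hd1 : 1 < Nat.card (Sylow 7 G) := by
    have : 0 < Nat.card (Sylow 7 G) := Nat.card_pos
    omega
  rcases key7 _ (List.mem_range.2 (Nat.lt_succ_of_le (Nat.le_of_dvd (by norm_num) hd7))) hd7 hm7
    hne7 with h | h | h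
  · -- n_7 = 8: factorial bound
    have hfac := sylow_count_factorial hna (p := 7) hne7
    rw [h, hn] at hfac
    revert hfac
    decide
  · -- n_7 = 36
    rw [h] at hcount
    have hN : Nat.card ↥(Subgroup.normalizer ((P : Subgroup G) : Set G)) = 126 := by omega
    rw [hN] at hNc
    have hkc : k * c = 18 := by
      have : k * (7 * c) = 7 * (k * c) := by ring
      rw [this] at hNc
      omega
    have hcle : c ≤ 18 := Nat.le_of_dvd (by norm_num) ⟨k, by rw [← hkc]; ring⟩
    have h3c : 3 ∣ c := by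
      have keyc : ∀ k ∈ List.range 7, ∀ c ∈ List.range 19, k * c = 18 → k ∣ 6 → k ≠ 1 → 3 ∣ c := by
        decide +kernel
      exact keyc k (List.mem_range.2 (by omega)) c (List.mem_range.2 (by omega)) hkc hk6' hk1
    have h3C : 3 ∣ Nat.card (Subgroup.centralizer ((P : Subgroup G) : Set G)) := by
      rw [hC]; exact Dvd.dvd.mul_left h3c 7
    obtain ⟨f, m', hfix⟩ := exists_fix h2G (p := 7) (r := 3) (by norm_num) P hPc hd1 h3C
    rw [hn, h, hN] at hfix
    have hf : f < 36 := hfix.2.2.2.2.1
    have hm' : m' ≤ 126 := hfix.1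
    have keyfix : ∀ f ∈ List.range 36, ∀ m' ∈ List.range 127, ¬ FixOK 4536 7 36 126 3 f m' := by
      decide +kernel
    exact keyfix f (List.mem_range.2 hf) m' (List.mem_range.2 (by omega)) hfix
  · -- n_7 = 162
    rw [h] at hcount
    have hN : Nat.card ↥(Subgroup.normalizer ((P : Subgroup G) : Set G)) = 28 := by omega
    rw [hN] at hNc
    have hkc : k * c = 4 := by
      have : k * (7 * c) = 7 * (k * c) := by ring
      rw [this] at hNc
      omega
    have hcle : c ≤ 4 := Nat.le_of_dvd (by norm_num) ⟨k, by rw [← hkc]; ring⟩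
    have h2c : 2 ∣ c := by
      have keyc : ∀ k ∈ List.range 7, ∀ c ∈ List.range 5, k * c = 4 → k ∣ 6 → k ≠ 1 → 2 ∣ c := by
        decide +kernel
      exact keyc k (List.mem_range.2 (by omega)) c (List.mem_range.2 (by omega)) hkc hk6' hk1
    have h2C : 2 ∣ Nat.card (Subgroup.centralizer ((P : Subgroup G) : Set G)) := by
      rw [hC]; exact Dvd.dvd.mul_left h2c 7
    obtain ⟨t', ht'⟩ := exists_prime_orderOf_dvd_card'
      (G := ↥(Subgroup.centralizer ((P : Subgroup G) : Set G))) 2 h2C
    set t : G := (t' : G) with htdef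
    have ht : orderOf t = 2 := by rw [htdef, Subgroup.orderOf_coe]; exact ht'
    have htC : t ∈ Subgroup.centralizer ((P : Subgroup G) : Set G) := t'.2
    have ht1 : t ≠ 1 := Cfsg.Agent.S1017.ne_one_of_orderOf_prime t Nat.prime_two ht
    -- the centralizer of t
    set Ct : Subgroup G := Subgroup.centralizer ({t} : Set G) with hCt
    have h8 : 8 ∣ Nat.card Ct := h5_eight_dvd_centralizer hn t ht
    have hdvdG : Nat.card Ct ∣ 4536 := by rw [← hn]; exact Subgroup.card_subgroup_dvd_card _
    have hPle : (P : Subgroup G) ≤ Ct := (Cfsg.Agent.S1017.le_centralizer_singleton_iff _ t).2 htC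
    have hmul := Cfsg.Agent.S1017.card_eq_card_mul Ct P hPle
    have hamod := Cfsg.Agent.Helper85.O4320.card_sylow_le_mod 7 P hPc Ct hPle
    set a := Nat.card {Q : Sylow 7 G // (Q : Subgroup G) ≤ Ct} with ha
    set m' := Nat.card ↥(Subgroup.normalizer ((P : Subgroup G) : Set G) ⊓ Ct) with hm'
    set f := Nat.card (fixedBy (Sylow 7 G) t) with hf
    -- m' divides 28 and is divisible by 14
    have hm'28 : m' ∣ 28 := by
      rw [← hN]; exact Subgroup.card_dvd_of_le inf_le_left
    have hm'14 : 14 ∣ m' := by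
      have hPle' : (P : Subgroup G) ≤ Subgroup.normalizer ((P : Subgroup G) : Set G) ⊓ Ct :=
        le_inf Subgroup.le_normalizer hPle
      have h7 : 7 ∣ m' := by
        conv_lhs => rw [← hPc]
        exact Subgroup.card_dvd_of_le hPle'
      have htmem : t ∈ Subgroup.normalizer ((P : Subgroup G) : Set G) ⊓ Ct := by
        refine ⟨Subgroup.centralizer_le_normalizer _ htC, ?_⟩
        show t ∈ Subgroup.centralizer ({t} : Set G)
        rw [Subgroup.mem_centralizer_iff]
        intro y hy
        rw [Set.mem_singleton_iff] at hy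
        rw [hy]
      have h2 : 2 ∣ m' := by
        rw [← ht]
        exact Subgroup.orderOf_dvd_natCard _ htmem
      exact (by norm_num : Nat.Coprime 2 7).mul_dvd_of_dvd_of_dvd h2 h7
    -- a ≤ f
    have haf : a ≤ f := by
      apply Nat.card_le_card_of_injective
        (fun Q : {Q : Sylow 7 G // (Q : Subgroup G) ≤ Ct} =>
          (⟨Q.1, by
            rw [mem_fixedBy]
            exact Sylow.smul_eq_iff_mem_normalizer.mpr (Subgroup.centralizer_le_normalizer _
              ((Cfsg.Agent.S1017.le_centralizer_singleton_iff _ t).1 Q.2))⟩ :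
            fixedBy (Sylow 7 G) t))
      intro Q1 Q2 hQ
      apply Subtype.ext
      have := congrArg (fun z : fixedBy (Sylow 7 G) t => (z : Sylow 7 G)) hQ
      exact this
    -- congruences for f
    have hf7 := Cfsg.Agent.S1017.card_fixedBy_sylow_modEq P hPc t htC
    have hf4 := Cfsg.Agent.S1017.card_fixedBy_mod_four (α := Sylow 7 G) h2G t ht
    rw [h] at hf4
    have hfle := Cfsg.Agent.S1017.card_fixedBy_le (α := Sylow 7 G) t
    have hfne := Cfsg.Agent.S1017.card_fixedBy_ne (α := Sylow 7 G)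
      (Cfsg.Agent.S1017.sylow_action_nontrivial hd1) t ht1
    rw [h] at hfle hfne
    have hbig : 161 < 7 * (f - 1) → Nat.card Ct = f * m' := by
      intro hb
      have := Cfsg.Agent.S1017.card_centralizer_eq P hPc t htC (by rw [h]; exact hb)
      exact this
    rw [hmul] at h8 hdvdG hbig
    have hm'cases : m' = 14 ∨ m' = 28 := by
      have hle : m' ≤ 28 := Nat.le_of_dvd (by norm_num) hm'28
      have keym : ∀ m ∈ List.range 29, 14 ∣ m → m ∣ 28 → m = 14 ∨ m = 28 := by decide +kernel
      exact keym m' (List.mem_range.2 (by omega)) hm'14 hm'28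
    have hf7' : f % 7 = 1 := by
      unfold Nat.ModEq at hf7; omega
    have hf4' : f % 4 = 2 := by
      unfold Nat.ModEq at hf4; omega
    have ha7 : a % 7 = 1 := by
      unfold Nat.ModEq at hamod; omega
    have hf161 : f ≤ 161 := by omega
    have keyfin : ∀ f ∈ List.range 162, ∀ a ∈ List.range 162, ∀ m ∈ [14, 28],
        f % 7 = 1 → f % 4 = 2 → a % 7 = 1 → a ≤ f → 8 ∣ a * m → a * m ∣ 4536 →
        (161 < 7 * (f - 1) → a * m = f * m) → False := by
      decide +kernel
    have hm'mem : m' ∈ [14, 28] := by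
      rcases hm'cases with h1 | h1 <;> rw [h1] <;> simp
    exact keyfin f (List.mem_range.2 (by omega)) a (List.mem_range.2 (by omega)) m' hm'mem
      hf7' hf4' ha7 haf h8 hdvdG hbig

end Cfsg.Agent.Helper5.O6232
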