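import Mathlib

set_option autoImplicit false

namespace Cfsg.Agent.Helper5.ONS
universe u

/-- (NUM1) -/
theorem prime_pow_dvd (r k : ℕ) (hr : r.Prime) (h : r ^ k ∣ 122760) :
    r ^ k ∣ 8 ∨ r ^ k ∣ 9 ∨ r ^ k ∣ 5 ∨ r ^ k ∣ 11 ∨ r ^ k ∣ 31 := by
  rcases Nat.eq_zero_or_pos k with hk | hk
  · subst hk
    left
    simp
  have hpp : IsPrimePow (r ^ k) := hr.isPrimePow.pow (Nat.pos_iff_ne_zero.mp hk)
  have e : (122760 : ℕ) = 8 * (9 * (5 * (11 * 31))) := by norm_num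
  rw [e] at h
  rcases (Nat.Coprime.isPrimePow_dvd_mul (by norm_num) hpp).mp h with h1 | h1
  · exact Or.inl h1
  rcases (Nat.Coprime.isPrimePow_dvd_mul (by norm_num) hpp).mp h1 with h2 | h2
  · exact Or.inr (Or.inl h2)
  rcases (Nat.Coprime.isPrimePow_dvd_mul (by norm_num) hpp).mp h2 with h3 | h3
  · exact Or.inr (Or.inr (Or.inl h3))
  rcases (Nat.Coprime.isPrimePow_dvd_mul (by norm_num) hpp).mp h3 with h4 | h4
  · exact Or.inr (Or.inr (Or.inr (Or.inl h4)))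
  · exact Or.inr (Or.inr (Or.inr (Or.inr h4)))

end Cfsg.Agent.Helper5.ONS
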