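import Mathlib

set_option autoImplicit false

namespace Cfsg.Agent.Helper5.ONS
universe u

/-- (NUM2) -/
theorem num19 (m c : ℕ) (hm : m ∣ 8 ∨ m ∣ 9 ∨ m ∣ 5 ∨ m ∣ 11 ∨ m ∣ 31) (hc : c ∣ m) (hc0 : 0 < c)
    (h : m % 19 = c % 19) : c = m := by
  have hm31 : m ≤ 31 := by
    rcases hm with hm | hm | hm | hm | hm <;>
      · have := Nat.le_of_dvd (by norm_num) hm
        omega
  have hm0 : 0 < m := by
    rcases Nat.eq_zero_or_pos m with h0 | h0
    · subst h0
      rcases hm with hm | hm | hm | hm | hm <;> simp at hm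
    · exact h0
  have hcm : c ≤ m := Nat.le_of_dvd hm0 hc
  -- c ≡ m mod 19, c ≤ m ≤ 31: so m = c or m = c + 19
  have hcases : m = c ∨ m = c + 19 := by omega
  rcases hcases with h1 | h1
  · exact h1.symm
  · exfalso
    -- c ∣ c + 19 so c ∣ 19, so c = 1 or c = 19; m = 20 or m = 38; m ≤ 31 → m = 20, c = 1
    have hc19 : c ∣ 19 := by
      have : c ∣ c + 19 := h1 ▸ hc
      exact (Nat.dvd_add_right (dvd_refl c)).mp this
    have h19 : Nat.Prime 19 := by norm_num
    rcases (Nat.dvd_prime h19).mp hc19 with h2 | h2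
    · subst h2
      subst h1
      rcases hm with hm | hm | hm | hm | hm <;> omega
    · subst h2
      omega

end Cfsg.Agent.Helper5.ONS
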