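import Mathlib
import Cfsg.Agent.Lib.Helper40.OPF.Defs
import Cfsg.Agent.Lib.Helper5.OPFPE

/-!
# OPF project (S2715), pieces (CEN1), (CEN2): the centraliser of the standard field automorphism
in `Inndiag(PΩ⁺)`

Port of `Cfsg.Agent.Helper5.OMF.cent_iso_std` to the plus form.
-/

set_option autoImplicit false
set_option linter.unusedSectionVars false
set_option linter.unusedSimpArgs false
set_option linter.unusedVariables false

namespace Cfsg.Agent.Helper5.OPF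

open Matrix QuadraticMap Cfsg.Agent.Helper5.OrthAut Cfsg.Agent.Helper40.AutPOm
  Cfsg.Agent.Helper40.OrthEven Cfsg.Agent.Helper43 Cfsg.Agent.Helper40.OPF
  Cfsg.Agent.Helper5.OrthLag Cfsg.Agent.Helper5.OMF Cfsg.Agent.Helper40.FieldCent

variable {F₀ : Type*} [Field F₀] [Fintype F₀] {F : Type*} [Field F] [Fintype F]

/-- piece CEN1 -/
theorem cent_inD_eq_map {m : ℕ} (hm : 3 ≤ m) (emb : F₀ →+* F) (σ : F ≃+* F) {r : ℕ} (hr : 0 < r)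
    (hσ : orderOf σ = r) (hι1 : ∀ x, σ (emb x) = emb x) (hι2 : ∀ y, σ y = y → ∃ x, emb x = y)
    (hQA : ∀ σ : F ≃+* F, σ ∈ QAut (⇑(stdPlus F m)))
    (hperf : commutator ↥(Cfsg.Omega F ⇑(stdPlus F m)) = ⊤)
    (hcent : ∀ Z : Matrix (Fin m ⊕ Fin m) (Fin m ⊕ Fin m) F,
      (∀ s : ↥(Cfsg.Omega F ⇑(stdPlus F m)),
        Z * omat (⇑(stdPlus F m)) s = omat (⇑(stdPlus F m)) s * Z) →
      ∃ c : F, Z = c • (1 : Matrix (Fin m ⊕ Fin m) (Fin m ⊕ Fin m) F))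
    (C : ClassChar (stdPlus F m)) (C₀ : ClassChar (stdPlus F₀ m)) :
    inD (stdPlus F m) C ⊓ Subgroup.centralizer {fieldAutStd (⇑(stdPlus F m)) hQA σ} =
      (C₀.χ.ker).map (ThetaP m emb) := by
  classical
  have hB := isBC_stdPlus m emb
  have hne : Nonempty (Fin m ⊕ Fin m) := ⟨Sum.inl ⟨0, by omega⟩⟩
  obtain ⟨e₀, he₀⟩ := hQ0_of_hyp (stdPlus F₀ m) (stdPlus_isHypFamily F₀ m) (by omega)
  have key := fun g => cent_pgo_gen hB hperf hcent e₀ he₀ (toQAut (⇑(stdPlus F m)) hQA σ) hr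
    (by rw [toQAut_coe]; exact hσ) (by rw [toQAut_coe]; exact hι1) (by rw [toQAut_coe]; exact hι2) g
  ext β
  constructor
  · intro hβ
    obtain ⟨hβ1, hβ2⟩ := Subgroup.mem_inf.1 hβ
    obtain ⟨g, hχ, rfl⟩ := (mem_inD_iff _ C β).1 hβ1
    have hcomm := (Subgroup.mem_centralizer_iff.1 hβ2) _ rfl
    rw [fieldAutStd_apply] at hcomm
    obtain ⟨g₀, c, hg₀, hgc⟩ := (key g).1 hcomm.symm
    have hP := (C.pres g).1 hχ
    have hP' : Cfsg.PreservesSingularClasses (⇑(stdPlus F m))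
        ((g₀ : Matrix (Fin m ⊕ Fin m) (Fin m ⊕ Fin m) F₀).map emb) := by
      rw [hgc, Units.val_mul, sclHom_coe, Matrix.smul_mul, Matrix.one_mul,
        preserves_smul_iff _ _ (Units.ne_zero c)] at hP
      exact hP
    have hP₀ := (preserves_emb_iff_plus hm emb g₀ hg₀).2 hP'
    refine ⟨⟨g₀, hg₀⟩, MonoidHom.mem_ker.2 ((C₀.pres ⟨g₀, hg₀⟩).2 hP₀), ?_⟩
    have h5 : g = scGO (stdPlus F m) c * embGO' hB ⟨g₀, hg₀⟩ := Subtype.ext hgc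
    rw [h5, map_mul, PhiGO_scGO _ hperf hcent, one_mul]
    rfl
  · rintro ⟨g₀, hg₀S, rfl⟩
    have hP₀ := (C₀.pres g₀).1 (MonoidHom.mem_ker.1 hg₀S)
    have hP := (preserves_emb_iff_plus hm emb g₀.1 g₀.2).1 hP₀
    refine Subgroup.mem_inf.2 ⟨?_, ?_⟩
    · rw [mem_inD_iff]
      refine ⟨embGO' hB g₀, (C.pres _).2 ?_, rfl⟩
      rw [embGO'_val]
      exact hP
    · rw [Subgroup.mem_centralizer_iff]
      intro h hh
      rw [Set.mem_singleton_iff.1 hh, fieldAutStd_apply]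
      symm
      refine (key (embGO' hB g₀)).2 ⟨g₀.1, 1, g₀.2, ?_⟩
      rw [map_one, one_mul, embGO'_val]

/-- piece CEN2 -/
theorem cent_iso_plus {m : ℕ} (hm : 3 ≤ m) (emb : F₀ →+* F) (σ : F ≃+* F) {r : ℕ} (hr : 0 < r)
    (hσ : orderOf σ = r) (hι1 : ∀ x, σ (emb x) = emb x) (hι2 : ∀ y, σ y = y → ∃ x, emb x = y)
    (hQA : ∀ σ : F ≃+* F, σ ∈ QAut (⇑(stdPlus F m)))
    (hperf : commutator ↥(Cfsg.Omega F ⇑(stdPlus F m)) = ⊤)
    (hcent : ∀ Z : Matrix (Fin m ⊕ Fin m) (Fin m ⊕ Fin m) F,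
      (∀ s : ↥(Cfsg.Omega F ⇑(stdPlus F m)),
        Z * omat (⇑(stdPlus F m)) s = omat (⇑(stdPlus F m)) s * Z) →
      ∃ c : F, Z = c • (1 : Matrix (Fin m ⊕ Fin m) (Fin m ⊕ Fin m) F))
    (hperf₀ : commutator ↥(Cfsg.Omega F₀ ⇑(stdPlus F₀ m)) = ⊤)
    (hcent₀ : ∀ Z : Matrix (Fin m ⊕ Fin m) (Fin m ⊕ Fin m) F₀,
      (∀ s : ↥(Cfsg.Omega F₀ ⇑(stdPlus F₀ m)),
        Z * omat (⇑(stdPlus F₀ m)) s = omat (⇑(stdPlus F₀ m)) s * Z) →
      ∃ c : F₀, Z = c • (1 : Matrix (Fin m ⊕ Fin m) (Fin m ⊕ Fin m) F₀))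
    (C : ClassChar (stdPlus F m)) (C₀ : ClassChar (stdPlus F₀ m)) :
    Nonempty (↥(inD (stdPlus F m) C ⊓
        Subgroup.centralizer {fieldAutStd (⇑(stdPlus F m)) hQA σ}) ≃* ↥(inD (stdPlus F₀ m) C₀)) := by
  classical
  have hne : Nonempty (Fin m ⊕ Fin m) := ⟨Sum.inl ⟨0, by omega⟩⟩
  have hker : (ThetaP m emb).ker = (PhiGO ⇑(stdPlus F₀ m)).ker := by
    ext g
    rw [MonoidHom.mem_ker, MonoidHom.mem_ker, ThetaP_apply,
      PhiGO_eq_one_iff _ hperf hcent, PhiGO_eq_one_iff _ hperf₀ hcent₀, embGO'_val,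
      emb_mem_scalars_iff_I]
  obtain ⟨e⟩ := Cfsg.Agent.Helper50.GF.map_equiv_of_ker_eq (ThetaP m emb)
    (PhiGO ⇑(stdPlus F₀ m)) hker (C₀.χ.ker)
  have h2 := cent_inD_eq_map hm emb σ hr hσ hι1 hι2 hQA hperf hcent C C₀
  exact ⟨(MulEquiv.subgroupCongr h2).trans e⟩

end Cfsg.Agent.Helper5.OPF
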