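import Mathlib
import Cfsg.Agent.Lib.Helper5.PSL2Klein

set_option autoImplicit false

namespace Cfsg.Agent.Helper5

open Matrix

section
variable {K : Type*} [Field K]

/-- If `g ∈ SL_2(K)` fixes a nonzero vector then `(g - 1)^2 = 0`. -/
lemma sl2_sub_one_sq_of_fix (g : Matrix.SpecialLinearGroup (Fin 2) K) (v : Fin 2 → K) (hv : v ≠ 0)
    (hgv : g.1 *ᵥ v = v) : (g.1 - 1) * (g.1 - 1) = 0 := by
  have hsq := sl2_sq g
  set t := g.1 0 0 + g.1 1 1 with ht
  have h1 : (g.1 * g.1) *ᵥ v = v := by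
    rw [← Matrix.mulVec_mulVec, hgv, hgv]
  rw [hsq, Matrix.sub_mulVec, Matrix.smul_mulVec, hgv, Matrix.one_mulVec] at h1
  have ht2 : t = 2 := by
    obtain ⟨i, hi⟩ : ∃ i, v i ≠ 0 := by
      by_contra hcon
      push Not at hcon
      exact hv (funext hcon)
    have := congrFun h1 i
    simp only [Pi.sub_apply, Pi.smul_apply, smul_eq_mul] at this
    have h2 : (t - 2) * v i = 0 := by linear_combination this
    rcases mul_eq_zero.1 h2 with h | h
    · linear_combination h
    · exact absurd h hi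
  have : (g.1 - 1) * (g.1 - 1) = g.1 * g.1 - (2 : K) • g.1 + 1 := by
    rw [sub_mul, mul_sub, mul_sub, mul_one, one_mul, mul_one, two_smul]
    abel
  rw [this, hsq, ht2]
  abel

/-- In characteristic `p`, an element of `SL_2(K)` fixing a nonzero vector has `g ^ p = 1`. -/
lemma sl2_pow_char_eq_one_of_fix (p : ℕ) [Fact p.Prime] [CharP K p]
    (g : Matrix.SpecialLinearGroup (Fin 2) K) (v : Fin 2 → K) (hv : v ≠ 0)
    (hgv : g.1 *ᵥ v = v) : g ^ p = 1 := by
  have hN := sl2_sub_one_sq_of_fix g v hv hgv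
  apply Subtype.ext
  rw [Matrix.SpecialLinearGroup.coe_pow, Matrix.SpecialLinearGroup.coe_one]
  have hp2 : 2 ≤ p := (Fact.out : p.Prime).two_le
  have hNp : (g.1 - 1) ^ p = 0 := by
    obtain ⟨k, rfl⟩ : ∃ k, p = 2 + k := ⟨p - 2, by omega⟩
    rw [pow_add, pow_two, hN, zero_mul]
  have h1 : g.1 = (g.1 - 1) + 1 := by abel
  rw [h1, add_pow_char_of_commute _ (Commute.one_right _), hNp, one_pow, zero_add]

end

section
variable {K : Type*} [Field K]

/-- Two vectors in `K^2` with vanishing determinant are proportional. -/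
lemma exists_smul_of_det_eq_zero (v w : Fin 2 → K) (hv : v ≠ 0)
    (hD : v 0 * w 1 - v 1 * w 0 = 0) : ∃ c : K, w = c • v := by
  by_cases h0 : v 0 = 0
  · have h1 : v 1 ≠ 0 := by
      intro h1
      apply hv
      ext i
      fin_cases i <;> simp [h0, h1]
    refine ⟨w 1 / v 1, ?_⟩
    ext i
    fin_cases i
    · simp only [Fin.zero_eta, Pi.smul_apply, smul_eq_mul, h0, mul_zero]
      rw [h0, zero_mul, zero_sub, neg_eq_zero] at hD
      rcases mul_eq_zero.1 hD with h | h
      · exact absurd h h1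
      · exact h
    · simp only [Fin.mk_one, Pi.smul_apply, smul_eq_mul]
      field_simp
  · refine ⟨w 0 / v 0, ?_⟩
    ext i
    fin_cases i
    · simp only [Fin.zero_eta, Pi.smul_apply, smul_eq_mul]
      field_simp
    · simp only [Fin.mk_one, Pi.smul_apply, smul_eq_mul]
      field_simp
      linear_combination hD

/-- A `2 × 2` matrix acting as the scalar `l` on two independent vectors is scalar. -/
lemma eq_smul_one_of_mulVec (z : Matrix (Fin 2) (Fin 2) K) (l : K) (v w : Fin 2 → K)
    (hD : v 0 * w 1 - v 1 * w 0 ≠ 0) (hv : z *ᵥ v = l • v) (hw : z *ᵥ w = l • w) :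
    z = l • (1 : Matrix (Fin 2) (Fin 2) K) := by
  have hv0 := congrFun hv 0
  have hv1 := congrFun hv 1
  have hw0 := congrFun hw 0
  have hw1 := congrFun hw 1
  simp [Matrix.mulVec, dotProduct, Fin.sum_univ_two] at hv0 hv1 hw0 hw1
  have e00 : (z 0 0 - l) * (v 0 * w 1 - v 1 * w 0) = 0 := by
    linear_combination w 1 * hv0 - v 1 * hw0
  have e01 : z 0 1 * (v 0 * w 1 - v 1 * w 0) = 0 := by
    linear_combination (-w 0) * hv0 + v 0 * hw0
  have e10 : z 1 0 * (v 0 * w 1 - v 1 * w 0) = 0 := by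
    linear_combination w 1 * hv1 - v 1 * hw1
  have e11 : (z 1 1 - l) * (v 0 * w 1 - v 1 * w 0) = 0 := by
    linear_combination (-w 0) * hv1 + v 0 * hw1
  have f00 := (mul_eq_zero.1 e00).resolve_right hD
  have f01 := (mul_eq_zero.1 e01).resolve_right hD
  have f10 := (mul_eq_zero.1 e10).resolve_right hD
  have f11 := (mul_eq_zero.1 e11).resolve_right hD
  ext i j
  fin_cases i <;> fin_cases j <;> simp [f01, f10]
  · linear_combination f00
  · linear_combination f11

end

section
variable {K : Type*} [Field K]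

lemma eq_one_of_pow_eq_one_of_isPGroup {G : Type*} [Group G] {r n : ℕ} [Fact r.Prime]
    (hG : IsPGroup r G) (hn : ¬ r ∣ n) (g : G) (hg : g ^ n = 1) : g = 1 := by
  obtain ⟨k, hk⟩ := hG g
  have h1 : orderOf g ∣ r ^ k := orderOf_dvd_of_pow_eq_one hk
  have h2 : orderOf g ∣ n := orderOf_dvd_of_pow_eq_one hg
  have hcop : Nat.Coprime (r ^ k) n :=
    Nat.Coprime.pow_left k ((Nat.Prime.coprime_iff_not_dvd Fact.out).2 hn)
  have : orderOf g = 1 := Nat.eq_one_of_dvd_coprimes hcop h1 h2
  exact orderOf_eq_one_iff.1 this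

theorem isCyclic_of_isPGroup_sl2_algClosed [IsAlgClosed K] (p : ℕ) [Fact p.Prime] [CharP K p]
    (r : ℕ) [Fact r.Prime] (hr2 : r ≠ 2) (hrp : r ≠ p)
    (H : Subgroup (Matrix.SpecialLinearGroup (Fin 2) K)) [Finite H] (hH : IsPGroup r H) :
    IsCyclic H := by
  have hr : r.Prime := Fact.out
  have hp : p.Prime := Fact.out
  rcases subsingleton_or_nontrivial H with hs | hnt
  · exact isCyclic_of_subsingleton
  have hcn : Nontrivial (Subgroup.center H) := hH.center_nontrivial
  obtain ⟨⟨z, hzc⟩, hz1⟩ := exists_ne (1 : Subgroup.center H)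
  have hz1' : z ≠ 1 := fun h ↦ hz1 (Subtype.ext h)
  obtain ⟨l, hl⟩ := Module.End.exists_eigenvalue (Matrix.toLin' z.1.1)
  obtain ⟨v, hv⟩ := hl.exists_hasEigenvector
  have hv0 : v ≠ 0 := hv.2
  have hzv : z.1.1 *ᵥ v = l • v := by
    have := hv.apply_eq_smul
    simpa using this
  have hr2' : ¬ r ∣ 2 := by
    intro h
    exact hr2 ((Nat.prime_dvd_prime_iff_eq hr Nat.prime_two).1 h)
  have hrp' : ¬ r ∣ p := by
    intro h
    exact hrp ((Nat.prime_dvd_prime_iff_eq hr hp).1 h)
  have key : ∀ g : H, ∃ c : K, g.1.1 *ᵥ v = c • v := by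
    intro g
    by_contra hcon
    push Not at hcon
    have hD : v 0 * (g.1.1 *ᵥ v) 1 - v 1 * (g.1.1 *ᵥ v) 0 ≠ 0 := fun hD ↦ by
      obtain ⟨c, hc⟩ := exists_smul_of_det_eq_zero v (g.1.1 *ᵥ v) hv0 hD
      exact hcon c hc
    have hcomm : z * g = g * z := (Subgroup.mem_center_iff.1 hzc g).symm
    have hcomm' : z.1.1 * g.1.1 = g.1.1 * z.1.1 := by
      have := congrArg (fun x : H ↦ x.1.1) hcomm
      simpa using this
    have hzw : z.1.1 *ᵥ (g.1.1 *ᵥ v) = l • (g.1.1 *ᵥ v) := by
      rw [Matrix.mulVec_mulVec, hcomm', ← Matrix.mulVec_mulVec, hzv, Matrix.mulVec_smul]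
    have hz := eq_smul_one_of_mulVec z.1.1 l v (g.1.1 *ᵥ v) hD hzv hzw
    have hdet := z.1.det_coe
    rw [hz, Matrix.det_smul, Matrix.det_one, mul_one, Fintype.card_fin] at hdet
    have hzz : z ^ 2 = 1 := by
      apply Subtype.ext
      apply Subtype.ext
      simp only [Subgroup.coe_pow, Matrix.SpecialLinearGroup.coe_pow, Subgroup.coe_one,
        Matrix.SpecialLinearGroup.coe_one]
      rw [hz, pow_two, Matrix.smul_mul, Matrix.mul_smul, mul_one, smul_smul, ← pow_two, hdet,
        one_smul]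
    exact hz1' (eq_one_of_pow_eq_one_of_isPGroup hH hr2' z hzz)
  choose χ hχ using key
  have hinj_smul : Function.Injective (fun c : K ↦ c • v) := smul_left_injective K hv0
  let f : H →* K :=
    { toFun := χ
      map_one' := by
        apply hinj_smul
        simp only
        rw [← hχ 1]
        simp
      map_mul' := fun g h ↦ by
        apply hinj_smul
        simp only
        rw [← hχ (g * h)]
        simp only [Subgroup.coe_mul, Matrix.SpecialLinearGroup.coe_mul]
        rw [← Matrix.mulVec_mulVec, hχ h, Matrix.mulVec_smul, hχ g, smul_smul, mul_comm] }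
  have hf : Function.Injective f := by
    rw [injective_iff_map_eq_one]
    intro g hg
    have hgv : g.1.1 *ᵥ v = v := by
      rw [hχ g]
      change f g • v = v
      rw [hg, one_smul]
    have hgp : g.1 ^ p = 1 := sl2_pow_char_eq_one_of_fix p g.1 v hv0 hgv
    have hgp' : g ^ p = 1 := Subtype.ext (by simpa using hgp)
    exact eq_one_of_pow_eq_one_of_isPGroup hH hrp' g hgp'
  exact isCyclic_of_injective_ringHom f hf

end

theorem sylow_isCyclic_sl2 {F : Type*} [Field F] [Fintype F] (p : ℕ) [Fact p.Prime] [CharP F p]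
    (r : ℕ) [Fact r.Prime] (hr : r ≠ 2) (hrp : r ≠ p)
    (R : Sylow r (Matrix.SpecialLinearGroup (Fin 2) F)) :
    IsCyclic (R : Subgroup (Matrix.SpecialLinearGroup (Fin 2) F)) := by
  have hcp : CharP (AlgebraicClosure F) p :=
    charP_of_injective_algebraMap (algebraMap F (AlgebraicClosure F)).injective p
  let ι : Matrix.SpecialLinearGroup (Fin 2) F →* Matrix.SpecialLinearGroup (Fin 2) (AlgebraicClosure F) :=
    Matrix.SpecialLinearGroup.map (algebraMap F (AlgebraicClosure F))
  have hι : Function.Injective ι := by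
    intro A B hAB
    ext i j
    have := congrArg (fun M : Matrix.SpecialLinearGroup (Fin 2) (AlgebraicClosure F) ↦ M.1 i j) hAB
    exact (algebraMap F (AlgebraicClosure F)).injective this
  let e := Subgroup.equivMapOfInjective (R : Subgroup (Matrix.SpecialLinearGroup (Fin 2) F)) ι hι
  have hH : IsPGroup r ((R : Subgroup (Matrix.SpecialLinearGroup (Fin 2) F)).map ι) :=
    R.isPGroup'.map ι
  have hfin : Finite ((R : Subgroup (Matrix.SpecialLinearGroup (Fin 2) F)).map ι) :=
    Finite.of_equiv _ e.toEquiv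
  have hcyc := isCyclic_of_isPGroup_sl2_algClosed p r hr hrp
    ((R : Subgroup (Matrix.SpecialLinearGroup (Fin 2) F)).map ι) hH
  exact isCyclic_of_surjective e.symm e.symm.surjective

end Cfsg.Agent.Helper5
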