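import Mathlib
import Cfsg.Agent.Lib.Helper5.SL2Cyclic

set_option autoImplicit false

namespace Cfsg.Agent.Helper5

open Matrix
open scoped LinearAlgebra.Projectivization MatrixGroups

variable {F : Type*} [Field F]

/-- Distinct points of the projective line have linearly independent representatives. -/
lemma det_ne_zero_of_mk_ne (v w : Fin 2 → F) (hv : v ≠ 0) (hw : w ≠ 0)
    (h : Projectivization.mk F v hv ≠ Projectivization.mk F w hw) :
    v 0 * w 1 - v 1 * w 0 ≠ 0 := by
  intro hD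
  obtain ⟨c, hc⟩ := exists_smul_of_det_eq_zero v w hv hD
  apply h
  rw [Projectivization.mk_eq_mk_iff']
  have hc0 : c ≠ 0 := by
    rintro rfl
    exact hw (by rw [hc, zero_smul])
  exact ⟨c⁻¹, by rw [hc, smul_smul, inv_mul_cancel₀ hc0, one_smul]⟩

/-- Cramer's rule in dimension two. -/
lemma cramer_two (va vb vc : Fin 2 → F) (hD : va 0 * vb 1 - va 1 * vb 0 ≠ 0) :
    vc = ((vc 0 * vb 1 - vc 1 * vb 0) / (va 0 * vb 1 - va 1 * vb 0)) • va +
      ((va 0 * vc 1 - va 1 * vc 0) / (va 0 * vb 1 - va 1 * vb 0)) • vb := by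
  obtain ⟨D, hDdef⟩ : ∃ D, D = va 0 * vb 1 - va 1 * vb 0 := ⟨_, rfl⟩
  rw [← hDdef] at hD ⊢
  ext i
  fin_cases i
  · simp only [Fin.zero_eta, Pi.add_apply, Pi.smul_apply, smul_eq_mul]
    field_simp
    rw [hDdef]
    ring
  · simp only [Fin.mk_one, Pi.add_apply, Pi.smul_apply, smul_eq_mul]
    field_simp
    rw [hDdef]
    ring

def e0 : Fin 2 → F := ![1, 0]
def e1 : Fin 2 → F := ![0, 1]
def e2 : Fin 2 → F := ![1, 1]

lemma e0_ne : (e0 : Fin 2 → F) ≠ 0 := fun h ↦ by
  have := congrFun h 0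
  simp [e0] at this

lemma e1_ne : (e1 : Fin 2 → F) ≠ 0 := fun h ↦ by
  have := congrFun h 1
  simp [e1] at this

lemma e2_ne : (e2 : Fin 2 → F) ≠ 0 := fun h ↦ by
  have := congrFun h 0
  simp [e2] at this

/-- The standard triple of points on the projective line. -/
def stdPt (F : Type*) [Field F] : Fin 3 → ℙ F (Fin 2 → F) :=
  ![Projectivization.mk F e0 e0_ne, Projectivization.mk F e1 e1_ne, Projectivization.mk F e2 e2_ne]

lemma mk_smul_eq (α : F) (hα : α ≠ 0) (v : Fin 2 → F) (hv : v ≠ 0) (h : α • v ≠ 0) :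
    Projectivization.mk F (α • v) h = Projectivization.mk F v hv := by
  rw [Projectivization.mk_eq_mk_iff']
  exact ⟨α, rfl⟩

/-- Any three distinct points are the image of the standard triple. -/
lemma exists_GL_smul_stdPt (a b c : ℙ F (Fin 2 → F)) (hab : a ≠ b) (hac : a ≠ c) (hbc : b ≠ c) :
    ∃ g : PGL(Fin 2, F), g • stdPt F 0 = a ∧ g • stdPt F 1 = b ∧ g • stdPt F 2 = c := by
  induction a using Projectivization.ind with | _ va hva =>
  induction b using Projectivization.ind with | _ vb hvb =>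
  induction c using Projectivization.ind with | _ vc hvc =>
  have hD := det_ne_zero_of_mk_ne va vb hva hvb hab
  have hDac := det_ne_zero_of_mk_ne va vc hva hvc hac
  have hDbc := det_ne_zero_of_mk_ne vb vc hvb hvc hbc
  set D := va 0 * vb 1 - va 1 * vb 0 with hDdef
  set α := (vc 0 * vb 1 - vc 1 * vb 0) / D with hα
  set β := (va 0 * vc 1 - va 1 * vc 0) / D with hβ
  have hα0 : α ≠ 0 := by
    rw [hα]
    apply div_ne_zero _ hD
    intro h
    apply hDbc
    linear_combination (-1 : F) * h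
  have hβ0 : β ≠ 0 := by
    rw [hβ]
    exact div_ne_zero hDac hD
  have hvc' : vc = α • va + β • vb := cramer_two va vb vc hD
  have hdet : (!![α * va 0, β * vb 0; α * va 1, β * vb 1] : Matrix (Fin 2) (Fin 2) F).det ≠ 0 := by
    rw [Matrix.det_fin_two_of]
    have : α * va 0 * (β * vb 1) - β * vb 0 * (α * va 1) = α * β * D := by rw [hDdef]; ring
    rw [this]
    exact mul_ne_zero (mul_ne_zero hα0 hβ0) hD
  refine ⟨Matrix.ProjGenLinGroup.mk (GeneralLinearGroup.mkOfDetNeZero _ hdet), ?_, ?_, ?_⟩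
  · have h1 : (GeneralLinearGroup.mkOfDetNeZero _ hdet : GL (Fin 2) F) • (e0 : Fin 2 → F) =
        α • va := by
      ext i
      fin_cases i <;> simp [e0, Matrix.mulVec, dotProduct, Fin.sum_univ_two, Units.smul_def]
    change Projectivization.mk F ((GeneralLinearGroup.mkOfDetNeZero _ hdet : GL (Fin 2) F) •
      (e0 : Fin 2 → F)) _ = _
    simp only [h1]
    exact mk_smul_eq α hα0 va hva _
  · have h1 : (GeneralLinearGroup.mkOfDetNeZero _ hdet : GL (Fin 2) F) • (e1 : Fin 2 → F) =
        β • vb := by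
      ext i
      fin_cases i <;> simp [e1, Matrix.mulVec, dotProduct, Fin.sum_univ_two, Units.smul_def]
    change Projectivization.mk F ((GeneralLinearGroup.mkOfDetNeZero _ hdet : GL (Fin 2) F) •
      (e1 : Fin 2 → F)) _ = _
    simp only [h1]
    exact mk_smul_eq β hβ0 vb hvb _
  · have h1 : (GeneralLinearGroup.mkOfDetNeZero _ hdet : GL (Fin 2) F) • (e2 : Fin 2 → F) =
        vc := by
      rw [hvc']
      ext i
      fin_cases i <;> simp [e2, Matrix.mulVec, dotProduct, Fin.sum_univ_two, Units.smul_def]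
    change Projectivization.mk F ((GeneralLinearGroup.mkOfDetNeZero _ hdet : GL (Fin 2) F) •
      (e2 : Fin 2 → F)) _ = _
    simp only [h1]

theorem pgl2_isMultiplyPretransitive_three :
    MulAction.IsMultiplyPretransitive (PGL(Fin 2, F)) (ℙ F (Fin 2 → F)) 3 := by
  rw [MulAction.isMultiplyPretransitive_iff]
  intro x y
  have hx := exists_GL_smul_stdPt (x 0) (x 1) (x 2)
    (x.injective.ne (by decide)) (x.injective.ne (by decide)) (x.injective.ne (by decide))
  have hy := exists_GL_smul_stdPt (y 0) (y 1) (y 2)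
    (y.injective.ne (by decide)) (y.injective.ne (by decide)) (y.injective.ne (by decide))
  obtain ⟨gx, hx0, hx1, hx2⟩ := hx
  obtain ⟨gy, hy0, hy1, hy2⟩ := hy
  refine ⟨gy * gx⁻¹, ?_⟩
  ext i
  rw [Function.Embedding.smul_apply, mul_smul]
  fin_cases i
  · change gy • gx⁻¹ • x 0 = y 0
    rw [← hx0, inv_smul_smul, hy0]
  · change gy • gx⁻¹ • x 1 = y 1
    rw [← hx1, inv_smul_smul, hy1]
  · change gy • gx⁻¹ • x 2 = y 2
    rw [← hx2, inv_smul_smul, hy2]

theorem pgl2_sharp (g : PGL(Fin 2, F)) (a b c : ℙ F (Fin 2 → F)) (hab : a ≠ b) (hac : a ≠ c)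
    (hbc : b ≠ c) (ha : g • a = a) (hb : g • b = b) (hc : g • c = c) : g = 1 := by
  induction g using Matrix.ProjGenLinGroup.induction_on with | mk M =>
  induction a using Projectivization.ind with | _ va hva =>
  induction b using Projectivization.ind with | _ vb hvb =>
  induction c using Projectivization.ind with | _ vc hvc =>
  have hD := det_ne_zero_of_mk_ne va vb hva hvb hab
  have hDac := det_ne_zero_of_mk_ne va vc hva hvc hac
  have hDbc := det_ne_zero_of_mk_ne vb vc hvb hvc hbc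
  rw [Projectivization.PGL.mk_smul_mk, Projectivization.mk_eq_mk_iff'] at ha hb hc
  obtain ⟨l, hl⟩ := ha
  obtain ⟨m, hm⟩ := hb
  obtain ⟨n, hn⟩ := hc
  change l • va = M.val *ᵥ va at hl
  change m • vb = M.val *ᵥ vb at hm
  change n • vc = M.val *ᵥ vc at hn
  obtain ⟨D, hDdef⟩ : ∃ D, D = va 0 * vb 1 - va 1 * vb 0 := ⟨_, rfl⟩
  rw [← hDdef] at hD
  obtain ⟨α, hα⟩ : ∃ α, α = (vc 0 * vb 1 - vc 1 * vb 0) / D := ⟨_, rfl⟩
  obtain ⟨β, hβ⟩ : ∃ β, β = (va 0 * vc 1 - va 1 * vc 0) / D := ⟨_, rfl⟩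
  have hα0 : α ≠ 0 := by
    rw [hα]
    apply div_ne_zero _ hD
    intro h
    apply hDbc
    linear_combination (-1 : F) * h
  have hβ0 : β ≠ 0 := by
    rw [hβ]
    exact div_ne_zero hDac hD
  have hvc' : vc = α • va + β • vb := by
    rw [hα, hβ, hDdef]
    exact cramer_two va vb vc (hDdef ▸ hD)
  -- M vc = α l va + β m vb = n α va + n β vb
  have hMc : (α * l - n * α) • va + (β * m - n * β) • vb = 0 := by
    have h1 : M.val *ᵥ vc = (α * l) • va + (β * m) • vb := by
      rw [hvc', Matrix.mulVec_add, Matrix.mulVec_smul, Matrix.mulVec_smul, ← hl, ← hm, smul_smul,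
        smul_smul]
    have h2 : M.val *ᵥ vc = (n * α) • va + (n * β) • vb := by
      rw [← hn, hvc', smul_add, smul_smul, smul_smul]
    rw [sub_smul, sub_smul]
    rw [h1] at h2
    rw [← sub_eq_zero] at h2
    rw [← h2]
    abel
  have hc0 := congrFun hMc 0
  have hc1 := congrFun hMc 1
  simp only [Pi.add_apply, Pi.smul_apply, smul_eq_mul, Pi.zero_apply] at hc0 hc1
  have hp : (α * l - n * α) * D = 0 := by
    rw [hDdef]
    linear_combination vb 1 * hc0 - vb 0 * hc1
  have hr : (β * m - n * β) * D = 0 := by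
    rw [hDdef]
    linear_combination (-va 1) * hc0 + va 0 * hc1
  have hln : l = n := by
    have := (mul_eq_zero.1 hp).resolve_right hD
    have h3 : α * (l - n) = 0 := by linear_combination this
    exact sub_eq_zero.1 ((mul_eq_zero.1 h3).resolve_left hα0)
  have hmn : m = n := by
    have := (mul_eq_zero.1 hr).resolve_right hD
    have h3 : β * (m - n) = 0 := by linear_combination this
    exact sub_eq_zero.1 ((mul_eq_zero.1 h3).resolve_left hβ0)
  have hM : M.val = l • (1 : Matrix (Fin 2) (Fin 2) F) :=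
    eq_smul_one_of_mulVec M.val l va vb (hDdef ▸ hD) hl.symm (by rw [← hm, hmn, hln])
  have hl0 : l ≠ 0 := by
    rintro rfl
    have : M.val *ᵥ va = 0 := by rw [← hl, zero_smul]
    have h4 : M⁻¹.val *ᵥ (M.val *ᵥ va) = va := by
      rw [Matrix.mulVec_mulVec, ← Units.val_mul, inv_mul_cancel, Units.val_one, Matrix.one_mulVec]
    rw [this, Matrix.mulVec_zero] at h4
    exact hva h4.symm
  have hMs : M = GeneralLinearGroup.scalar (Fin 2) (Units.mk0 l hl0) := by
    apply Units.ext
    rw [hM, GeneralLinearGroup.coe_scalar]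
    ext i j
    fin_cases i <;> fin_cases j <;> simp
  rw [hMs]
  exact Matrix.ProjGenLinGroup.mk_scalar _

end Cfsg.Agent.Helper5
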