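import Mathlib
import Cfsg.Agent.Lib.Helper5.SL23

set_option autoImplicit false

namespace Cfsg.Agent.Helper5

open Matrix

/-- A ring isomorphism induces an isomorphism of special linear groups. -/
def slMapEquiv {n : Type*} [DecidableEq n] [Fintype n] {R S : Type*} [CommRing R] [CommRing S]
    (e : R ≃+* S) : Matrix.SpecialLinearGroup n R ≃* Matrix.SpecialLinearGroup n S where
  toFun := Matrix.SpecialLinearGroup.map e.toRingHom
  invFun := Matrix.SpecialLinearGroup.map e.symm.toRingHom
  left_inv A := by
    ext i j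
    change e.symm (e (A.1 i j)) = A.1 i j
    simp
  right_inv A := by
    ext i j
    change e (e.symm (A.1 i j)) = A.1 i j
    simp
  map_mul' := map_mul _

theorem sl2_card_three {F : Type*} [Field F] [Fintype F] (hF : Fintype.card F = 3) :
    (∃ Q : Subgroup (Matrix.SpecialLinearGroup (Fin 2) F), Q.Normal ∧ Q.index = 3 ∧
      Nonempty (Q ≃* QuaternionGroup 2)) ∧
    Nat.card (Subgroup.center (Matrix.SpecialLinearGroup (Fin 2) F)) = 2 := by
  constructor
  · let e : ZMod 3 ≃+* F := ZMod.ringEquivOfPrime F Nat.prime_three hF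
    let φ : SL23 ≃* Matrix.SpecialLinearGroup (Fin 2) F := slMapEquiv e
    refine ⟨qHom.range.map (φ : SL23 →* Matrix.SpecialLinearGroup (Fin 2) F), ?_, ?_, ?_⟩
    · exact Subgroup.Normal.map qHom_range_normal _ φ.surjective
    · rw [Subgroup.index_map_equiv, qHom_range_index]
    · exact ⟨((φ.subgroupMap qHom.range).symm).trans (MonoidHom.ofInjective qHom_injective).symm⟩
  · rw [card_center_SL hF 2 (by norm_num)]
    rfl

end Cfsg.Agent.Helper5
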