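import Mathlib
import Cfsg.Agent.Lib.Lead.SpCard

set_option autoImplicit false
set_option linter.unusedSectionVars false
set_option linter.unusedSimpArgs false

namespace Cfsg.Agent.Helper5

open Matrix

section general

variable {R : Type*} [CommRing R] {α ι : Type*} [Fintype α] [DecidableEq α] [Fintype ι]
  [DecidableEq ι]

/-- The all-ones vector. -/
def onesVec (α : Type*) (R : Type*) [One R] : α → R := fun _ => 1

lemma permMatrix_mulVec_ones (σ : Equiv.Perm α) :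
    σ.permMatrix R *ᵥ onesVec α R = onesVec α R := by
  rw [Matrix.permMatrix_mulVec]
  rfl

lemma ones_vecMul_permMatrix (σ : Equiv.Perm α) :
    onesVec α R ᵥ* σ.permMatrix R = onesVec α R := by
  rw [Matrix.vecMul_permMatrix]
  rfl

lemma permMatrix_mul_transpose (σ : Equiv.Perm α) :
    σ.permMatrix R * (σ.permMatrix R)ᵀ = 1 := by
  rw [Matrix.transpose_permMatrix, ← Matrix.permMatrix_mul, inv_mul_cancel, Matrix.permMatrix_one]

/-- The matrix of a permutation on a subquotient of the permutation module. -/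
def permRep (Rm : Matrix ι α R) (E : Matrix α ι R) (σ : Equiv.Perm α) : Matrix ι ι R :=
  Rm * (σ⁻¹).permMatrix R * E

lemma permRep_one (Rm : Matrix ι α R) (E : Matrix α ι R) (h3 : Rm * E = 1) :
    permRep Rm E 1 = 1 := by
  rw [permRep, inv_one, Matrix.permMatrix_one, Matrix.mul_one, h3]

lemma permRep_mul (Rm : Matrix ι α R) (E : Matrix α ι R) (ℓ ν : α → R)
    (h1 : onesVec α R ᵥ* E = 0) (h2 : Rm *ᵥ onesVec α R = 0)
    (h4 : E * Rm = 1 + vecMulVec (onesVec α R) ℓ + vecMulVec ν (onesVec α R))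
    (σ τ : Equiv.Perm α) :
    permRep Rm E (σ * τ) = permRep Rm E σ * permRep Rm E τ := by
  have hA : Rm * (σ⁻¹).permMatrix R * vecMulVec (onesVec α R) ℓ = 0 := by
    rw [Matrix.mul_vecMulVec, ← Matrix.mulVec_mulVec, permMatrix_mulVec_ones, h2,
      Matrix.zero_vecMulVec]
  have hB : vecMulVec ν (onesVec α R) * ((τ⁻¹).permMatrix R * E) = 0 := by
    rw [Matrix.vecMulVec_mul, ← Matrix.vecMul_vecMul, ones_vecMul_permMatrix, h1]
    ext i j
    simp [Matrix.vecMulVec_apply]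
  calc permRep Rm E (σ * τ)
      = Rm * ((σ⁻¹).permMatrix R * (τ⁻¹).permMatrix R) * E := by
        rw [permRep, _root_.mul_inv_rev, Matrix.permMatrix_mul]
    _ = Rm * (σ⁻¹).permMatrix R * (1 + vecMulVec (onesVec α R) ℓ + vecMulVec ν (onesVec α R)) *
          ((τ⁻¹).permMatrix R * E) := by
        rw [Matrix.mul_add, Matrix.mul_add, Matrix.add_mul, Matrix.add_mul, hA, Matrix.zero_mul,
          add_zero, Matrix.mul_assoc (Rm * (σ⁻¹).permMatrix R) (vecMulVec ν (onesVec α R)), hB,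
          Matrix.mul_zero, add_zero, Matrix.mul_one]
        simp only [Matrix.mul_assoc]
    _ = permRep Rm E σ * permRep Rm E τ := by
        rw [← h4, permRep, permRep]
        simp only [Matrix.mul_assoc]

lemma permRep_form (Rm : Matrix ι α R) (E : Matrix α ι R) (G : Matrix ι ι R) (a b : α → R)
    (h2 : Rm *ᵥ onesVec α R = 0)
    (h5 : E * G * Eᵀ = 1 + vecMulVec (onesVec α R) a + vecMulVec b (onesVec α R))
    (h6 : Rm * Rmᵀ = G) (σ : Equiv.Perm α) :
    permRep Rm E σ * G * (permRep Rm E σ)ᵀ = G := by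
  have hA : Rm * (σ⁻¹).permMatrix R * vecMulVec (onesVec α R) a = 0 := by
    rw [Matrix.mul_vecMulVec, ← Matrix.mulVec_mulVec, permMatrix_mulVec_ones, h2,
      Matrix.zero_vecMulVec]
  have hB : vecMulVec b (onesVec α R) * (((σ⁻¹).permMatrix R)ᵀ * Rmᵀ) = 0 := by
    rw [Matrix.vecMulVec_mul, ← Matrix.transpose_mul, Matrix.vecMul_transpose,
      ← Matrix.mulVec_mulVec, permMatrix_mulVec_ones, h2]
    ext i j
    simp [Matrix.vecMulVec_apply]
  calc permRep Rm E σ * G * (permRep Rm E σ)ᵀ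
      = Rm * (σ⁻¹).permMatrix R * (E * G * Eᵀ) * (((σ⁻¹).permMatrix R)ᵀ * Rmᵀ) := by
        rw [permRep, Matrix.transpose_mul, Matrix.transpose_mul]
        simp only [Matrix.mul_assoc]
    _ = Rm * ((σ⁻¹).permMatrix R * ((σ⁻¹).permMatrix R)ᵀ) * Rmᵀ := by
        rw [h5, Matrix.mul_add, Matrix.mul_add, Matrix.add_mul, Matrix.add_mul, hA,
          Matrix.zero_mul, add_zero,
          Matrix.mul_assoc (Rm * (σ⁻¹).permMatrix R) (vecMulVec b (onesVec α R)), hB,
          Matrix.mul_zero, add_zero, Matrix.mul_one]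
        simp only [Matrix.mul_assoc]
    _ = G := by rw [permMatrix_mul_transpose, Matrix.mul_one, h6]

end general


section concrete

variable {ι : Type*} [Fintype ι] [DecidableEq ι]

/-- `w ↦ (w, Σ w, 0)`. -/
def embE (ι : Type*) [DecidableEq ι] : Matrix (ι ⊕ Fin 2) ι (ZMod 2) :=
  Matrix.of fun a j => Sum.elim (fun i => if i = j then 1 else 0) (fun k => if k = 0 then 1 else 0) a

/-- `u ↦ (u i + u_last)_i`. -/
def projR (ι : Type*) [DecidableEq ι] : Matrix ι (ι ⊕ Fin 2) (ZMod 2) :=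
  Matrix.of fun i b => Sum.elim (fun j => if i = j then 1 else 0) (fun k => if k = 1 then 1 else 0) b

/-- The Gram matrix `1 + all ones`. -/
def gramG (ι : Type*) [DecidableEq ι] : Matrix ι ι (ZMod 2) :=
  1 + Matrix.of fun _ _ => 1

lemma two_eq_zero_zmod : (1 : ZMod 2) + 1 = 0 := by decide

lemma embE_h1 : onesVec (ι ⊕ Fin 2) (ZMod 2) ᵥ* embE ι = 0 := by
  ext j
  simp [Matrix.vecMul, dotProduct, onesVec, embE, Fintype.sum_sum_type,
    two_eq_zero_zmod]

lemma projR_h2 : projR ι *ᵥ onesVec (ι ⊕ Fin 2) (ZMod 2) = 0 := by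
  ext i
  simp [Matrix.mulVec, dotProduct, onesVec, projR, Fintype.sum_sum_type,
    two_eq_zero_zmod]

lemma projR_mul_embE : projR ι * embE ι = 1 := by
  ext i j
  simp [Matrix.mul_apply, projR, embE, Fintype.sum_sum_type, Matrix.one_apply]

lemma projR_mul_transpose : projR ι * (projR ι)ᵀ = gramG ι := by
  ext i j
  simp [Matrix.mul_apply, projR, gramG, Fintype.sum_sum_type, Matrix.one_apply]


lemma card_cast_zmod_two (hι : Even (Fintype.card ι)) : ((Fintype.card ι : ℕ) : ZMod 2) = 0 := by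
  obtain ⟨k, hk⟩ := hι
  rw [hk, Nat.cast_add, ← two_mul]
  have : (2 : ZMod 2) = 0 := by decide
  rw [this, zero_mul]

lemma embE_mul_projR (hι : Even (Fintype.card ι)) :
    embE ι * projR ι = 1 + vecMulVec (onesVec (ι ⊕ Fin 2) (ZMod 2)) (Pi.single (Sum.inr 1) 1) +
      vecMulVec (Pi.single (Sum.inr 0) 1) (onesVec (ι ⊕ Fin 2) (ZMod 2)) := by
  have hc := card_cast_zmod_two hι
  ext a b
  rcases a with i | k <;> rcases b with j | k'
  · simp [Matrix.mul_apply, embE, projR, Matrix.vecMulVec_apply, onesVec, Matrix.one_apply]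
  · fin_cases k' <;>
      simp [Matrix.mul_apply, embE, projR, Matrix.vecMulVec_apply, onesVec, Matrix.one_apply]
  · fin_cases k <;>
      simp [Matrix.mul_apply, embE, projR, Matrix.vecMulVec_apply, onesVec, Matrix.one_apply]
  · fin_cases k <;> fin_cases k' <;>
      simp [Matrix.mul_apply, embE, projR, Matrix.vecMulVec_apply, onesVec, Matrix.one_apply, hc,
        two_eq_zero_zmod]


lemma gramG_mul_embE_transpose (hι : Even (Fintype.card ι)) :
    gramG ι * (embE ι)ᵀ = projR ι +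
      vecMulVec (onesVec ι (ZMod 2)) (onesVec (ι ⊕ Fin 2) (ZMod 2)) := by
  have hc := card_cast_zmod_two hι
  ext i b
  rcases b with j | k
  · simp [Matrix.mul_apply, gramG, embE, projR, Matrix.vecMulVec_apply, onesVec,
      Matrix.one_apply, Matrix.add_apply, add_mul, Finset.sum_add_distrib]
  · fin_cases k <;>
      simp [Matrix.mul_apply, gramG, embE, projR, Matrix.vecMulVec_apply, onesVec,
        Matrix.one_apply, Matrix.add_apply, add_mul, Finset.sum_add_distrib, hc,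
        two_eq_zero_zmod]

lemma embE_gramG (hι : Even (Fintype.card ι)) :
    embE ι * gramG ι * (embE ι)ᵀ =
      1 + vecMulVec (onesVec (ι ⊕ Fin 2) (ZMod 2)) (Pi.single (Sum.inr 1) 1) +
      vecMulVec (Pi.single (Sum.inr 0) 1 + embE ι *ᵥ onesVec ι (ZMod 2))
        (onesVec (ι ⊕ Fin 2) (ZMod 2)) := by
  rw [Matrix.mul_assoc, gramG_mul_embE_transpose hι, Matrix.mul_add, embE_mul_projR hι,
    Matrix.mul_vecMulVec, Matrix.add_vecMulVec]
  abel

end concrete


section bridge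

open Cfsg.Agent.Lead

lemma toBilin'_rows {R : Type*} [CommRing R] {ι κ : Type*} [Fintype ι] [DecidableEq ι]
    (G : Matrix ι ι R) (A : Matrix κ ι R) (x y : κ) :
    Matrix.toBilin' G (A x) (A y) = (A * G * Aᵀ) x y := by
  rw [Matrix.toBilin'_apply']
  simp only [dotProduct, Matrix.mulVec, Matrix.mul_apply, Matrix.transpose_apply, Finset.sum_mul,
    Finset.mul_sum]
  rw [Finset.sum_comm]
  apply Finset.sum_congr rfl
  intro b _
  apply Finset.sum_congr rfl
  intro a _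
  ring

lemma gramG_mul_self {ι : Type*} [Fintype ι] [DecidableEq ι] (hι : Even (Fintype.card ι)) :
    gramG ι * gramG ι = 1 := by
  have hc := card_cast_zmod_two hι
  ext i j
  simp [Matrix.mul_apply, gramG, Matrix.one_apply, Matrix.add_apply, add_mul, mul_add,
    Finset.sum_add_distrib, hc]
  by_cases h : i = j <;> simp [h, two_eq_zero_zmod]

lemma gramG_isAlt {ι : Type*} [Fintype ι] [DecidableEq ι] :
    (Matrix.toBilin' (gramG ι)).IsAlt := by
  intro v
  rw [Matrix.toBilin'_apply']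
  have h1 : gramG ι *ᵥ v = v + fun _ => ∑ k, v k := by
    ext i
    simp only [gramG, Matrix.add_mulVec, Matrix.one_mulVec, Pi.add_apply]
    congr 1
    simp [Matrix.mulVec, dotProduct]
  rw [h1, dotProduct_add]
  have h2 : ∀ x : ZMod 2, x * x = x := by decide
  simp only [dotProduct, h2, ← Finset.sum_mul]
  have h3 : ∀ x : ZMod 2, x + x = 0 := by decide
  exact h3 _


lemma even_card_sum (m : ℕ) : Even (Fintype.card (Fin m ⊕ Fin m)) := by
  rw [Fintype.card_sum, Fintype.card_fin]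
  exact ⟨m, rfl⟩

/-- A symplectic family for `G` gives a congruence from `G` to `J`. -/
lemma rowsMat_congr {m : ℕ} (G : Matrix (Fin m ⊕ Fin m) (Fin m ⊕ Fin m) (ZMod 2))
    (halt : (Matrix.toBilin' G).IsAlt)
    (p : (Fin m → (Fin m ⊕ Fin m → ZMod 2)) × (Fin m → (Fin m ⊕ Fin m → ZMod 2)))
    (hp : IsSympFam (Matrix.toBilin' G) m p) :
    rowsMat p * G * (rowsMat p)ᵀ = Matrix.J (Fin m) (ZMod 2) := by
  obtain ⟨h1, h2, h3⟩ := hp
  have hswap : ∀ u v, Matrix.toBilin' G u v = - Matrix.toBilin' G v u :=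
    fun u v => (LinearMap.IsAlt.neg halt v u).symm
  ext x y
  rw [← toBilin'_rows]
  rcases x with a | a <;> rcases y with b | b
  · rw [rowsMat_inl, rowsMat_inl, J_apply_inl_inl, h2]
  · rw [rowsMat_inl, rowsMat_inr, J_apply_inl_inr, hswap, h3]
    by_cases hab : a = b
    · simp [hab]
    · simp [hab, Ne.symm hab]
  · rw [rowsMat_inr, rowsMat_inl, J_apply_inr_inl, h3]
  · rw [rowsMat_inr, rowsMat_inr, J_apply_inr_inr, h1]

lemma exists_congr_J (m : ℕ) :
    ∃ C : Matrix (Fin m ⊕ Fin m) (Fin m ⊕ Fin m) (ZMod 2),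
      C * gramG (Fin m ⊕ Fin m) * Cᵀ = Matrix.J (Fin m) (ZMod 2) := by
  have hev := even_card_sum m
  have hdet : (gramG (Fin m ⊕ Fin m)).det ≠ 0 := by
    intro h0
    have h1 := congrArg Matrix.det (gramG_mul_self hev)
    rw [Matrix.det_mul, h0, zero_mul, Matrix.det_one] at h1
    exact zero_ne_one h1
  have hnd : (Matrix.toBilin' (gramG (Fin m ⊕ Fin m))).Nondegenerate :=
    LinearMap.BilinForm.nondegenerate_toBilin'_of_det_ne_zero' _ hdet
  have hfr : Module.finrank (ZMod 2) (Fin m ⊕ Fin m → ZMod 2) = 2 * m := by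
    rw [Module.finrank_fintype_fun_eq_card, Fintype.card_sum, Fintype.card_fin, two_mul]
  have hcard := card_sympFam (F := ZMod 2) m (Fin m ⊕ Fin m → ZMod 2)
    (Matrix.toBilin' (gramG (Fin m ⊕ Fin m))) hnd gramG_isAlt hfr
  have hpos : Nat.card {p : (Fin m → (Fin m ⊕ Fin m → ZMod 2)) × (Fin m → (Fin m ⊕ Fin m → ZMod 2)) //
      IsSympFam (Matrix.toBilin' (gramG (Fin m ⊕ Fin m))) m p} ≠ 0 := by
    rw [hcard, Nat.card_zmod]
    apply mul_ne_zero
    · exact pow_ne_zero _ (by norm_num)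
    · rw [Finset.prod_ne_zero_iff]
      intro i _
      have : 1 < 2 ^ (2 * (i + 1)) := Nat.one_lt_two_pow (by omega)
      omega
  obtain ⟨⟨p, hp⟩⟩ := (Nat.card_ne_zero.1 hpos).1
  exact ⟨rowsMat p, rowsMat_congr _ gramG_isAlt p hp⟩

end bridge


section hom

variable {m : ℕ}

/-- The representation of `Perm (ι ⊕ Fin 2)` on `ι → ZMod 2`. -/
def symRep (ι : Type*) [Fintype ι] [DecidableEq ι] (σ : Equiv.Perm (ι ⊕ Fin 2)) :
    Matrix ι ι (ZMod 2) :=
  permRep (projR ι) (embE ι) σ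

lemma symRep_one {ι : Type*} [Fintype ι] [DecidableEq ι] : symRep ι 1 = 1 :=
  permRep_one _ _ projR_mul_embE

lemma symRep_mul {ι : Type*} [Fintype ι] [DecidableEq ι] (hι : Even (Fintype.card ι))
    (σ τ : Equiv.Perm (ι ⊕ Fin 2)) : symRep ι (σ * τ) = symRep ι σ * symRep ι τ :=
  permRep_mul _ _ _ _ embE_h1 projR_h2 (embE_mul_projR hι) σ τ

lemma symRep_form {ι : Type*} [Fintype ι] [DecidableEq ι] (hι : Even (Fintype.card ι))
    (σ : Equiv.Perm (ι ⊕ Fin 2)) : symRep ι σ * gramG ι * (symRep ι σ)ᵀ = gramG ι :=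
  permRep_form _ _ _ _ _ projR_h2 (embE_gramG hι) projR_mul_transpose σ

/-- Action of `symRep` on vectors. -/
lemma symRep_mulVec {ι : Type*} [Fintype ι] [DecidableEq ι] (σ : Equiv.Perm (ι ⊕ Fin 2))
    (w : ι → ZMod 2) (i : ι) :
    (symRep ι σ *ᵥ w) i = (embE ι *ᵥ w) (σ⁻¹ (Sum.inl i)) + (embE ι *ᵥ w) (σ⁻¹ (Sum.inr 1)) := by
  rw [symRep, permRep, ← Matrix.mulVec_mulVec, ← Matrix.mulVec_mulVec, Matrix.permMatrix_mulVec]
  simp [Matrix.mulVec, dotProduct, projR, Fintype.sum_sum_type]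

/-- The homomorphism `Perm ((Fin m ⊕ Fin m) ⊕ Fin 2) → Sp_{2m}(2)`, given a congruence `C`. -/
noncomputable def symToSp (C Q : Matrix (Fin m ⊕ Fin m) (Fin m ⊕ Fin m) (ZMod 2))
    (hCQ : C * Q = 1) (hQC : Q * C = 1)
    (hC : C * gramG (Fin m ⊕ Fin m) * Cᵀ = Matrix.J (Fin m) (ZMod 2)) :
    Equiv.Perm ((Fin m ⊕ Fin m) ⊕ Fin 2) →* Matrix.symplecticGroup (Fin m) (ZMod 2) where
  toFun σ := ⟨C * symRep (Fin m ⊕ Fin m) σ * Q, by
    rw [SymplecticGroup.mem_iff]
    have hQJ : Q * Matrix.J (Fin m) (ZMod 2) * Qᵀ = gramG (Fin m ⊕ Fin m) := by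
      rw [← hC]
      calc Q * (C * gramG (Fin m ⊕ Fin m) * Cᵀ) * Qᵀ
          = (Q * C) * gramG (Fin m ⊕ Fin m) * (Q * C)ᵀ := by
            rw [Matrix.transpose_mul]; simp only [Matrix.mul_assoc]
        _ = gramG (Fin m ⊕ Fin m) := by rw [hQC, Matrix.transpose_one, Matrix.one_mul,
            Matrix.mul_one]
    calc C * symRep (Fin m ⊕ Fin m) σ * Q * Matrix.J (Fin m) (ZMod 2) *
          (C * symRep (Fin m ⊕ Fin m) σ * Q)ᵀ
        = C * (symRep (Fin m ⊕ Fin m) σ * (Q * Matrix.J (Fin m) (ZMod 2) * Qᵀ) *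
            (symRep (Fin m ⊕ Fin m) σ)ᵀ) * Cᵀ := by
          rw [Matrix.transpose_mul, Matrix.transpose_mul]; simp only [Matrix.mul_assoc]
      _ = Matrix.J (Fin m) (ZMod 2) := by
          rw [hQJ, symRep_form (even_card_sum m), hC]⟩
  map_one' := Subtype.ext (by
    change C * symRep (Fin m ⊕ Fin m) 1 * Q = 1
    rw [symRep_one, Matrix.mul_one, hCQ])
  map_mul' σ τ := Subtype.ext (by
    change C * symRep (Fin m ⊕ Fin m) (σ * τ) * Q =
      (C * symRep (Fin m ⊕ Fin m) σ * Q) * (C * symRep (Fin m ⊕ Fin m) τ * Q)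
    rw [symRep_mul (even_card_sum m)]
    calc C * (symRep (Fin m ⊕ Fin m) σ * symRep (Fin m ⊕ Fin m) τ) * Q
        = C * symRep (Fin m ⊕ Fin m) σ * 1 * symRep (Fin m ⊕ Fin m) τ * Q := by
          simp only [Matrix.mul_assoc, Matrix.one_mul]
      _ = C * symRep (Fin m ⊕ Fin m) σ * (Q * C) * symRep (Fin m ⊕ Fin m) τ * Q := by rw [hQC]
      _ = _ := by simp only [Matrix.mul_assoc])

lemma symToSp_val (C Q : Matrix (Fin m ⊕ Fin m) (Fin m ⊕ Fin m) (ZMod 2))
    (hCQ : C * Q = 1) (hQC : Q * C = 1)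
    (hC : C * gramG (Fin m ⊕ Fin m) * Cᵀ = Matrix.J (Fin m) (ZMod 2))
    (σ : Equiv.Perm ((Fin m ⊕ Fin m) ⊕ Fin 2)) :
    (symToSp C Q hCQ hQC hC σ).val = C * symRep (Fin m ⊕ Fin m) σ * Q := rfl


lemma embE_mulVec_inl {ι : Type*} [Fintype ι] [DecidableEq ι] (w : ι → ZMod 2) (j : ι) :
    (embE ι *ᵥ w) (Sum.inl j) = w j := by
  simp [Matrix.mulVec, dotProduct, embE]

lemma embE_mulVec_inr_one {ι : Type*} [Fintype ι] [DecidableEq ι] (w : ι → ZMod 2) :
    (embE ι *ᵥ w) (Sum.inr 1) = 0 := by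
  simp [Matrix.mulVec, dotProduct, embE]

/-- `symRep` is nontrivial on a suitable 3-cycle. -/
lemma symRep_three_cycle_ne_one {ι : Type*} [Fintype ι] [DecidableEq ι] (i₀ i₁ i₂ : ι)
    (h02 : i₀ ≠ i₂) :
    symRep ι (Equiv.swap (Sum.inl i₀) (Sum.inl i₁) * Equiv.swap (Sum.inl i₁) (Sum.inl i₂)) ≠ 1 := by
  intro h
  have h1 := symRep_mulVec (Equiv.swap (Sum.inl i₀) (Sum.inl i₁) *
    Equiv.swap (Sum.inl i₁) (Sum.inl i₂) : Equiv.Perm (ι ⊕ Fin 2)) (Pi.single i₂ 1) i₀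
  rw [h, Matrix.one_mulVec] at h1
  have hinv : (Equiv.swap (Sum.inl i₀) (Sum.inl i₁) *
      Equiv.swap (Sum.inl i₁) (Sum.inl i₂) : Equiv.Perm (ι ⊕ Fin 2))⁻¹ =
      Equiv.swap (Sum.inl i₁) (Sum.inl i₂) * Equiv.swap (Sum.inl i₀) (Sum.inl i₁) := by
    rw [_root_.mul_inv_rev, Equiv.swap_inv, Equiv.swap_inv]
  have ha : (Equiv.swap (Sum.inl i₁) (Sum.inl i₂) * Equiv.swap (Sum.inl i₀) (Sum.inl i₁) :
      Equiv.Perm (ι ⊕ Fin 2)) (Sum.inl i₀) = Sum.inl i₂ := by
    rw [Equiv.Perm.mul_apply, Equiv.swap_apply_left, Equiv.swap_apply_left]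
  have hb : (Equiv.swap (Sum.inl i₁) (Sum.inl i₂) * Equiv.swap (Sum.inl i₀) (Sum.inl i₁) :
      Equiv.Perm (ι ⊕ Fin 2)) (Sum.inr 1) = Sum.inr 1 := by
    have h3 : (Equiv.swap (Sum.inl i₀) (Sum.inl i₁) : Equiv.Perm (ι ⊕ Fin 2)) (Sum.inr 1) =
        Sum.inr 1 := Equiv.swap_apply_of_ne_of_ne (by simp) (by simp)
    rw [Equiv.Perm.mul_apply, h3]
    exact Equiv.swap_apply_of_ne_of_ne (by simp) (by simp)
  rw [hinv, ha, hb, embE_mulVec_inl, embE_mulVec_inr_one, Pi.single_eq_same,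
    Pi.single_eq_of_ne h02] at h1
  revert h1
  decide

lemma symToSp_injective (hm : 2 ≤ m) (C Q : Matrix (Fin m ⊕ Fin m) (Fin m ⊕ Fin m) (ZMod 2))
    (hCQ : C * Q = 1) (hQC : Q * C = 1)
    (hC : C * gramG (Fin m ⊕ Fin m) * Cᵀ = Matrix.J (Fin m) (ZMod 2)) :
    Function.Injective (symToSp C Q hCQ hQC hC) := by
  rw [← MonoidHom.ker_eq_bot_iff]
  by_contra hne
  have hnt : Nontrivial (symToSp C Q hCQ hQC hC).ker := (Subgroup.nontrivial_iff_ne_bot _).2 hne
  have hcard : 5 ≤ Nat.card ((Fin m ⊕ Fin m) ⊕ Fin 2) := by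
    rw [Nat.card_eq_fintype_card, Fintype.card_sum, Fintype.card_sum, Fintype.card_fin,
      Fintype.card_fin]
    omega
  have hle := Equiv.Perm.alternatingGroup_le_of_normal hcard hnt
  obtain ⟨c, hcdef⟩ : ∃ c : Equiv.Perm ((Fin m ⊕ Fin m) ⊕ Fin 2),
      c = Equiv.swap (Sum.inl (Sum.inl ⟨0, by omega⟩)) (Sum.inl (Sum.inl ⟨1, by omega⟩)) *
        Equiv.swap (Sum.inl (Sum.inl ⟨1, by omega⟩)) (Sum.inl (Sum.inr ⟨0, by omega⟩)) :=
    ⟨_, rfl⟩
  have hc : c ∈ alternatingGroup ((Fin m ⊕ Fin m) ⊕ Fin 2) := by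
    rw [Equiv.Perm.mem_alternatingGroup, hcdef, map_mul, Equiv.Perm.sign_swap (by simp),
      Equiv.Perm.sign_swap (by simp)]
    rfl
  have hker := hle hc
  rw [MonoidHom.mem_ker] at hker
  have h1 := congrArg Subtype.val hker
  rw [symToSp_val] at h1
  have h2 : symRep (Fin m ⊕ Fin m) c = 1 := by
    calc symRep (Fin m ⊕ Fin m) c = (Q * C) * symRep (Fin m ⊕ Fin m) c * (Q * C) := by
          rw [hQC, Matrix.one_mul, Matrix.mul_one]
      _ = Q * (C * symRep (Fin m ⊕ Fin m) c * Q) * C := by simp only [Matrix.mul_assoc]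
      _ = Q * 1 * C := by rw [h1]; rfl
      _ = 1 := by rw [Matrix.mul_one, hQC]
  rw [hcdef] at h2
  exact symRep_three_cycle_ne_one _ _ _ (by simp) h2

end hom


/-- `S_{2n}` embeds into `Sp_{2n-2}(2)` for `n ≥ 3`. -/
theorem exists_perm_to_sp_injective (n : ℕ) (hn : 3 ≤ n) :
    ∃ f : Equiv.Perm (Fin (2 * n)) →* Matrix.symplecticGroup (Fin (n - 1)) (ZMod 2),
      Function.Injective f := by
  obtain ⟨C, hC⟩ := exists_congr_J (n - 1)
  have hdetJ : IsUnit (Matrix.J (Fin (n - 1)) (ZMod 2)).det := Matrix.isUnit_det_J _ _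
  have hdetC : IsUnit C.det := by
    rw [← hC, Matrix.det_mul, Matrix.det_mul, Matrix.det_transpose] at hdetJ
    exact isUnit_of_mul_isUnit_right hdetJ
  have hCQ : C * C⁻¹ = 1 := Matrix.mul_nonsing_inv C hdetC
  have hQC : C⁻¹ * C = 1 := Matrix.nonsing_inv_mul C hdetC
  have hcard : Fintype.card (Fin (2 * n)) =
      Fintype.card ((Fin (n - 1) ⊕ Fin (n - 1)) ⊕ Fin 2) := by
    rw [Fintype.card_sum, Fintype.card_sum, Fintype.card_fin, Fintype.card_fin, Fintype.card_fin]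
    omega
  let e : Fin (2 * n) ≃ (Fin (n - 1) ⊕ Fin (n - 1)) ⊕ Fin 2 := Fintype.equivOfCardEq hcard
  refine ⟨(symToSp C C⁻¹ hCQ hQC hC).comp e.permCongrHom.toMonoidHom, ?_⟩
  exact (symToSp_injective (by omega) C C⁻¹ hCQ hQC hC).comp e.permCongrHom.injective

end Cfsg.Agent.Helper5
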