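import Mathlib
import Cfsg.Agent.Lib.Helper5.SymSp
import Cfsg.Agent.Lib.Helper5.Klein

set_option autoImplicit false
set_option linter.unusedSectionVars false
set_option linter.unusedSimpArgs false

namespace Cfsg.Agent.Helper5

open Matrix

section weight

variable {α : Type*} [Fintype α] [DecidableEq α]

/-- Hamming weight of a vector over `ZMod 2`. -/
def hamWt (u : α → ZMod 2) : ℕ := (Finset.univ.filter (fun a => u a = 1)).card

lemma hamWt_comp_perm (u : α → ZMod 2) (σ : Equiv.Perm α) : hamWt (u ∘ σ) = hamWt u := by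
  unfold hamWt
  apply Finset.card_bij (fun a _ => σ a)
  · intro a ha
    simpa using ha
  · intro a _ b _ h
    exact σ.injective h
  · intro b hb
    refine ⟨σ.symm b, ?_, by simp⟩
    simpa using hb

lemma hamWt_add_ones (u : α → ZMod 2) :
    hamWt (u + onesVec α (ZMod 2)) = Fintype.card α - hamWt u := by
  unfold hamWt
  rw [← Finset.card_compl]
  congr 1
  ext a
  simp only [Finset.mem_filter, Finset.mem_univ, true_and, Finset.mem_compl, Pi.add_apply,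
    onesVec]
  have : ∀ x : ZMod 2, x + 1 = 1 ↔ ¬ x = 1 := by decide
  simpa using this (u a)

lemma sum_eq_hamWt (u : α → ZMod 2) : ∑ a, u a = (hamWt u : ZMod 2) := by
  unfold hamWt
  rw [Finset.card_filter, Nat.cast_sum]
  apply Finset.sum_congr rfl
  intro a _
  have : ∀ x : ZMod 2, x = ((if x = 1 then 1 else 0 : ℕ) : ZMod 2) := by decide
  exact this (u a)

/-- The quadratic form `hamWt/2 mod 2` (on even-weight vectors). -/
def hamQ (u : α → ZMod 2) : ZMod 2 := ((hamWt u / 2 : ℕ) : ZMod 2)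

lemma hamQ_comp_perm (u : α → ZMod 2) (σ : Equiv.Perm α) : hamQ (u ∘ σ) = hamQ u := by
  unfold hamQ
  rw [hamWt_comp_perm]

lemma hamWt_le_card (u : α → ZMod 2) : hamWt u ≤ Fintype.card α := by
  unfold hamWt
  exact Finset.card_le_univ _

lemma hamQ_add_ones (hα : Fintype.card α = 8) (u : α → ZMod 2) (hu : ∑ a, u a = 0) :
    hamQ (u + onesVec α (ZMod 2)) = hamQ u := by
  unfold hamQ
  rw [hamWt_add_ones, hα]
  have hle := hamWt_le_card u
  rw [hα] at hle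
  rw [sum_eq_hamWt] at hu
  have hev : Even (hamWt u) := (ZMod.natCast_eq_zero_iff_even).1 hu
  obtain ⟨k, hk⟩ := hev
  have h1 : (8 - hamWt u) / 2 = 4 - k := by omega
  have h2 : hamWt u / 2 = k := by omega
  rw [h1, h2]
  have hk4 : k ≤ 4 := by omega
  interval_cases k <;> decide

end weight


section qprime

variable {ι : Type*} [Fintype ι] [DecidableEq ι]

/-- The quadratic form on `ι → ZMod 2` induced from the weight form. -/
def qPrime (w : ι → ZMod 2) : ZMod 2 := hamQ (embE ι *ᵥ w)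

lemma sum_embE_mulVec (w : ι → ZMod 2) : ∑ a, (embE ι *ᵥ w) a = 0 := by
  have h1 : ∑ a, (embE ι *ᵥ w) a = onesVec (ι ⊕ Fin 2) (ZMod 2) ⬝ᵥ (embE ι *ᵥ w) := by
    simp [dotProduct, onesVec]
  rw [h1, Matrix.dotProduct_mulVec, embE_h1, zero_dotProduct]

lemma embE_symRep_mulVec (hι : Even (Fintype.card ι)) (σ : Equiv.Perm (ι ⊕ Fin 2))
    (w : ι → ZMod 2) :
    ∃ (c : ZMod 2) (τ : Equiv.Perm (ι ⊕ Fin 2)), embE ι *ᵥ (symRep ι σ *ᵥ w) =
      (embE ι *ᵥ w) ∘ τ + c • onesVec (ι ⊕ Fin 2) (ZMod 2) := by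
  obtain ⟨τ, hτ⟩ : ∃ τ : Equiv.Perm (ι ⊕ Fin 2), τ = σ⁻¹ := ⟨_, rfl⟩
  have h1 : embE ι *ᵥ (symRep ι σ *ᵥ w) =
      (embE ι * projR ι) *ᵥ ((embE ι *ᵥ w) ∘ τ) := by
    rw [symRep, permRep, ← hτ, ← Matrix.permMatrix_mulVec (R := ZMod 2), Matrix.mulVec_mulVec,
      Matrix.mulVec_mulVec, Matrix.mulVec_mulVec]
    simp only [Matrix.mul_assoc]
  have h2 : onesVec (ι ⊕ Fin 2) (ZMod 2) ⬝ᵥ ((embE ι *ᵥ w) ∘ τ) = 0 := by
    have : onesVec (ι ⊕ Fin 2) (ZMod 2) ⬝ᵥ ((embE ι *ᵥ w) ∘ τ) =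
        ∑ a, (embE ι *ᵥ w) (τ a) := by
      simp [dotProduct, onesVec]
    rw [this, Equiv.sum_comp τ (fun a => (embE ι *ᵥ w) a), sum_embE_mulVec]
  refine ⟨(Pi.single (Sum.inr 1) 1 : ι ⊕ Fin 2 → ZMod 2) ⬝ᵥ ((embE ι *ᵥ w) ∘ τ), τ, ?_⟩
  rw [h1, embE_mul_projR hι, Matrix.add_mulVec, Matrix.add_mulVec, Matrix.one_mulVec,
    Matrix.vecMulVec_mulVec, Matrix.vecMulVec_mulVec, h2]
  simp

lemma qPrime_symRep (hι : Fintype.card ι = 6) (σ : Equiv.Perm (ι ⊕ Fin 2)) (w : ι → ZMod 2) :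
    qPrime (symRep ι σ *ᵥ w) = qPrime w := by
  have hev : Even (Fintype.card ι) := by rw [hι]; decide
  have hα : Fintype.card (ι ⊕ Fin 2) = 8 := by rw [Fintype.card_sum, hι, Fintype.card_fin]
  obtain ⟨c, τ, hc⟩ := embE_symRep_mulVec hev σ w
  unfold qPrime
  rw [hc]
  have h2 : ∑ a, ((embE ι *ᵥ w) ∘ τ) a = 0 := by
    simp only [Function.comp_apply]
    rw [Equiv.sum_comp τ (fun a => (embE ι *ᵥ w) a), sum_embE_mulVec]
  have hc01 : c = 0 ∨ c = 1 := by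
    have : ∀ x : ZMod 2, x = 0 ∨ x = 1 := by decide
    exact this c
  rcases hc01 with rfl | rfl
  · rw [zero_smul, add_zero, hamQ_comp_perm]
  · rw [one_smul, hamQ_add_ones hα _ h2, hamQ_comp_perm]

end qprime


section basis

/-- Change of basis from the hyperbolic basis to the weight coordinates. -/
def basisT : Matrix (Fin 3 ⊕ Fin 3) (Fin 3 ⊕ Fin 3) (ZMod 2) :=
  (!![0, 0, 1, 0, 0, 1;
      0, 1, 0, 0, 1, 1;
      0, 1, 1, 1, 1, 0;
      1, 1, 1, 0, 1, 0;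
      1, 0, 1, 1, 0, 0;
      1, 0, 0, 1, 1, 1] : Matrix (Fin 6) (Fin 6) (ZMod 2)).submatrix finSumFinEquiv finSumFinEquiv

/-- Its inverse. -/
def basisT' : Matrix (Fin 3 ⊕ Fin 3) (Fin 3 ⊕ Fin 3) (ZMod 2) :=
  (!![1, 1, 0, 1, 0, 0;
      0, 1, 1, 1, 0, 1;
      0, 0, 1, 1, 1, 0;
      1, 1, 1, 0, 0, 0;
      1, 0, 0, 0, 1, 1;
      1, 0, 1, 1, 1, 0] : Matrix (Fin 6) (Fin 6) (ZMod 2)).submatrix finSumFinEquiv finSumFinEquiv

set_option maxRecDepth 100000 in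
lemma basisT_mul_basisT' : basisT * basisT' = 1 := by decide +kernel

set_option maxRecDepth 100000 in
lemma basisT'_mul_basisT : basisT' * basisT = 1 := by decide +kernel

set_option maxRecDepth 100000 in
lemma qPrime_basisT : ∀ w : Fin 3 ⊕ Fin 3 → ZMod 2, qPrime (basisT *ᵥ w) = kleinQ w := by
  decide +kernel

end basis

end Cfsg.Agent.Helper5
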