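import Mathlib
import Cfsg.Prelude.Def_Classical
import Cfsg.Agent.Lib.Helper5.SymOrth
import Cfsg.Agent.Lib.Helper5.PSL
import Cfsg.Agent.Lib.Helper5.SLCard
import Cfsg.Agent.Lib.Helper5.PermEmbed
import Cfsg.Agent.Lib.Helper5.SL23b
import Cfsg.Agent.S0287

set_option autoImplicit false
set_option linter.unusedSectionVars false
set_option linter.unusedSimpArgs false

namespace Cfsg.Agent.Helper5

open Matrix

/-- A homomorphism from `Perm α` (`|α| ≥ 5`) which is nontrivial on some even permutation is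
injective. -/
lemma perm_hom_injective_of_ne_one {α : Type*} [Fintype α] [DecidableEq α] {G : Type*} [Group G]
    (f : Equiv.Perm α →* G) (hcard : 5 ≤ Nat.card α) (c : Equiv.Perm α)
    (hc : c ∈ alternatingGroup α) (hfc : f c ≠ 1) : Function.Injective f := by
  rw [← MonoidHom.ker_eq_bot_iff]
  by_contra hne
  have hnt : Nontrivial f.ker := (Subgroup.nontrivial_iff_ne_bot _).2 hne
  have hle := Equiv.Perm.alternatingGroup_le_of_normal hcard hnt
  exact hfc (MonoidHom.mem_ker.1 (hle hc))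

section alpha

/-- `Perm 8 → Mat_6(ZMod 2)` in hyperbolic coordinates. -/
def alphaMat : Equiv.Perm ((Fin 3 ⊕ Fin 3) ⊕ Fin 2) →*
    Matrix (Fin 3 ⊕ Fin 3) (Fin 3 ⊕ Fin 3) (ZMod 2) where
  toFun σ := basisT' * symRep (Fin 3 ⊕ Fin 3) σ * basisT
  map_one' := by rw [symRep_one, Matrix.mul_one, basisT'_mul_basisT]
  map_mul' σ τ := by
    rw [symRep_mul (even_card_sum 3)]
    calc basisT' * (symRep (Fin 3 ⊕ Fin 3) σ * symRep (Fin 3 ⊕ Fin 3) τ) * basisT
        = basisT' * symRep (Fin 3 ⊕ Fin 3) σ * 1 * symRep (Fin 3 ⊕ Fin 3) τ * basisT := by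
          simp only [Matrix.mul_assoc, Matrix.one_mul]
      _ = basisT' * symRep (Fin 3 ⊕ Fin 3) σ * (basisT * basisT') *
            symRep (Fin 3 ⊕ Fin 3) τ * basisT := by rw [basisT_mul_basisT']
      _ = _ := by simp only [Matrix.mul_assoc]

lemma alphaMat_apply (σ : Equiv.Perm ((Fin 3 ⊕ Fin 3) ⊕ Fin 2)) :
    alphaMat σ = basisT' * symRep (Fin 3 ⊕ Fin 3) σ * basisT := rfl

lemma kleinQ_alphaMat (σ : Equiv.Perm ((Fin 3 ⊕ Fin 3) ⊕ Fin 2)) (u : Fin 3 ⊕ Fin 3 → ZMod 2) :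
    kleinQ (alphaMat σ *ᵥ u) = kleinQ u := by
  rw [← qPrime_basisT, ← qPrime_basisT, alphaMat_apply, Matrix.mulVec_mulVec]
  have h1 : basisT * (basisT' * symRep (Fin 3 ⊕ Fin 3) σ * basisT) =
      symRep (Fin 3 ⊕ Fin 3) σ * basisT := by
    calc basisT * (basisT' * symRep (Fin 3 ⊕ Fin 3) σ * basisT)
        = (basisT * basisT') * symRep (Fin 3 ⊕ Fin 3) σ * basisT := by
          simp only [Matrix.mul_assoc]
      _ = _ := by rw [basisT_mul_basisT', Matrix.one_mul]
  rw [h1, ← Matrix.mulVec_mulVec]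
  exact qPrime_symRep (by simp) σ _

/-- `Perm 8 → O_6^+(2)`. -/
noncomputable def alphaO : Equiv.Perm ((Fin 3 ⊕ Fin 3) ⊕ Fin 2) →*
    Cfsg.isometryGroup (ZMod 2) (Cfsg.quadFormPlus 3 (ZMod 2)) :=
  (alphaMat.toHomUnits).codRestrict _ (by
    intro σ u v
    exact kleinQ_alphaMat σ u)

lemma alphaO_val (σ : Equiv.Perm ((Fin 3 ⊕ Fin 3) ⊕ Fin 2)) :
    ((alphaO σ : Matrix.GeneralLinearGroup (Fin 3 ⊕ Fin 3) (ZMod 2)) :
      Matrix (Fin 3 ⊕ Fin 3) (Fin 3 ⊕ Fin 3) (ZMod 2)) = alphaMat σ := rfl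

lemma alphaO_injective : Function.Injective alphaO := by
  apply perm_hom_injective_of_ne_one alphaO (by simp [Nat.card_eq_fintype_card])
    (Equiv.swap (Sum.inl (Sum.inl 0)) (Sum.inl (Sum.inl 1)) *
      Equiv.swap (Sum.inl (Sum.inl 1)) (Sum.inl (Sum.inr 0)))
  · rw [Equiv.Perm.mem_alternatingGroup, map_mul, Equiv.Perm.sign_swap (by simp),
      Equiv.Perm.sign_swap (by simp)]
    rfl
  · intro h
    have h1 := congrArg (fun g : Cfsg.isometryGroup (ZMod 2) (Cfsg.quadFormPlus 3 (ZMod 2)) =>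
      ((g : Matrix.GeneralLinearGroup (Fin 3 ⊕ Fin 3) (ZMod 2)) :
        Matrix (Fin 3 ⊕ Fin 3) (Fin 3 ⊕ Fin 3) (ZMod 2))) h
    simp only [alphaO_val, alphaMat_apply] at h1
    have h2 : symRep (Fin 3 ⊕ Fin 3) (Equiv.swap (Sum.inl (Sum.inl 0)) (Sum.inl (Sum.inl 1)) *
      Equiv.swap (Sum.inl (Sum.inl 1)) (Sum.inl (Sum.inr 0))) = 1 := by
      obtain ⟨S, hS⟩ : ∃ S, S = symRep (Fin 3 ⊕ Fin 3)
        (Equiv.swap (Sum.inl (Sum.inl 0)) (Sum.inl (Sum.inl 1)) *
          Equiv.swap (Sum.inl (Sum.inl 1)) (Sum.inl (Sum.inr 0))) := ⟨_, rfl⟩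
      rw [← hS] at h1 ⊢
      calc S = (basisT * basisT') * S * (basisT * basisT') := by
            rw [basisT_mul_basisT', Matrix.one_mul, Matrix.mul_one]
        _ = basisT * (basisT' * S * basisT) * basisT' := by simp only [Matrix.mul_assoc]
        _ = basisT * 1 * basisT' := by rw [h1]; rfl
        _ = 1 := by rw [Matrix.mul_one, basisT_mul_basisT']
    exact symRep_three_cycle_ne_one _ _ _ (by simp) h2

end alpha


section beta

variable (K : Type*) [Field K]

/-- The exterior square `SL_4(K) → Mat_6(K)`. -/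
def betaMat : Matrix.SpecialLinearGroup (Fin 4) K →*
    Matrix (Fin 3 ⊕ Fin 3) (Fin 3 ⊕ Fin 3) K where
  toFun A := compound2 A.val
  map_one' := compound2_one
  map_mul' A B := by
    rw [Matrix.SpecialLinearGroup.coe_mul]
    exact compound2_mul _ _

/-- The exterior square `SL_4(K) → O_6^+(K)` (Klein correspondence). -/
noncomputable def betaO : Matrix.SpecialLinearGroup (Fin 4) K →*
    Cfsg.isometryGroup K (Cfsg.quadFormPlus 3 K) :=
  ((betaMat K).toHomUnits).codRestrict _ (by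
    intro A u v
    change kleinQ (compound2 A.val *ᵥ u) = kleinQ u
    rw [kleinQ_compound2, A.2, one_mul])

lemma betaO_val (A : Matrix.SpecialLinearGroup (Fin 4) K) :
    ((betaO K A : Matrix.GeneralLinearGroup (Fin 3 ⊕ Fin 3) K) :
      Matrix (Fin 3 ⊕ Fin 3) (Fin 3 ⊕ Fin 3) K) = compound2 A.val := rfl

end beta

section final

lemma card_zmod_two : Fintype.card (ZMod 2) = 2 := ZMod.card 2

lemma center_SL4_eq_bot {F : Type*} [Field F] [Fintype F] (hF : Fintype.card F = 2) :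
    Subgroup.center (Matrix.SpecialLinearGroup (Fin 4) F) = ⊥ := by
  apply Subgroup.eq_bot_of_card_eq
  rw [card_center_SL hF 4 (by norm_num)]
  rfl

/-- `SL_4(F) ≃* PSL_4(F)` when `|F| = 2`. -/
noncomputable def sl4EquivPSL4 {F : Type*} [Field F] [Fintype F] (hF : Fintype.card F = 2) :
    Matrix.ProjectiveSpecialLinearGroup (Fin 4) F ≃* Matrix.SpecialLinearGroup (Fin 4) F :=
  (QuotientGroup.quotientMulEquivOfEq (center_SL4_eq_bot hF)).trans QuotientGroup.quotientBot

lemma isSimpleGroup_SL4 : IsSimpleGroup (Matrix.SpecialLinearGroup (Fin 4) (ZMod 2)) := by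
  have h1 : IsSimpleGroup (Matrix.ProjectiveSpecialLinearGroup (Fin 4) (ZMod 2)) :=
    psl_isSimpleGroup (by simp)
  have : Nontrivial (Matrix.SpecialLinearGroup (Fin 4) (ZMod 2)) :=
    (sl4EquivPSL4 card_zmod_two).symm.toEquiv.nontrivial
  exact IsSimpleGroup.isSimpleGroup_of_surjective
    (sl4EquivPSL4 card_zmod_two).toMonoidHom (sl4EquivPSL4 card_zmod_two).surjective

set_option maxRecDepth 100000 in
lemma compound2_transvection_ne_one :
    compound2 (Matrix.transvection (0 : Fin 4) 1 (1 : ZMod 2)) ≠ 1 := by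
  decide +kernel

lemma betaO_injective : Function.Injective (betaO (ZMod 2)) := by
  have := isSimpleGroup_SL4
  rw [← MonoidHom.ker_eq_bot_iff]
  rcases (betaO (ZMod 2)).normal_ker.eq_bot_or_eq_top with h | h
  · exact h
  · exfalso
    have hdet : (Matrix.transvection (0 : Fin 4) 1 (1 : ZMod 2)).det = 1 :=
      Matrix.det_transvection_of_ne 0 1 (by decide) 1
    obtain ⟨A, hA⟩ : ∃ A : Matrix.SpecialLinearGroup (Fin 4) (ZMod 2),
        A.val = Matrix.transvection (0 : Fin 4) 1 (1 : ZMod 2) := ⟨⟨_, hdet⟩, rfl⟩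
    have hmem : A ∈ (betaO (ZMod 2)).ker := by rw [h]; exact Subgroup.mem_top _
    rw [MonoidHom.mem_ker] at hmem
    have h1 := congrArg (fun g : Cfsg.isometryGroup (ZMod 2) (Cfsg.quadFormPlus 3 (ZMod 2)) =>
      ((g : Matrix.GeneralLinearGroup (Fin 3 ⊕ Fin 3) (ZMod 2)) :
        Matrix (Fin 3 ⊕ Fin 3) (Fin 3 ⊕ Fin 3) (ZMod 2))) hmem
    simp only [betaO_val, hA] at h1
    exact compound2_transvection_ne_one h1

lemma card_isometry_plus : Nat.card (Cfsg.isometryGroup (ZMod 2) (Cfsg.quadFormPlus 3 (ZMod 2))) =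
    40320 := by
  rw [Cfsg.Agent.S0287.result card_zmod_two 3 (by norm_num)]
  simp [Finset.prod_range_succ]

lemma card_SL4 : Nat.card (Matrix.SpecialLinearGroup (Fin 4) (ZMod 2)) = 20160 := by
  have h := card_SL_mul card_zmod_two 4 (by norm_num)
  obtain ⟨N, hN⟩ : ∃ N, N = Nat.card (Matrix.SpecialLinearGroup (Fin 4) (ZMod 2)) := ⟨_, rfl⟩
  rw [← hN] at h ⊢
  rw [Fin.prod_univ_four] at h
  simp only [Fin.val_zero, Fin.val_one, Fin.val_two] at h
  have h3 : ((3 : Fin 4) : ℕ) = 3 := rfl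
  rw [h3] at h
  norm_num at h
  exact h

theorem sl4_equiv_alternating :
    Nonempty (Matrix.SpecialLinearGroup (Fin 4) (ZMod 2) ≃* alternatingGroup (Fin 8)) := by
  have hbij : Function.Bijective alphaO := by
    rw [Nat.bijective_iff_injective_and_card]
    refine ⟨alphaO_injective, ?_⟩
    rw [card_isometry_plus, Nat.card_eq_fintype_card, Fintype.card_perm]
    simp
    rfl
  let eO := MulEquiv.ofBijective alphaO hbij
  let φ : Matrix.SpecialLinearGroup (Fin 4) (ZMod 2) →*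
      Equiv.Perm ((Fin 3 ⊕ Fin 3) ⊕ Fin 2) := eO.symm.toMonoidHom.comp (betaO (ZMod 2))
  have hφ : Function.Injective φ := eO.symm.injective.comp betaO_injective
  apply equiv_alternating_of_injective φ hφ 8
  · simp [Nat.card_eq_fintype_card]
  · rw [card_SL4]
    rfl

theorem psl4_two_equiv_alternating {F : Type*} [Field F] [Fintype F] (hF : Fintype.card F = 2) :
    Nonempty (Matrix.ProjectiveSpecialLinearGroup (Fin 4) F ≃* alternatingGroup (Fin 8)) := by
  obtain ⟨e⟩ := sl4_equiv_alternating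
  let r : ZMod 2 ≃+* F := ZMod.ringEquivOfPrime F Nat.prime_two hF
  exact ⟨((sl4EquivPSL4 hF).trans (slMapEquiv r.symm)).trans e⟩

end final

end Cfsg.Agent.Helper5
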