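import Mathlib
import Cfsg.Agent.Lib.Helper5.PSUGr12
import Cfsg.Agent.Lib.Helper43.SplitCount

/-!
# Splitting of `Inndiag`-classes of `PSU_n(q)` into `PSU`-classes: the determinant framework
-/

set_option autoImplicit false
set_option linter.unusedSectionVars false
set_option linter.unusedSimpArgs false

namespace Cfsg.Agent.Helper5.PSUSplit

open Matrix Cfsg.Agent.Helper13.PSLAut Cfsg.Agent.Helper5 Cfsg.Agent.Helper5.PSUAut
  Cfsg.Agent.Helper5.PSUGr

variable {F : Type*} [Field F] [Fintype F] {n q : ℕ} (hF : Fintype.card F = q ^ 2)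

/-- the norm-one subgroup of `Fˣ` -/
def mu (q : ℕ) (F : Type*) [Field F] : Subgroup Fˣ := (powMonoidHom (q + 1) : Fˣ →* Fˣ).ker

omit [Fintype F] in
theorem mem_mu (x : Fˣ) : x ∈ mu q F ↔ (x : F) ^ (q + 1) = 1 := by
  unfold mu
  rw [MonoidHom.mem_ker, powMonoidHom_apply]
  constructor
  · intro h
    rw [← Units.val_pow_eq_pow_val, h, Units.val_one]
  · intro h
    apply Units.ext
    rw [Units.val_pow_eq_pow_val, h, Units.val_one]

include hF in
theorem card_mu : Nat.card (mu q F) = q + 1 := by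
  classical
  unfold mu
  rw [IsCyclic.card_powMonoidHom_ker, Nat.card_units, Nat.card_eq_fintype_card, hF,
    sq_sub_one_eq (two_le_q hF)]
  exact Nat.gcd_mul_left_left (q - 1) (q + 1)

include hF in
theorem det_pow_of_mem_GU (g : GL (Fin n) F) (hg : g ∈ Cfsg.GU n F q) :
    (g : Matrix (Fin n) (Fin n) F).det ^ (q + 1) = 1 := by
  have h1 := gram_of_mem_GU hF g hg
  unfold PSUGr.gram at h1
  have h2 := congrArg Matrix.det h1
  rw [Matrix.det_mul, Matrix.det_transpose, Matrix.det_one] at h2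
  have h3 : ((g : Matrix (Fin n) (Fin n) F).map (sigmaQ hF)).det =
      (g : Matrix (Fin n) (Fin n) F).det ^ q := by
    rw [← sigmaQ_apply hF]
    exact (RingHom.map_det ((sigmaQ hF : F ≃+* F) : F →+* F) _).symm
  rw [h3, ← pow_succ'] at h2
  exact h2

/-- the determinant `GU → μ` -/
noncomputable def detGU (hF : Fintype.card F = q ^ 2) : ↥(Cfsg.GU n F q) →* ↥(mu q F) :=
  (Matrix.GeneralLinearGroup.det.comp (Cfsg.GU n F q).subtype).codRestrict (mu q F) (fun g => by
    rw [mem_mu]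
    show ((Matrix.GeneralLinearGroup.det g.1 : Fˣ) : F) ^ (q + 1) = 1
    rw [Matrix.GeneralLinearGroup.val_det_apply]
    exact det_pow_of_mem_GU hF g.1 g.2)

theorem detGU_coe (g : ↥(Cfsg.GU n F q)) :
    (((detGU hF g : ↥(mu q F)) : Fˣ) : F) = (g.1 : Matrix (Fin n) (Fin n) F).det := by
  show ((Matrix.GeneralLinearGroup.det g.1 : Fˣ) : F) = _
  rw [Matrix.GeneralLinearGroup.val_det_apply]

/-- determinant modulo `n`-th powers -/
noncomputable def deltaU (hF : Fintype.card F = q ^ 2) :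
    ↥(Cfsg.GU n F q) →* ↥(mu q F) ⧸ (powMonoidHom n : ↥(mu q F) →* ↥(mu q F)).range :=
  (QuotientGroup.mk' _).comp (detGU hF)

/-- the conjugation action of `GU` on `PSU` -/
noncomputable def PsiU : ↥(Cfsg.GU n F q) →* MulAut (Cfsg.PSU n F q) :=
  (PhiU (F := F) (n := n) (q := q)).comp (Subgroup.inclusion GU_le_CU)

omit [Fintype F] in
theorem PsiU_apply (g : ↥(Cfsg.GU n F q)) :
    PsiU g = PhiU (⟨g.1, GU_le_CU g.2⟩ : ↥(CU n F q)) := rfl

omit [Fintype F] in
theorem PsiU_range : (PsiU (F := F) (n := n) (q := q)).range = Cfsg.inndiagPSU n F q := by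
  ext x
  rw [mem_inndiagPSU_iff]
  constructor
  · rintro ⟨g, rfl⟩
    exact ⟨⟨g.1, GU_le_CU g.2⟩, g.2, rfl⟩
  · rintro ⟨g, hg, rfl⟩
    exact ⟨⟨g.1, hg⟩, rfl⟩

/-- the diagonal matrix `diag(ζ, 1, …, 1)` -/
noncomputable def dOne (hn : 0 < n) (ζ : Fˣ) : GL (Fin n) F :=
  Matrix.GeneralLinearGroup.mkOfDetNeZero
    (Matrix.diagonal (Function.update (fun _ : Fin n => (1 : F)) ⟨0, hn⟩ (ζ : F))) (by
      rw [Matrix.det_diagonal, Finset.prod_update_of_mem (Finset.mem_univ _)]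
      simp)

omit [Fintype F] in
theorem dOne_det (hn : 0 < n) (ζ : Fˣ) :
    ((dOne hn ζ : GL (Fin n) F) : Matrix (Fin n) (Fin n) F).det = ζ := by
  show (Matrix.diagonal (Function.update (fun _ : Fin n => (1 : F)) ⟨0, hn⟩ (ζ : F))).det = ζ
  rw [Matrix.det_diagonal, Finset.prod_update_of_mem (Finset.mem_univ _)]
  simp

include hF in
theorem dOne_mem (hn : 0 < n) (ζ : Fˣ) (hζ : ζ ∈ mu q F) : dOne hn ζ ∈ Cfsg.GU n F q := by
  apply mem_GU_of_matrix (sigmaQ hF) (sigmaQ_apply hF)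
  show (Matrix.diagonal (Function.update (fun _ : Fin n => (1 : F)) ⟨0, hn⟩ (ζ : F)))ᵀ *
    (Matrix.diagonal (Function.update (fun _ : Fin n => (1 : F)) ⟨0, hn⟩ (ζ : F))).map
      (sigmaQ hF) = 1
  rw [Matrix.diagonal_transpose, Matrix.diagonal_map (map_zero _), Matrix.diagonal_mul_diagonal,
    ← Matrix.diagonal_one]
  congr 1
  ext i
  by_cases hi : i = ⟨0, hn⟩
  · subst hi
    simp only [Function.update_self, Function.comp]
    rw [sigmaQ_apply, ← pow_succ']
    exact (mem_mu ζ).1 hζ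
  · simp only [Function.update_of_ne hi, Function.comp, map_one, mul_one]

theorem deltaU_surjective (hn : 0 < n) : Function.Surjective (deltaU (n := n) hF) := by
  intro x
  induction x using QuotientGroup.induction_on with
  | H a =>
    refine ⟨⟨dOne hn a.1, dOne_mem hF hn a.1 a.2⟩, ?_⟩
    show (QuotientGroup.mk (detGU hF _) : ↥(mu q F) ⧸ _) = _
    congr 1
    apply Subtype.ext
    apply Units.ext
    rw [detGU_coe]
    exact dOne_det hn a.1

theorem mem_ker_deltaU (g : ↥(Cfsg.GU n F q)) :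
    g ∈ (deltaU (n := n) hF).ker ↔
      ∃ b : Fˣ, b ∈ mu q F ∧ (g.1 : Matrix (Fin n) (Fin n) F).det = (b : F) ^ n := by
  rw [MonoidHom.mem_ker]
  show (QuotientGroup.mk (detGU hF g) : ↥(mu q F) ⧸ _) = 1 ↔ _
  rw [QuotientGroup.eq_one_iff]
  constructor
  · rintro ⟨b, hb⟩
    refine ⟨b.1, b.2, ?_⟩
    have := congrArg (fun x : ↥(mu q F) => ((x : Fˣ) : F)) hb
    simp only [powMonoidHom_apply, Subgroup.coe_pow, Units.val_pow_eq_pow_val] at this
    rw [detGU_coe] at this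
    exact this.symm
  · rintro ⟨b, hbm, hb⟩
    refine ⟨⟨b, hbm⟩, ?_⟩
    apply Subtype.ext
    apply Units.ext
    rw [powMonoidHom_apply, Subgroup.coe_pow, Units.val_pow_eq_pow_val, detGU_coe, hb]

end Cfsg.Agent.Helper5.PSUSplit
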