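import Mathlib
import Cfsg.Agent.Lib.Helper5.PSUSplit1

/-!
# `Inn(PSU)` as the image of the determinant-`n`-th-power subgroup, and the class count
-/

set_option autoImplicit false
set_option linter.unusedSectionVars false
set_option linter.unusedSimpArgs false

namespace Cfsg.Agent.Helper5.PSUSplit

open Matrix Cfsg.Agent.Helper13.PSLAut Cfsg.Agent.Helper5 Cfsg.Agent.Helper5.PSUAut
  Cfsg.Agent.Helper5.PSUGr

variable {F : Type*} [Field F] [Fintype F] {n q : ℕ} (hF : Fintype.card F = q ^ 2)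

omit [Fintype F] in
theorem toGL_mem_GU (s : ↥(Cfsg.SU n F q)) :
    Matrix.SpecialLinearGroup.toGL s.1 ∈ Cfsg.GU n F q := by
  rw [mem_GU_iff]
  exact (Cfsg.Agent.Helper5.mem_SU_iff s.1).1 s.2

omit [Fintype F] in
/-- inner automorphisms are induced by matrices -/
theorem conj_eq_PhiU (s : ↥(Cfsg.SU n F q)) :
    MulAut.conj (QuotientGroup.mk s : Cfsg.PSU n F q) =
      PhiU (⟨Matrix.SpecialLinearGroup.toGL s.1, GU_le_CU (toGL_mem_GU s)⟩ : ↥(CU n F q)) := by
  apply MulEquiv.ext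
  intro x
  induction x using QuotientGroup.induction_on with
  | H t =>
    rw [MulAut.conj_apply, PhiU_mk, ← QuotientGroup.mk_inv, ← QuotientGroup.mk_mul,
      ← QuotientGroup.mk_mul]
    congr 1

/-- `Inn(PSU_n)` is the image of the unitary matrices whose determinant is an `n`-th power in `μ` -/
theorem inn_eq_map (hn : 3 ≤ n) (h32 : ¬ (n = 3 ∧ q = 2)) :
    Cfsg.Inn (Cfsg.PSU n F q) = (deltaU (n := n) hF).ker.map PsiU := by
  ext β
  rw [Subgroup.mem_map]
  constructor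
  · rintro ⟨x, rfl⟩
    induction x using QuotientGroup.induction_on with
    | H s =>
      refine ⟨⟨Matrix.SpecialLinearGroup.toGL s.1, toGL_mem_GU s⟩, ?_, ?_⟩
      · rw [mem_ker_deltaU]
        refine ⟨1, Subgroup.one_mem _, ?_⟩
        rw [Units.val_one, one_pow]
        exact s.1.2
      · rw [PsiU_apply]
        exact (conj_eq_PhiU s).symm
  · rintro ⟨g, hg, rfl⟩
    rw [mem_ker_deltaU] at hg
    obtain ⟨b, hbm, hb⟩ := hg
    have hbq : (b : F) ^ (q + 1) = 1 := (mem_mu b).1 hbm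
    have hdet : (((b⁻¹ : Fˣ) : F) • (g.1 : Matrix (Fin n) (Fin n) F)).det = 1 := by
      rw [Matrix.det_smul, Fintype.card_fin, hb, ← mul_pow, ← Units.val_mul, inv_mul_cancel,
        Units.val_one, one_pow]
    set s0 : Matrix.SpecialLinearGroup (Fin n) F :=
      ⟨((b⁻¹ : Fˣ) : F) • (g.1 : Matrix (Fin n) (Fin n) F), hdet⟩ with hs0
    have hs0m : s0 ∈ Cfsg.SU n F q := by
      rw [Cfsg.Agent.Helper5.mem_SU_iff]
      intro u v
      have hg2 := (mem_GU_iff g.1).1 g.2 u v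
      show Cfsg.hermForm n F q ((((b⁻¹ : Fˣ) : F) • (g.1 : Matrix (Fin n) (Fin n) F)) *ᵥ u)
        ((((b⁻¹ : Fˣ) : F) • (g.1 : Matrix (Fin n) (Fin n) F)) *ᵥ v) = _
      rw [Matrix.smul_mulVec, Matrix.smul_mulVec, ← hg2]
      unfold Cfsg.hermForm
      simp only [Pi.smul_apply, smul_eq_mul, mul_pow]
      rw [Finset.sum_congr rfl (fun i _ => show
        ((b⁻¹ : Fˣ) : F) * ((g.1 : Matrix (Fin n) (Fin n) F) *ᵥ u) i *
          (((b⁻¹ : Fˣ) : F) ^ q * ((g.1 : Matrix (Fin n) (Fin n) F) *ᵥ v) i ^ q) =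
        (((b⁻¹ : Fˣ) : F) ^ (q + 1)) * (((g.1 : Matrix (Fin n) (Fin n) F) *ᵥ u) i *
          ((g.1 : Matrix (Fin n) (Fin n) F) *ᵥ v) i ^ q) by ring), ← Finset.mul_sum]
      have : ((b⁻¹ : Fˣ) : F) ^ (q + 1) = 1 := by
        rw [Units.val_inv_eq_inv_val, inv_pow, hbq, inv_one]
      rw [this, one_mul]
    refine ⟨QuotientGroup.mk ⟨s0, hs0m⟩, ?_⟩
    rw [conj_eq_PhiU, PsiU_apply]
    symm
    rw [PhiU_eq_iff hF hn h32, Cfsg.Geo.mem_scalars_iff]
    refine ⟨b⁻¹, ?_⟩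
    rw [Units.val_mul]
    show (((g.1)⁻¹ : GL (Fin n) F) : Matrix (Fin n) (Fin n) F) *
      (((b⁻¹ : Fˣ) : F) • (g.1 : Matrix (Fin n) (Fin n) F)) = _
    rw [Matrix.mul_smul, ← Units.val_mul, inv_mul_cancel, Units.val_one]

/-- the number of `PSU`-classes in the `Inndiag`-class of `γ` -/
theorem count_eq (hn : 3 ≤ n) (h32 : ¬ (n = 3 ∧ q = 2)) (γ : MulAut (Cfsg.PSU n F q)) :
    Cfsg.splitClassCount (Cfsg.inndiagPSU n F q) (Cfsg.Inn (Cfsg.PSU n F q)) γ =
      (((Subgroup.centralizer {γ}).comap (PsiU (F := F) (n := n) (q := q))).map (detGU hF) ⊔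
        (powMonoidHom n : ↥(mu q F) →* ↥(mu q F)).range).index := by
  have hn0 : 0 < n := by omega
  rw [← PsiU_range, inn_eq_map hF hn h32,
    Cfsg.Agent.Helper43.SplitCount.splitClassCount_eq_index PsiU (deltaU (n := n) hF)
      (deltaU_surjective hF hn0)]
  have h1 : ((Subgroup.centralizer {γ}).comap (PsiU (F := F) (n := n) (q := q))).map
      (deltaU (n := n) hF) =
      (((Subgroup.centralizer {γ}).comap (PsiU (F := F) (n := n) (q := q))).map (detGU hF)).map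
        (QuotientGroup.mk' (powMonoidHom n : ↥(mu q F) →* ↥(mu q F)).range) := by
    rw [Subgroup.map_map]
    rfl
  rw [h1, Subgroup.index_map, QuotientGroup.ker_mk',
    MonoidHom.range_eq_top.2 (QuotientGroup.mk'_surjective _), Subgroup.index_top, mul_one]

include hF in
theorem index_pow_mu (k : ℕ) :
    (powMonoidHom k : ↥(mu q F) →* ↥(mu q F)).range.index = Nat.gcd (q + 1) k := by
  classical
  rw [IsCyclic.index_powMonoidHom_range, card_mu hF]

omit [Fintype F] in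
theorem pow_range_le_mu {k l : ℕ} (h : k ∣ l) :
    (powMonoidHom l : ↥(mu q F) →* ↥(mu q F)).range ≤
      (powMonoidHom k : ↥(mu q F) →* ↥(mu q F)).range := by
  rintro _ ⟨x, rfl⟩
  obtain ⟨d, rfl⟩ := h
  exact ⟨x ^ d, by rw [powMonoidHom_apply, powMonoidHom_apply, ← pow_mul, mul_comm]⟩

end Cfsg.Agent.Helper5.PSUSplit
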