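import Mathlib
import Cfsg.Agent.Lib.Helper5.PSUSplit2
import Cfsg.Agent.Lib.Helper13.SimForms

/-!
# The unitary matrices inducing elements of the centralizer of `gamU a`
-/

set_option autoImplicit false
set_option linter.unusedSectionVars false
set_option linter.unusedSimpArgs false

namespace Cfsg.Agent.Helper5.PSUSplit

open Matrix Cfsg.Agent.Helper13.PSLAut Cfsg.Agent.Helper5 Cfsg.Agent.Helper5.PSUAut
  Cfsg.Agent.Helper5.PSUGr

variable {F : Type*} [Field F] [Fintype F] {n q : ℕ} (hF : Fintype.card F = q ^ 2)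
  {F₀ : Type*} [Field F₀] [Fintype F₀] (hF₀ : Fintype.card F₀ = q) (ι₀ : F₀ →+* F)

include hF hF₀ in
/-- the image of the similarity group of `S₀` is the whole centralizer (extracted from `cent_gamU_equiv`) -/
theorem range_thetaD (hn : 3 ≤ n) (h32 : ¬ (n = 3 ∧ q = 2)) {D : GL (Fin n) F}
    {S₀ : Matrix (Fin n) (Fin n) F₀} {η : F} (hη : η ≠ 0) (hS₀ : S₀ ≠ 0)
    (hdat : IsDatum hF ι₀ D S₀ η) (a : ↥(CU n F q)) (ha : a.1 = aOf hF D)
    (N : Subgroup (GL (Fin n) F₀))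
    (hN : ∀ k : GL (Fin n) F₀, k ∈ N ↔ ∃ c : F₀ˣ,
      (k : Matrix (Fin n) (Fin n) F₀)ᵀ * S₀ * (k : Matrix (Fin n) (Fin n) F₀) = (c : F₀) • S₀) :
    ((PhiU (F := F) (n := n) (q := q)).comp ((thetaD ι₀ D N).codRestrict (CU n F q)
      (fun k => thetaD_mem_CU hF hF₀ ι₀ hdat N hN k))).range =
      Cfsg.inndiagPSU n F q ⊓ Subgroup.centralizer {gamU hF a} := by
  have hn0 : 0 < n := by omega
  let thetaCU : ↥N →* ↥(CU n F q) := (thetaD ι₀ D N).codRestrict (CU n F q)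
    (fun k => thetaD_mem_CU hF hF₀ ι₀ hdat N hN k)
  let ψ : ↥N →* MulAut (Cfsg.PSU n F q) := (PhiU (F := F) (n := n) (q := q)).comp thetaCU
  have hval : ∀ k : ↥N, (thetaCU k).1 = D * Matrix.GeneralLinearGroup.map ι₀ k.1 * D⁻¹ :=
    fun k => rfl
  show ψ.range = _
  ext x
  constructor
  · rintro ⟨k, rfl⟩
    refine ⟨PhiU_mem_inndiag hF hn h32 _, ?_⟩
    show PhiU (thetaCU k) ∈ Subgroup.centralizer {gamU hF a}
    rw [mem_centralizer_gamU_iff hF hn h32, sigmaCU_val', hval, ha]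
    have e : (aOf hF D * sG hF (D * Matrix.GeneralLinearGroup.map ι₀ k.1 * D⁻¹))⁻¹ *
        (D * Matrix.GeneralLinearGroup.map ι₀ k.1 * D⁻¹ * aOf hF D) = 1 := by
      unfold aOf
      rw [map_mul, map_mul, map_inv, sG_emb hF hF₀ ι₀]
      group
    rw [e]
    exact Subgroup.one_mem _
  · rintro ⟨h1, h3⟩
    obtain ⟨g, hgGU, rfl⟩ := (mem_inndiagPSU_iff x).1 h1
    replace h3 : PhiU g ∈ Subgroup.centralizer {gamU hF a} := h3
    rw [mem_centralizer_gamU_iff hF hn h32, sigmaCU_val', ha] at h3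
    obtain ⟨lam, hlam⟩ := h3
    have hz : (aOf hF D * sG hF g.1)⁻¹ * (g.1 * aOf hF D) = scGL n lam := hlam.symm
    -- the twisted-fixed element
    set K : GL (Fin n) F := D⁻¹ * g.1 * D with hK
    have hsGg : sG hF g.1 = (aOf hF D)⁻¹ * g.1 * aOf hF D * scGL n lam⁻¹ := by
      have h4 : g.1 * aOf hF D = aOf hF D * sG hF g.1 * scGL n lam := by
        rw [← hz]; group
      have h5 : scGL n lam * scGL n lam⁻¹ = (1 : GL (Fin n) F) := by
        unfold scGL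
        rw [← map_mul, mul_inv_cancel, map_one]
      have h6 : (aOf hF D)⁻¹ * (aOf hF D * sG hF g.1 * scGL n lam) * scGL n lam⁻¹ =
          sG hF g.1 * (scGL n lam * scGL n lam⁻¹) := by group
      calc sG hF g.1 = (aOf hF D)⁻¹ * (aOf hF D * sG hF g.1 * scGL n lam) * scGL n lam⁻¹ := by
            rw [h6, h5, mul_one]
        _ = _ := by rw [← h4]; group
    have hKfix : sG hF K = K * scGL n lam⁻¹ := by
      rw [hK, map_mul, map_mul, map_inv, hsGg]
      have hc := scGL_comm (sG hF D) lam⁻¹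
      unfold aOf
      calc (sG hF D)⁻¹ * ((D * (sG hF D)⁻¹)⁻¹ * g.1 * (D * (sG hF D)⁻¹) * scGL n lam⁻¹) * sG hF D
          = D⁻¹ * g.1 * D * (sG hF D)⁻¹ * (scGL n lam⁻¹ * sG hF D) := by group
        _ = D⁻¹ * g.1 * D * (sG hF D)⁻¹ * (sG hF D * scGL n lam⁻¹) := by rw [hc]
        _ = _ := by group
    obtain ⟨μ, k, hk⟩ := exists_GL_descent hF hF₀ ι₀ hn0 K lam⁻¹ hKfix
    -- `k` is a similarity of `S₀`
    have hKm : (K : Matrix (Fin n) (Fin n) F).map (sigmaQ hF) =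
        ((lam⁻¹ : Fˣ) : F) • (K : Matrix (Fin n) (Fin n) F) := by
      rw [← sG_coe, hKfix, mul_scGL_coe]
    have hKval : (K : Matrix (Fin n) (Fin n) F) =
        ((D⁻¹ : GL (Fin n) F) : Matrix (Fin n) (Fin n) F) *
          (g.1 : Matrix (Fin n) (Fin n) F) * (D : Matrix (Fin n) (Fin n) F) := rfl
    have hgram : gram hF (g.1 : Matrix (Fin n) (Fin n) F) =
        (1 : F) • (1 : Matrix (Fin n) (Fin n) F) := by
      rw [one_smul]; exact gram_of_mem_GU hF g.1 hgGU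
    have htw := twist_of_gram hF D _ 1 hgram
    rw [← hKval, hKm, one_smul, hdat] at htw
    have hlam0 : ((lam⁻¹ : Fˣ) : F) ≠ 0 := Units.ne_zero _
    have hKSK : (K : Matrix (Fin n) (Fin n) F)ᵀ * S₀.map ι₀ * (K : Matrix (Fin n) (Fin n) F) =
        (lam : F) • S₀.map ι₀ := by
      have h6 : (η * ((lam⁻¹ : Fˣ) : F)) •
          ((K : Matrix (Fin n) (Fin n) F)ᵀ * S₀.map ι₀ * (K : Matrix (Fin n) (Fin n) F)) =
          η • S₀.map ι₀ := by
        rw [← htw]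
        simp only [Matrix.mul_smul, Matrix.smul_mul, smul_smul]
        rw [mul_comm]
      have h7 := congrArg (fun M : Matrix (Fin n) (Fin n) F => (η⁻¹ * (lam : F)) • M) h6
      simp only [smul_smul] at h7
      have e1 : η⁻¹ * (lam : F) * (η * ((lam⁻¹ : Fˣ) : F)) = 1 := by
        rw [Units.val_inv_eq_inv_val]
        field_simp
      have e2 : η⁻¹ * (lam : F) * η = (lam : F) := by field_simp
      rw [e1, e2, one_smul] at h7
      exact h7
    have hkm : (k : Matrix (Fin n) (Fin n) F₀).map ι₀ =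
        (μ : F) • (K : Matrix (Fin n) (Fin n) F) := by
      rw [← emb_coe, hk, mul_scGL_coe]
    have hkS : ((k : Matrix (Fin n) (Fin n) F₀)ᵀ * S₀ * (k : Matrix (Fin n) (Fin n) F₀)).map ι₀ =
        ((μ : F) * μ * lam) • S₀.map ι₀ := by
      rw [Matrix.map_mul, Matrix.map_mul, Matrix.transpose_map, hkm, Matrix.transpose_smul]
      simp only [Matrix.mul_smul, Matrix.smul_mul, smul_smul]
      rw [hKSK, smul_smul]
    have ht0 : (μ : F) * μ * lam ≠ 0 :=
      mul_ne_zero (mul_ne_zero μ.ne_zero μ.ne_zero) lam.ne_zero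
    obtain ⟨r, hr0, hr⟩ := scalar_descends ι₀ _ S₀ _ ht0 hS₀ hkS
    have hkN : k ∈ N := (hN k).2 ⟨Units.mk0 r hr0, hr⟩
    refine ⟨⟨k, hkN⟩, ?_⟩
    show PhiU (thetaCU ⟨k, hkN⟩) = PhiU g
    symm
    rw [PhiU_eq_iff hF hn h32, hval]
    show (g.1)⁻¹ * (D * Matrix.GeneralLinearGroup.map ι₀ k * D⁻¹) ∈ _
    rw [hk, hK]
    have hc := scGL_comm (D⁻¹ : GL (Fin n) F) μ
    have e : (g.1)⁻¹ * (D * (D⁻¹ * g.1 * D * scGL n μ) * D⁻¹) = scGL n μ := by
      calc (g.1)⁻¹ * (D * (D⁻¹ * g.1 * D * scGL n μ) * D⁻¹)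
          = D * (scGL n μ * D⁻¹) := by group
        _ = D * (D⁻¹ * scGL n μ) := by rw [hc]
        _ = _ := by group
    rw [e]
    exact scGL_mem μ

end Cfsg.Agent.Helper5.PSUSplit
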