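import Mathlib
import Cfsg.Agent.Lib.Helper5.PSUSplit3

/-!
# Determinants of the unitary matrices centralizing `gamU a`
-/

set_option autoImplicit false
set_option linter.unusedSectionVars false
set_option linter.unusedSimpArgs false

namespace Cfsg.Agent.Helper5.PSUSplit

open Matrix Cfsg.Agent.Helper13.PSLAut Cfsg.Agent.Helper5 Cfsg.Agent.Helper5.PSUAut
  Cfsg.Agent.Helper5.PSUGr Cfsg.Agent.Helper13.SimForms

variable {F : Type*} [Field F] [Fintype F] {n q : ℕ} (hF : Fintype.card F = q ^ 2)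
  {F₀ : Type*} [Field F₀] [Fintype F₀] (hF₀ : Fintype.card F₀ = q) (ι₀ : F₀ →+* F)

include hF₀ in
/-- `gram (D k̂ D⁻¹) = ι₀ c • 1` -/
theorem gram_conj {D : GL (Fin n) F} {S₀ : Matrix (Fin n) (Fin n) F₀} {η : F}
    (hdat : IsDatum hF ι₀ D S₀ η) (k : Matrix (Fin n) (Fin n) F₀) (c : F₀)
    (hc : kᵀ * S₀ * k = c • S₀) :
    PSUGr.gram hF ((D : Matrix (Fin n) (Fin n) F) * k.map ι₀ *
      ((D⁻¹ : GL (Fin n) F) : Matrix (Fin n) (Fin n) F)) =
      ι₀ c • (1 : Matrix (Fin n) (Fin n) F) := by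
  apply gram_eq_of_twist hF D
  set K : Matrix (Fin n) (Fin n) F := k.map ι₀ with hK
  have hred : ((D⁻¹ : GL (Fin n) F) : Matrix (Fin n) (Fin n) F) *
      ((D : Matrix (Fin n) (Fin n) F) * K *
        ((D⁻¹ : GL (Fin n) F) : Matrix (Fin n) (Fin n) F)) *
      (D : Matrix (Fin n) (Fin n) F) = K := by
    calc ((D⁻¹ : GL (Fin n) F) : Matrix (Fin n) (Fin n) F) *
          ((D : Matrix (Fin n) (Fin n) F) * K *
            ((D⁻¹ : GL (Fin n) F) : Matrix (Fin n) (Fin n) F)) * (D : Matrix (Fin n) (Fin n) F)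
        = (((D⁻¹ : GL (Fin n) F) : Matrix (Fin n) (Fin n) F) * (D : Matrix (Fin n) (Fin n) F)) *
            K * (((D⁻¹ : GL (Fin n) F) : Matrix (Fin n) (Fin n) F) *
              (D : Matrix (Fin n) (Fin n) F)) := by simp only [Matrix.mul_assoc]
      _ = K := by rw [coe_inv_mul, Matrix.one_mul, Matrix.mul_one]
  rw [hred, hdat, hK, emb_map_sigmaQ hF hF₀ ι₀, Matrix.mul_smul, Matrix.smul_mul,
    ← Matrix.transpose_map, ← Matrix.map_mul, ← Matrix.map_mul, hc]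
  have : (c • S₀).map ι₀ = ι₀ c • S₀.map ι₀ := by
    ext i j
    simp only [Matrix.map_apply, Matrix.smul_apply, smul_eq_mul, map_mul]
  rw [this, smul_smul, smul_smul, mul_comm]

include hF hF₀ in
/-- the determinants of the unitary matrices inducing elements of `C(gamU a)` -/
theorem mem_det_centralizer_iff (hn : 3 ≤ n) (h32 : ¬ (n = 3 ∧ q = 2)) {D : GL (Fin n) F}
    {S₀ : Matrix (Fin n) (Fin n) F₀} {η : F} (hη : η ≠ 0) (hS₀ : S₀ ≠ 0)
    (hdat : IsDatum hF ι₀ D S₀ η) (a : ↥(CU n F q)) (ha : a.1 = aOf hF D) (x : ↥(mu q F)) :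
    x ∈ ((Subgroup.centralizer {gamU hF a}).comap
        (PsiU (F := F) (n := n) (q := q))).map (detGU hF) ↔
      ∃ (k : GL (Fin n) F₀) (r : F₀ˣ) (z : Fˣ),
        (k : Matrix (Fin n) (Fin n) F₀)ᵀ * S₀ * (k : Matrix (Fin n) (Fin n) F₀) = (r : F₀) • S₀ ∧
        (z : F) ^ (q + 1) * ι₀ r = 1 ∧
        ((x : Fˣ) : F) = (z : F) ^ n * ι₀ (k : Matrix (Fin n) (Fin n) F₀).det := by
  have hn0 : 0 < n := by omega
  set N : Subgroup (GL (Fin n) F₀) := Cfsg.Geo.similarityGroup (F := F₀) (bform S₀) with hNdef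
  have hN : ∀ k : GL (Fin n) F₀, k ∈ N ↔ ∃ c : F₀ˣ,
      (k : Matrix (Fin n) (Fin n) F₀)ᵀ * S₀ * (k : Matrix (Fin n) (Fin n) F₀) = (c : F₀) • S₀ :=
    fun k => mem_bsim_iff S₀ k
  have hrange := range_thetaD hF hF₀ ι₀ hn h32 hη hS₀ hdat a ha N hN
  -- generic computations for `g = E * scGL z`
  have hgen : ∀ (k : GL (Fin n) F₀) (r : F₀ˣ) (z : Fˣ),
      (k : Matrix (Fin n) (Fin n) F₀)ᵀ * S₀ * (k : Matrix (Fin n) (Fin n) F₀) = (r : F₀) • S₀ →
      PSUGr.gram hF (((D * Matrix.GeneralLinearGroup.map ι₀ k * D⁻¹ * scGL n z : GL (Fin n) F) :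
        Matrix (Fin n) (Fin n) F)) = ((z : F) ^ (q + 1) * ι₀ r) • (1 : Matrix (Fin n) (Fin n) F) ∧
      ((D * Matrix.GeneralLinearGroup.map ι₀ k * D⁻¹ * scGL n z : GL (Fin n) F) :
        Matrix (Fin n) (Fin n) F).det = (z : F) ^ n * ι₀ (k : Matrix (Fin n) (Fin n) F₀).det := by
    intro k r z hk
    rw [mul_scGL_coe]
    have hE : ((D * Matrix.GeneralLinearGroup.map ι₀ k * D⁻¹ : GL (Fin n) F) :
        Matrix (Fin n) (Fin n) F) = (D : Matrix (Fin n) (Fin n) F) *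
        (k : Matrix (Fin n) (Fin n) F₀).map ι₀ *
        ((D⁻¹ : GL (Fin n) F) : Matrix (Fin n) (Fin n) F) := rfl
    constructor
    · rw [gram_smul, hE, gram_conj hF hF₀ ι₀ hdat _ _ hk, smul_smul, sigmaQ_apply, ← pow_succ']
    · rw [Matrix.det_smul, Fintype.card_fin, hE, Matrix.det_mul, Matrix.det_mul]
      have h1 : (D : Matrix (Fin n) (Fin n) F).det *
          ((D⁻¹ : GL (Fin n) F) : Matrix (Fin n) (Fin n) F).det = 1 := by
        rw [← Matrix.det_mul, coe_mul_inv, Matrix.det_one]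
      have h2 : ((k : Matrix (Fin n) (Fin n) F₀).map ι₀).det =
          ι₀ (k : Matrix (Fin n) (Fin n) F₀).det := (RingHom.map_det ι₀ _).symm
      rw [h2]
      linear_combination ((z : F) ^ n * ι₀ (k : Matrix (Fin n) (Fin n) F₀).det) * h1
  constructor
  · rintro ⟨g, hg, rfl⟩
    have hg' : PsiU g ∈ Subgroup.centralizer {gamU hF a} := hg
    have hmem : PsiU g ∈ Cfsg.inndiagPSU n F q ⊓ Subgroup.centralizer {gamU hF a} := by
      refine ⟨?_, hg'⟩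
      rw [← PsiU_range]
      exact ⟨g, rfl⟩
    rw [← hrange] at hmem
    obtain ⟨k, hk⟩ := hmem
    obtain ⟨r, hr⟩ := (hN k.1).1 k.2
    have hk' : PhiU (⟨D * Matrix.GeneralLinearGroup.map ι₀ k.1 * D⁻¹,
        thetaD_mem_CU hF hF₀ ι₀ hdat N hN k⟩ : ↥(CU n F q)) =
        PhiU (⟨g.1, GU_le_CU g.2⟩ : ↥(CU n F q)) := hk
    rw [PhiU_eq_iff hF hn h32] at hk'
    obtain ⟨z, hz⟩ : ∃ z : Fˣ, (D * Matrix.GeneralLinearGroup.map ι₀ k.1 * D⁻¹)⁻¹ * g.1 =
        scGL n z := by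
      obtain ⟨z, hz⟩ := hk'
      exact ⟨z, hz.symm⟩
    have hgE : g.1 = D * Matrix.GeneralLinearGroup.map ι₀ k.1 * D⁻¹ * scGL n z := by
      rw [← hz]; group
    obtain ⟨h1, h2⟩ := hgen k.1 r z hr
    refine ⟨k.1, r, z, hr, ?_, ?_⟩
    · rw [← hgE, gram_of_mem_GU hF g.1 g.2] at h1
      have h3 := congrFun (congrFun h1 ⟨0, hn0⟩) ⟨0, hn0⟩
      rw [Matrix.one_apply_eq, Matrix.smul_apply, Matrix.one_apply_eq, smul_eq_mul, mul_one] at h3
      exact h3.symm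
    · rw [detGU_coe, hgE]
      exact h2
  · rintro ⟨k, r, z, hk, hz, hx⟩
    obtain ⟨h1, h2⟩ := hgen k r z hk
    have hgGU : D * Matrix.GeneralLinearGroup.map ι₀ k * D⁻¹ * scGL n z ∈ Cfsg.GU n F q := by
      apply mem_GU_of_matrix (sigmaQ hF) (sigmaQ_apply hF)
      have h3 : PSUGr.gram hF (((D * Matrix.GeneralLinearGroup.map ι₀ k * D⁻¹ * scGL n z :
          GL (Fin n) F) : Matrix (Fin n) (Fin n) F)) = 1 := by
        rw [h1, hz, one_smul]
      exact h3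
    have hkN : k ∈ N := (hN k).2 ⟨r, hk⟩
    refine ⟨⟨_, hgGU⟩, ?_, ?_⟩
    · show PsiU (⟨_, hgGU⟩ : ↥(Cfsg.GU n F q)) ∈ Subgroup.centralizer {gamU hF a}
      have hmem : PsiU (⟨_, hgGU⟩ : ↥(Cfsg.GU n F q)) ∈
          Cfsg.inndiagPSU n F q ⊓ Subgroup.centralizer {gamU hF a} := by
        rw [← hrange]
        refine ⟨⟨k, hkN⟩, ?_⟩
        show PhiU (⟨D * Matrix.GeneralLinearGroup.map ι₀ k * D⁻¹,
          thetaD_mem_CU hF hF₀ ι₀ hdat N hN ⟨k, hkN⟩⟩ : ↥(CU n F q)) =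
          PhiU (⟨D * Matrix.GeneralLinearGroup.map ι₀ k * D⁻¹ * scGL n z,
            GU_le_CU hgGU⟩ : ↥(CU n F q))
        rw [PhiU_eq_iff hF hn h32]
        show (D * Matrix.GeneralLinearGroup.map ι₀ k * D⁻¹)⁻¹ *
          (D * Matrix.GeneralLinearGroup.map ι₀ k * D⁻¹ * scGL n z) ∈ _
        have e : (D * Matrix.GeneralLinearGroup.map ι₀ k * D⁻¹)⁻¹ *
            (D * Matrix.GeneralLinearGroup.map ι₀ k * D⁻¹ * scGL n z) = scGL n z := by group
        rw [e]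
        exact scGL_mem z
      exact hmem.2
    · apply Subtype.ext
      apply Units.ext
      rw [detGU_coe, hx]
      exact h2

end Cfsg.Agent.Helper5.PSUSplit
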