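import Mathlib
import Cfsg.Agent.Lib.Helper5.PSUSplit4
import Cfsg.Agent.Lib.Helper5.PSUGr13
import Cfsg.Agent.Lib.Helper43.GraphAutSplit

/-!
# The three class counts for involutory graph automorphisms of `PSU_n(q)`
-/

set_option autoImplicit false
set_option linter.unusedSectionVars false
set_option linter.unusedSimpArgs false

namespace Cfsg.Agent.Helper5.PSUSplit

open Matrix Cfsg.Agent.Helper13.PSLAut Cfsg.Agent.Helper5 Cfsg.Agent.Helper5.PSUAut
  Cfsg.Agent.Helper5.PSUGr Cfsg.Agent.Helper13.SimForms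

variable {F : Type*} [Field F] [Fintype F] {n q : ℕ} (hF : Fintype.card F = q ^ 2)
  {F₀ : Type*} [Field F₀] [Fintype F₀] (hF₀ : Fintype.card F₀ = q) (ι₀ : F₀ →+* F)

omit [Fintype F] [Fintype F₀] in
theorem det_sq_of_cong {S₀ : Matrix (Fin n) (Fin n) F₀} (hdetS : S₀.det ≠ 0)
    (k : Matrix (Fin n) (Fin n) F₀) (r : F₀) (hk : kᵀ * S₀ * k = r • S₀) :
    k.det ^ 2 = r ^ n := by
  have h1 := congrArg Matrix.det hk
  rw [Matrix.det_mul, Matrix.det_mul, Matrix.det_transpose, Matrix.det_smul,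
    Fintype.card_fin] at h1
  have h2 : (k.det ^ 2 - r ^ n) * S₀.det = 0 := by linear_combination h1
  rcases mul_eq_zero.1 h2 with h | h
  · linear_combination h
  · exact absurd h hdetS

include hF₀ in
omit [Fintype F] in
theorem emb_pow_q (x : F₀) : (ι₀ x) ^ q = ι₀ x := by
  rw [← map_pow, ← hF₀, FiniteField.pow_card]

include hF₀ in
omit [Fintype F] in
theorem emb_pow_q_add_one (x : F₀) : (ι₀ x) ^ (q + 1) = ι₀ (x ^ 2) := by
  rw [pow_succ, emb_pow_q hF₀ ι₀, map_pow, sq]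

include hF hF₀ in
/-- if every similitude `k` of `S₀` has multiplier `a²` and determinant `aⁿ`, the class splits into
`gcd(q + 1, n)` classes -/
theorem count_trivial (hn : 3 ≤ n) (h32 : ¬ (n = 3 ∧ q = 2)) {D : GL (Fin n) F}
    {S₀ : Matrix (Fin n) (Fin n) F₀} {η : F} (hη : η ≠ 0) (hdetS : S₀.det ≠ 0)
    (hdat : IsDatum hF ι₀ D S₀ η) (a : ↥(CU n F q)) (ha : a.1 = aOf hF D)
    (hcase : Odd n ∨ (2 : F₀) = 0) :
    Cfsg.splitClassCount (Cfsg.inndiagPSU n F q) (Cfsg.Inn (Cfsg.PSU n F q)) (gamU hF a) =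
      Nat.gcd (q + 1) n := by
  have hn0 : 0 < n := by omega
  have hS₀ : S₀ ≠ 0 := by
    intro h0
    apply hdetS
    rw [h0]
    have : Nonempty (Fin n) := ⟨⟨0, hn0⟩⟩
    exact Matrix.det_zero
  rw [count_eq hF hn h32, ← index_pow_mu hF n]
  congr 1
  rw [sup_eq_right]
  intro x hx
  obtain ⟨k, r, z, hk, hz, hxe⟩ :=
    (mem_det_centralizer_iff hF hF₀ ι₀ hn h32 hη hS₀ hdat a ha x).1 hx
  have hsq := det_sq_of_cong hdetS _ _ hk
  -- a root `a₀` with `a₀² = r`, `a₀ⁿ = det k`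
  obtain ⟨a₀, ha1, ha2⟩ : ∃ a₀ : F₀, a₀ ^ 2 = (r : F₀) ∧
      a₀ ^ n = (k : Matrix (Fin n) (Fin n) F₀).det := by
    generalize (k : Matrix (Fin n) (Fin n) F₀).det = d at hsq
    rcases hcase with ⟨l, hl⟩ | h2
    · have hr0 : (r : F₀) ≠ 0 := r.ne_zero
      have hrl : (r : F₀) ^ l ≠ 0 := pow_ne_zero _ hr0
      have hrn : (r : F₀) ^ n = (r : F₀) ^ (2 * l + 1) := by rw [hl]
      have h3 : (d / (r : F₀) ^ l) ^ 2 = (r : F₀) := by
        rw [div_pow, hsq, hrn, pow_succ, pow_mul]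
        field_simp
        ring
      refine ⟨d / (r : F₀) ^ l, h3, ?_⟩
      have hdn : (d / (r : F₀) ^ l) ^ n = (d / (r : F₀) ^ l) ^ (2 * l + 1) := by rw [hl]
      rw [hdn, pow_succ, pow_mul, h3]
      field_simp
    · have : CharP F₀ 2 := CharTwo.of_one_ne_zero_of_two_eq_zero one_ne_zero h2
      obtain ⟨a₀, ha₀⟩ := FiniteField.isSquare_of_char_two (ringChar.eq F₀ 2) (r : F₀)
      refine ⟨a₀, by rw [sq, ha₀], ?_⟩
      have h3 : (a₀ ^ n) ^ 2 = d ^ 2 := by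
        rw [hsq, ha₀, ← pow_mul, mul_comm, pow_mul, sq]
      have h4 : (a₀ ^ n - d) ^ 2 = 0 := by
        linear_combination h3 + (d ^ 2 - a₀ ^ n * d) * h2
      exact sub_eq_zero.1 ((pow_eq_zero_iff (two_ne_zero)).1 h4)
  have hb0 : (z : F) * ι₀ a₀ ≠ 0 := by
    apply mul_ne_zero z.ne_zero
    rw [map_ne_zero]
    intro h0
    rw [h0] at ha1
    have : (r : F₀) = 0 := by rw [← ha1]; ring
    exact r.ne_zero this
  have hbm : Units.mk0 _ hb0 ∈ mu q F := by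
    rw [mem_mu, Units.val_mk0, mul_pow, emb_pow_q_add_one hF₀ ι₀, ha1]
    exact hz
  refine ⟨⟨Units.mk0 _ hb0, hbm⟩, ?_⟩
  apply Subtype.ext
  apply Units.ext
  rw [powMonoidHom_apply, Subgroup.coe_pow, Units.val_pow_eq_pow_val, Units.val_mk0, mul_pow,
    ← map_pow, ha2, hxe]

end Cfsg.Agent.Helper5.PSUSplit
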