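import Mathlib
import Cfsg.Agent.Lib.Helper5.PSUSplit5

/-!
# Class counts: symplectic type
-/

set_option autoImplicit false
set_option linter.unusedSectionVars false
set_option linter.unusedSimpArgs false

namespace Cfsg.Agent.Helper5.PSUSplit

open Matrix Cfsg.Agent.Helper13.PSLAut Cfsg.Agent.Helper5 Cfsg.Agent.Helper5.PSUAut
  Cfsg.Agent.Helper5.PSUGr Cfsg.Agent.Helper13.SimForms Cfsg.Agent.Helper43.GraphAutSplit

variable {F : Type*} [Field F] [Fintype F] {n q : ℕ} (hF : Fintype.card F = q ^ 2)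
  {F₀ : Type*} [Field F₀] [Fintype F₀] (hF₀ : Fintype.card F₀ = q) (ι₀ : F₀ →+* F)

omit [Fintype F₀] in
/-- determinant of a similitude of the reindexed `J` -/
theorem det_of_cong_Jm {m : ℕ} (σ₁ : Fin n ≃ Fin m ⊕ Fin m) (k : Matrix (Fin n) (Fin n) F₀) (r : F₀)
    (hr0 : r ≠ 0)
    (hk : kᵀ * (Matrix.J (Fin m) F₀).submatrix σ₁ σ₁ * k =
      r • (Matrix.J (Fin m) F₀).submatrix σ₁ σ₁) : k.det = r ^ m := by
  have h1 := cong_submatrix σ₁.symm kᵀ ((Matrix.J (Fin m) F₀).submatrix σ₁ σ₁)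
    (r • (Matrix.J (Fin m) F₀).submatrix σ₁ σ₁) (by rw [Matrix.transpose_transpose]; exact hk)
  have h2 : ((Matrix.J (Fin m) F₀).submatrix σ₁ σ₁).submatrix σ₁.symm σ₁.symm =
      Matrix.J (Fin m) F₀ := by
    rw [Matrix.submatrix_submatrix]
    simp
  have h3 : (r • (Matrix.J (Fin m) F₀).submatrix σ₁ σ₁).submatrix σ₁.symm σ₁.symm =
      r • Matrix.J (Fin m) F₀ := by
    have : (r • (Matrix.J (Fin m) F₀).submatrix σ₁ σ₁).submatrix σ₁.symm σ₁.symm =
        r • ((Matrix.J (Fin m) F₀).submatrix σ₁ σ₁).submatrix σ₁.symm σ₁.symm := rfl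
    rw [this, h2]
  rw [h2, h3] at h1
  have h4 := det_of_congr_J _ r hr0 h1
  rw [Matrix.det_submatrix_equiv_self, Matrix.det_transpose] at h4
  exact h4

include hF hF₀ in
/-- symplectic type: the class splits into `gcd(q + 1, m)` classes -/
theorem count_symp (hn : 3 ≤ n) (h32 : ¬ (n = 3 ∧ q = 2)) {m : ℕ} (hnm : n = 2 * m)
    (σ₁ : Fin n ≃ Fin m ⊕ Fin m) {D : GL (Fin n) F} {η : F} (hη : η ≠ 0)
    (hdat : IsDatum hF ι₀ D ((Matrix.J (Fin m) F₀).submatrix σ₁ σ₁) η)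
    (a : ↥(CU n F q)) (ha : a.1 = aOf hF D) :
    Cfsg.splitClassCount (Cfsg.inndiagPSU n F q) (Cfsg.Inn (Cfsg.PSU n F q)) (gamU hF a) =
      Nat.gcd (q + 1) m := by
  have hn0 : 0 < n := by omega
  have hq := two_le_q hF
  have hJJ : Matrix.J (Fin m) F₀ * (-Matrix.J (Fin m) F₀) = 1 := by
    rw [Matrix.mul_neg, Matrix.J_squared, neg_neg]
  have hdetJ : ((Matrix.J (Fin m) F₀).submatrix σ₁ σ₁).det ≠ 0 := by
    rw [Matrix.det_submatrix_equiv_self]
    exact Matrix.det_ne_zero_of_right_inverse hJJ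
  have hS₀ : (Matrix.J (Fin m) F₀).submatrix σ₁ σ₁ ≠ 0 := by
    intro h0
    apply hdetJ
    rw [h0]
    have : Nonempty (Fin n) := ⟨⟨0, hn0⟩⟩
    exact Matrix.det_zero
  rw [count_eq hF hn h32, ← index_pow_mu hF m]
  congr 1
  apply le_antisymm
  · apply sup_le
    · intro x hx
      obtain ⟨k, r, z, hk, hz, hxe⟩ :=
        (mem_det_centralizer_iff hF hF₀ ι₀ hn h32 hη hS₀ hdat a ha x).1 hx
      have hdk := det_of_cong_Jm σ₁ _ _ r.ne_zero hk
      have hb0 : (z : F) ^ 2 * ι₀ r ≠ 0 := by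
        apply mul_ne_zero (pow_ne_zero _ z.ne_zero)
        rw [map_ne_zero]
        exact r.ne_zero
      have hbm : Units.mk0 _ hb0 ∈ mu q F := by
        rw [mem_mu, Units.val_mk0, mul_pow, emb_pow_q_add_one hF₀ ι₀, map_pow]
        have : ((z : F) ^ 2) ^ (q + 1) * ι₀ (r : F₀) ^ 2 = ((z : F) ^ (q + 1) * ι₀ r) ^ 2 := by
          ring
        rw [this, hz, one_pow]
      refine ⟨⟨Units.mk0 _ hb0, hbm⟩, ?_⟩
      apply Subtype.ext
      apply Units.ext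
      rw [powMonoidHom_apply, Subgroup.coe_pow, Units.val_pow_eq_pow_val, Units.val_mk0, hxe,
        hdk, hnm, map_pow]
      ring
    · exact pow_range_le_mu ⟨2, by rw [hnm, mul_comm]⟩
  · rintro _ ⟨ξ, rfl⟩
    apply Subgroup.mem_sup_left
    rw [mem_det_centralizer_iff hF hF₀ ι₀ hn h32 hη hS₀ hdat a ha]
    -- `z` with `z^(q-1) = ξ⁻¹`
    have hξ : (((ξ : Fˣ) : F))⁻¹ ^ (q + 1) = 1 := by
      rw [inv_pow, (mem_mu ξ.1).1 ξ.2, inv_one]
    obtain ⟨z, hz0, hz⟩ := exists_pow_sub_one hF _ hξ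
    have hzq2 : z ^ (q ^ 2) = z := by
      rw [← hF]; exact FiniteField.pow_card z
    have hfix : ((z ^ (q + 1))⁻¹) ^ q = (z ^ (q + 1))⁻¹ := by
      rw [inv_pow, ← pow_mul]
      congr 1
      have : (q + 1) * q = q ^ 2 + q := by ring
      rw [this, pow_add, hzq2, pow_succ, mul_comm]
    obtain ⟨r, hr⟩ := exists_of_pow_q_eq hF hF₀ ι₀ _ hfix
    have hzq1 : z ^ (q + 1) ≠ 0 := pow_ne_zero _ hz0
    have hr0 : r ≠ 0 := by
      rintro rfl
      rw [map_zero] at hr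
      exact inv_ne_zero hzq1 hr.symm
    have hdM : ((dMat m r).submatrix σ₁ σ₁)ᵀ.det ≠ 0 := by
      rw [Matrix.det_transpose, Matrix.det_submatrix_equiv_self, dMat_det]
      exact pow_ne_zero _ hr0
    refine ⟨Matrix.GeneralLinearGroup.mkOfDetNeZero _ hdM, Units.mk0 r hr0, Units.mk0 z hz0,
      ?_, ?_, ?_⟩
    · show (((dMat m r).submatrix σ₁ σ₁)ᵀ)ᵀ * (Matrix.J (Fin m) F₀).submatrix σ₁ σ₁ *
        ((dMat m r).submatrix σ₁ σ₁)ᵀ = r • (Matrix.J (Fin m) F₀).submatrix σ₁ σ₁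
      rw [Matrix.transpose_transpose, cong_submatrix σ₁ _ _ _ (dMat_congr r)]
      rfl
    · rw [Units.val_mk0, Units.val_mk0, hr]
      exact mul_inv_cancel₀ hzq1
    · rw [powMonoidHom_apply, Subgroup.coe_pow, Units.val_pow_eq_pow_val, Units.val_mk0]
      show ((ξ : Fˣ) : F) ^ m = z ^ n * ι₀ (((dMat m r).submatrix σ₁ σ₁)ᵀ).det
      rw [Matrix.det_transpose, Matrix.det_submatrix_equiv_self, dMat_det, map_pow, hr, hnm]
      have hξz : ((ξ : Fˣ) : F) = z ^ 2 * (z ^ (q + 1))⁻¹ := by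
        have h1 : ((ξ : Fˣ) : F) * z ^ (q - 1) = 1 := by
          rw [hz]
          exact mul_inv_cancel₀ (Units.ne_zero _)
        have h2 : z ^ (q + 1) = z ^ (q - 1) * z ^ 2 := by
          rw [← pow_add]
          congr 1
          omega
        have hz1 : z ^ (q - 1) ≠ 0 := pow_ne_zero _ hz0
        have hz2 : z ^ 2 ≠ 0 := pow_ne_zero _ hz0
        rw [h2, eq_inv_of_mul_eq_one_left h1]
        field_simp
      rw [hξz, mul_pow, pow_mul]

end Cfsg.Agent.Helper5.PSUSplit
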