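import Mathlib
import Cfsg.Agent.Lib.Helper5.PSUSplit6

/-!
# Class counts: orthogonal type
-/

set_option autoImplicit false
set_option linter.unusedSectionVars false
set_option linter.unusedSimpArgs false

namespace Cfsg.Agent.Helper5.PSUSplit

open Matrix Cfsg.Agent.Helper13.PSLAut Cfsg.Agent.Helper5 Cfsg.Agent.Helper5.PSUAut
  Cfsg.Agent.Helper5.PSUGr Cfsg.Agent.Helper13.SimForms Cfsg.Agent.Helper43.GraphAutSplit

/-- `-1` as an element of `μ` (`q` odd) -/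
def negOne {F : Type*} [Field F] {q : ℕ} (hoddq : Odd q) : ↥(mu q F) := ⟨-1, by
  rw [mem_mu, Units.val_neg, Units.val_one]
  have : Even (q + 1) := by
    obtain ⟨k, hk⟩ := hoddq
    exact ⟨k + 1, by omega⟩
  exact this.neg_one_pow⟩

variable {F : Type*} [Field F] [Fintype F] {n q : ℕ} (hF : Fintype.card F = q ^ 2)
  {F₀ : Type*} [Field F₀] [Fintype F₀] (hF₀ : Fintype.card F₀ = q) (ι₀ : F₀ →+* F)

omit [Fintype F] in
theorem mu_ext {x y : ↥(mu q F)} (h : ((x : Fˣ) : F) = ((y : Fˣ) : F)) : x = y :=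
  Subtype.ext (Units.ext h)

omit [Fintype F] in
theorem mu_coe_pow (x : ↥(mu q F)) (k : ℕ) :
    (((x ^ k : ↥(mu q F)) : Fˣ) : F) = ((x : Fˣ) : F) ^ k := by
  rw [Subgroup.coe_pow, Units.val_pow_eq_pow_val]

omit [Fintype F] in
theorem mu_coe_mul (x y : ↥(mu q F)) :
    (((x * y : ↥(mu q F)) : Fˣ) : F) = ((x : Fˣ) : F) * ((y : Fˣ) : F) := by
  rw [Subgroup.coe_mul, Units.val_mul]

omit [Fintype F] in
theorem negOne_coe (hoddq : Odd q) : (((negOne (F := F) hoddq : ↥(mu q F)) : Fˣ) : F) = -1 := by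
  show ((-1 : Fˣ) : F) = -1
  rw [Units.val_neg, Units.val_one]

omit [Fintype F] in
theorem pow_half_mu (hoddq : Odd q) (x : ↥(mu q F)) :
    x ^ ((q + 1) / 2) = 1 ∨ x ^ ((q + 1) / 2) = negOne hoddq := by
  have hex : ∃ t, q = 2 * t + 1 := hoddq
  obtain ⟨t, ht⟩ := hex
  have hhalf : (q + 1) / 2 = t + 1 := by omega
  rw [hhalf]
  have h1 : (((x : Fˣ) : F) ^ (t + 1)) ^ 2 = 1 := by
    rw [← pow_mul]
    have : (t + 1) * 2 = q + 1 := by omega
    rw [this]
    exact (mem_mu x.1).1 x.2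
  have h6 : (((x : Fˣ) : F) ^ (t + 1) - 1) * (((x : Fˣ) : F) ^ (t + 1) + 1) = 0 := by
    linear_combination h1
  rcases mul_eq_zero.1 h6 with h7 | h7
  · left
    apply mu_ext
    rw [mu_coe_pow]
    show _ = ((1 : Fˣ) : F)
    rw [Units.val_one]
    linear_combination h7
  · right
    apply mu_ext
    rw [mu_coe_pow, negOne_coe]
    linear_combination h7

include hF in
theorem negOne_mem_pow_range (hoddq : Odd q) {kk : ℕ} (hkk : kk ∣ (q + 1) / 2) :
    negOne hoddq ∈ (powMonoidHom kk : ↥(mu q F) →* ↥(mu q F)).range := by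
  classical
  obtain ⟨ζ, hζ⟩ := IsCyclic.exists_generator (α := ↥(mu q F))
  have hord : orderOf ζ = q + 1 := by
    rw [orderOf_eq_card_of_forall_mem_zpowers hζ, card_mu hF]
  have hex : ∃ t, q = 2 * t + 1 := hoddq
  obtain ⟨t, ht⟩ := hex
  have hhalf : (q + 1) / 2 = t + 1 := by omega
  rw [hhalf] at hkk
  have h2 : ζ ^ (t + 1) ≠ 1 := by
    apply pow_ne_one_of_lt_orderOf (by omega)
    rw [hord]; omega
  have h3 : ζ ^ (t + 1) = negOne hoddq := by
    have := pow_half_mu hoddq ζ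
    rw [hhalf] at this
    rcases this with h | h
    · exact absurd h h2
    · exact h
  obtain ⟨s, hs⟩ := hkk
  refine ⟨ζ ^ s, ?_⟩
  rw [powMonoidHom_apply, ← pow_mul, mul_comm, ← hs, h3]

include hF hF₀ in
/-- orthogonal type: the class splits into `gcd(m, (q + 1)/2)` classes -/
theorem count_orth (hn : 3 ≤ n) (h32 : ¬ (n = 3 ∧ q = 2)) (hoddq : Odd q) {m : ℕ}
    (hnm : n = 2 * m) {D : GL (Fin n) F} {S₀ : Matrix (Fin n) (Fin n) F₀} {η : F} (hη : η ≠ 0)
    (hsym : S₀ᵀ = S₀) (hdetS : S₀.det ≠ 0)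
    (hdat : IsDatum hF ι₀ D S₀ η) (a : ↥(CU n F q)) (ha : a.1 = aOf hF D) :
    Cfsg.splitClassCount (Cfsg.inndiagPSU n F q) (Cfsg.Inn (Cfsg.PSU n F q)) (gamU hF a) =
      Nat.gcd m ((q + 1) / 2) := by
  classical
  have hn0 : 0 < n := by omega
  have hq := two_le_q hF
  have hoddF₀ : Odd (Fintype.card F₀) := by rw [hF₀]; exact hoddq
  have h2 : (2 : F₀) ≠ 0 := by
    intro h
    have h1 : ringChar F₀ = 2 :=
      CharP.ringChar_of_prime_eq_zero Nat.prime_two (by exact_mod_cast h)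
    have h3 := FiniteField.even_card_of_char_two h1
    rcases hoddF₀ with ⟨k, hk⟩
    omega
  have hS₀ : S₀ ≠ 0 := by
    intro h0
    apply hdetS
    rw [h0]
    have : Nonempty (Fin n) := ⟨⟨0, hn0⟩⟩
    exact Matrix.det_zero
  set kk : ℕ := Nat.gcd m ((q + 1) / 2) with hkk
  have hkk1 : kk ∣ m := Nat.gcd_dvd_left _ _
  have hkk2 : kk ∣ (q + 1) / 2 := Nat.gcd_dvd_right _ _
  set DU : Subgroup ↥(mu q F) := ((Subgroup.centralizer {gamU hF a}).comap
    (PsiU (F := F) (n := n) (q := q))).map (detGU hF) with hDU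
  have hiff := mem_det_centralizer_iff hF hF₀ ι₀ hn h32 hη hS₀ hdat a ha
  -- `-1 ∈ DU`
  have hneg : negOne hoddq ∈ DU := by
    rw [hDU, hiff]
    obtain ⟨r₀, hr₀det, hr₀⟩ := exists_reflection h2 S₀ hsym hS₀
    have hdet : (r₀ᵀ).det ≠ 0 := by
      rw [Matrix.det_transpose, hr₀det]
      exact neg_ne_zero.2 one_ne_zero
    refine ⟨Matrix.GeneralLinearGroup.mkOfDetNeZero _ hdet, 1, 1, ?_, ?_, ?_⟩
    · show (r₀ᵀ)ᵀ * S₀ * r₀ᵀ = ((1 : F₀ˣ) : F₀) • S₀
      rw [Matrix.transpose_transpose, Units.val_one, one_smul, hr₀]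
    · rw [Units.val_one, one_pow, Units.val_one, map_one, one_mul]
    · rw [negOne_coe, Units.val_one, one_pow, one_mul]
      show (-1 : F) = ι₀ (r₀ᵀ).det
      rw [Matrix.det_transpose, hr₀det, map_neg, map_one]
  -- the element `b = z² r`
  have hbmem : ∀ (r : F₀ˣ) (z : Fˣ), (z : F) ^ (q + 1) * ι₀ r = 1 →
      ∃ b : ↥(mu q F), ((b : Fˣ) : F) = (z : F) ^ 2 * ι₀ r := by
    intro r z hz
    have hb0 : (z : F) ^ 2 * ι₀ r ≠ 0 := by
      apply mul_ne_zero (pow_ne_zero _ z.ne_zero)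
      rw [map_ne_zero]
      exact r.ne_zero
    have hbm : Units.mk0 _ hb0 ∈ mu q F := by
      rw [mem_mu, Units.val_mk0, mul_pow, emb_pow_q_add_one hF₀ ι₀, map_pow]
      have : ((z : F) ^ 2) ^ (q + 1) * ι₀ (r : F₀) ^ 2 = ((z : F) ^ (q + 1) * ι₀ r) ^ 2 := by
        ring
      rw [this, hz, one_pow]
    exact ⟨⟨Units.mk0 _ hb0, hbm⟩, rfl⟩
  -- determinants are `± r ^ m`
  have hdetpm : ∀ (k : Matrix (Fin n) (Fin n) F₀) (r : F₀), kᵀ * S₀ * k = r • S₀ →
      k.det = r ^ m ∨ k.det = -r ^ m := by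
    intro k r hk
    have h1 := det_sq_of_cong hdetS k r hk
    have hpw : r ^ n = (r ^ m) ^ 2 := by rw [hnm, mul_comm, pow_mul]
    rw [hpw] at h1
    have h3 : (k.det - r ^ m) * (k.det + r ^ m) = 0 := by linear_combination h1
    rcases mul_eq_zero.1 h3 with h4 | h4
    · left; linear_combination h4
    · right; linear_combination h4
  have hpm : ∀ x ∈ DU, ∃ b : ↥(mu q F), x = b ^ m ∨ x = negOne hoddq * b ^ m := by
    intro x hx
    rw [hDU, hiff] at hx
    obtain ⟨k, r, z, hk, hz, hxe⟩ := hx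
    obtain ⟨b, hb⟩ := hbmem r z hz
    refine ⟨b, ?_⟩
    have hzn : (z : F) ^ n * ι₀ ((r : F₀) ^ m) = ((b : Fˣ) : F) ^ m := by
      rw [hb, hnm, map_pow]; ring
    rcases hdetpm _ _ hk with h5 | h5
    · left
      apply mu_ext
      rw [mu_coe_pow, hxe, h5, hzn]
    · right
      apply mu_ext
      rw [mu_coe_mul, mu_coe_pow, negOne_coe, hxe, h5, map_neg, ← hzn]
      ring
  -- every `ξ ^ m` lies in `DU`
  have hxm : ∀ ξ : ↥(mu q F), ξ ^ m ∈ DU := by
    intro ξ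
    have hξ : (((ξ : Fˣ) : F))⁻¹ ^ (q + 1) = 1 := by
      rw [inv_pow, (mem_mu ξ.1).1 ξ.2, inv_one]
    obtain ⟨z, hz0, hz⟩ := exists_pow_sub_one hF _ hξ
    have hzq2 : z ^ (q ^ 2) = z := by
      rw [← hF]; exact FiniteField.pow_card z
    have hfix : ((z ^ (q + 1))⁻¹) ^ q = (z ^ (q + 1))⁻¹ := by
      rw [inv_pow, ← pow_mul]
      congr 1
      have : (q + 1) * q = q ^ 2 + q := by ring
      rw [this, pow_add, hzq2, pow_succ, mul_comm]
    obtain ⟨r, hr⟩ := exists_of_pow_q_eq hF hF₀ ι₀ _ hfix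
    have hzq1 : z ^ (q + 1) ≠ 0 := pow_ne_zero _ hz0
    have hr0 : r ≠ 0 := by
      rintro rfl
      rw [map_zero] at hr
      exact inv_ne_zero hzq1 hr.symm
    have hξz : ((ξ : Fˣ) : F) = z ^ 2 * ι₀ r := by
      have h1 : ((ξ : Fˣ) : F) * z ^ (q - 1) = 1 := by
        rw [hz]
        exact mul_inv_cancel₀ (Units.ne_zero _)
      have h2' : z ^ (q + 1) = z ^ (q - 1) * z ^ 2 := by
        rw [← pow_add]
        congr 1
        omega
      have hz1 : z ^ (q - 1) ≠ 0 := pow_ne_zero _ hz0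
      have hz2 : z ^ 2 ≠ 0 := pow_ne_zero _ hz0
      rw [hr, h2', eq_inv_of_mul_eq_one_left h1]
      field_simp
    -- a similitude with multiplier `r`
    obtain ⟨k', rfl⟩ : ∃ k', n = k' + 1 := ⟨n - 1, by omega⟩
    have hdx : (r • S₀).det ≠ 0 := by
      rw [Matrix.det_smul]
      exact mul_ne_zero (pow_ne_zero _ hr0) hdetS
    have hsq : IsSquare (S₀.det * (r • S₀).det) := by
      refine ⟨r ^ m * S₀.det, ?_⟩
      have hpw : r ^ (k' + 1) = (r ^ m) ^ 2 := by rw [hnm, mul_comm, pow_mul]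
      rw [Matrix.det_smul, Fintype.card_fin, hpw]
      ring
    obtain ⟨h, hh0, hh⟩ := Cfsg.Agent.Helper13.SymCong.sym_cong hoddF₀ h2 k' S₀ (r • S₀) hsym
      (by rw [Matrix.transpose_smul, hsym]) hdetS hdx hsq
    have hdet : (hᵀ).det ≠ 0 := by rw [Matrix.det_transpose]; exact hh0
    have hkk' : (hᵀ)ᵀ * S₀ * hᵀ = r • S₀ := by rw [Matrix.transpose_transpose]; exact hh
    have hzr : z ^ (q + 1) * ι₀ r = 1 := by
      rw [hr]; exact mul_inv_cancel₀ hzq1
    have hzn : z ^ (k' + 1) * ι₀ (r ^ m) = ((ξ : Fˣ) : F) ^ m := by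
      rw [hξz, hnm, map_pow]; ring
    rcases hdetpm _ _ hkk' with h5 | h5
    · rw [hDU, hiff]
      refine ⟨Matrix.GeneralLinearGroup.mkOfDetNeZero _ hdet, Units.mk0 r hr0, Units.mk0 z hz0,
        hkk', ?_, ?_⟩
      · rw [Units.val_mk0, Units.val_mk0]; exact hzr
      · rw [mu_coe_pow, Units.val_mk0]
        show ((ξ : Fˣ) : F) ^ m = z ^ (k' + 1) * ι₀ (hᵀ).det
        rw [h5, hzn]
    · have hmem : negOne hoddq * ξ ^ m ∈ DU := by
        rw [hDU, hiff]
        refine ⟨Matrix.GeneralLinearGroup.mkOfDetNeZero _ hdet, Units.mk0 r hr0,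
          Units.mk0 z hz0, hkk', ?_, ?_⟩
        · rw [Units.val_mk0, Units.val_mk0]; exact hzr
        · rw [mu_coe_mul, mu_coe_pow, negOne_coe, Units.val_mk0]
          show -1 * ((ξ : Fˣ) : F) ^ m = z ^ (k' + 1) * ι₀ (hᵀ).det
          rw [h5, map_neg, ← hzn]
          ring
      have e : ξ ^ m = negOne hoddq * (negOne hoddq * ξ ^ m) := by
        apply mu_ext
        rw [mu_coe_mul, mu_coe_mul, negOne_coe]
        ring
      rw [e]
      exact DU.mul_mem hneg hmem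
  have hxN : ∀ ξ : ↥(mu q F), ξ ^ ((q + 1) / 2) ∈ DU := by
    intro ξ
    rcases pow_half_mu hoddq ξ with h | h
    · rw [h]; exact DU.one_mem
    · rw [h]; exact hneg
  rw [count_eq hF hn h32]
  have hsup : DU ⊔ (powMonoidHom n : ↥(mu q F) →* ↥(mu q F)).range =
      (powMonoidHom kk : ↥(mu q F) →* ↥(mu q F)).range := by
    apply le_antisymm
    · apply sup_le
      · intro x hx
        obtain ⟨b, hb⟩ := hpm x hx
        obtain ⟨s, hs⟩ := hkk1
        have hcm : b ^ m ∈ (powMonoidHom kk : ↥(mu q F) →* ↥(mu q F)).range :=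
          ⟨b ^ s, by rw [powMonoidHom_apply, ← pow_mul, mul_comm, ← hs]⟩
        rcases hb with h5 | h5
        · rw [h5]; exact hcm
        · rw [h5]
          exact Subgroup.mul_mem _ (negOne_mem_pow_range hF hoddq hkk2) hcm
      · exact pow_range_le_mu (hkk1.trans ⟨2, by rw [hnm, mul_comm]⟩)
    · rintro _ ⟨x, rfl⟩
      apply Subgroup.mem_sup_left
      rw [powMonoidHom_apply]
      have hb := Nat.gcd_eq_gcd_ab m ((q + 1) / 2)
      have h7 : x ^ kk = (x ^ m) ^ (Nat.gcdA m ((q + 1) / 2)) *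
          (x ^ ((q + 1) / 2)) ^ (Nat.gcdB m ((q + 1) / 2)) := by
        rw [← zpow_natCast x kk, hkk, hb, _root_.zpow_add, _root_.zpow_mul, _root_.zpow_mul,
          zpow_natCast, zpow_natCast]
      rw [h7]
      exact DU.mul_mem (DU.zpow_mem (hxm x) _) (DU.zpow_mem (hxN x) _)
  rw [hsup, index_pow_mu hF]
  apply Nat.gcd_eq_right
  have : (q + 1) / 2 ∣ q + 1 := by
    obtain ⟨t, ht⟩ := hoddq
    exact ⟨2, by omega⟩
  exact hkk2.trans this

end Cfsg.Agent.Helper5.PSUSplit
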