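import Mathlib
import Cfsg.Agent.Lib.Helper5.PSUSplit7
import Cfsg.Agent.Lib.Helper43.ProjCard
import Cfsg.Agent.S2707

/-!
# Class splitting of involutory graph automorphisms of `PSU_n(q)` (assembly for S2709)
-/

set_option autoImplicit false
set_option linter.unusedSectionVars false
set_option linter.unusedSimpArgs false
set_option linter.unusedVariables false

namespace Cfsg.Agent.Helper5.PSUSplit

open Matrix Cfsg.Agent.Helper13.PSLAut Cfsg.Agent.Helper5 Cfsg.Agent.Helper5.PSUAut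
  Cfsg.Agent.Helper5.PSUGr Cfsg.Agent.Helper13.SimForms Cfsg.Agent.Helper13.GraphAutClasses
  Cfsg.Agent.Helper13.SymCong Cfsg.Agent.Helper43.GraphAutSplit Cfsg.Agent.Helper43.ProjCard

section Conj

variable {X : Type*} [Group X] (H : Subgroup X)

theorem isConjUnder_trans' {x y z : X} (h1 : Cfsg.IsConjUnder H x y)
    (h2 : Cfsg.IsConjUnder H y z) : Cfsg.IsConjUnder H x z := by
  obtain ⟨a, ha, rfl⟩ := h1
  obtain ⟨b, hb, rfl⟩ := h2
  exact ⟨b * a, H.mul_mem hb ha, by group⟩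

end Conj

variable {F : Type*} [Field F] [Fintype F] {n q : ℕ} (hF : Fintype.card F = q ^ 2)
  {F₀ : Type*} [Field F₀] [Fintype F₀] (hF₀ : Fintype.card F₀ = q) (ι₀ : F₀ →+* F)

include hF₀ in
omit [Fintype F] in
theorem two_ne_zero_of_odd (hoddq : Odd q) : (2 : F₀) ≠ 0 := by
  have hoddF₀ : Odd (Fintype.card F₀) := by rw [hF₀]; exact hoddq
  intro h
  have h1 : ringChar F₀ = 2 :=
    CharP.ringChar_of_prime_eq_zero Nat.prime_two (by exact_mod_cast h)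
  have h3 := FiniteField.even_card_of_char_two h1
  rcases hoddF₀ with ⟨k, hk⟩
  omega

include hF hF₀ in
/-- the skew-symmetric case -/
theorem skew_case (hoddq : Odd q) (hn : 3 ≤ n) (h32 : ¬ (n = 3 ∧ q = 2)) {m : ℕ}
    (hnm : n = 2 * m) (η₀ : F) (hη₀0 : η₀ ≠ 0) (hη₀ : sigmaQ hF η₀ = -η₀)
    {D : GL (Fin n) F} {S₀ : Matrix (Fin n) (Fin n) F₀} (hsk : S₀ᵀ = -S₀) (hdetS : S₀.det ≠ 0)
    (hdat : IsDatum hF ι₀ D S₀ η₀) (a : ↥(CU n F q)) (ha : a.1 = aOf hF D) :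
    Cfsg.splitClassCount (Cfsg.inndiagPSU n F q) (Cfsg.Inn (Cfsg.PSU n F q)) (gamU hF a) =
      Nat.gcd (q + 1) m ∧
    Nonempty (↥(Cfsg.inndiagPSU n F q ⊓ Subgroup.centralizer {gamU hF a}) ≃* Cfsg.PGSp m F₀) := by
  classical
  have h2 := two_ne_zero_of_odd hF₀ hoddq
  have hn0 : 0 < n := by omega
  have σ₁ : Fin n ≃ Fin m ⊕ Fin m :=
    Fintype.equivOfCardEq (by simp only [Fintype.card_sum, Fintype.card_fin]; omega)
  set Jm : Matrix (Fin n) (Fin n) F₀ := (Matrix.J (Fin m) F₀).submatrix σ₁ σ₁ with hJm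
  have hdetJ : Jm.det ≠ 0 := by
    rw [hJm, Matrix.det_submatrix_equiv_self]
    intro h0
    have := Matrix.J_det_mul_J_det (Fin m) F₀
    rw [h0, zero_mul] at this
    exact zero_ne_one this
  have hskew : Jmᵀ = -Jm := by
    rw [hJm, Matrix.transpose_submatrix, Matrix.J_transpose]
    rfl
  have hJne : Jm ≠ 0 := by
    intro h0
    apply hdetJ
    rw [h0]
    have : Nonempty (Fin n) := ⟨⟨0, hn0⟩⟩
    exact Matrix.det_zero
  obtain ⟨D₁, hD₁⟩ := exists_datum hF hF₀ ι₀ Jm hdetJ η₀ hη₀0 (Or.inr ⟨hη₀, hskew⟩)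
  set a₁ : ↥(CU n F q) := ⟨aOf hF D₁, aOf_mem_CU hF hF₀ ι₀ hη₀0 hD₁⟩ with ha₁
  obtain ⟨h, hh, e⟩ := skew_normal_form h2 σ₁ S₀ hsk hdetS
  have hconj : Cfsg.IsConjUnder (Cfsg.inndiagPSU n F q) (gamU hF a) (gamU hF a₁) :=
    conj_of_cong hF hF₀ ι₀ hn h32 hη₀0 hdat hD₁ a a₁ ha rfl hᵀ
      (by rw [Matrix.det_transpose]; exact hh) 1 one_ne_zero
      (by rw [Matrix.transpose_transpose, one_smul]; exact e)
  constructor
  · rw [splitClassCount_congr _ _ _ _ hconj]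
    exact count_symp hF hF₀ ι₀ hn h32 hnm σ₁ hη₀0 hD₁ a₁ rfl
  · obtain ⟨e0⟩ := Cfsg.Agent.Helper43.GraphAut.conj_cent_equiv (Cfsg.inndiagPSU n F q) _ _ hconj
    obtain ⟨e1⟩ := cent_gamU_equiv hF hF₀ ι₀ hn h32 hη₀0 hJne hD₁ a₁ rfl
      (Cfsg.Geo.similarityGroup (F := F₀) (bform Jm)) (fun g => mem_bsim_iff Jm g)
    obtain ⟨e2⟩ := bsim_congr (LinearEquiv.funCongrLeft F₀ F₀ σ₁) (bform Jm) (Cfsg.sympForm m F₀)
      (fun u v => bform_submatrix σ₁ _ u v)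
    exact ⟨(e0.trans e1).trans e2⟩

include hF hF₀ in
/-- the symmetric case -/
theorem sym_case (hoddq : Odd q) (hn : 3 ≤ n) (h32 : ¬ (n = 3 ∧ q = 2)) {m : ℕ}
    (hnm : n = 2 * m) (η₀ : F) (hη₀0 : η₀ ≠ 0) (hη₀ : sigmaQ hF η₀ = -η₀)
    {D : GL (Fin n) F} {S₀ : Matrix (Fin n) (Fin n) F₀} (hsym : S₀ᵀ = S₀) (hdetS : S₀.det ≠ 0)
    (hdat : IsDatum hF ι₀ D S₀ 1) (a : ↥(CU n F q)) (ha : a.1 = aOf hF D) :
    Cfsg.splitClassCount (Cfsg.inndiagPSU n F q) (Cfsg.Inn (Cfsg.PSU n F q)) (gamU hF a) =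
      Nat.gcd m ((q + 1) / 2) ∧
    ¬ Nonempty (↥(Cfsg.inndiagPSU n F q ⊓ Subgroup.centralizer {gamU hF a}) ≃*
      Cfsg.PGSp m F₀) := by
  classical
  have h2 := two_ne_zero_of_odd hF₀ hoddq
  have hoddF₀ : Odd (Fintype.card F₀) := by rw [hF₀]; exact hoddq
  have hn0 : 0 < n := by omega
  have hm : 2 ≤ m := by omega
  have hS₀ : S₀ ≠ 0 := by
    intro h0
    apply hdetS
    rw [h0]
    have : Nonempty (Fin n) := ⟨⟨0, hn0⟩⟩
    exact Matrix.det_zero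
  constructor
  · exact count_orth hF hF₀ ι₀ hn h32 hoddq hnm one_ne_zero hsym hdetS hdat a ha
  · obtain ⟨γ₁, γ₂, γ₃, aa, bb, hab, hg1, ho1, hg2, ho2, hg3, ho3, -, -, -, hall, ⟨c1⟩, ⟨c2⟩,
      ⟨c3⟩⟩ := Cfsg.Agent.S2707.result hoddq hF hm hnm F₀ hF₀
    rintro ⟨eA⟩
    have key : ∀ x : MulAut (Cfsg.PSU n F q), Cfsg.IsGraphAutClassPSU x → orderOf x = 2 →
        Nonempty (↥(Cfsg.inndiagPSU n F q ⊓ Subgroup.centralizer {x}) ≃* Cfsg.PGSp m F₀) →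
        Cfsg.IsConjUnder (Cfsg.inndiagPSU n F q) γ₁ x := by
      rintro x hx hx2 ⟨ex⟩
      rcases hall x hx hx2 with h | h | h
      · exact h
      · exfalso
        obtain ⟨e0⟩ := Cfsg.Agent.Helper43.GraphAut.conj_cent_equiv (Cfsg.inndiagPSU n F q) _ _ h
        exact pgo_plus_ne_pgsp hoddF₀ hm (Nat.card_congr ((c2.symm.trans e0).trans ex).toEquiv)
      · exfalso
        obtain ⟨e0⟩ := Cfsg.Agent.Helper43.GraphAut.conj_cent_equiv (Cfsg.inndiagPSU n F q) _ _ h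
        exact pgo_minus_ne_pgsp hoddF₀ hm aa bb hab
          (Nat.card_congr ((c3.symm.trans e0).trans ex).toEquiv)
    have hord : orderOf (gamU hF a) = 2 := by
      apply orderOf_gamU hF hn h32
      rw [sigmaCU_val', ha, aOf_mul_sG]
      exact Subgroup.one_mem _
    have k1 := key (gamU hF a) (isGraph_gamU hF hn h32 a) hord ⟨eA⟩
    -- the standard skew representative
    have σ₁ : Fin n ≃ Fin m ⊕ Fin m :=
      Fintype.equivOfCardEq (by simp only [Fintype.card_sum, Fintype.card_fin]; omega)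
    set Jm : Matrix (Fin n) (Fin n) F₀ := (Matrix.J (Fin m) F₀).submatrix σ₁ σ₁ with hJm
    have hdetJ : Jm.det ≠ 0 := by
      rw [hJm, Matrix.det_submatrix_equiv_self]
      intro h0
      have := Matrix.J_det_mul_J_det (Fin m) F₀
      rw [h0, zero_mul] at this
      exact zero_ne_one this
    have hskew : Jmᵀ = -Jm := by
      rw [hJm, Matrix.transpose_submatrix, Matrix.J_transpose]
      rfl
    obtain ⟨D₁, hD₁⟩ := exists_datum hF hF₀ ι₀ Jm hdetJ η₀ hη₀0 (Or.inr ⟨hη₀, hskew⟩)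
    set a₁ : ↥(CU n F q) := ⟨aOf hF D₁, aOf_mem_CU hF hF₀ ι₀ hη₀0 hD₁⟩ with ha₁
    have hord₁ : orderOf (gamU hF a₁) = 2 := by
      apply orderOf_gamU hF hn h32
      rw [sigmaCU_val', ha₁, aOf_mul_sG]
      exact Subgroup.one_mem _
    have k2 := key (gamU hF a₁) (isGraph_gamU hF hn h32 a₁) hord₁
      (skew_case hF hF₀ ι₀ hoddq hn h32 hnm η₀ hη₀0 hη₀ hskew hdetJ hD₁ a₁ rfl).2
    have k3 : Cfsg.IsConjUnder (Cfsg.inndiagPSU n F q) (gamU hF a₁) (gamU hF a) :=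
      isConjUnder_trans' _ (isConjUnder_symm k2) k1
    obtain ⟨k, c, _, hc0, e⟩ := cong_of_conj hF hF₀ ι₀ hn h32 hη₀0 one_ne_zero hS₀ hD₁ hdat
      a₁ a rfl ha k3
    exact hS₀ (not_cong_skew_sym h2 hskew hsym hc0
      (by rw [Matrix.transpose_transpose]; exact e))

end Cfsg.Agent.Helper5.PSUSplit
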