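import Mathlib
import Cfsg.Agent.Lib.Helper5.PSUSplit8

/-!
# Statement of S2709
-/

set_option autoImplicit false
set_option linter.unusedSectionVars false
set_option linter.unusedSimpArgs false
set_option linter.unusedVariables false

namespace Cfsg.Agent.Helper5.PSUSplit

open Matrix Cfsg.Agent.Helper13.PSLAut Cfsg.Agent.Helper5 Cfsg.Agent.Helper5.PSUAut
  Cfsg.Agent.Helper5.PSUGr

theorem main {F : Type*} [Field F] [Fintype F] {q : ℕ}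
    (hF : Fintype.card F = q ^ 2) {n : ℕ} (hn : 3 ≤ n) (hs : ¬ (n = 3 ∧ q = 2)) (F₀ : Type*)
    [Field F₀] [Fintype F₀] (hF₀ : Fintype.card F₀ = q) (γ : MulAut (Cfsg.PSU n F q))
    (hγ : Cfsg.IsGraphAutClassPSU γ) (hγ2 : orderOf γ = 2) :
    ((Even n ∧ Odd q ∧ Nonempty (↥(Cfsg.inndiagPSU n F q ⊓ Subgroup.centralizer {γ}) ≃* Cfsg.PGSp (n / 2) F₀)) → Cfsg.splitClassCount (Cfsg.inndiagPSU n F q) (Cfsg.Inn (Cfsg.PSU n F q)) γ = Nat.gcd (n / 2) (q + 1)) ∧ ((Even n ∧ Odd q ∧ ¬ Nonempty (↥(Cfsg.inndiagPSU n F q ⊓ Subgroup.centralizer {γ}) ≃* Cfsg.PGSp (n / 2) F₀)) → Cfsg.splitClassCount (Cfsg.inndiagPSU n F q) (Cfsg.Inn (Cfsg.PSU n F q)) γ = Nat.gcd n (q + 1) / 2) ∧ (¬ (Even n ∧ Odd q) → Cfsg.splitClassCount (Cfsg.inndiagPSU n F q) (Cfsg.Inn (Cfsg.PSU n F q)) γ = Nat.gcd n (q + 1)) := by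
  classical
  obtain ⟨ι₀⟩ := exists_ringHom_of_card hF hF₀
  obtain ⟨e, he⟩ := exists_sigmaQ_ne hF
  set η₀ : F := e - sigmaQ hF e with hη₀def
  have hη₀0 : η₀ ≠ 0 := fun h => he (sub_eq_zero.1 h).symm
  have hη₀ : sigmaQ hF η₀ = -η₀ := by
    rw [hη₀def, map_sub, sigmaQ_sigmaQ]; ring
  obtain ⟨D, S₀, a, ha, rfl, hdetS, hcase⟩ :=
    graph_invol_datum hF hF₀ ι₀ hn hs η₀ hη₀0 hη₀ γ hγ hγ2
  have hnm : Even n → n = 2 * (n / 2) := by
    rintro ⟨k, hk⟩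
    omega
  refine ⟨?_, ?_, ?_⟩
  · rintro ⟨hev, hoddq, hiso⟩
    rcases hcase with ⟨hsym, hdat⟩ | ⟨hsk, hdat⟩
    · exact absurd hiso
        (sym_case hF hF₀ ι₀ hoddq hn hs (hnm hev) η₀ hη₀0 hη₀ hsym hdetS hdat a ha).2
    · rw [(skew_case hF hF₀ ι₀ hoddq hn hs (hnm hev) η₀ hη₀0 hη₀ hsk hdetS hdat a ha).1,
        Nat.gcd_comm]
  · rintro ⟨hev, hoddq, hiso⟩
    rcases hcase with ⟨hsym, hdat⟩ | ⟨hsk, hdat⟩
    · rw [(sym_case hF hF₀ ι₀ hoddq hn hs (hnm hev) η₀ hη₀0 hη₀ hsym hdetS hdat a ha).1]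
      obtain ⟨t, ht⟩ := hoddq
      have hN : q + 1 = 2 * (t + 1) := by omega
      rw [hN, Nat.mul_div_cancel_left (t + 1) (by norm_num : 0 < 2)]
      conv_rhs => rw [hnm hev]
      rw [Nat.gcd_mul_left, Nat.mul_div_cancel_left _ (by norm_num : 0 < 2)]
    · exact absurd
        (skew_case hF hF₀ ι₀ hoddq hn hs (hnm hev) η₀ hη₀0 hη₀ hsk hdetS hdat a ha).2 hiso
  · intro hne
    have hc : Odd n ∨ (2 : F₀) = 0 := by
      by_cases hev : Even n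
      · right
        have hq : ¬ Odd q := fun hq => hne ⟨hev, hq⟩
        have hqe : Even q := Nat.not_odd_iff_even.1 hq
        have h1 : ringChar F₀ = 2 := by
          rw [FiniteField.even_card_iff_char_two, hF₀]
          exact Nat.even_iff.1 hqe
        have : CharP F₀ 2 := by rw [← h1]; exact ringChar.charP F₀
        exact CharTwo.two_eq_zero
      · left
        exact Nat.not_even_iff_odd.1 hev
    rw [Nat.gcd_comm]
    rcases hcase with ⟨hsym, hdat⟩ | ⟨hsk, hdat⟩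
    · exact count_trivial hF hF₀ ι₀ hn hs one_ne_zero hdetS hdat a ha hc
    · exact count_trivial hF hF₀ ι₀ hn hs hη₀0 hdetS hdat a ha hc

end Cfsg.Agent.Helper5.PSUSplit
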