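import Mathlib
import Cfsg.Prelude.Def_FusionSystem
import Cfsg.Prelude.Def_KGroupFacts
import Cfsg.Agent.Lib.Helper87.Psu3Defs
import Cfsg.Agent.Lib.Helper99.Psl3API
import Cfsg.Agent.Lib.Helper23.Psl3SCns

/-!
# PSU3F server of helper87 (S5319): shared base for the pieces (SCU1)/(SCU3)

Inside a nontrivial strongly closed `T ≤ S3U q` of `SU₃(q)`, `q` odd: every involution of `S3U q`
lies in `T`; `iota tau ∈ T`; `iota M ∈ T` for every `M ∈ P2U q` of determinant (= norm) one.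
-/

set_option autoImplicit false

namespace Cfsg.Agent.Helper5.Psu3

open Matrix Cfsg Cfsg.Agent.Helper87.Psl3 Cfsg.Agent.Helper87.Psu3

variable {K : Type*} [Field K] {q : ℕ}

local notation "SL3" => Matrix.SpecialLinearGroup (Fin 3) K
local notation "GL2" => GL (Fin 2) K

theorem scb_herm (u v : Fin 3 → K) :
    Cfsg.hermForm 3 K q u v = u 0 * v 0 ^ q + u 1 * v 1 ^ q + u 2 * v 2 ^ q := by
  unfold Cfsg.hermForm
  rw [Fin.sum_univ_three]

theorem scb_mulVec (X : GL2) (u : Fin 3 → K) :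
    iotaMat X *ᵥ u =
      ![(X : Matrix (Fin 2) (Fin 2) K) 0 0 * u 0 + (X : Matrix (Fin 2) (Fin 2) K) 0 1 * u 1,
        (X : Matrix (Fin 2) (Fin 2) K) 1 0 * u 0 + (X : Matrix (Fin 2) (Fin 2) K) 1 1 * u 1,
        (((Matrix.GeneralLinearGroup.det X : Kˣ)⁻¹ : Kˣ) : K) * u 2] := by
  ext i
  fin_cases i <;> simp [iotaMat, Matrix.mulVec, dotProduct, Fin.sum_univ_three]

/-- membership in `U2 q` unfolded -/
theorem scb_mem_U2 (X : GL2) :
    X ∈ U2 q ↔ ∀ u v : Fin 3 → K,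
      Cfsg.hermForm 3 K q (iotaMat X *ᵥ u) (iotaMat X *ᵥ v) = Cfsg.hermForm 3 K q u v := Iff.rfl

theorem scb_det_tau : (((Matrix.GeneralLinearGroup.det (tau : GL2) : Kˣ)⁻¹ : Kˣ) : K) = -1 := by
  have h : ((Matrix.GeneralLinearGroup.det (tau : GL2) : Kˣ) : K) = -1 := by
    show ((tau : GL2) : Matrix (Fin 2) (Fin 2) K).det = -1
    rw [tau_val, Matrix.det_fin_two_of]
    ring
  have h2 : (Matrix.GeneralLinearGroup.det (tau : GL2) : Kˣ) = -1 := Units.ext (by rw [h]; simp)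
  rw [h2]
  simp

theorem scb_tau_mem_U2 (hodd : q % 2 = 1) : (tau : GL2) ∈ U2 q := by
  have hq : Odd q := Nat.odd_iff.2 hodd
  rw [scb_mem_U2]
  intro u v
  rw [scb_mulVec, scb_mulVec, scb_herm, scb_herm, scb_det_tau]
  simp only [tau_val, Matrix.of_apply, Matrix.cons_val', Matrix.cons_val_zero, Matrix.cons_val_one,
    Matrix.cons_val_two, Matrix.empty_val', Matrix.cons_val_fin_one, Matrix.head_cons,
    Matrix.tail_cons]
  simp only [one_mul, zero_mul, add_zero, zero_add, neg_mul, hq.neg_pow]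
  ring

theorem scb_det_rot (X : GL2) (a b : K) (h : (X : Matrix (Fin 2) (Fin 2) K) = rot a b) :
    ((Matrix.GeneralLinearGroup.det X : Kˣ) : K) = a * a + b * b := by
  show (X : Matrix (Fin 2) (Fin 2) K).det = a * a + b * b
  rw [h, rot, Matrix.det_fin_two_of]
  ring

theorem scb_M0_mem_U2 (hodd : q % 2 = 1) : (M0 : GL2) ∈ U2 q := by
  have hq : Odd q := Nat.odd_iff.2 hodd
  have hd : (Matrix.GeneralLinearGroup.det (M0 : GL2) : Kˣ) = 1 := by
    apply Units.ext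
    rw [scb_det_rot M0 0 1 M0_val]
    simp
  rw [scb_mem_U2]
  intro u v
  rw [scb_mulVec, scb_mulVec, scb_herm, scb_herm, hd]
  simp only [M0_val, rot, Matrix.of_apply, Matrix.cons_val', Matrix.cons_val_zero,
    Matrix.cons_val_one, Matrix.cons_val_two, Matrix.empty_val', Matrix.cons_val_fin_one,
    Matrix.head_cons, Matrix.tail_cons]
  simp only [one_mul, zero_mul, add_zero, zero_add, neg_mul, hq.neg_pow, inv_one, Units.val_one]
  ring

/-- the determinant of a unitary `2 × 2` block has norm one -/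
theorem scb_det_pow (X : GL2) (hX : X ∈ U2 q) :
    ((Matrix.GeneralLinearGroup.det X : Kˣ) : K) ^ (q + 1) = 1 := by
  rw [scb_mem_U2] at hX
  have h := hX ![0, 0, 1] ![0, 0, 1]
  rw [scb_mulVec, scb_herm, scb_herm] at h
  simp only [Matrix.cons_val_zero, Matrix.cons_val_one, Matrix.cons_val_two, Matrix.head_cons,
    Matrix.tail_cons, mul_zero, add_zero, mul_one, one_pow] at h
  set d : Kˣ := Matrix.GeneralLinearGroup.det X with hd
  have h1 : ((d⁻¹ : Kˣ) : K) ^ (q + 1) = 1 := by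
    rw [pow_succ']
    have hq0 : (0 : K) ^ q = 0 ∨ q = 0 := by
      by_cases hq : q = 0
      · right; exact hq
      · left; exact zero_pow hq
    rcases hq0 with h0 | h0
    · simpa [h0] using h
    · subst h0
      simpa using h
  have h2 : ((d⁻¹ : Kˣ) : K) ^ (q + 1) * (d : K) ^ (q + 1) = 1 := by
    rw [← mul_pow, ← Units.val_mul, inv_mul_cancel, Units.val_one, one_pow]
  rw [h1, one_mul] at h2
  exact h2

/-- an element of `U2 q` as an element of `SU₃(q)` -/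
def iotaU (X : GL2) (hX : X ∈ U2 q) : ↥(Cfsg.SU 3 K q) := ⟨iota X, hX⟩

@[simp] theorem iotaU_val (X : GL2) (hX : X ∈ U2 q) : ((iotaU X hX : ↥(Cfsg.SU 3 K q)) : SL3) = iota X :=
  rfl

theorem iotaU_mul (X Y : GL2) (hX : X ∈ U2 q) (hY : Y ∈ U2 q) :
    iotaU (X * Y) ((U2 q).mul_mem hX hY) = iotaU X hX * iotaU Y hY :=
  Subtype.ext (map_mul iota X Y)

theorem iotaU_inv (X : GL2) (hX : X ∈ U2 q) :
    iotaU X⁻¹ ((U2 q).inv_mem hX) = (iotaU X hX)⁻¹ :=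
  Subtype.ext (map_inv iota X)

theorem iotaU_mem_S3U (X : GL2) (hX : X ∈ U2 q) (hS : X ∈ S2) :
    iotaU X hX ∈ S3U q := by
  rw [mem_S3U_iff]
  exact Subgroup.mem_map_of_mem _ hS

/-- every element of `S3U q` is `iotaU X` with `X ∈ S2 ⊓ U2 q` -/
theorem scb_exists_of_mem_S3U (g : ↥(Cfsg.SU 3 K q)) (hg : g ∈ S3U q) :
    ∃ (X : GL2) (hX : X ∈ U2 q), X ∈ S2 ∧ g = iotaU X hX := by
  rw [mem_S3U_iff] at hg
  obtain ⟨X, hXS, hXg⟩ := Subgroup.mem_map.1 hg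
  have hXU : X ∈ U2 q := by
    rw [mem_U2_iff, hXg]
    exact g.2
  exact ⟨X, hXU, hXS, Subtype.ext hXg.symm⟩

section closed

variable (T : Subgroup ↥(Cfsg.SU 3 K q))

/-- a nontrivial subgroup of `S3U q` contains an involution -/
theorem scb_exists_involution (hT : T ≤ S3U q) (hT1 : T ≠ ⊥) :
    ∃ t0 ∈ T, t0 * t0 = 1 ∧ t0 ≠ 1 := by
  classical
  obtain ⟨⟨t, htT⟩, ht1⟩ := (Subgroup.ne_bot_iff_exists_ne_one).1 hT1
  have ht1' : t ≠ 1 := fun h => ht1 (Subtype.ext h)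
  have htS : (t : SL3) ∈ S3 := (mem_S3U_iff q t).1 (hT htT)
  obtain ⟨k, hk⟩ := Cfsg.Agent.Helper99.Psl3.isPGroup_S3 ⟨(t : SL3), htS⟩
  have hk' : t ^ (2 ^ k) = 1 := by
    apply Subtype.ext
    have := congrArg Subtype.val hk
    simpa using this
  have hex : ∃ k, t ^ (2 ^ k) = 1 := ⟨k, hk'⟩
  obtain ⟨k0, hk0spec, hk0min⟩ : ∃ k0, t ^ (2 ^ k0) = 1 ∧ ∀ j < k0, t ^ (2 ^ j) ≠ 1 :=
    ⟨Nat.find hex, Nat.find_spec hex, fun j hj => Nat.find_min hex hj⟩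
  have hk0pos : k0 ≠ 0 := by
    intro h
    rw [h, pow_zero, pow_one] at hk0spec
    exact ht1' hk0spec
  obtain ⟨j, hj⟩ := Nat.exists_eq_succ_of_ne_zero hk0pos
  refine ⟨t ^ (2 ^ j), T.pow_mem htT _, ?_, hk0min j (by omega)⟩
  rw [← pow_two, ← pow_mul, ← pow_succ, ← Nat.succ_eq_add_one, ← hj]
  exact hk0spec

/-- all involutions of `S3U q` lie in a nontrivial strongly closed subgroup -/
theorem scb_involution_mem
    (hINV : ∀ g : ↥(Cfsg.SU 3 K q), g * g = 1 → g ≠ 1 →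
      ∃ c : ↥(Cfsg.SU 3 K q), ((c * g * c⁻¹ : ↥(Cfsg.SU 3 K q)) : SL3) = zz)
    (hT : T ≤ S3U q) (hT1 : T ≠ ⊥)
    (hcl : ∀ t ∈ T, ∀ g : ↥(Cfsg.SU 3 K q),
      g * t * g⁻¹ ∈ (S3U q : Subgroup ↥(Cfsg.SU 3 K q)) → g * t * g⁻¹ ∈ T)
    (s : ↥(Cfsg.SU 3 K q)) (hs : s * s = 1) (hs1 : s ≠ 1)
    (hsS : s ∈ S3U q) : s ∈ T := by
  obtain ⟨t0, ht0T, ht0sq, ht0ne⟩ := scb_exists_involution T hT hT1
  obtain ⟨c1, hc1⟩ := hINV t0 ht0sq ht0ne
  obtain ⟨c2, hc2⟩ := hINV s hs hs1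
  have hc12 : c1 * t0 * c1⁻¹ = c2 * s * c2⁻¹ := Subtype.ext (hc1.trans hc2.symm)
  have h1 : (c2⁻¹ * c1) * t0 * (c2⁻¹ * c1)⁻¹ = s := by
    have : (c2⁻¹ * c1) * t0 * (c2⁻¹ * c1)⁻¹ = c2⁻¹ * (c1 * t0 * c1⁻¹) * c2 := by group
    rw [this, hc12]
    group
  have h3 := hcl t0 ht0T (c2⁻¹ * c1) (by rw [h1]; exact hsS)
  rwa [h1] at h3

theorem scb_neg_one_ne (h2 : (2 : K) ≠ 0) : (-1 : K) ≠ 1 := by
  intro h
  apply h2
  have : (2 : K) = 1 - (-1) := by ring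
  rw [this, h, sub_self]

theorem scb_iotaU_ne_one {X : GL2} (hX : X ∈ U2 q)
    (h : (X : Matrix (Fin 2) (Fin 2) K) 1 1 ≠ 1) : iotaU X hX ≠ 1 := by
  intro h1
  have h2 : (iota X : SL3) = 1 := congrArg Subtype.val h1
  exact Cfsg.Agent.Helper23.Psl3.scn_iota_ne_one h h2

/-- `iota tau ∈ T` -/
theorem scb_tau_mem
    (hINV : ∀ g : ↥(Cfsg.SU 3 K q), g * g = 1 → g ≠ 1 →
      ∃ c : ↥(Cfsg.SU 3 K q), ((c * g * c⁻¹ : ↥(Cfsg.SU 3 K q)) : SL3) = zz)
    (hT : T ≤ S3U q) (hT1 : T ≠ ⊥)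
    (hcl : ∀ t ∈ T, ∀ g : ↥(Cfsg.SU 3 K q),
      g * t * g⁻¹ ∈ (S3U q : Subgroup ↥(Cfsg.SU 3 K q)) → g * t * g⁻¹ ∈ T)
    (h2 : (2 : K) ≠ 0) (hodd : q % 2 = 1) :
    iotaU tau (scb_tau_mem_U2 hodd) ∈ T := by
  have htauS2 : (tau : GL2) ∈ S2 :=
    (le_sup_right : Subgroup.zpowers tau ≤ S2) (Subgroup.mem_zpowers tau)
  apply scb_involution_mem T hINV hT hT1 hcl
  · rw [← iotaU_mul]
    apply Subtype.ext
    show iota (tau * tau) = 1
    rw [Cfsg.Agent.Helper99.Psl3.tau_mul_tau, map_one]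
  · apply scb_iotaU_ne_one
    rw [tau_val]
    simp only [Matrix.of_apply, Matrix.cons_val', Matrix.cons_val_one,
      Matrix.empty_val', Matrix.cons_val_fin_one]
    exact scb_neg_one_ne h2
  · exact iotaU_mem_S3U _ _ htauS2

/-- `iota M ∈ T` for `M ∈ P2U q` of norm one -/
theorem scb_norm_one_mem
    (hINV : ∀ g : ↥(Cfsg.SU 3 K q), g * g = 1 → g ≠ 1 →
      ∃ c : ↥(Cfsg.SU 3 K q), ((c * g * c⁻¹ : ↥(Cfsg.SU 3 K q)) : SL3) = zz)
    (hT : T ≤ S3U q) (hT1 : T ≠ ⊥)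
    (hcl : ∀ t ∈ T, ∀ g : ↥(Cfsg.SU 3 K q),
      g * t * g⁻¹ ∈ (S3U q : Subgroup ↥(Cfsg.SU 3 K q)) → g * t * g⁻¹ ∈ T)
    (h2 : (2 : K) ≠ 0) (hodd : q % 2 = 1) (M : GL2) (hM : M ∈ P2U q)
    (a b : K) (hab : (M : Matrix (Fin 2) (Fin 2) K) = rot a b) (h1 : a * a + b * b = 1) :
    iotaU M hM.2 ∈ T := by
  have hneg := scb_neg_one_ne (K := K) h2
  have htauS2 : (tau : GL2) ∈ S2 :=
    (le_sup_right : Subgroup.zpowers tau ≤ S2) (Subgroup.mem_zpowers tau)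
  have hP2S2 : (P2 : Subgroup GL2) ≤ S2 := le_sup_left
  have htU := scb_tau_mem_U2 (K := K) hodd
  have hv := Cfsg.Agent.Helper23.Psl3.scn_mul_tau_val M a b hab
  have hsq : (M * tau) * (M * tau) = 1 := by
    apply Units.ext
    rw [Units.val_mul, hv, Cfsg.Agent.Helper23.Psl3.scn_sq_val, h1, one_smul, Units.val_one]
  have hMtU : M * tau ∈ U2 q := (U2 q).mul_mem hM.2 htU
  have hmem : iotaU (M * tau) hMtU ∈ T := by
    apply scb_involution_mem T hINV hT hT1 hcl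
    · rw [← iotaU_mul]
      apply Subtype.ext
      show iota ((M * tau) * (M * tau)) = 1
      rw [hsq, map_one]
    · intro h
      have h' : (iota (M * tau) : SL3) = 1 := congrArg Subtype.val h
      have ha : a = 1 := by
        have h3 := congrArg (fun g : SL3 => (g : Matrix (Fin 3) (Fin 3) K) 0 0) h'
        have e : ((iota (M * tau) : SL3) : Matrix (Fin 3) (Fin 3) K) 0 0 =
            ((M * tau : GL2) : Matrix (Fin 2) (Fin 2) K) 0 0 := rfl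
        simp only [e, hv] at h3
        simpa using h3
      have ha' : -a = 1 := by
        have h3 := congrArg (fun g : SL3 => (g : Matrix (Fin 3) (Fin 3) K) 1 1) h'
        have e : ((iota (M * tau) : SL3) : Matrix (Fin 3) (Fin 3) K) 1 1 =
            ((M * tau : GL2) : Matrix (Fin 2) (Fin 2) K) 1 1 := rfl
        simp only [e, hv] at h3
        simpa using h3
      rw [ha] at ha'
      exact hneg ha'
    · exact iotaU_mem_S3U _ _ (S2.mul_mem (hP2S2 hM.1) htauS2)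
  have : iotaU M hM.2 = iotaU (M * tau) hMtU * iotaU tau htU := by
    apply Subtype.ext
    show (iota M : SL3) = iota (M * tau) * iota tau
    rw [← map_mul, mul_assoc, Cfsg.Agent.Helper99.Psl3.tau_mul_tau, mul_one]
  rw [this]
  exact T.mul_mem hmem (scb_tau_mem T hINV hT hT1 hcl h2 hodd)

end closed

end Cfsg.Agent.Helper5.Psu3
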