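import Mathlib
import Cfsg.Prelude.Def_FusionSystem
import Cfsg.Prelude.Def_KGroupFacts
import Cfsg.Agent.Lib.Helper87.Psu3Defs
import Cfsg.Agent.Lib.Helper5.Psu3SCBase

/-!
# PSU3F server of helper87 (S5319): piece (SCU1) `strongly_closed_U_one`

No proper nontrivial strongly closed subgroup of `S3U q` when `q ≡ 1 mod 4`.
-/

set_option autoImplicit false

namespace Cfsg.Agent.Helper5.Psu3

open Matrix Cfsg Cfsg.Agent.Helper87.Psl3 Cfsg.Agent.Helper87.Psu3

variable {K : Type*} [Field K] {q : ℕ}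

local notation "SL3" => Matrix.SpecialLinearGroup (Fin 3) K
local notation "GL2" => GL (Fin 2) K

/-- a `2`-element of the norm one group is `±1` when `q ≡ 1 mod 4` -/
theorem scu1_pm_one (hq : q % 4 = 1) (d : K) (m : ℕ) (h1 : d ^ (2 ^ m) = 1)
    (h2 : d ^ (q + 1) = 1) : d = 1 ∨ d = -1 := by
  have hg : d ^ (Nat.gcd (2 ^ m) (q + 1)) = 1 := pow_gcd_eq_one.2 ⟨h1, h2⟩
  have hdvd : Nat.gcd (2 ^ m) (q + 1) ∣ 2 := by
    obtain ⟨j, hj, hgj⟩ := (Nat.dvd_prime_pow Nat.prime_two).1 (Nat.gcd_dvd_left (2 ^ m) (q + 1))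
    rw [hgj]
    have hj2 : 2 ^ j ∣ q + 1 := hgj ▸ Nat.gcd_dvd_right (2 ^ m) (q + 1)
    have hj1 : j ≤ 1 := by
      by_contra hcon
      have hcon' : 2 ≤ j := by omega
      have h4 : 2 ^ 2 ∣ q + 1 := dvd_trans (pow_dvd_pow 2 hcon') hj2
      omega
    calc 2 ^ j ∣ 2 ^ 1 := pow_dvd_pow 2 hj1
      _ = 2 := pow_one 2
  have hsq : d ^ 2 = 1 := by
    obtain ⟨c, hc⟩ := hdvd
    rw [hc, pow_mul, hg, one_pow]
  have h3 : (d - 1) * (d + 1) = 0 := by linear_combination hsq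
  rcases mul_eq_zero.1 h3 with h4 | h4
  · left; exact sub_eq_zero.1 h4
  · right; exact eq_neg_of_add_eq_zero_left h4

/-- the norm of an element of `P2U q` is `±1` when `q ≡ 1 mod 4` -/
theorem scu1_norm (hq : q % 4 = 1) {M : GL2} (hM : M ∈ P2U q) (a b : K)
    (hab : (M : Matrix (Fin 2) (Fin 2) K) = rot a b) :
    a * a + b * b = 1 ∨ a * a + b * b = -1 := by
  obtain ⟨⟨-, m, hm⟩, hU⟩ := hM
  have h1 : (rot a b) ^ (2 ^ m) = 1 := by
    rw [← hab, ← Units.val_pow_eq_pow_val, hm, Units.val_one]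
  have h2 := congrArg Matrix.det h1
  rw [Matrix.det_pow, Matrix.det_one] at h2
  have h3 : (rot a b).det = a * a + b * b := by
    rw [rot, Matrix.det_fin_two_of]
    ring
  rw [h3] at h2
  have h4 := scb_det_pow M hU
  rw [scb_det_rot M a b hab] at h4
  exact scu1_pm_one hq _ m h2 h4

theorem strongly_closed_U_one [Fintype K] (hK : Fintype.card K = q ^ 2) (hq : q % 4 = 1)
    (hINV : ∀ g : ↥(Cfsg.SU 3 K q), g * g = 1 → g ≠ 1 → ∃ c : ↥(Cfsg.SU 3 K q), ((c * g * c⁻¹ : ↥(Cfsg.SU 3 K q)) : SL3) = zz)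
    (hC4 : ∀ X : GL2, X ∈ U2 q → X * X = sc (-1) → (∀ c : Kˣ, X ≠ sc c) →
      ∃ C : GL2, C ∈ U2 q ∧ C * X * C⁻¹ = M0)
    (T : Subgroup ↥(Cfsg.SU 3 K q)) (hT : T ≤ S3U q) (hT1 : T ≠ ⊥)
    (hcl : ∀ t ∈ T, ∀ g : ↥(Cfsg.SU 3 K q), g * t * g⁻¹ ∈ (S3U q : Subgroup ↥(Cfsg.SU 3 K q)) → g * t * g⁻¹ ∈ T) :
    T = S3U q := by
  classical
  have hodd : q % 2 = 1 := by omega
  -- `2 ≠ 0` in `K`
  have h2 : (2 : K) ≠ 0 := by
    intro h20
    have hc : ((Fintype.card K : ℕ) : K) = 0 := Nat.cast_card_eq_zero K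
    have hoddq : Odd (q ^ 2) := (Nat.odd_iff.2 hodd).pow
    obtain ⟨k, hk⟩ := hoddq
    rw [hK, hk] at hc
    push_cast at hc
    rw [h20, zero_mul, zero_add] at hc
    exact one_ne_zero hc
  have htauS2 : (tau : GL2) ∈ S2 :=
    (le_sup_right : Subgroup.zpowers tau ≤ S2) (Subgroup.mem_zpowers tau)
  have hP2S2 : (P2 : Subgroup GL2) ≤ S2 := le_sup_left
  have htU := scb_tau_mem_U2 (K := K) hodd
  have htauT := scb_tau_mem T hINV hT hT1 hcl h2 hodd
  have hnorm1 := scb_norm_one_mem T hINV hT hT1 hcl h2 hodd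
  have hM0P : (M0 : GL2) ∈ P2U q := ⟨Cfsg.Agent.Helper99.Psl3.M0_mem_P2, scb_M0_mem_U2 hodd⟩
  have hM0T : iotaU M0 hM0P.2 ∈ T := hnorm1 M0 hM0P 0 1 M0_val (by ring)
  -- norm minus one
  have hnormm1 : ∀ (M : GL2) (hM : M ∈ P2U q) (a b : K),
      (M : Matrix (Fin 2) (Fin 2) K) = rot a b → a * a + b * b = -1 → iotaU M hM.2 ∈ T := by
    intro M hM a b hab h1
    have hv := Cfsg.Agent.Helper23.Psl3.scn_mul_tau_val M a b hab
    have hMtU : M * tau ∈ U2 q := (U2 q).mul_mem hM.2 htU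
    have hsq : (M * tau) * (M * tau) = sc (-1) := by
      apply Units.ext
      rw [Units.val_mul, hv, Cfsg.Agent.Helper23.Psl3.scn_sq_val, h1]
      ext i j
      fin_cases i <;> fin_cases j <;> simp [sc, Matrix.GeneralLinearGroup.coe_scalar]
    have hnsc : ∀ c : Kˣ, M * tau ≠ sc c := by
      intro c h
      have h3 := congrArg (fun g : GL2 => (g : Matrix (Fin 2) (Fin 2) K)) h
      simp only [hv] at h3
      have e00 := congrFun (congrFun h3 0) 0
      have e11 := congrFun (congrFun h3 1) 1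
      simp [sc, Matrix.GeneralLinearGroup.coe_scalar] at e00 e11
      have h4 : (2 : K) * (c : K) = 0 := by linear_combination (-1 : K) * e00 - e11
      rcases mul_eq_zero.1 h4 with h5 | h5
      · exact h2 h5
      · exact c.ne_zero h5
    obtain ⟨C, hCU, hC⟩ := hC4 (M * tau) hMtU hsq hnsc
    have hmem : iotaU (M * tau) hMtU ∈ T := by
      have h3 : (iotaU C hCU)⁻¹ * iotaU M0 hM0P.2 * ((iotaU C hCU)⁻¹)⁻¹ = iotaU (M * tau) hMtU := by
        apply Subtype.ext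
        show (iota C)⁻¹ * iota M0 * ((iota C)⁻¹)⁻¹ = (iota (M * tau) : SL3)
        rw [← hC]
        simp only [map_mul, map_inv]
        group
      have h4 := hcl (iotaU M0 hM0P.2) hM0T (iotaU C hCU)⁻¹
        (by rw [h3]; exact iotaU_mem_S3U _ _ (S2.mul_mem (hP2S2 hM.1) htauS2))
      rwa [h3] at h4
    have : iotaU M hM.2 = iotaU (M * tau) hMtU * iotaU tau htU := by
      apply Subtype.ext
      show (iota M : SL3) = iota (M * tau) * iota tau
      rw [← map_mul, mul_assoc, Cfsg.Agent.Helper99.Psl3.tau_mul_tau, mul_one]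
    rw [this]
    exact T.mul_mem hmem htauT
  -- every element of `P2U q` lies in `T`
  have hP2T : ∀ (M : GL2) (hM : M ∈ P2U q), iotaU M hM.2 ∈ T := by
    intro M hM
    obtain ⟨a, b, hab⟩ := (mem_Eu_iff M).1 hM.1.1
    rcases scu1_norm hq hM a b hab with h | h
    · exact hnorm1 M hM a b hab h
    · exact hnormm1 M hM a b hab h
  -- conclusion
  apply le_antisymm hT
  intro g hg
  obtain ⟨X, hXU, hXS, rfl⟩ := scb_exists_of_mem_S3U g hg
  rcases (Cfsg.Agent.Helper99.Psl3.mem_S2_iff X).1 hXS with h | h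
  · exact hP2T X ⟨h, hXU⟩
  · have hXtU : X * tau ∈ U2 q := (U2 q).mul_mem hXU htU
    have h5 := hP2T (X * tau) ⟨h, hXtU⟩
    have : iotaU X hXU = iotaU (X * tau) hXtU * iotaU tau htU := by
      apply Subtype.ext
      show (iota X : SL3) = iota (X * tau) * iota tau
      rw [← map_mul, mul_assoc, Cfsg.Agent.Helper99.Psl3.tau_mul_tau, mul_one]
    rw [this]
    exact T.mul_mem h5 htauT

end Cfsg.Agent.Helper5.Psu3
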