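import Mathlib
import Cfsg.Prelude.Def_Classical
import Cfsg.Agent.Lib.Helper5.SUCenter
import Cfsg.Agent.Lib.Helper19.HermCount
import Cfsg.Agent.Lib.Helper5.SL2Sylow
import Cfsg.Agent.S0278

set_option autoImplicit false

namespace Cfsg.Agent.Helper5

open Matrix

section general

variable {F : Type*} [Field F] {n q : ℕ}

/-- A determinant-one matrix `B` with `Bᵀ * B^φ = 1` (`φ x = x^q`) is in `SU`. -/
lemma mem_SU_of_transpose_mul_map (φ : F →+* F) (hφ : ∀ x, φ x = x ^ q)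
    (B : Matrix.SpecialLinearGroup (Fin n) F) (hB : B.valᵀ * B.val.map φ = 1) :
    B ∈ Cfsg.SU n F q := by
  rw [mem_SU_iff]
  intro u v
  have h1 : ∀ w z : Fin n → F, Cfsg.hermForm n F q w z = w ⬝ᵥ (φ ∘ z) := by
    intro w z
    simp only [Cfsg.hermForm, dotProduct, Function.comp_apply, hφ]
  rw [h1, h1]
  have h2 : φ ∘ (B.val *ᵥ v) = B.val.map φ *ᵥ (φ ∘ v) := by
    ext i
    exact RingHom.map_mulVec φ B.val v i
  rw [h2, ← Matrix.vecMul_transpose, ← Matrix.dotProduct_mulVec, Matrix.mulVec_mulVec, hB,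
    Matrix.one_mulVec]

/-- `Aᵀ J A = det A • J` for `2 × 2` matrices. -/
lemma transpose_mul_J_mul (A : Matrix (Fin 2) (Fin 2) F) :
    Aᵀ * !![0, 1; -1, 0] * A = A.det • (!![0, 1; -1, 0] : Matrix (Fin 2) (Fin 2) F) := by
  rw [Matrix.det_fin_two]
  ext i j
  fin_cases i <;> fin_cases j <;>
    simp [Matrix.mul_apply, Fin.sum_univ_two] <;> ring

end general


section conj

variable {F K : Type*} [Field F] [Field K] {q : ℕ}

lemma conj_transpose_mul_map (φ : F →+* F) (P Q : Matrix (Fin 2) (Fin 2) F) (hPQ : P * Q = 1)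
    (ε : F) (hP : Pᵀ * P.map φ = ε • (!![0, 1; -1, 0] : Matrix (Fin 2) (Fin 2) F))
    (A : Matrix (Fin 2) (Fin 2) F) (hAφ : A.map φ = A) (hdet : A.det = 1) :
    (P * A * Q)ᵀ * (P * A * Q).map φ = 1 := by
  calc (P * A * Q)ᵀ * (P * A * Q).map φ
      = Qᵀ * (Aᵀ * (Pᵀ * P.map φ) * A) * Q.map φ := by
        rw [Matrix.transpose_mul, Matrix.transpose_mul, Matrix.map_mul, Matrix.map_mul, hAφ]
        simp only [Matrix.mul_assoc]
    _ = Qᵀ * (Pᵀ * P.map φ) * Q.map φ := by
        rw [hP, Matrix.mul_smul, Matrix.smul_mul, transpose_mul_J_mul, hdet, one_smul]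
    _ = (P * Q)ᵀ * (P * Q).map φ := by
        rw [Matrix.transpose_mul, Matrix.map_mul]
        simp only [Matrix.mul_assoc]
    _ = 1 := by
        rw [hPQ, Matrix.transpose_one, Matrix.map_one _ (map_zero φ) (map_one φ), Matrix.one_mul]

/-- Conjugation by an invertible matrix, on `SL₂`. -/
noncomputable def conjSL (P Q : Matrix (Fin 2) (Fin 2) F) (hPQ : P * Q = 1) (hQP : Q * P = 1) :
    Matrix.SpecialLinearGroup (Fin 2) F →* Matrix.SpecialLinearGroup (Fin 2) F where
  toFun B := ⟨P * B.val * Q, by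
    rw [Matrix.det_mul, Matrix.det_mul, mul_right_comm, ← Matrix.det_mul, hPQ, Matrix.det_one,
      one_mul, B.2]⟩
  map_one' := Subtype.ext (by
    change P * (1 : Matrix (Fin 2) (Fin 2) F) * Q = 1
    rw [Matrix.mul_one, hPQ])
  map_mul' B C := Subtype.ext (by
    change P * (B.val * C.val) * Q = (P * B.val * Q) * (P * C.val * Q)
    calc P * (B.val * C.val) * Q = P * B.val * 1 * C.val * Q := by
          simp only [Matrix.mul_assoc, Matrix.one_mul]
      _ = P * B.val * (Q * P) * C.val * Q := by rw [hQP]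
      _ = (P * B.val * Q) * (P * C.val * Q) := by simp only [Matrix.mul_assoc])

lemma conjSL_val (P Q : Matrix (Fin 2) (Fin 2) F) (hPQ : P * Q = 1) (hQP : Q * P = 1)
    (B : Matrix.SpecialLinearGroup (Fin 2) F) : (conjSL P Q hPQ hQP B).val = P * B.val * Q := rfl

lemma conjSL_injective (P Q : Matrix (Fin 2) (Fin 2) F) (hPQ : P * Q = 1) (hQP : Q * P = 1) :
    Function.Injective (conjSL P Q hPQ hQP) := by
  intro B C h
  have h1 := congrArg Subtype.val h
  rw [conjSL_val, conjSL_val] at h1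
  apply Subtype.ext
  calc B.val = (Q * P) * B.val * (Q * P) := by rw [hQP, Matrix.one_mul, Matrix.mul_one]
    _ = Q * (P * B.val * Q) * P := by simp only [Matrix.mul_assoc]
    _ = Q * (P * C.val * Q) * P := by rw [h1]
    _ = (Q * P) * C.val * (Q * P) := by simp only [Matrix.mul_assoc]
    _ = C.val := by rw [hQP, Matrix.one_mul, Matrix.mul_one]

/-- The embedding `SL₂(K) → SU₂(F)`. -/
noncomputable def sl2ToSU2 (φ : F →+* F) (hφ : ∀ x, φ x = x ^ q) (ι : K →+* F)
    (hι : ∀ k, φ (ι k) = ι k) (P Q : Matrix (Fin 2) (Fin 2) F) (hPQ : P * Q = 1)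
    (hQP : Q * P = 1) (ε : F)
    (hP : Pᵀ * P.map φ = ε • (!![0, 1; -1, 0] : Matrix (Fin 2) (Fin 2) F)) :
    Matrix.SpecialLinearGroup (Fin 2) K →* Cfsg.SU 2 F q :=
  ((conjSL P Q hPQ hQP).comp (Matrix.SpecialLinearGroup.map ι)).codRestrict (Cfsg.SU 2 F q) (by
    intro A
    apply mem_SU_of_transpose_mul_map φ hφ
    change (P * (ι.mapMatrix A.val) * Q)ᵀ * (P * (ι.mapMatrix A.val) * Q).map φ = 1
    apply conj_transpose_mul_map φ P Q hPQ ε hP
    · rw [RingHom.mapMatrix_apply, Matrix.map_map]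
      ext i j
      simp only [Matrix.map_apply, Function.comp_apply, hι]
    · rw [← RingHom.map_det, A.2, map_one])

lemma sl2ToSU2_injective (φ : F →+* F) (hφ : ∀ x, φ x = x ^ q) (ι : K →+* F)
    (hι : ∀ k, φ (ι k) = ι k) (P Q : Matrix (Fin 2) (Fin 2) F) (hPQ : P * Q = 1)
    (hQP : Q * P = 1) (ε : F)
    (hP : Pᵀ * P.map φ = ε • (!![0, 1; -1, 0] : Matrix (Fin 2) (Fin 2) F)) :
    Function.Injective (sl2ToSU2 (q := q) φ hφ ι hι P Q hPQ hQP ε hP) := by
  intro A B h
  have h1 := congrArg Subtype.val h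
  change conjSL P Q hPQ hQP (Matrix.SpecialLinearGroup.map ι A) =
    conjSL P Q hPQ hQP (Matrix.SpecialLinearGroup.map ι B) at h1
  have h2 := conjSL_injective P Q hPQ hQP h1
  apply Subtype.ext
  ext i j
  have h3 := congrArg (fun M : Matrix.SpecialLinearGroup (Fin 2) F => M.val i j) h2
  simp only [Matrix.SpecialLinearGroup.map_apply_coe, RingHom.mapMatrix_apply,
    Matrix.map_apply] at h3
  exact ι.injective h3

end conj


section data

open Cfsg.Agent.Helper19

variable {F : Type*} [Field F] [Fintype F] {q : ℕ}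

/-- The ring homomorphism `x ↦ x^q`. -/
lemma exists_frob (hF : Fintype.card F = q ^ 2) :
    ∃ φ : F →+* F, (∀ x, φ x = x ^ q) ∧ (∀ x, φ (φ x) = x) := by
  obtain ⟨p, hp, hc, j, rfl⟩ := herm_q_eq_pow hF
  have : ExpChar F p := ExpChar.prime hp.out
  have hdef : ∀ x, iterateFrobenius F p j x = x ^ p ^ j := fun x => rfl
  refine ⟨iterateFrobenius F p j, hdef, fun x => ?_⟩
  rw [hdef, hdef, ← pow_mul, ← pow_two]
  have := FiniteField.pow_card x
  rw [hF] at this
  exact this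

lemma exists_two_norm_neg_one (hF : Fintype.card F = q ^ 2) :
    ∃ η η' : F, η ^ (q + 1) = -1 ∧ η' ^ (q + 1) = -1 ∧ η ≠ η' := by
  classical
  have h1 : (-1 : F) ∈ hermFixed F q := neg_mem_hermFixed hF one_mem_hermFixed
  have h2 := (herm_sandwich hF).2 (-1) h1
  have hq := herm_two_le hF
  have h3 : 1 < (Finset.univ.filter (fun x : F => x ^ (q + 1) = -1)).card := by
    rw [h2]; omega
  obtain ⟨η, hη, η', hη', hne⟩ := Finset.one_lt_card.1 h3
  exact ⟨η, η', (Finset.mem_filter.1 hη).2, (Finset.mem_filter.1 hη').2, hne⟩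

lemma exists_not_fixed (hF : Fintype.card F = q ^ 2) : ∃ x : F, x ^ q ≠ x := by
  classical
  by_contra hcon
  push Not at hcon
  have hq := herm_two_le hF
  have h1 : (Finset.univ.filter (fun x : F => x ≠ 0)) ⊆ hermFixed F q := by
    intro x hx
    rw [mem_hermFixed]
    exact ⟨(Finset.mem_filter.1 hx).2, hcon x⟩
  have h2 := Finset.card_le_card h1
  rw [Finset.filter_ne', Finset.card_erase_of_mem (Finset.mem_univ _), Finset.card_univ, hF] at h2
  have h3 := card_hermFixed_le hF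
  have h4 : q * 2 ≤ q ^ 2 := by rw [pow_two]; exact Nat.mul_le_mul_left _ hq
  omega


lemma gram_P (φ : F →+* F) (hφφ : ∀ x, φ (φ x) = x) (η η' c δ : F)
    (hη : η * φ η = -1) (hη' : η' * φ η' = -1) (hc : c * (1 + η' * φ η) = δ)
    (hδ : φ δ = -δ) :
    (!![1, c; η, c * η'] : Matrix (Fin 2) (Fin 2) F)ᵀ *
      (!![1, c; η, c * η'] : Matrix (Fin 2) (Fin 2) F).map φ =
      (-δ) • (!![0, 1; -1, 0] : Matrix (Fin 2) (Fin 2) F) := by
  have h := congrArg φ hc
  simp only [map_mul, map_add, map_one, hφφ] at h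
  ext i j
  fin_cases i <;> fin_cases j <;>
    simp [Matrix.mul_apply, Fin.sum_univ_two]
  · linear_combination hη
  · linear_combination h + hδ
  · linear_combination hc
  · linear_combination (c * φ c) * hη'

/-- A field with `q` elements embeds in a field with `q²` elements. -/
lemma exists_ringHom_of_card_sq {K : Type*} [Field K] [Fintype K] (hK : Fintype.card K = q)
    (hF : Fintype.card F = q ^ 2) : Nonempty (K →+* F) := by
  obtain ⟨p, hp, hcF, j, hj⟩ := herm_q_eq_pow hF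
  have hcK : CharP K p := by
    obtain ⟨p', hp'⟩ := CharP.exists K
    have hp'prime : p'.Prime := CharP.char_is_prime K p'
    have h1 : ((Fintype.card K : ℕ) : K) = 0 := Nat.cast_card_eq_zero K
    rw [hK, hj] at h1
    have h2 : p' ∣ p ^ j := (CharP.cast_eq_zero_iff K p' _).1 h1
    have h3 : p' ∣ p := hp'prime.dvd_of_dvd_pow h2
    have h4 : p' = p := (Nat.prime_dvd_prime_iff_eq hp'prime hp.out).1 h3
    rw [← h4]
    exact hp'
  letI : Algebra (ZMod p) K := ZMod.algebra K p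
  letI : Algebra (ZMod p) F := ZMod.algebra F p
  have h1 : p ^ Module.finrank (ZMod p) K = Fintype.card K := FiniteField.pow_finrank_eq_card p K
  have h2 : p ^ Module.finrank (ZMod p) F = Fintype.card F := FiniteField.pow_finrank_eq_card p F
  have h3 : Module.finrank (ZMod p) F = Module.finrank (ZMod p) K * 2 := by
    apply Nat.pow_right_injective hp.out.two_le
    change p ^ _ = p ^ _
    rw [h2, hF, ← hK, ← h1, pow_mul]
  obtain ⟨f⟩ := FiniteField.nonempty_algHom_of_finrank_dvd (F := ZMod p) (K := K) (L := F)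
    ⟨2, h3⟩
  exact ⟨f.toRingHom⟩

theorem su2_equiv_sl2 {K : Type*} [Field K] [Fintype K] (hF : Fintype.card F = q ^ 2)
    (hK : Fintype.card K = q) :
    Nonempty (Cfsg.SU 2 F q ≃* Matrix.SpecialLinearGroup (Fin 2) K) := by
  obtain ⟨φ, hφ, hφφ⟩ := exists_frob hF
  obtain ⟨ι⟩ := exists_ringHom_of_card_sq hK hF
  have hι : ∀ k, φ (ι k) = ι k := by
    intro k
    rw [hφ, ← map_pow, ← hK, FiniteField.pow_card]
  obtain ⟨η, η', hη, hη', hne⟩ := exists_two_norm_neg_one hF
  obtain ⟨x, hx⟩ := exists_not_fixed hF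
  obtain ⟨δ, hδdef⟩ : ∃ δ, δ = x - φ x := ⟨_, rfl⟩
  have hδ : φ δ = -δ := by
    rw [hδdef, map_sub, hφφ]; ring
  have hδ0 : δ ≠ 0 := by
    rw [hδdef, hφ]
    exact sub_ne_zero.2 (Ne.symm hx)
  have hη1 : η * φ η = -1 := by rw [hφ, ← pow_succ']; exact hη
  have hη'1 : η' * φ η' = -1 := by rw [hφ, ← pow_succ']; exact hη'
  have hw : 1 + η' * φ η ≠ 0 := by
    intro h
    apply hne
    have : η - η' = 0 := by linear_combination η * h - η' * hη1
    exact sub_eq_zero.1 this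
  obtain ⟨c, hcdef⟩ : ∃ c, c = δ / (1 + η' * φ η) := ⟨_, rfl⟩
  have hc : c * (1 + η' * φ η) = δ := by rw [hcdef]; exact div_mul_cancel₀ _ hw
  have hc0 : c ≠ 0 := by
    rw [hcdef]; exact div_ne_zero hδ0 hw
  obtain ⟨P, hPdef⟩ : ∃ P : Matrix (Fin 2) (Fin 2) F, P = !![1, c; η, c * η'] := ⟨_, rfl⟩
  have hdet : P.det ≠ 0 := by
    rw [hPdef, Matrix.det_fin_two_of]
    have : 1 * (c * η') - c * η = c * (η' - η) := by ring
    rw [this]
    exact mul_ne_zero hc0 (sub_ne_zero.2 (Ne.symm hne))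
  have hunit : IsUnit P.det := isUnit_iff_ne_zero.2 hdet
  have hPQ : P * P⁻¹ = 1 := Matrix.mul_nonsing_inv P hunit
  have hQP : P⁻¹ * P = 1 := Matrix.nonsing_inv_mul P hunit
  have hgram : Pᵀ * P.map φ = (-δ) • (!![0, 1; -1, 0] : Matrix (Fin 2) (Fin 2) F) := by
    rw [hPdef]
    exact gram_P φ hφφ η η' c δ hη1 hη'1 hc hδ
  have hinj := sl2ToSU2_injective (q := q) φ hφ ι hι P P⁻¹ hPQ hQP (-δ) hgram
  have hcardSL : Nat.card (Matrix.SpecialLinearGroup (Fin 2) K) = q * (q ^ 2 - 1) := card_SL2 hK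
  have hcardSU : Nat.card (Cfsg.SU 2 F q) = q * (q ^ 2 - 1) := by
    have h1 := Cfsg.Agent.S0278.result hF 2 (by norm_num)
    simp only [Finset.prod_range_succ, Finset.prod_range_zero] at h1
    norm_num at h1
    have h2 : (q + 1) * Nat.card (Cfsg.SU 2 F q) = (q + 1) * (q * (q ^ 2 - 1)) := by
      rw [h1]; ring
    exact Nat.eq_of_mul_eq_mul_left (by omega) h2
  have hbij : Function.Bijective (sl2ToSU2 (q := q) φ hφ ι hι P P⁻¹ hPQ hQP (-δ) hgram) :=
    (Nat.bijective_iff_injective_and_card _).2 ⟨hinj, by rw [hcardSL, hcardSU]⟩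
  exact ⟨(MulEquiv.ofBijective _ hbij).symm⟩

end data

end Cfsg.Agent.Helper5
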