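import Mathlib
import Cfsg.Agent.Lib.Helper5.SU2
import Cfsg.Agent.Lib.Helper19.HermCount

set_option autoImplicit false
set_option linter.unusedSectionVars false
set_option linter.unusedSimpArgs false
set_option linter.style.haveILetI false

namespace Cfsg.Agent.Helper5.QuadExt

open Polynomial Cfsg.Agent.Helper19 Cfsg.Agent.Helper5

variable {F K : Type*} [Field F] [Fintype F] [Field K] [Fintype K] {q : ℕ}

/-- The fixed field of the Frobenius `x ↦ x^q` on a field with `q²` elements is the image of any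
embedding of the field with `q` elements. -/
theorem fixed_mem_range (hF : Fintype.card F = q) (hK : Fintype.card K = q ^ 2) (ι : F →+* K)
    (x : K) (hx : x ^ q = x) : ∃ f : F, ι f = x := by
  classical
  by_cases hx0 : x = 0
  · exact ⟨0, by rw [map_zero, hx0]⟩
  have hsub : (Finset.univ.filter (fun f : F => f ≠ 0)).image ι ⊆ hermFixed K q := by
    intro y hy
    rw [Finset.mem_image] at hy
    obtain ⟨f, hf, rfl⟩ := hy
    rw [Finset.mem_filter] at hf
    rw [mem_hermFixed]
    refine ⟨fun h => hf.2 (ι.injective (by rw [h, map_zero])), ?_⟩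
    rw [← map_pow, ← hF, FiniteField.pow_card]
  have hcard : ((Finset.univ.filter (fun f : F => f ≠ 0)).image ι).card = q - 1 := by
    rw [Finset.card_image_of_injective _ ι.injective, Finset.filter_ne' Finset.univ (0 : F),
      Finset.card_erase_of_mem (Finset.mem_univ _), Finset.card_univ, hF]
  have heq := Finset.eq_of_subset_of_card_le hsub (by rw [hcard]; exact card_hermFixed_le hK)
  have hmem : x ∈ hermFixed K q := mem_hermFixed.2 ⟨hx0, hx⟩
  rw [← heq, Finset.mem_image] at hmem
  obtain ⟨f, -, hf⟩ := hmem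
  exact ⟨f, hf⟩

/-- The quadratic extension data: an embedding `ι`, the Frobenius `σ`, and a root `ω` of
`X² - aX + b` with `ω + σω = a`, `ω σω = b`. -/
theorem exists_field_data (hF : Fintype.card F = q) (hK : Fintype.card K = q ^ 2) (a b : F)
    (hab : ∀ z₁ z₂ : F, z₁ ^ 2 + a * z₁ * z₂ + b * z₂ ^ 2 = 0 → z₁ = 0 ∧ z₂ = 0) :
    ∃ (ι : F →+* K) (σ : K →+* K) (ω : K), (∀ x, σ x = x ^ q) ∧ (∀ x, σ (σ x) = x) ∧
      (∀ f, σ (ι f) = ι f) ∧ (∀ x, σ x = x → ∃ f, ι f = x) ∧ ω + σ ω = ι a ∧ ω * σ ω = ι b ∧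
      ω - σ ω ≠ 0 := by
  classical
  obtain ⟨σ, hσ, hσσ⟩ := exists_frob hK
  -- the polynomial
  let f : F[X] := X ^ 2 - C a * X + C b
  have hfdeg : f.natDegree = 2 := by
    have : f = C 1 * X ^ 2 + C (-a) * X + C b := by
      simp only [f, map_one, one_mul, map_neg, neg_mul]; ring
    rw [this]
    exact natDegree_quadratic one_ne_zero
  have hnoroot : ∀ t : F, ¬ f.IsRoot t := by
    intro t ht
    have h1 : t ^ 2 - a * t + b = 0 := by
      simpa [f, IsRoot.def] using ht
    have h2 := hab t (-1) (by linear_combination h1)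
    have : (-1 : F) = 0 := h2.2
    simp at this
  have hirr : Irreducible f := by
    apply irreducible_of_degree_le_three_of_not_isRoot _ hnoroot
    rw [hfdeg]; simp
  haveI : Fact (Irreducible f) := ⟨hirr⟩
  have hf0 : f ≠ 0 := hirr.ne_zero
  haveI : Module.Finite F (AdjoinRoot f) := (AdjoinRoot.powerBasis hf0).finite
  haveI : Finite (AdjoinRoot f) := Module.finite_of_finite F
  haveI : Fintype (AdjoinRoot f) := Fintype.ofFinite _
  have hcardL : Fintype.card (AdjoinRoot f) = Fintype.card K := by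
    rw [← Nat.card_eq_fintype_card, Module.natCard_eq_pow_finrank (K := F) (V := AdjoinRoot f),
      (AdjoinRoot.powerBasis hf0).finrank, AdjoinRoot.powerBasis_dim, hfdeg, Nat.card_eq_fintype_card,
      hF, hK]
  let e : AdjoinRoot f ≃+* K := FiniteField.ringEquivOfCardEq hcardL
  let ι : F →+* K := (e : AdjoinRoot f →+* K).comp (AdjoinRoot.of f)
  let ω : K := e (AdjoinRoot.root f)
  have hroot : ω ^ 2 - ι a * ω + ι b = 0 := by
    have h1 : (AdjoinRoot.root f) ^ 2 - AdjoinRoot.of f a * AdjoinRoot.root f + AdjoinRoot.of f b = 0 := by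
      have := AdjoinRoot.eval₂_root f
      simpa [f, eval₂_add, eval₂_sub, eval₂_mul, eval₂_pow] using this
    have h2 := congrArg e h1
    simpa [ω, ι, map_add, map_sub, map_mul, map_pow] using h2
  have hσι : ∀ t, σ (ι t) = ι t := by
    intro t
    rw [hσ, ← map_pow, ← hF, FiniteField.pow_card]
  have hfix : ∀ x, σ x = x → ∃ t, ι t = x := by
    intro x hx
    exact fixed_mem_range hF hK ι x (by rw [← hσ]; exact hx)
  have hroot' : (σ ω) ^ 2 - ι a * σ ω + ι b = 0 := by
    have := congrArg σ hroot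
    simpa [map_add, map_sub, map_mul, map_pow, hσι] using this
  have hne : ω - σ ω ≠ 0 := by
    intro h
    have h1 : σ ω = ω := (sub_eq_zero.1 h).symm
    obtain ⟨t, ht⟩ := hfix ω h1
    apply hnoroot t
    have h2 : ι (t ^ 2 - a * t + b) = 0 := by
      rw [map_add, map_sub, map_mul, map_pow, ht]; exact hroot
    have h3 : t ^ 2 - a * t + b = 0 := ι.injective (by rw [h2, map_zero])
    simpa [f, IsRoot.def] using h3
  have hsum : ω + σ ω = ι a := by
    have h1 : (ω - σ ω) * (ω + σ ω - ι a) = 0 := by linear_combination hroot - hroot'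
    have := (mul_eq_zero.1 h1).resolve_left hne
    linear_combination this
  have hprod : ω * σ ω = ι b := by
    linear_combination ω * hsum - hroot
  exact ⟨ι, σ, ω, hσ, hσσ, hσι, hfix, hsum, hprod, hne⟩

end Cfsg.Agent.Helper5.QuadExt
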