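import Mathlib
import Cfsg.Prelude.Def_Characters
import Cfsg.Prelude.Def_Blocks
import Cfsg.Agent.Lib.Helper80.RPDDefs
import Cfsg.Agent.Lib.Helper80.RPDPar
import Cfsg.Agent.Lib.Helper79.LinearChars
import Cfsg.Agent.Lib.Helper81.CharElem
import Cfsg.Agent.Lib.Helper81.CharClifford
import Cfsg.Agent.Lib.Helper80.ConjIrr

/-!
# RPD (RO): the odd case (helper80 server, S4861)

`N` abelian normal of odd order, not central, in a group generated by `2`-elements: some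
real-valued irreducible character of `G` is not trivial on `N`.
-/

set_option autoImplicit false
set_option linter.style.haveILetI false

namespace Cfsg.Agent.Helper5.RPD

open Cfsg Cfsg.Agent.Helper80.RPD
open scoped ComplexConjugate

universe u

/-- a `2`-element `s` not centralizing `N` whose square centralizes `N` -/
theorem ro_exists_s {G : Type u} [Group G] [Finite G]
    (h2 : Subgroup.closure {g : G | ∃ k : ℕ, orderOf g = 2 ^ k} = ⊤)
    (N : Subgroup G) (hnc : ∃ n ∈ N, ∃ g : G, g * n ≠ n * g) :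
    ∃ s : G, (∃ n ∈ N, s * n ≠ n * s) ∧ (∀ n ∈ N, s ^ 2 * n = n * s ^ 2) := by
  classical
  have h1 : ∃ k : ℕ, ∃ s : G, orderOf s = 2 ^ k ∧ ∃ n ∈ N, s * n ≠ n * s := by
    by_contra hcon
    push Not at hcon
    have hle : Subgroup.closure {g : G | ∃ k : ℕ, orderOf g = 2 ^ k} ≤
        Subgroup.centralizer (N : Set G) := by
      rw [Subgroup.closure_le]
      rintro g ⟨k, hk⟩
      rw [SetLike.mem_coe, Subgroup.mem_centralizer_iff]
      intro n hn
      exact (hcon k g hk n hn).symm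
    rw [h2] at hle
    obtain ⟨n, hn, g, hg⟩ := hnc
    have h3 := hle (Subgroup.mem_top g)
    rw [Subgroup.mem_centralizer_iff] at h3
    exact hg (h3 n hn).symm
  obtain ⟨s, hs, hns⟩ := Nat.find_spec h1
  refine ⟨s, hns, ?_⟩
  by_contra hcon
  push Not at hcon
  obtain ⟨n, hn, hne⟩ := hcon
  have hk0 : Nat.find h1 ≠ 0 := by
    intro h0
    rw [h0, pow_zero, orderOf_eq_one_iff] at hs
    obtain ⟨n', hn', hne'⟩ := hns
    rw [hs, one_mul, mul_one] at hne'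
    exact hne' rfl
  obtain ⟨k', hk'⟩ : ∃ k', Nat.find h1 = k' + 1 := ⟨Nat.find h1 - 1, by omega⟩
  have hord : orderOf (s ^ 2) = 2 ^ k' := by
    rw [orderOf_pow' s (by norm_num), hs, hk', pow_succ]
    rw [Nat.gcd_mul_left_left, Nat.mul_div_cancel _ (by norm_num)]
  exact Nat.find_min h1 (m := k') (by omega) ⟨s ^ 2, hord, n, hn, hne⟩

/-- the irreducible characters of a finite abelian group separate points from `1` -/
theorem ro_exists_irr_ne_one {A : Type u} [Group A] [Finite A] (hA : ∀ a b : A, a * b = b * a)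
    (c : A) (hc : c ≠ 1) : ∃ μ : IrrCharacter A, (μ : A → ℂ) c ≠ 1 := by
  classical
  by_contra hcon
  push Not at hcon
  have h1 := Cfsg.Agent.Helper80.irr_second_orthogonality c (1 : A)
  rw [if_neg (by rw [isConj_one_left]; exact hc)] at h1
  have h2 : ∀ χ : IrrCharacter A, (χ : A → ℂ) c * conj ((χ : A → ℂ) 1) = 1 := by
    intro χ
    rw [hcon χ, Cfsg.Agent.Helper81.irr_one_eq_one_of_comm hA χ.2, map_one, one_mul]
  simp only [h2] at h1
  letI : Fintype (IrrCharacter A) := Fintype.ofFinite _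
  rw [finsum_eq_sum_of_fintype, Finset.sum_const, Finset.card_univ, nsmul_eq_mul, mul_one] at h1
  have h3 : Fintype.card (IrrCharacter A) = 0 := by exact_mod_cast h1
  haveI : Nonempty (IrrCharacter A) := ⟨Cfsg.Agent.Helper79.trivChar A⟩
  exact Fintype.card_ne_zero h3

/-- the values of a nontrivial linear character sum to zero -/
theorem ro_sum_eq_zero {A : Type u} [Group A] [Fintype A] (l : IrrCharacter A)
    (a : A) (ha : (l : A → ℂ) a ≠ 1) : ∑ n : A, (l : A → ℂ) n = 0 := by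
  classical
  have h1 := Cfsg.Agent.Helper80.irr_first_orthogonality l (Cfsg.Agent.Helper79.trivChar A)
  have hne : l ≠ Cfsg.Agent.Helper79.trivChar A := by
    intro h
    apply ha
    rw [h, Cfsg.Agent.Helper79.trivChar_apply]
  rw [if_neg hne] at h1
  simpa [Cfsg.Agent.Helper79.trivChar_apply] using h1

/-- the counting hypothesis of the parity lemma for a Sylow `2`-subgroup and a normal subgroup
of odd order -/
theorem ro_count {G : Type u} [Group G] [Finite G] (N : Subgroup G)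
    (hodd : Odd (Nat.card ↥N)) (Q : Sylow 2 G) :
    N ⊓ (Q : Subgroup G) = ⊥ ∧
      ∃ m : ℕ, Odd m ∧ Nat.card G = m * (Nat.card ↥N * Nat.card ↥(Q : Subgroup G)) := by
  haveI : Fact (Nat.Prime 2) := ⟨Nat.prime_two⟩
  have hQ : Nat.card ↥(Q : Subgroup G) = 2 ^ (Nat.card G).factorization 2 :=
    Sylow.card_eq_multiplicity Q
  have hcop : Nat.Coprime (Nat.card ↥N) (Nat.card ↥(Q : Subgroup G)) := by
    rw [hQ]
    exact Nat.Coprime.pow_right _ (Nat.coprime_two_right.2 hodd)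
  refine ⟨(Subgroup.disjoint_of_coprime_natCard hcop).eq_bot, ?_⟩
  have hdvd : Nat.card ↥N * Nat.card ↥(Q : Subgroup G) ∣ Nat.card G :=
    Nat.Coprime.mul_dvd_of_dvd_of_dvd hcop (Subgroup.card_subgroup_dvd_card N)
      (Subgroup.card_subgroup_dvd_card _)
  obtain ⟨m, hm⟩ := hdvd
  refine ⟨m, ?_, by rw [hm, mul_comm]⟩
  rw [← Nat.not_even_iff_odd]
  rintro ⟨r, hr⟩
  have hG0 : Nat.card G ≠ 0 := Nat.card_pos.ne'
  have h5 : 2 ^ ((Nat.card G).factorization 2 + 1) ∣ Nat.card G := by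
    rw [pow_succ, ← hQ]
    refine ⟨Nat.card ↥N * r, ?_⟩
    rw [hm, hr]
    ring
  exact Nat.pow_succ_factorization_not_dvd hG0 Nat.prime_two h5

/-- **(RO) odd case** -/
theorem real_over_odd {G : Type u} [Group G] [Finite G]
    (h2 : Subgroup.closure {g : G | ∃ k : ℕ, orderOf g = 2 ^ k} = ⊤)
    (N : Subgroup G) (hN : N.Normal) (hcomm : ∀ a ∈ N, ∀ b ∈ N, a * b = b * a)
    (hodd : Odd (Nat.card ↥N)) (hnc : ∃ n ∈ N, ∃ g : G, g * n ≠ n * g) :
    ∃ χ : IrrCharacter G, (∀ g : G, ((χ : G → ℂ) g).im = 0) ∧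
      ∃ n ∈ N, (χ : G → ℂ) n ≠ (χ : G → ℂ) 1 := by
  classical
  haveI := hN
  haveI : Fintype ↥N := Fintype.ofFinite _
  haveI : Fact (Nat.Prime 2) := ⟨Nat.prime_two⟩
  obtain ⟨s, ⟨n₀, hn₀, hsn⟩, hs2⟩ := ro_exists_s h2 N hnc
  have hA : ∀ a b : ↥N, a * b = b * a := fun a b => Subtype.ext (hcomm a a.2 b b.2)
  set n0 : ↥N := ⟨n₀, hn₀⟩ with hn0
  set n1 : ↥N := ⟨s * n₀ * s⁻¹, hN.conj_mem n₀ hn₀ s⟩ with hn1
  have hc : n1 * n0⁻¹ ≠ 1 := by
    intro h
    have h3 : n1 = n0 := mul_inv_eq_one.1 h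
    have h4 : s * n₀ * s⁻¹ = n₀ := congrArg Subtype.val h3
    apply hsn
    calc s * n₀ = (s * n₀ * s⁻¹) * s := by group
      _ = n₀ * s := by rw [h4]
  obtain ⟨μ, hμ⟩ := ro_exists_irr_ne_one hA _ hc
  have hμ1 : (μ : ↥N → ℂ) 1 = 1 := Cfsg.Agent.Helper81.irr_one_eq_one_of_comm hA μ.2
  have hdeg : charDegree (μ : ↥N → ℂ) = 1 := by
    unfold charDegree
    rw [hμ1]
    simp
  have hmul : ∀ a b : ↥N, (μ : ↥N → ℂ) (a * b) = (μ : ↥N → ℂ) a * (μ : ↥N → ℂ) b :=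
    fun a b => (Cfsg.Agent.Helper79.irr_mul_of_degree_one μ hdeg a b).1
  have hnorm : ∀ a : ↥N, (μ : ↥N → ℂ) a * conj ((μ : ↥N → ℂ) a) = 1 :=
    fun a => (Cfsg.Agent.Helper79.irr_mul_of_degree_one μ hdeg a 1).2
  set μs : IrrCharacter ↥N := ⟨Cfsg.Agent.Helper81.conjFun N hN (μ : ↥N → ℂ) s,
    Cfsg.Agent.Helper81.conjFun_isIrrCharacter N hN μ.2 s⟩ with hμs
  set lam : IrrCharacter ↥N := Cfsg.Agent.Helper79.mulLinear (Cfsg.Agent.Helper80.cconjIrr μ) μs
    (by rw [Cfsg.Agent.Helper80.charDegree_cconjIrr]; exact hdeg) with hlamdef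
  have hlam : ∀ n : ↥N, (lam : ↥N → ℂ) n =
      conj ((μ : ↥N → ℂ) n) * (μ : ↥N → ℂ) ⟨s * n * s⁻¹, hN.conj_mem n n.2 s⟩ := fun n => rfl
  -- `lam n0 ≠ 1`
  have hlam0 : (lam : ↥N → ℂ) n0 ≠ 1 := by
    rw [hlam n0]
    have h5 : (⟨s * (n0 : G) * s⁻¹, hN.conj_mem n0 n0.2 s⟩ : ↥N) = n1 := rfl
    rw [h5]
    have h6 : (μ : ↥N → ℂ) (n1 * n0⁻¹) = conj ((μ : ↥N → ℂ) n0) * (μ : ↥N → ℂ) n1 := by
      rw [hmul, Cfsg.Agent.Helper80.irr_inv, mul_comm]
    rw [← h6]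
    exact hμ
  -- the parity lemma
  let Q : Sylow 2 G := default
  obtain ⟨hNQ, hcount⟩ := ro_count N hodd Q
  have hφ1 : (lam : ↥N → ℂ) 1 = 1 := by
    rw [hlam 1]
    have h7 : (⟨s * ((1 : ↥N) : G) * s⁻¹, hN.conj_mem _ (1 : ↥N).2 s⟩ : ↥N) = 1 := by
      apply Subtype.ext
      simp
    rw [h7, hμ1, map_one, one_mul]
  have hconj : ∃ g : G, ∀ n n' : ↥N, (n' : G) = g * (n : G) * g⁻¹ →
      (lam : ↥N → ℂ) n' = conj ((lam : ↥N → ℂ) n) := by
    refine ⟨s, fun n n' hnn' => ?_⟩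
    rw [hlam n', hlam n]
    have h8 : (⟨s * (n : G) * s⁻¹, hN.conj_mem n n.2 s⟩ : ↥N) = n' := Subtype.ext hnn'.symm
    have h9 : (⟨s * (n' : G) * s⁻¹, hN.conj_mem n' n'.2 s⟩ : ↥N) = n := by
      apply Subtype.ext
      show s * (n' : G) * s⁻¹ = n
      rw [hnn']
      have h10 := hs2 n n.2
      calc s * (s * (n : G) * s⁻¹) * s⁻¹ = (s ^ 2 * (n : G)) * (s ^ 2)⁻¹ := by
            rw [pow_two, mul_inv_rev]
            simp only [mul_assoc]
        _ = (n : G) := by rw [h10, mul_inv_cancel_right]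
    rw [h8, h9, map_mul, Complex.conj_conj, mul_comm]
  obtain ⟨χ, hχreal, hχ⟩ := exists_real_over_of_count_odd N (Q : Subgroup G) lam hNQ hcount hφ1 hconj
  refine ⟨χ, hχreal, ?_⟩
  by_contra hcon
  push Not at hcon
  apply hχ
  rw [finsum_eq_sum_of_fintype]
  have h11 : ∀ n : ↥N, (χ : G → ℂ) n * conj ((lam : ↥N → ℂ) n) =
      (χ : G → ℂ) 1 * conj ((lam : ↥N → ℂ) n) := by
    intro n
    rw [hcon n n.2]
  simp only [h11]
  rw [← Finset.mul_sum, ← map_sum, ro_sum_eq_zero lam n0 hlam0, map_zero, mul_zero]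

end Cfsg.Agent.Helper5.RPD
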