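import Mathlib
import Cfsg.Prelude.Def_Characters
import Cfsg.Prelude.Def_Blocks
import Cfsg.Agent.Lib.Helper5.RPDRO
import Cfsg.Agent.Lib.Helper79.Inflation

/-!
# RPD2 (RO2): the odd case for a nonabelian normal subgroup (helper80 server, S4862)
-/

set_option autoImplicit false
set_option linter.style.haveILetI false

namespace Cfsg.Agent.Helper5.RPD2

open Cfsg Cfsg.Agent.Helper80.RPD Cfsg.Agent.Helper5.RPD
open scoped ComplexConjugate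

universe u

/-- the core of (RO)/(RO2): a linear character `μ` of a normal subgroup `N` of odd order with
`μ (s n₀ s⁻¹ n₀⁻¹) ≠ 1` and `μ (s² n s⁻²) = μ n` gives a real irreducible character of `G`
nontrivial on `N`. -/
theorem ro2_core {G : Type u} [Group G] [Finite G] (N : Subgroup G) (hN : N.Normal)
    (hodd : Odd (Nat.card ↥N)) (s : G) (μ : IrrCharacter ↥N)
    (hμ1 : (μ : ↥N → ℂ) 1 = 1)
    (n0 : ↥N)
    (hμ : (μ : ↥N → ℂ) (⟨s * (n0 : G) * s⁻¹, hN.conj_mem n0 n0.2 s⟩ * n0⁻¹) ≠ 1)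
    (hinv : ∀ n : ↥N, (μ : ↥N → ℂ)
      ⟨s * (s * (n : G) * s⁻¹) * s⁻¹, hN.conj_mem _ (hN.conj_mem n n.2 s) s⟩ = (μ : ↥N → ℂ) n) :
    ∃ χ : IrrCharacter G, (∀ g : G, ((χ : G → ℂ) g).im = 0) ∧
      ∃ n ∈ N, (χ : G → ℂ) n ≠ (χ : G → ℂ) 1 := by
  classical
  haveI := hN
  haveI : Fintype ↥N := Fintype.ofFinite _
  haveI : Fact (Nat.Prime 2) := ⟨Nat.prime_two⟩
  set n1 : ↥N := ⟨s * (n0 : G) * s⁻¹, hN.conj_mem n0 n0.2 s⟩ with hn1
  have hdeg : charDegree (μ : ↥N → ℂ) = 1 := by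
    unfold charDegree
    rw [hμ1]
    simp
  have hmul : ∀ a b : ↥N, (μ : ↥N → ℂ) (a * b) = (μ : ↥N → ℂ) a * (μ : ↥N → ℂ) b :=
    fun a b => (Cfsg.Agent.Helper79.irr_mul_of_degree_one μ hdeg a b).1
  set μs : IrrCharacter ↥N := ⟨Cfsg.Agent.Helper81.conjFun N hN (μ : ↥N → ℂ) s,
    Cfsg.Agent.Helper81.conjFun_isIrrCharacter N hN μ.2 s⟩ with hμs
  set lam : IrrCharacter ↥N := Cfsg.Agent.Helper79.mulLinear (Cfsg.Agent.Helper80.cconjIrr μ) μs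
    (by rw [Cfsg.Agent.Helper80.charDegree_cconjIrr]; exact hdeg) with hlamdef
  have hlam : ∀ n : ↥N, (lam : ↥N → ℂ) n =
      conj ((μ : ↥N → ℂ) n) * (μ : ↥N → ℂ) ⟨s * n * s⁻¹, hN.conj_mem n n.2 s⟩ := fun n => rfl
  have hlam0 : (lam : ↥N → ℂ) n0 ≠ 1 := by
    rw [hlam n0]
    have h6 : (μ : ↥N → ℂ) (n1 * n0⁻¹) = conj ((μ : ↥N → ℂ) n0) * (μ : ↥N → ℂ) n1 := by
      rw [hmul, Cfsg.Agent.Helper80.irr_inv, mul_comm]
    rw [← h6]
    exact hμ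
  let Q : Sylow 2 G := default
  obtain ⟨hNQ, hcount⟩ := ro_count N hodd Q
  have hφ1 : (lam : ↥N → ℂ) 1 = 1 := by
    rw [hlam 1]
    have h7 : (⟨s * ((1 : ↥N) : G) * s⁻¹, hN.conj_mem _ (1 : ↥N).2 s⟩ : ↥N) = 1 := by
      apply Subtype.ext
      simp
    rw [h7, hμ1, map_one, one_mul]
  have hconj : ∃ g : G, ∀ n n' : ↥N, (n' : G) = g * (n : G) * g⁻¹ →
      (lam : ↥N → ℂ) n' = conj ((lam : ↥N → ℂ) n) := by
    refine ⟨s, fun n n' hnn' => ?_⟩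
    rw [hlam n', hlam n]
    have h8 : (⟨s * (n : G) * s⁻¹, hN.conj_mem n n.2 s⟩ : ↥N) = n' := Subtype.ext hnn'.symm
    have h9 : (μ : ↥N → ℂ) ⟨s * (n' : G) * s⁻¹, hN.conj_mem n' n'.2 s⟩ = (μ : ↥N → ℂ) n := by
      rw [← hinv n]
      have h10 : (⟨s * (n' : G) * s⁻¹, hN.conj_mem n' n'.2 s⟩ : ↥N) =
          ⟨s * (s * (n : G) * s⁻¹) * s⁻¹, hN.conj_mem _ (hN.conj_mem n n.2 s) s⟩ := by
        apply Subtype.ext
        show s * (n' : G) * s⁻¹ = s * (s * (n : G) * s⁻¹) * s⁻¹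
        rw [hnn']
      rw [h10]
    rw [h8, h9, map_mul, Complex.conj_conj, mul_comm]
  obtain ⟨χ, hχreal, hχ⟩ := exists_real_over_of_count_odd N (Q : Subgroup G) lam hNQ hcount hφ1 hconj
  refine ⟨χ, hχreal, ?_⟩
  by_contra hcon
  push Not at hcon
  apply hχ
  rw [finsum_eq_sum_of_fintype]
  have h11 : ∀ n : ↥N, (χ : G → ℂ) n * conj ((lam : ↥N → ℂ) n) =
      (χ : G → ℂ) 1 * conj ((lam : ↥N → ℂ) n) := by
    intro n
    rw [hcon n n.2]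
  simp only [h11]
  rw [← Finset.mul_sum, ← map_sum, ro_sum_eq_zero lam n0 hlam0, map_zero, mul_zero]

/-- **(RO2)** -/
theorem real_over_odd_gen {G : Type u} [Group G] [Finite G] (N : Subgroup G) (hN : N.Normal)
    (hodd : Odd (Nat.card ↥N)) (s : G)
    (hs2 : ∀ n ∈ N, (s ^ 2 * n * (s ^ 2)⁻¹) * n⁻¹ ∈ ⁅N, N⁆)
    (hsn : ∃ n ∈ N, (s * n * s⁻¹) * n⁻¹ ∉ ⁅N, N⁆) :
    ∃ χ : IrrCharacter G, (∀ g : G, ((χ : G → ℂ) g).im = 0) ∧
      ∃ n ∈ N, (χ : G → ℂ) n ≠ (χ : G → ℂ) 1 := by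
  classical
  obtain ⟨n₀, hn₀, hc⟩ := hsn
  -- the abelianisation of `N`
  have hA : ∀ a b : ↥N ⧸ commutator ↥N, a * b = b * a :=
    fun a b => mul_comm (G := Abelianization ↥N) a b
  have hmem : ∀ x : ↥N, x ∈ commutator ↥N ↔ (x : G) ∈ ⁅N, N⁆ := by
    intro x
    rw [← Subgroup.map_subtype_commutator]
    constructor
    · intro hx
      exact Subgroup.mem_map_of_mem N.subtype hx
    · rintro ⟨y, hy, hyx⟩
      have : y = x := Subtype.ext hyx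
      rw [← this]
      exact hy
  set n0 : ↥N := ⟨n₀, hn₀⟩ with hn0
  set c : ↥N := ⟨s * n₀ * s⁻¹, hN.conj_mem n₀ hn₀ s⟩ * n0⁻¹ with hcdef
  have hc1 : (QuotientGroup.mk c : ↥N ⧸ commutator ↥N) ≠ 1 := by
    intro h
    rw [QuotientGroup.eq_one_iff, hmem] at h
    exact hc h
  obtain ⟨μb, hμb⟩ := ro_exists_irr_ne_one hA _ hc1
  set μ : IrrCharacter ↥N := Cfsg.Agent.Helper79.inflate (commutator ↥N) μb with hμdef
  have hμapp : ∀ n : ↥N, (μ : ↥N → ℂ) n =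
      (μb : ↥N ⧸ commutator ↥N → ℂ) (QuotientGroup.mk n) := fun n => rfl
  have hμ1 : (μ : ↥N → ℂ) 1 = 1 := by
    rw [hμapp, QuotientGroup.mk_one]
    exact Cfsg.Agent.Helper81.irr_one_eq_one_of_comm hA μb.2
  refine ro2_core N hN hodd s μ hμ1 n0 ?_ ?_
  · rw [hμapp]
    exact hμb
  · intro n
    rw [hμapp, hμapp]
    have h1 := hs2 n n.2
    have h2 : s ^ 2 * (n : G) * (s ^ 2)⁻¹ = s * (s * (n : G) * s⁻¹) * s⁻¹ := by
      rw [pow_two, mul_inv_rev]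
      simp only [mul_assoc]
    rw [h2] at h1
    have h3 : (QuotientGroup.mk (⟨s * (s * (n : G) * s⁻¹) * s⁻¹,
        hN.conj_mem _ (hN.conj_mem n n.2 s) s⟩ : ↥N) : ↥N ⧸ commutator ↥N) =
        QuotientGroup.mk n := by
      have h4 : (⟨s * (s * (n : G) * s⁻¹) * s⁻¹,
          hN.conj_mem _ (hN.conj_mem n n.2 s) s⟩ : ↥N) * n⁻¹ ∈ commutator ↥N := by
        rw [hmem]
        exact h1
      have h5 : (QuotientGroup.mk (⟨s * (s * (n : G) * s⁻¹) * s⁻¹,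
          hN.conj_mem _ (hN.conj_mem n n.2 s) s⟩ : ↥N) : ↥N ⧸ commutator ↥N) =
          QuotientGroup.mk ((⟨s * (s * (n : G) * s⁻¹) * s⁻¹,
          hN.conj_mem _ (hN.conj_mem n n.2 s) s⟩ : ↥N) * n⁻¹) * QuotientGroup.mk n := by
        rw [← QuotientGroup.mk_mul, inv_mul_cancel_right]
      rw [h5, (QuotientGroup.eq_one_iff _).2 h4, one_mul]
    rw [h3]

end Cfsg.Agent.Helper5.RPD2
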