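import Mathlib
import Cfsg.Agent.Lib.Helper98.RT0

set_option autoImplicit false

namespace Cfsg.Agent.Helper5.RT

open Matrix Cfsg.Agent.Helper93.RU Cfsg.Agent.Helper98.RT

variable {F : Type*} [Field F]

theorem h5_det_Ymat (n w : F) : (Ymat n w).det = 1 := by
  unfold Ymat
  rw [Matrix.det_fin_three]
  simp

theorem h5_det_Smat (ζ ρ : F) (hζ : ζ ≠ 0) : (Smat ζ ρ).det = 1 := by
  unfold Smat
  rw [Matrix.det_fin_three]
  simp
  field_simp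

theorem h5_det_Zmat (ζ : F) (hζ : ζ ≠ 0) : (Zmat ζ).det = 1 := by
  unfold Zmat
  rw [Matrix.det_fin_three]
  simp
  field_simp

theorem h5_det_Dmat (ζ : F) (hζ : ζ ≠ 0) : (Dmat ζ).det = 1 := by
  unfold Dmat
  rw [Matrix.det_fin_three]
  simp
  field_simp

/-- (V1) -/
theorem yEl_val (n w : F) : (yEl n w).1 = Ymat n w := by
  have h := h5_det_Ymat n w
  simp [yEl, h]

/-- (V2) -/
theorem sEl_val (ζ ρ : F) (hζ : ζ ≠ 0) : (sEl ζ ρ).1 = Smat ζ ρ := by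
  have h := h5_det_Smat ζ ρ hζ
  simp [sEl, h]

/-- (V3) -/
theorem zEl_val (ζ : F) (hζ : ζ ≠ 0) : (zEl ζ).1 = Zmat ζ := by
  have h := h5_det_Zmat ζ hζ
  simp [zEl, h]

/-- (V4) -/
theorem dEl_val (ζ : F) (hζ : ζ ≠ 0) : (dEl ζ).1 = Dmat ζ := by
  have h := h5_det_Dmat ζ hζ
  simp [dEl, h]

end Cfsg.Agent.Helper5.RT
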