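import Mathlib
import Cfsg.Agent.Lib.Helper98.RT0
import Cfsg.Agent.Lib.Helper5.RTV

set_option autoImplicit false

namespace Cfsg.Agent.Helper5.RT

open Matrix Cfsg.Agent.Helper93.RU Cfsg.Agent.Helper98.RT

variable {F : Type*} [Field F]

theorem h5_Ymat_sub_one_cube (n w : F) : (Ymat n w - 1) ^ 3 = 0 := by
  ext i j
  fin_cases i <;> fin_cases j <;>
    simp [Ymat, pow_succ, Matrix.mul_apply, Fin.sum_univ_three, Matrix.one_apply] <;> ring

theorem h5_Ymat_sub_one_sq_02 (n w : F) : ((Ymat n w - 1) ^ 2 : Matrix (Fin (0 + 3)) (Fin (0 + 3)) F) 0 2 = 1 := by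
  simp [Ymat, pow_succ, Matrix.mul_apply, Fin.sum_univ_three, Matrix.one_apply]

/-- (U1) -/
theorem yEl_regular (n w : F) :
    IsNilpotent ((yEl n w).1 - 1) ∧ ((yEl n w).1 - 1) ^ (3 - 1) ≠ 0 := by
  rw [yEl_val]
  refine ⟨⟨3, h5_Ymat_sub_one_cube n w⟩, ?_⟩
  intro h0
  have h1 := h5_Ymat_sub_one_sq_02 n w
  have h2 : ((Ymat n w - 1) ^ 2 : Matrix (Fin (0 + 3)) (Fin (0 + 3)) F) 0 2 = 0 := by
    have : (Ymat n w - 1) ^ 2 = 0 := h0
    rw [this]; rfl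
  rw [h1] at h2
  exact one_ne_zero h2

end Cfsg.Agent.Helper5.RT
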