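import Mathlib
import Cfsg.Agent.Lib.Helper93.RU0
import Cfsg.Agent.Lib.Helper34.RUB3

/-!
Binomial entries of the powers of the upper Jordan block `u = 1 + N` (RU conventions of helper93).
-/

set_option autoImplicit false

namespace Cfsg.Agent.Helper5.RUPow

open Matrix Cfsg.Agent.Helper93.RU

variable {F : Type*} [Field F] {m : ℕ}

/-- one term of the binomial expansion -/
theorem h5_term_apply (t k : ℕ) (i j : Fin (m + 3)) :
    (Nmat m F ^ k * (1 : Matrix (Fin (m + 3)) (Fin (m + 3)) F) ^ (t - k) * (Nat.choose t k : ℕ)) i j =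
      if i.val + k = j.val then (Nat.choose t k : F) else 0 := by
  rw [one_pow, mul_one, ← nsmul_eq_mul', Matrix.smul_apply,
    Cfsg.Agent.Helper34.RU.h34_Nmat_pow_apply, nsmul_eq_mul]
  split_ifs <;> simp

/-- entries of `(1 + N)^t` -/
theorem h5_one_add_Nmat_pow_apply (t : ℕ) (i j : Fin (m + 3)) :
    ((1 + Nmat m F) ^ t) i j = if i.val ≤ j.val then (Nat.choose t (j.val - i.val) : F) else 0 := by
  have hc : Commute (Nmat m F) (1 : Matrix (Fin (m + 3)) (Fin (m + 3)) F) := Commute.one_right _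
  have hexp : (1 + Nmat m F) ^ t = ∑ k ∈ Finset.range (t + 1),
      Nmat m F ^ k * (1 : Matrix (Fin (m + 3)) (Fin (m + 3)) F) ^ (t - k) * (Nat.choose t k : ℕ) := by
    rw [add_comm (1 : Matrix (Fin (m + 3)) (Fin (m + 3)) F) (Nmat m F), hc.add_pow]
  rw [hexp, Matrix.sum_apply]
  simp_rw [h5_term_apply]
  by_cases hij : i.val ≤ j.val
  · rw [if_pos hij]
    by_cases hk : j.val - i.val ≤ t
    · rw [Finset.sum_eq_single (j.val - i.val)]
      · rw [if_pos (by omega)]
      · intro k _ hk'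
        rw [if_neg (by omega)]
      · intro h
        exfalso; apply h
        rw [Finset.mem_range]; omega
    · rw [Nat.choose_eq_zero_of_lt (by omega), Nat.cast_zero]
      apply Finset.sum_eq_zero
      intro k hk'
      rw [Finset.mem_range] at hk'
      rw [if_neg (by omega)]
  · rw [if_neg hij]
    apply Finset.sum_eq_zero
    intro k _
    rw [if_neg (by omega)]

/-- entries of `u^t`, `u` the upper Jordan block -/
theorem h5_uEl_pow_apply (t : ℕ) (i j : Fin (m + 3)) :
    ((uEl m F ^ t : SLm m F).1) i j =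
      if i.val ≤ j.val then (Nat.choose t (j.val - i.val) : F) else 0 := by
  rw [Matrix.SpecialLinearGroup.coe_pow, Cfsg.Agent.Helper34.RU.h34_uEl_val,
    h5_one_add_Nmat_pow_apply]

end Cfsg.Agent.Helper5.RUPow

namespace Cfsg.Agent.Helper5.RUPow

open Matrix Cfsg.Agent.Helper93.RU

variable {F : Type*} [Field F] {m : ℕ}

/-- the candidate for `(1 + N)^(-t)` -/
def h5Minv (m : ℕ) (F : Type*) [Field F] (t : ℕ) : Matrix (Fin (m + 3)) (Fin (m + 3)) F :=
  Matrix.of fun i j => if i.val ≤ j.val then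
    (-1 : F) ^ (j.val - i.val) * (Nat.choose (t + (j.val - i.val) - 1) (j.val - i.val) : F) else 0

theorem h5Minv_apply (t : ℕ) (i j : Fin (m + 3)) :
    h5Minv m F t i j = if i.val ≤ j.val then
      (-1 : F) ^ (j.val - i.val) * (Nat.choose (t + (j.val - i.val) - 1) (j.val - i.val) : F) else 0 := rfl

theorem h5_Nmat_mul_apply (M : Matrix (Fin (m + 3)) (Fin (m + 3)) F) (i j : Fin (m + 3)) :
    (Nmat m F * M) i j = if h : i.val + 1 < m + 3 then M ⟨i.val + 1, h⟩ j else 0 := by
  rw [Matrix.mul_apply]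
  by_cases h : i.val + 1 < m + 3
  · rw [dif_pos h, Finset.sum_eq_single (⟨i.val + 1, h⟩ : Fin (m + 3))]
    · rw [Cfsg.Agent.Helper34.RU.h34_Nmat_apply, if_pos rfl, one_mul]
    · intro l _ hl
      rw [Cfsg.Agent.Helper34.RU.h34_Nmat_apply, if_neg, zero_mul]
      intro h'
      exact hl (Fin.ext h'.symm)
    · intro hh; exact absurd (Finset.mem_univ _) hh
  · rw [dif_neg h]
    apply Finset.sum_eq_zero
    intro l _
    rw [Cfsg.Agent.Helper34.RU.h34_Nmat_apply, if_neg, zero_mul]
    have := l.isLt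
    omega

theorem h5Minv_zero : h5Minv m F 0 = 1 := by
  ext i j
  rw [h5Minv_apply, Matrix.one_apply]
  by_cases hij : i = j
  · subst hij; simp
  · rw [if_neg hij]
    by_cases hle : i.val ≤ j.val
    · rw [if_pos hle]
      have hlt : i.val < j.val := lt_of_le_of_ne hle (fun h => hij (Fin.ext h))
      rw [Nat.choose_eq_zero_of_lt (by omega), Nat.cast_zero, mul_zero]
    · rw [if_neg hle]

theorem h5_step (t : ℕ) : (1 + Nmat m F) * h5Minv m F (t + 1) = h5Minv m F t := by
  ext i j
  rw [Matrix.add_mul, Matrix.one_mul, Matrix.add_apply, h5_Nmat_mul_apply]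
  simp only [h5Minv_apply]
  by_cases hij : i.val ≤ j.val
  · rw [if_pos hij]
    by_cases hlt : i.val < j.val
    · have h1 : i.val + 1 < m + 3 := by have := j.isLt; omega
      rw [dif_pos h1, if_pos (show i.val + 1 ≤ j.val by omega), if_pos hij]
      obtain ⟨d, hd⟩ : ∃ d, j.val - i.val = d + 1 := ⟨j.val - i.val - 1, by omega⟩
      have hd' : j.val - (i.val + 1) = d := by omega
      simp only [hd, hd']
      have hp : (Nat.choose (t + 1 + (d + 1) - 1) (d + 1) : F) =
          (Nat.choose (t + 1 + d - 1) d : F) + (Nat.choose (t + (d + 1) - 1) (d + 1) : F) := by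
        have e1 : t + 1 + (d + 1) - 1 = (t + d) + 1 := by omega
        have e2 : t + 1 + d - 1 = t + d := by omega
        have e3 : t + (d + 1) - 1 = t + d := by omega
        rw [e1, e2, e3, Nat.choose_succ_succ, Nat.cast_add]
      rw [hp, pow_succ]
      ring
    · have heq : j.val = i.val := by omega
      have h0 : j.val - i.val = 0 := by omega
      rw [if_pos hij]
      simp only [h0, pow_zero, Nat.choose_zero_right, Nat.cast_one, mul_one]
      by_cases h1 : i.val + 1 < m + 3
      · rw [dif_pos h1, if_neg (show ¬ (i.val + 1 ≤ j.val) by omega), add_zero]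
      · rw [dif_neg h1, add_zero]
  · rw [if_neg hij, if_neg hij]
    by_cases h1 : i.val + 1 < m + 3
    · rw [dif_pos h1, if_neg (show ¬ (i.val + 1 ≤ j.val) by omega), add_zero]
    · rw [dif_neg h1, add_zero]

theorem h5_pow_mul_Minv (t : ℕ) : (1 + Nmat m F) ^ t * h5Minv m F t = 1 := by
  induction t with
  | zero => rw [pow_zero, one_mul, h5Minv_zero]
  | succ t ih => rw [pow_succ, Matrix.mul_assoc, h5_step, ih]

/-- entries of `u^(-t)` -/
theorem h5_uEl_pow_inv_apply (t : ℕ) (i j : Fin (m + 3)) :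
    (((uEl m F ^ t)⁻¹ : SLm m F).1) i j = if i.val ≤ j.val then
      (-1 : F) ^ (j.val - i.val) * (Nat.choose (t + (j.val - i.val) - 1) (j.val - i.val) : F) else 0 := by
  have h1 : ((uEl m F ^ t : SLm m F).1) * h5Minv m F t = 1 := by
    rw [Matrix.SpecialLinearGroup.coe_pow, Cfsg.Agent.Helper34.RU.h34_uEl_val, h5_pow_mul_Minv]
  have h2 : (((uEl m F ^ t)⁻¹ : SLm m F).1) = h5Minv m F t := by
    have h3 : (((uEl m F ^ t)⁻¹ : SLm m F).1) * ((uEl m F ^ t : SLm m F).1) = 1 := by
      rw [← Matrix.SpecialLinearGroup.coe_mul, inv_mul_cancel, Matrix.SpecialLinearGroup.coe_one]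
    calc (((uEl m F ^ t)⁻¹ : SLm m F).1) = (((uEl m F ^ t)⁻¹ : SLm m F).1) * 1 := (mul_one _).symm
      _ = (((uEl m F ^ t)⁻¹ : SLm m F).1) * (((uEl m F ^ t : SLm m F).1) * h5Minv m F t) := by rw [h1]
      _ = h5Minv m F t := by rw [← Matrix.mul_assoc, h3, one_mul]
  rw [h2, h5Minv_apply]

end Cfsg.Agent.Helper5.RUPow
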