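import Mathlib
import Cfsg.Agent.Lib.Helper5.PGL2Trans

set_option autoImplicit false

namespace Cfsg.Agent.Helper5

open Matrix
open scoped LinearAlgebra.Projectivization MatrixGroups

variable {F : Type*} [Field F]

lemma sl_smul_eq_pgl_smul (g : Matrix.SpecialLinearGroup (Fin 2) F) (p : ℙ F (Fin 2 → F)) :
    g • p = (Matrix.ProjGenLinGroup.mk (Matrix.SpecialLinearGroup.toGL g) : PGL(Fin 2, F)) • p := by
  induction p using Projectivization.ind with | _ v hv => rfl

lemma stdPt_injective : Function.Injective (stdPt F) := by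
  have h01 : Projectivization.mk F (e0 : Fin 2 → F) e0_ne ≠ Projectivization.mk F e1 e1_ne := by
    rw [Ne, Projectivization.mk_eq_mk_iff']
    rintro ⟨a, ha⟩
    have := congrFun ha 0
    simp [e0, e1] at this
  have h02 : Projectivization.mk F (e0 : Fin 2 → F) e0_ne ≠ Projectivization.mk F e2 e2_ne := by
    rw [Ne, Projectivization.mk_eq_mk_iff']
    rintro ⟨a, ha⟩
    have h0 := congrFun ha 0
    have h1 := congrFun ha 1
    simp [e0, e2] at h0 h1
    rw [h1] at h0
    exact zero_ne_one h0
  have h12 : Projectivization.mk F (e1 : Fin 2 → F) e1_ne ≠ Projectivization.mk F e2 e2_ne := by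
    rw [Ne, Projectivization.mk_eq_mk_iff']
    rintro ⟨a, ha⟩
    have h0 := congrFun ha 0
    have h1 := congrFun ha 1
    simp [e1, e2] at h0 h1
    rw [h0] at h1
    exact zero_ne_one h1
  intro i j hij
  fin_cases i <;> fin_cases j
  · rfl
  · exact absurd hij h01
  · exact absurd hij h02
  · exact absurd hij.symm h01
  · rfl
  · exact absurd hij h12
  · exact absurd hij.symm h02
  · exact absurd hij.symm h12
  · rfl

theorem sl2_three_pretransitive_iff [Fintype F] :
    MulAction.IsMultiplyPretransitive (Matrix.SpecialLinearGroup (Fin 2) F)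
      (ℙ F (Fin 2 → F)) 3 ↔ ringChar F = 2 := by
  constructor
  · intro h3
    by_contra hchar
    obtain ⟨n, hn⟩ := FiniteField.exists_nonsquare hchar
    have hn0 : n ≠ 0 := by
      rintro rfl
      exact hn ⟨0, by simp⟩
    let x : Fin 3 ↪ ℙ F (Fin 2 → F) := ⟨stdPt F, stdPt_injective⟩
    have hdet : (!![1, 0; 0, n] : Matrix (Fin 2) (Fin 2) F).det ≠ 0 := by
      rw [Matrix.det_fin_two_of]
      simpa using hn0
    let D : GL (Fin 2) F := GeneralLinearGroup.mkOfDetNeZero _ hdet
    rw [MulAction.isMultiplyPretransitive_iff] at h3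
    obtain ⟨g, hg⟩ := h3 x ((Matrix.ProjGenLinGroup.mk D : PGL(Fin 2, F)) • x)
    have hfix : ∀ i, ((Matrix.ProjGenLinGroup.mk D : PGL(Fin 2, F))⁻¹ *
        Matrix.ProjGenLinGroup.mk (Matrix.SpecialLinearGroup.toGL g)) • x i = x i := by
      intro i
      have := congrArg (fun f : Fin 3 ↪ ℙ F (Fin 2 → F) ↦ f i) hg
      simp only [Function.Embedding.smul_apply] at this
      rw [mul_smul, ← sl_smul_eq_pgl_smul, this, inv_smul_smul]
    have hone := pgl2_sharp _ (x 0) (x 1) (x 2) (x.injective.ne (by decide))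
      (x.injective.ne (by decide)) (x.injective.ne (by decide)) (hfix 0) (hfix 1) (hfix 2)
    rw [inv_mul_eq_one] at hone
    obtain ⟨u, hu⟩ := Matrix.ProjGenLinGroup.mk_eq_mk_iff.1 hone
    have hd := congrArg (fun M : GL (Fin 2) F ↦ (M.val).det) hu
    simp only [Units.val_mul, Matrix.det_mul, GeneralLinearGroup.coe_scalar] at hd
    apply hn
    refine ⟨(u : F)⁻¹, ?_⟩
    have h1 : (D.val).det = n := by
      simp [D, Matrix.det_fin_two_of]
    have h2 : (Matrix.scalar (Fin 2) (u : F)).det = (u : F) ^ 2 := by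
      simp
    have h3' : ((Matrix.SpecialLinearGroup.toGL g : GL (Fin 2) F).val).det = 1 := by
      simp
    rw [h1, h2] at hd
    have hu0 : (u : F) ≠ 0 := u.ne_zero
    have : n * (u : F) ^ 2 = 1 := by rw [hd]; exact h3'
    field_simp
    linear_combination this
  · intro hchar
    rw [MulAction.isMultiplyPretransitive_iff]
    intro x y
    have h3 := pgl2_isMultiplyPretransitive_three (F := F)
    rw [MulAction.isMultiplyPretransitive_iff] at h3
    obtain ⟨g, hg⟩ := h3 x y
    induction g using Matrix.ProjGenLinGroup.induction_on with | mk M =>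
    obtain ⟨c, hc⟩ := FiniteField.isSquare_of_char_two hchar (M.val.det)
    have hdet0 : M.val.det ≠ 0 := GeneralLinearGroup.det_ne_zero M
    have hc0 : c ≠ 0 := by
      rintro rfl
      rw [mul_zero] at hc
      exact hdet0 hc
    have hdet1 : (c⁻¹ • M.val).det = 1 := by
      rw [Matrix.det_smul, Fintype.card_fin, hc]
      field_simp
    obtain ⟨s, hs⟩ : ∃ s : Matrix.SpecialLinearGroup (Fin 2) F, s.val = c⁻¹ • M.val :=
      ⟨⟨c⁻¹ • M.val, hdet1⟩, rfl⟩
    refine ⟨s, ?_⟩
    ext i
    have hgi := congrArg (fun f : Fin 3 ↪ ℙ F (Fin 2 → F) ↦ f i) hg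
    simp only [Function.Embedding.smul_apply] at hgi ⊢
    rw [← hgi, sl_smul_eq_pgl_smul]
    congr 1
    rw [Matrix.ProjGenLinGroup.mk_eq_mk_iff]
    refine ⟨Units.mk0 c hc0, ?_⟩
    apply Units.ext
    simp only [Units.val_mul, GeneralLinearGroup.coe_scalar,
      Matrix.SpecialLinearGroup.coe_GL_coe_matrix, hs]
    ext a b
    fin_cases a <;> fin_cases b <;>
      simp [Matrix.mul_apply, Fin.sum_univ_two] <;> field_simp

end Cfsg.Agent.Helper5
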