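import Mathlib
import Cfsg.Agent.Lib.Helper62.SLN0

/-!
# SLN project (helper62, S2332): the ARITH block (pieces A0, A1, A2, A3a, A3b)
-/

set_option autoImplicit false

namespace Cfsg.Agent.Helper5.SLN

open Matrix Module Cfsg.Agent.Helper93.U2 Cfsg.Agent.Helper62.SLN

section ARITH

/-- `gs (x + 1) n * x + 1 = (x + 1) ^ n` -/
theorem h5_gs_mul (x n : ℕ) : gs (x + 1) n * x + 1 = (x + 1) ^ n := by
  unfold gs
  exact geom_sum_mul_add x n

theorem h5_gs_succ (q m : ℕ) : gs q (m + 1) = q * gs q m + 1 := by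
  unfold gs
  rw [Finset.sum_range_succ', Finset.mul_sum]
  simp [pow_succ, mul_comm]

theorem h5_gs_pos (q n : ℕ) (hn : 1 ≤ n) : 1 ≤ gs q n := by
  obtain ⟨k, rfl⟩ : ∃ k, n = k + 1 := ⟨n - 1, by omega⟩
  rw [h5_gs_succ]
  omega

theorem h5_gs_ge (q m : ℕ) (hm : 2 ≤ m) : q + 1 ≤ gs q m := by
  obtain ⟨k, rfl⟩ : ∃ k, m = k + 1 := ⟨m - 1, by omega⟩
  rw [h5_gs_succ]
  have : 1 ≤ gs q k := h5_gs_pos q k (by omega)
  nlinarith

/-- piece A0 -/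
theorem gs_eq (q n : ℕ) (hq : 2 ≤ q) (hn : 1 ≤ n) : (q ^ n - q) / (q - 1) = gs q n - 1 := by
  obtain ⟨x, rfl⟩ : ∃ x, q = x + 1 := ⟨q - 1, by omega⟩
  have hx : 1 ≤ x := by omega
  have h1 := h5_gs_mul x n
  have hg := h5_gs_pos (x + 1) n hn
  have h2 : (x + 1) ^ n - (x + 1) = (gs (x + 1) n - 1) * x := by
    rw [← h1, Nat.sub_mul, one_mul]
    omega
  rw [h2, Nat.add_sub_cancel, Nat.mul_div_cancel _ (by omega)]

/-- `gs q m ≤ q ^ m - 1` for `q ≥ 2` -/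
theorem h5_gs_le (q m : ℕ) (hq : 2 ≤ q) : gs q m ≤ q ^ m - 1 := by
  obtain ⟨x, rfl⟩ : ∃ x, q = x + 1 := ⟨q - 1, by omega⟩
  have hx : 1 ≤ x := by omega
  have h1 := h5_gs_mul x m
  have : gs (x + 1) m ≤ gs (x + 1) m * x := Nat.le_mul_of_pos_right _ (by omega)
  omega

/-- piece A1 -/
theorem two_mul_le (q m : ℕ) (hq : 2 ≤ q) (hm : 1 ≤ m) : gs q (m + 1) - 1 ≤ 2 * (q ^ m - 1) := by
  have h1 : gs q (m + 1) = gs q m + q ^ m := by
    unfold gs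
    rw [Finset.sum_range_succ]
  have h2 := h5_gs_le q m hq
  have h3 : 2 ≤ q ^ m := by
    calc 2 ≤ q := hq
      _ = q ^ 1 := (pow_one q).symm
      _ ≤ q ^ m := Nat.pow_le_pow_right (by omega) hm
  rw [h1]
  omega

/-- the core of A2 / A3a: with `N = gs q m ≥ q + 1`, `D = q N - 1` does not divide
`(q N + 1) ((q - 1) N) q ^ m`. -/
theorem h5_core (q N m : ℕ) (hq : 2 ≤ q) (hN : q + 1 ≤ N) :
    ¬ ((q * N + 1 - 2 : ℕ) ∣ (q * N + 1) * ((q - 1) * N) * q ^ m) := by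
  intro hdvd
  obtain ⟨D, hD⟩ : ∃ D, q * N = D + 1 := ⟨q * N - 1, by
    have : 1 ≤ q * N := by nlinarith
    omega⟩
  have hD' : q * N + 1 - 2 = D := by omega
  rw [hD'] at hdvd
  have hcop : Nat.Coprime D (q * N) := by
    rw [hD, add_comm]
    exact Nat.coprime_add_self_right.mpr (Nat.coprime_one_right D)
  have hcopq : Nat.Coprime D q := Nat.Coprime.coprime_dvd_right (dvd_mul_right q N) hcop
  have hcopN : Nat.Coprime D N := Nat.Coprime.coprime_dvd_right (dvd_mul_left N q) hcop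
  have hcopqm : Nat.Coprime D (q ^ m) := Nat.Coprime.pow_right m hcopq
  have h1 : D ∣ (q * N + 1) * ((q - 1) * N) := hcopqm.dvd_of_dvd_mul_right hdvd
  have h2 : D ∣ (q * N + 1) * (q - 1) := by
    rw [← mul_assoc] at h1
    exact hcopN.dvd_of_dvd_mul_right h1
  have h3 : (q * N + 1) * (q - 1) = D * (q - 1) + 2 * (q - 1) := by
    rw [hD]; ring
  rw [h3] at h2
  have h4 : D ∣ 2 * (q - 1) := (Nat.dvd_add_right (dvd_mul_right D (q - 1))).mp h2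
  have h5 : 0 < 2 * (q - 1) := by omega
  have h6 := Nat.le_of_dvd h5 h4
  -- D = q N - 1 ≥ q (q + 1) - 1 > 2 (q - 1)
  have h7 : q * (q + 1) ≤ q * N := Nat.mul_le_mul_left q hN
  have h8 : q * (q + 1) = q * q + q := by ring
  have h9 : 2 * q ≤ q * q := Nat.mul_le_mul_right q hq
  rw [h8, hD] at h7
  generalize q * q = s at h7 h9
  omega

/-- piece A2 -/
theorem arith_generic (q m : ℕ) (hq : 2 ≤ q) (hm : 2 ≤ m) :
    ¬ ((gs q (m + 1) - 2 : ℕ) ∣ gs q (m + 1) * (q ^ m - 1) * q ^ m) := by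
  have h1 := h5_gs_succ q m
  have hN := h5_gs_ge q m hm
  have h2 : q ^ m - 1 = (q - 1) * gs q m := by
    obtain ⟨x, rfl⟩ : ∃ x, q = x + 1 := ⟨q - 1, by omega⟩
    have := h5_gs_mul x m
    rw [Nat.add_sub_cancel, ← this, Nat.add_sub_cancel, mul_comm]
  rw [h1, h2]
  exact h5_core q (gs q m) m hq hN

theorem h5_gs_three (q : ℕ) : gs q 3 = q ^ 2 + q + 1 := by
  unfold gs
  simp [Finset.sum_range_succ]
  ring

theorem h5_gs_two (q : ℕ) : gs q 2 = q + 1 := by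
  unfold gs
  simp [Finset.sum_range_succ]
  ring

/-- piece A3a -/
theorem arith_three_a (q : ℕ) (hq : 2 ≤ q) :
    ¬ ((q ^ 2 + q - 1 : ℕ) ∣ gs q 3 * (q ^ 2 - 1) * q ^ 2) := by
  have h := arith_generic q 2 hq (le_refl 2)
  have h3 : gs q (2 + 1) = q ^ 2 + q + 1 := h5_gs_three q
  rw [h3] at h
  have h4 : q ^ 2 + q + 1 - 2 = q ^ 2 + q - 1 := by omega
  rw [h4] at h
  rw [h5_gs_three]
  exact h

/-- piece A3b -/
theorem arith_three_b (q : ℕ) (hq : IsPrimePow q) (hq2 : q ≠ 2) (hq4 : q ≠ 4) :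
    ¬ ((q ^ 2 + q - 2 : ℕ) ∣ gs q 3 * (q ^ 2 - 1) * q ^ 2) := by
  intro hdvd
  have hq1 : 2 ≤ q := hq.two_le
  obtain ⟨x, rfl⟩ : ∃ x, q = x + 1 := ⟨q - 1, by omega⟩
  have hx : 1 ≤ x := by omega
  rw [h5_gs_three] at hdvd
  have e1 : (x + 1) ^ 2 + (x + 1) - 2 = x * (x + 3) := by
    have : (x + 1) ^ 2 + (x + 1) = x * (x + 3) + 2 := by ring
    omega
  have e2 : (x + 1) ^ 2 - 1 = x * (x + 2) := by
    have : (x + 1) ^ 2 = x * (x + 2) + 1 := by ring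
    omega
  rw [e1, e2] at hdvd
  have e3 : ((x + 1) ^ 2 + (x + 1) + 1) * (x * (x + 2)) * (x + 1) ^ 2 =
      x * (((x + 1) ^ 2 + (x + 1) + 1) * (x + 2) * (x + 1) ^ 2) := by ring
  rw [e3] at hdvd
  have h1 : (x + 3) ∣ ((x + 1) ^ 2 + (x + 1) + 1) * (x + 2) * (x + 1) ^ 2 :=
    Nat.dvd_of_mul_dvd_mul_left (by omega) hdvd
  -- P + 12 + 3 q (q + 2) = (q + 2) (q^4 + 2 q^2 + 6), q = x + 1
  have h2 : ((x + 1) ^ 2 + (x + 1) + 1) * (x + 2) * (x + 1) ^ 2 + (12 + 3 * (x + 1) * (x + 3)) =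
      (x + 3) * ((x + 1) ^ 4 + 2 * (x + 1) ^ 2 + 6) := by ring
  have h3 : (x + 3) ∣ 12 + 3 * (x + 1) * (x + 3) := by
    have : (x + 3) ∣ ((x + 1) ^ 2 + (x + 1) + 1) * (x + 2) * (x + 1) ^ 2 +
        (12 + 3 * (x + 1) * (x + 3)) := by rw [h2]; exact dvd_mul_right _ _
    exact (Nat.dvd_add_right h1).mp this
  have h4 : (x + 3) ∣ 12 := (Nat.dvd_add_left (dvd_mul_left (x + 3) (3 * (x + 1)))).mp h3
  have h5 : x + 3 ≤ 12 := Nat.le_of_dvd (by norm_num) h4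
  have hx9 : x ≤ 9 := by omega
  interval_cases x
  · exact hq2 rfl
  · omega
  · exact hq4 rfl
  · omega
  · omega
  · omega
  · omega
  · omega
  · -- q = 10 is not a prime power
    rw [isPrimePow_iff_unique_prime_dvd] at hq
    obtain ⟨p, ⟨_, _⟩, huniq⟩ := hq
    have h2' := huniq 2 ⟨Nat.prime_two, by norm_num⟩
    have h5' := huniq 5 ⟨by norm_num, by norm_num⟩
    omega

end ARITH

end Cfsg.Agent.Helper5.SLN
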