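import Mathlib
import Cfsg.Agent.Lib.Helper62.SLN0
import Cfsg.Agent.Lib.Helper26.SLN_R
import Cfsg.Agent.Lib.Helper66.SLN_G1

/-!
# SLN project (helper62, S2332): piece S7, `dim C_V(U_0) = c + (q - 1) d`
-/

set_option autoImplicit false

namespace Cfsg.Agent.Helper5.SLN

open Matrix Module Cfsg.Agent.Helper93.U2 Cfsg.Agent.Helper62.SLN

section SLN

variable {F : Type*} [Field F] [Fintype F] [DecidableEq F] {κ : Type} [Fintype κ] [DecidableEq κ]
  {V : Type*} [AddCommGroup V] [Module ℂ V] [FiniteDimensional ℂ V]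
  (ψ : AddChar F ℂ) (pr : Pairing (κ → F)) (hpr : ∀ w u, pr.β w u = ψ (w ⬝ᵥ u))
  (ρ : Representation ℂ (SpecialLinearGroup (Unit ⊕ κ) F) V)

/-- the additive subgroup `{u | u j = 0}` -/
def h5B (F : Type*) [Field F] {κ : Type} (j : κ) : AddSubgroup (κ → F) where
  carrier := {u | u j = 0}
  zero_mem' := rfl
  add_mem' := by
    intro a b ha hb
    show (a + b) j = 0
    rw [Pi.add_apply, ha, hb, add_zero]
  neg_mem' := by
    intro a ha
    show (-a) j = 0
    rw [Pi.neg_apply, ha, neg_zero]

include hpr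

omit [Fintype F] [DecidableEq F] in
/-- the weights trivial on `U_0` are the multiples of `e_j` -/
theorem h5_good_iff (j : κ) (a : κ → F) :
    (∀ b ∈ h5B F j, pr.β a b = 1) ↔ ∃ s : F, a = s • Pi.single j 1 := by
  constructor
  · intro h
    refine ⟨a j, ?_⟩
    funext i
    by_cases hij : i = j
    · subst hij
      simp
    · rw [Pi.smul_apply, Pi.single_apply, if_neg hij, smul_zero]
      -- a i = 0: otherwise the weight `a i • e_i` is non-degenerate
      have hz : (a i • Pi.single i (1 : F) : κ → F) = 0 := by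
        apply pr.nondeg
        intro b
        have hb : (b i • Pi.single i (1 : F) : κ → F) ∈ h5B F j := by
          show (b i • Pi.single i (1 : F) : κ → F) j = 0
          rw [Pi.smul_apply, Pi.single_apply, if_neg (Ne.symm hij), smul_zero]
        have := h _ hb
        rw [hpr] at this ⊢
        have e : (a i • Pi.single i (1 : F) : κ → F) ⬝ᵥ b = a ⬝ᵥ (b i • Pi.single i (1 : F) : κ → F) := by
          simp [dotProduct, Pi.single_apply, mul_comm]
        rw [e]
        exact this
      have := congrFun hz i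
      simpa using this
  · rintro ⟨s, rfl⟩ b hb
    have hb' : b j = 0 := hb
    rw [hpr]
    have : (s • Pi.single j (1 : F) : κ → F) ⬝ᵥ b = 0 := by
      simp [dotProduct, Pi.single_apply, hb']
    rw [this, AddChar.map_zero_eq_one]

omit [DecidableEq F] in
/-- piece S7 (R2' + G1) : `dim C_V(U_0) = c + (q - 1) d` -/
theorem finrank_fix_U0 (j : κ) (d : ℕ) (hd : ∀ w : κ → F, w ≠ 0 → finrank ℂ (wt pr ρ w) = d) :
    finrank ℂ (fixSp ρ (U0set (F := F) j)) =
      finrank ℂ (wt pr ρ 0) + (Fintype.card F - 1) * d := by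
  classical
  have hU0 : U0set (F := F) j = (uEl (F := F) (κ := κ)) '' ((h5B F j : AddSubgroup (κ → F)) : Set (κ → F)) := by
    ext g
    constructor
    · rintro ⟨u, hu, rfl⟩
      exact ⟨u, hu, rfl⟩
    · rintro ⟨u, hu, rfl⟩
      exact ⟨u, hu, rfl⟩
  rw [hU0, Cfsg.Agent.Helper26.SLN.finrank_fixSp_eq_sum_wsp pr (uEl (F := F) (κ := κ)) ρ
    (fun a b => Cfsg.Agent.Helper66.SLN.uEl_add a b) (h5B F j)]
  -- the filter is the image of `s ↦ s • e_j`
  have hfilter : Finset.univ.filter (fun a : κ → F => ∀ b ∈ h5B F j, pr.β a b = 1) =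
      Finset.univ.image (fun s : F => (s • Pi.single j (1 : F) : κ → F)) := by
    ext a
    rw [Finset.mem_filter, Finset.mem_image]
    constructor
    · rintro ⟨_, h⟩
      obtain ⟨s, hs⟩ := (h5_good_iff ψ pr hpr j a).mp h
      exact ⟨s, Finset.mem_univ _, hs.symm⟩
    · rintro ⟨s, _, rfl⟩
      exact ⟨Finset.mem_univ _, (h5_good_iff ψ pr hpr j _).mpr ⟨s, rfl⟩⟩
  have hinj : Function.Injective (fun s : F => (s • Pi.single j (1 : F) : κ → F)) := by
    intro s s' h
    have := congrFun h j
    simpa using this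
  rw [hfilter, Finset.sum_image (fun x _ y _ h => hinj h)]
  rw [← Finset.add_sum_erase Finset.univ _ (Finset.mem_univ (0 : F))]
  have h0 : ((0 : F) • Pi.single j (1 : F) : κ → F) = 0 := zero_smul _ _
  rw [h0]
  have hrest : ∑ s ∈ Finset.univ.erase (0 : F), finrank ℂ (wsp pr uEl ρ (s • Pi.single j (1 : F) : κ → F)) =
      ∑ s ∈ Finset.univ.erase (0 : F), d := by
    apply Finset.sum_congr rfl
    intro s hs
    have hs0 : s ≠ 0 := Finset.ne_of_mem_erase hs
    have hne : (s • Pi.single j (1 : F) : κ → F) ≠ 0 := by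
      intro h
      have := congrFun h j
      simp at this
      exact hs0 this
    exact hd _ hne
  rw [hrest, Finset.sum_const, Finset.card_erase_of_mem (Finset.mem_univ _), Finset.card_univ,
    smul_eq_mul]

end SLN

end Cfsg.Agent.Helper5.SLN
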