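import Mathlib
import Cfsg.Agent.Lib.Helper62.SLN0
import Cfsg.Agent.Lib.Helper49.SLN_G7
import Cfsg.Agent.Lib.Helper94.SLN_R6
import Cfsg.Agent.Lib.Helper5.SLN_S7

/-!
# SLN project (helper62, S2332): piece S8, `dim C_V(Q) = c + (q - 1) d`
-/

set_option autoImplicit false

namespace Cfsg.Agent.Helper5.SLN

open Matrix Module Cfsg.Agent.Helper93.U2 Cfsg.Agent.Helper62.SLN

section SLN

variable {F : Type*} [Field F] [Fintype F] [DecidableEq F] {κ : Type} [Fintype κ] [DecidableEq κ]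
  {V : Type*} [AddCommGroup V] [Module ℂ V] [FiniteDimensional ℂ V]
  (ψ : AddChar F ℂ) (pr : Pairing (κ → F)) (hpr : ∀ w u, pr.β w u = ψ (w ⬝ᵥ u))
  (ρ : Representation ℂ (SpecialLinearGroup (Unit ⊕ κ) F) V)

omit [Fintype F] [DecidableEq F] in
/-- `qEl j t` only depends on `update t j 0` -/
theorem h5_qEl_update (j : κ) (t : κ → F) : qEl j t = qEl j (Function.update t j 0) := by
  unfold qEl
  congr 1
  apply Subtype.ext
  rw [tvEl_val, tvEl_val]
  simp

omit [Fintype F] [DecidableEq F] in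
/-- `Q` is the conjugate of `U_0` by the swap `s` of G7 -/
theorem h5_Qset_eq (j : κ) (s : SpecialLinearGroup (Unit ⊕ κ) F)
    (hs : ∀ u : κ → F, u j = 0 → s * uEl u * s⁻¹ = qEl j u) :
    Qset (F := F) j = (fun g => s * g * s⁻¹) '' U0set (F := F) j := by
  ext g
  constructor
  · rintro ⟨t, rfl⟩
    refine ⟨uEl (Function.update t j 0), ⟨Function.update t j 0, by simp, rfl⟩, ?_⟩
    show s * uEl (Function.update t j 0) * s⁻¹ = qEl j t
    rw [hs _ (by simp), ← h5_qEl_update]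
  · rintro ⟨g', ⟨u, huj, rfl⟩, rfl⟩
    show s * uEl u * s⁻¹ ∈ Qset j
    rw [hs u huj]
    exact ⟨u, rfl⟩

include hpr

omit [DecidableEq F] in
/-- piece S8 (S7 + G7 + R6) : `dim C_V(Q) = c + (q - 1) d` -/
theorem finrank_fix_Q (j : κ) (d : ℕ) (hd : ∀ w : κ → F, w ≠ 0 → finrank ℂ (wt pr ρ w) = d) :
    finrank ℂ (fixSp ρ (Qset (F := F) j)) =
      finrank ℂ (wt pr ρ 0) + (Fintype.card F - 1) * d := by
  obtain ⟨s, hs⟩ := Cfsg.Agent.Helper49.SLN.exists_swap (F := F) j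
  rw [h5_Qset_eq j s hs, Cfsg.Agent.Helper94.SLN.finrank_fixSp_conj ρ s (U0set (F := F) j)]
  exact Cfsg.Agent.Helper5.SLN.finrank_fix_U0 ψ pr hpr ρ j d hd

end SLN

end Cfsg.Agent.Helper5.SLN
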