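import Mathlib
import Cfsg.Prelude.Def_Classical
import Cfsg.Prelude.Def_ClassicalGeometry
import Cfsg.Agent.Lib.Helper5.O3
import Cfsg.Agent.Lib.Helper5.SL2Trans
import Cfsg.Agent.Lib.Helper5.SL2Sylow
import Cfsg.Agent.Lib.Helper5.PSL2Small
import Cfsg.Agent.Lib.Helper5.PermEmbed
import Cfsg.Agent.S0265

set_option autoImplicit false
set_option linter.unusedSectionVars false
set_option linter.unusedSimpArgs false

namespace Cfsg.Agent.Helper5

open Matrix
open scoped LinearAlgebra.Projectivization MatrixGroups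

section SO3

variable {F : Type*} [Field F]

lemma mem_specialIsometryGroup_iff {ι : Type} [Fintype ι] [DecidableEq ι]
    (Q : (ι → F) → F) (g : Cfsg.isometryGroup F Q) :
    g ∈ Cfsg.specialIsometryGroup F Q ↔ (g.val : Matrix ι ι F).det = 1 := by
  rw [Cfsg.specialIsometryGroup, MonoidHom.mem_ker, MonoidHom.comp_apply, Units.ext_iff]
  rfl

lemma range_adO_le_special : (adO (F := F)).range ≤ Cfsg.specialIsometryGroup F (Cfsg.quadFormOdd 1 F) := by
  rintro _ ⟨g, rfl⟩
  rw [mem_specialIsometryGroup_iff, adO_val]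
  exact det_adMat _ (Matrix.isUnits_det_units g).ne_zero

lemma negOneO_not_mem_special (h2 : (2 : F) ≠ 0) :
    (negOneO (F := F)) ∉ Cfsg.specialIsometryGroup F (Cfsg.quadFormOdd 1 F) := by
  rw [mem_specialIsometryGroup_iff]
  change (((-1 : GL I3 F) : Matrix I3 I3 F)).det ≠ 1
  rw [Units.val_neg, Units.val_one, Matrix.det_neg, Matrix.det_one]
  have hc : Fintype.card I3 = 3 := by simp
  rw [hc]
  intro h3
  apply h2
  linear_combination -h3

variable [Fintype F]

lemma range_adO_eq_special (hodd : Odd (Fintype.card F)) :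
    (adO (F := F)).range = Cfsg.specialIsometryGroup F (Cfsg.quadFormOdd 1 F) := by
  have h2 : (2 : F) ≠ 0 := Cfsg.Agent.S0286.two_ne_zero_of_odd hodd
  have hle := range_adO_le_special (F := F)
  have hidx := index_range_adO (F := F) hodd
  have h1 := Subgroup.relIndex_mul_index hle
  rw [hidx] at h1
  have hne : (Cfsg.specialIsometryGroup F (Cfsg.quadFormOdd 1 F)).index ≠ 1 := by
    rw [Ne, Subgroup.index_eq_one]
    intro htop
    apply negOneO_not_mem_special h2
    rw [htop]; trivial
  have h3 : (adO (F := F)).range.relIndex (Cfsg.specialIsometryGroup F (Cfsg.quadFormOdd 1 F)) = 1 := by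
    have hd : (Cfsg.specialIsometryGroup F (Cfsg.quadFormOdd 1 F)).index ∣ 2 := ⟨_, by rw [← h1]; ring⟩
    rcases (Nat.dvd_prime Nat.prime_two).1 hd with h | h
    · exact absurd h hne
    · rw [h] at h1
      omega
  exact le_antisymm hle (Subgroup.relIndex_eq_one.1 h3)

/-- `SO_3(q) ≃* PGL_2(q)` for `q` odd. -/
noncomputable def so3EquivPGL (hodd : Odd (Fintype.card F)) :
    Cfsg.specialIsometryGroup F (Cfsg.quadFormOdd 1 F) ≃* PGL(Fin 2, F) :=
  let e : Cfsg.specialIsometryGroup F (Cfsg.quadFormOdd 1 F) ≃*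
      GL (Fin 2) F ⧸ Subgroup.center (GL (Fin 2) F) :=
    (MulEquiv.subgroupCongr (range_adO_eq_special hodd).symm).trans
      ((QuotientGroup.quotientKerEquivRange (adO (F := F))).symm.trans
        (QuotientGroup.quotientMulEquivOfEq
          (ker_adO.trans Matrix.GeneralLinearGroup.center_eq_range_scalar.symm)))
  e

end SO3

section PGL23

variable {F : Type*} [Field F] [Fintype F]

lemma pgl2_toPermHom_injective :
    Function.Injective (MulAction.toPermHom (PGL(Fin 2, F)) (ℙ F (Fin 2 → F))) := by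
  rw [injective_iff_map_eq_one]
  intro g hg
  have h : ∀ p : ℙ F (Fin 2 → F), g • p = p := by
    intro p
    have := congrArg (fun σ : Equiv.Perm (ℙ F (Fin 2 → F)) => σ p) hg
    simpa using this
  exact pgl2_sharp g (stdPt F 0) (stdPt F 1) (stdPt F 2)
    (stdPt_injective.ne (by decide)) (stdPt_injective.ne (by decide))
    (stdPt_injective.ne (by decide)) (h _) (h _) (h _)

theorem pgl2_three_equiv_perm (hF : Fintype.card F = 3) :
    Nonempty (PGL(Fin 2, F) ≃* Equiv.Perm (Fin 4)) := by
  have hP : Nat.card (ℙ F (Fin 2 → F)) = 4 := card_proj_line hF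
  have : Finite (ℙ F (Fin 2 → F)) := Nat.finite_of_card_ne_zero (by rw [hP]; norm_num)
  refine equiv_perm_of_injective _ pgl2_toPermHom_injective 4 hP ?_
  rw [Cfsg.Agent.S0265.result 2, card_SL2 hF]
  rfl

end PGL23

end Cfsg.Agent.Helper5
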