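import Mathlib
import Cfsg.Agent.Lib.Helper2.SS0

/-!
SS server (helper2, S2411): cores of the pieces Y7a, Y9a, Y9b, Y10 with the statements of the root pieces
Y2 (`c_act`) and Y3 (`y_act`) as explicit hypotheses.
-/

set_option autoImplicit false

namespace Cfsg.Agent.Helper5.SS

open Matrix Cfsg Cfsg.Agent.Helper13 Cfsg.Agent.Helper84.SpRoot Cfsg.Agent.Helper5.SpAut
open Cfsg.Agent.Helper2.SR Cfsg.Agent.Helper2.SS

variable {F : Type*} [Field F] {m : ℕ}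

/-- the statement of piece (Y2) -/
def CAct (m : ℕ) (F : Type*) [Field F] : Prop :=
  (∀ i j : Fin (m + 2), j.val = i.val + 1 → (cEl m F).val *ᵥ be i = be j) ∧
    (cEl m F).val *ᵥ be jB = bf 0 ∧
    (∀ i j : Fin (m + 2), j.val = i.val + 1 → (cEl m F).val *ᵥ bf i = bf j) ∧
    (cEl m F).val *ᵥ bf jB = - be 0

/-- the statement of piece (Y3) -/
def YAct (m : ℕ) {F : Type*} [Field F] (α β ξ : F) : Prop :=
  (yEl (m := m) α β ξ).val *ᵥ be 0 = be 0 ∧
    (yEl (m := m) α β ξ).val *ᵥ be 1 = dV α β ξ ∧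
    (∀ c : F, sympT (be (m := m) 0) c * yEl α β ξ = yEl α β ξ * sympT (be 0) c)

theorem h5_orb_mul {H : Subgroup (Matrix.symplecticGroup (Fin (m + 2)) F)}
    {e0 x : Fin (m + 2) ⊕ Fin (m + 2) → F} {g : Matrix.symplecticGroup (Fin (m + 2)) F} (hg : g ∈ H)
    (hx : x ∈ Orb H e0) : g.val *ᵥ x ∈ Orb H e0 := by
  obtain ⟨h, hh, rfl⟩ := hx
  exact ⟨g * h, H.mul_mem hg hh, mul_act g h e0⟩

theorem h5_orb_self {H : Subgroup (Matrix.symplecticGroup (Fin (m + 2)) F)}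
    (e0 : Fin (m + 2) ⊕ Fin (m + 2) → F) : e0 ∈ Orb H e0 :=
  ⟨1, H.one_mem, one_act e0⟩

/-- core of (Y9a) -/
theorem h5_orb_basis_core (hY2 : CAct m F) {H : Subgroup (Matrix.symplecticGroup (Fin (m + 2)) F)}
    (hc : cEl m F ∈ H) :
    ∀ i : Fin (m + 2), be i ∈ Orb H (be 0) ∧ bf i ∈ Orb H (be 0) := by
  obtain ⟨hE, hEF, hFF, -⟩ := hY2
  have h1 : ∀ k (hk : k < m + 2), (be ⟨k, hk⟩ : Fin (m + 2) ⊕ Fin (m + 2) → F) ∈ Orb H (be 0) := by
    intro k
    induction k with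
    | zero =>
      intro hk
      exact h5_orb_self _
    | succ k ih =>
      intro hk
      have hk' : k < m + 2 := by omega
      have := h5_orb_mul hc (ih hk')
      rwa [hE ⟨k, hk'⟩ ⟨k + 1, hk⟩ rfl] at this
  have h2 : (bf 0 : Fin (m + 2) ⊕ Fin (m + 2) → F) ∈ Orb H (be 0) := by
    have := h5_orb_mul hc (h1 (m + 1) (by omega))
    have hj : (⟨m + 1, by omega⟩ : Fin (m + 2)) = jB := rfl
    rwa [hj, hEF] at this
  have h3 : ∀ k (hk : k < m + 2), (bf ⟨k, hk⟩ : Fin (m + 2) ⊕ Fin (m + 2) → F) ∈ Orb H (be 0) := by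
    intro k
    induction k with
    | zero =>
      intro hk
      exact h2
    | succ k ih =>
      intro hk
      have hk' : k < m + 2 := by omega
      have := h5_orb_mul hc (ih hk')
      rwa [hFF ⟨k, hk'⟩ ⟨k + 1, hk⟩ rfl] at this
  intro i
  exact ⟨h1 i.val i.isLt, h3 i.val i.isLt⟩

/-- core of (Y9b) -/
theorem h5_orb_d_core (hY2 : CAct m F) {α β ξ : F} (hY3 : YAct m α β ξ)
    {H : Subgroup (Matrix.symplecticGroup (Fin (m + 2)) F)}
    (hc : cEl m F ∈ H) (hy : yEl α β ξ ∈ H) :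
    ∀ j : ℕ, ((cEl m F) ^ j).val *ᵥ dV α β ξ ∈ Orb H (be 0) := by
  intro j
  have h1 : (be 1 : Fin (m + 2) ⊕ Fin (m + 2) → F) ∈ Orb H (be 0) := by
    have := h5_orb_mul hc (h5_orb_self (H := H) (be (m := m) (F := F) 0))
    rwa [hY2.1 0 1 (by simp)] at this
  have h2 : dV α β ξ ∈ Orb H (be 0) := by
    have := h5_orb_mul hy h1
    rwa [hY3.2.1] at this
  exact h5_orb_mul (H.pow_mem hc j) h2

/-- core of (Y7a) -/
theorem h5_l_e0_core (hY2 : CAct m F) {α β ξ : F} (hY3 : YAct m α β ξ) :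
    (lEl (m := m) α β ξ).val *ᵥ be 0 = be 1 := by
  unfold lEl
  rw [mul_act, hY3.1, hY2.1 0 1 (by simp)]

/-- powers of `c` on the `e_i` -/
theorem h5_c_pow_be (hY2 : CAct m F) (k : ℕ) (i j : Fin (m + 2)) (hij : j.val = i.val + k) :
    ((cEl m F) ^ k).val *ᵥ be i = be j := by
  induction k generalizing j with
  | zero =>
    have : j = i := Fin.ext (by omega)
    rw [pow_zero, one_act, this]
  | succ k ih =>
    have hk : i.val + k < m + 2 := by have := j.isLt; omega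
    rw [pow_succ', mul_act, ih ⟨i.val + k, hk⟩ rfl]
    exact hY2.1 _ _ (by simp only []; omega)

/-- powers of `c` on the `f_i` -/
theorem h5_c_pow_bf (hY2 : CAct m F) (k : ℕ) (i j : Fin (m + 2)) (hij : j.val = i.val + k) :
    ((cEl m F) ^ k).val *ᵥ bf i = bf j := by
  induction k generalizing j with
  | zero =>
    have : j = i := Fin.ext (by omega)
    rw [pow_zero, one_act, this]
  | succ k ih =>
    have hk : i.val + k < m + 2 := by have := j.isLt; omega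
    rw [pow_succ', mul_act, ih ⟨i.val + k, hk⟩ rfl]
    exact hY2.2.2.1 _ _ (by simp only []; omega)

/-- core of (Y10) -/
theorem h5_c_pow_d_core (hY2 : CAct m F) (α β ξ : F) (j : ℕ) (hj2 : 2 ≤ j) (hjm : j ≤ m)
    (a b c : Fin (m + 2)) (ha : a.val = j - 1) (hb : b.val = j) (hc : c.val = j + 1) :
    ((cEl m F) ^ j).val *ᵥ dV α β ξ =
      (1 - α * β) • be c + (α * β) • be b - (β * ξ) • bf a - β • bf c := by
  have e1 : ((cEl m F) ^ j).val *ᵥ (be 1 : Fin (m + 2) ⊕ Fin (m + 2) → F) = be c :=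
    h5_c_pow_be hY2 j 1 c (by rw [hc]; simp [Fin.val_one]; omega)
  have e0 : ((cEl m F) ^ j).val *ᵥ (be 0 : Fin (m + 2) ⊕ Fin (m + 2) → F) = be b :=
    h5_c_pow_be hY2 j 0 b (by rw [hb]; simp)
  have f1 : ((cEl m F) ^ j).val *ᵥ (bf 1 : Fin (m + 2) ⊕ Fin (m + 2) → F) = bf c :=
    h5_c_pow_bf hY2 j 1 c (by rw [hc]; simp [Fin.val_one]; omega)
  have eB : ((cEl m F) ^ j).val *ᵥ (be jB : Fin (m + 2) ⊕ Fin (m + 2) → F) = bf a := by
    obtain ⟨k, rfl⟩ : ∃ k, j = k + 1 := ⟨j - 1, by omega⟩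
    rw [pow_succ, mul_act, hY2.2.1]
    exact h5_c_pow_bf hY2 k 0 a (by rw [ha]; simp)
  unfold dV
  rw [Matrix.mulVec_sub, Matrix.mulVec_sub, Matrix.mulVec_add, Matrix.mulVec_smul, Matrix.mulVec_smul,
    Matrix.mulVec_smul, Matrix.mulVec_smul, e1, e0, f1, eB]

end Cfsg.Agent.Helper5.SS
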