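import Mathlib
import Cfsg.Agent.Lib.Helper2.SS0
import Cfsg.Agent.Lib.Helper12.SSY1
import Cfsg.Agent.Lib.Helper5.SSCore5

/-!
SS server (helper2, S2411): pieces (Y9a) `orb_basis` and (Y10) `c_pow_d` (on helper12's Y2 `c_act`).
-/

set_option autoImplicit false

namespace Cfsg.Agent.Helper5.SS

open Matrix Cfsg Cfsg.Agent.Helper13 Cfsg.Agent.Helper84.SpRoot Cfsg.Agent.Helper5.SpAut
open Cfsg.Agent.Helper2.SR Cfsg.Agent.Helper2.SS

variable {F : Type*} [Field F] {m : ℕ}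

theorem h5_CAct : CAct m F := Cfsg.Agent.Helper12.SS.c_act

/-- (Y9a) `c^i e_0 = e_i`, `c^(n+i) e_0 = f_i`; uses Y2 -/
theorem orb_basis {H : Subgroup (Matrix.symplecticGroup (Fin (m + 2)) F)} (hc : cEl m F ∈ H) :
    ∀ i : Fin (m + 2), be i ∈ Orb H (be 0) ∧ bf i ∈ Orb H (be 0) :=
  h5_orb_basis_core h5_CAct hc

/-- (Y10) uses Y2: `c^j e_1 = e_{j+1}`, `c^j e_0 = e_j`, `c^j e_{n-1} = f_{j-1}`, `c^j f_1 = f_{j+1}` -/
theorem c_pow_d (α β ξ : F) (j : ℕ) (hj2 : 2 ≤ j) (hjm : j ≤ m) (a b c : Fin (m + 2))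
    (ha : a.val = j - 1) (hb : b.val = j) (hc : c.val = j + 1) :
    ((cEl m F) ^ j).val *ᵥ dV α β ξ =
      (1 - α * β) • be c + (α * β) • be b - (β * ξ) • bf a - β • bf c :=
  h5_c_pow_d_core h5_CAct α β ξ j hj2 hjm a b c ha hb hc

end Cfsg.Agent.Helper5.SS
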