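import Mathlib
import Cfsg.Agent.Lib.Helper2.SS0
import Cfsg.Agent.Lib.Helper12.SSY1
import Cfsg.Agent.Lib.Helper12.SSY3
import Cfsg.Agent.Lib.Helper5.SSCore5

/-!
SS server (helper2, S2411): piece (Y9b) `orb_d` (on helper12's Y2 `c_act`, Y3 `y_act`).
-/

set_option autoImplicit false

namespace Cfsg.Agent.Helper5.SS

open Matrix Cfsg Cfsg.Agent.Helper13 Cfsg.Agent.Helper84.SpRoot Cfsg.Agent.Helper5.SpAut
open Cfsg.Agent.Helper2.SR Cfsg.Agent.Helper2.SS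

variable {F : Type*} [Field F] {m : ℕ}

/-- (Y9b) `d = y c e_0`; uses Y2 Y3 -/
theorem orb_d {H : Subgroup (Matrix.symplecticGroup (Fin (m + 2)) F)} {α β ξ : F}
    (hc : cEl m F ∈ H) (hy : yEl α β ξ ∈ H) :
    ∀ j : ℕ, ((cEl m F) ^ j).val *ᵥ dV α β ξ ∈ Orb H (be 0) :=
  h5_orb_d_core Cfsg.Agent.Helper12.SS.c_act (Cfsg.Agent.Helper12.SS.y_act α β ξ) hc hy

end Cfsg.Agent.Helper5.SS
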