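import Mathlib
import Cfsg.Prelude.Def_Classical
import Cfsg.Agent.Lib.Lead.Klein

set_option autoImplicit false
set_option linter.unusedSectionVars false
set_option linter.unusedSimpArgs false

namespace Cfsg.Agent.Helper5.SUKlein

open Matrix Cfsg.Agent.Lead

section Generic

variable {K : Type*} [Field K]

theorem Bm_map {K' : Type*} [Field K'] (σ : K →+* K') (v : Klein.I → K) :
    (Klein.Bm v).map σ = Klein.Bm (σ ∘ v) := by
  ext i j
  fin_cases i <;> fin_cases j <;> simp [Klein.Bm]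

theorem coords_map {K' : Type*} [Field K'] (σ : K →+* K') (A : Matrix (Fin 4) (Fin 4) K) :
    Klein.coords (A.map σ) = σ ∘ Klein.coords A := by
  funext i
  rcases i with i | i <;> fin_cases i <;> simp [Klein.coords]

theorem kmat_mulVec_map {K' : Type*} [Field K'] (σ : K →+* K') (g : Matrix (Fin 4) (Fin 4) K)
    (v : Klein.I → K) : Klein.kmat (g.map σ) *ᵥ (σ ∘ v) = σ ∘ (Klein.kmat g *ᵥ v) := by
  rw [Klein.kmat_mulVec, Klein.kmat_mulVec, ← Bm_map, ← coords_map, Matrix.map_mul, Matrix.map_mul,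
    Matrix.transpose_map]

theorem kmat_map {K' : Type*} [Field K'] (σ : K →+* K') (g : Matrix (Fin 4) (Fin 4) K) :
    Klein.kmat (g.map σ) = (Klein.kmat g).map σ := by
  ext i j
  have h := congrFun (kmat_mulVec_map σ g (Pi.single j 1)) i
  have hs : (σ ∘ (Pi.single j 1 : Klein.I → K)) = Pi.single j 1 := by
    funext k
    by_cases hk : k = j
    · subst hk; simp
    · simp [Pi.single_apply, hk]
  rw [hs, Matrix.mulVec_single_one, Function.comp_apply, Matrix.mulVec_single_one] at h
  exact h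

/-- The swap matrix, the Gram matrix of the polar form of `quadFormPlus 3`. -/
def Sm : Matrix Klein.I Klein.I K := Matrix.of fun i j => if i = Sum.swap j then 1 else 0

theorem Sm_mulVec (w : Klein.I → K) : (Sm : Matrix Klein.I Klein.I K) *ᵥ w = w ∘ Sum.swap := by
  funext i
  simp only [Sm, Matrix.mulVec, dotProduct, Matrix.of_apply, Function.comp_apply]
  rw [Finset.sum_eq_single (Sum.swap i)]
  · simp
  · intro j _ hj
    have : ¬ (i = Sum.swap j) := by
      intro h
      apply hj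
      rw [h, Sum.swap_swap]
    simp [this]
  · simp

theorem Sm_mul_Sm : (Sm : Matrix Klein.I Klein.I K) * Sm = 1 := by
  apply Matrix.toLin'.injective
  apply LinearMap.ext
  intro v
  rw [Matrix.toLin'_mul, LinearMap.comp_apply, Matrix.toLin'_apply, Matrix.toLin'_apply,
    Sm_mulVec, Sm_mulVec, Matrix.toLin'_one]
  funext i
  simp

theorem quad_add (v w : Klein.I → K) :
    Cfsg.quadFormPlus 3 K (v + w) = Cfsg.quadFormPlus 3 K v + Cfsg.quadFormPlus 3 K w +
      v ⬝ᵥ ((Sm : Matrix Klein.I Klein.I K) *ᵥ w) := by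
  rw [Sm_mulVec]
  simp only [Cfsg.quadFormPlus, dotProduct, Fintype.sum_sum_type, Fin.sum_univ_three, Pi.add_apply,
    Function.comp_apply, Sum.swap_inl, Sum.swap_inr]
  ring

theorem kmat_apply (g : Matrix (Fin 4) (Fin 4) K) (i j : Klein.I) :
    Klein.kmat g i j = Klein.coords (g * Klein.Bm (Pi.single j 1) * gᵀ) i := by
  have h := congrFun (Klein.kmat_mulVec g (Pi.single j 1)) i
  rw [Matrix.mulVec_single_one] at h
  exact h

theorem kmat_transpose (g : Matrix (Fin 4) (Fin 4) K) :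
    Klein.kmat gᵀ = (Klein.kmat g)ᵀ := by
  ext i j
  rw [Matrix.transpose_apply, kmat_apply, kmat_apply]
  rcases i with i | i <;> rcases j with j | j <;> fin_cases i <;> fin_cases j <;>
  · unfold Klein.coords Klein.Bm
    simp [Matrix.mul_apply, Fin.sum_univ_four, Pi.single_apply]
    try ring

/-- An isometry of `quadFormPlus 3` preserves the polar form. -/
theorem polar_of_isometry (M : Matrix Klein.I Klein.I K)
    (hM : ∀ v, Cfsg.quadFormPlus 3 K (M *ᵥ v) = Cfsg.quadFormPlus 3 K v) :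
    Mᵀ * Sm * M = Sm := by
  have key : ∀ v w : Klein.I → K, (M *ᵥ v) ⬝ᵥ ((Sm : Matrix Klein.I Klein.I K) *ᵥ (M *ᵥ w)) =
      v ⬝ᵥ ((Sm : Matrix Klein.I Klein.I K) *ᵥ w) := by
    intro v w
    have h1 := quad_add (M *ᵥ v) (M *ᵥ w)
    have h2 := quad_add v w
    rw [← Matrix.mulVec_add, hM, hM, hM, h2] at h1
    exact (add_left_cancel h1).symm
  ext i j
  have h := key (Pi.single i 1) (Pi.single j 1)
  rw [Matrix.mulVec_mulVec, Matrix.dotProduct_mulVec, Matrix.vecMul_mulVec] at h
  rw [Matrix.single_one_vecMul, dotProduct_single_one, single_one_dotProduct,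
    Matrix.mulVec_single_one, ← Matrix.mul_assoc] at h
  exact h

theorem kmat_mul (g h : Matrix (Fin 4) (Fin 4) K) :
    Klein.kmat (g * h) = Klein.kmat g * Klein.kmat h := Klein.kHom.map_mul g h

theorem kmat_one : Klein.kmat (1 : Matrix (Fin 4) (Fin 4) K) = 1 := Klein.kHom.map_one

theorem quad_kmat (g : Matrix (Fin 4) (Fin 4) K) (hdet : g.det = 1) (v : Klein.I → K) :
    Cfsg.quadFormPlus 3 K (Klein.kmat g *ᵥ v) = Cfsg.quadFormPlus 3 K v := by
  rw [Klein.kmat_mulVec, Klein.quad_conj, hdet, one_mul]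

/-- For a unitary matrix `g` (w.r.t. the field endomorphism `σ`), the Klein matrix of `g`
commutes with the semilinear Hodge star: `σ(kmat g) = Sm * kmat g * Sm`. -/
theorem kmat_map_of_unitary (σ : K →+* K) (g : Matrix (Fin 4) (Fin 4) K) (hdet : g.det = 1)
    (hu : gᵀ * g.map σ = 1) : (Klein.kmat g).map σ = Sm * Klein.kmat g * Sm := by
  have h1 : (Klein.kmat g)ᵀ * (Klein.kmat g).map σ = 1 := by
    rw [← kmat_transpose, ← kmat_map, ← kmat_mul, hu, kmat_one]
  have h2 : (Klein.kmat g)ᵀ * (Sm * Klein.kmat g * Sm) = 1 := by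
    have := polar_of_isometry (Klein.kmat g) (quad_kmat g hdet)
    calc (Klein.kmat g)ᵀ * (Sm * Klein.kmat g * Sm)
        = ((Klein.kmat g)ᵀ * Sm * Klein.kmat g) * Sm := by simp only [Matrix.mul_assoc]
      _ = 1 := by rw [this, Sm_mul_Sm]
  have h3 : (Klein.kmat g).map σ * (Klein.kmat g)ᵀ = 1 := _root_.mul_eq_one_comm.1 h1
  calc (Klein.kmat g).map σ = (Klein.kmat g).map σ * ((Klein.kmat g)ᵀ * (Sm * Klein.kmat g * Sm)) := by
        rw [h2, Matrix.mul_one]
    _ = ((Klein.kmat g).map σ * (Klein.kmat g)ᵀ) * (Sm * Klein.kmat g * Sm) := by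
        simp only [Matrix.mul_assoc]
    _ = Sm * Klein.kmat g * Sm := by rw [h3, Matrix.one_mul]

end Generic

end Cfsg.Agent.Helper5.SUKlein
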