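import Mathlib
import Cfsg.Prelude.Def_Classical
import Cfsg.Agent.Lib.Helper5.SUKlein
import Cfsg.Agent.Lib.Helper5.QuadExt

set_option autoImplicit false
set_option linter.unusedSectionVars false
set_option linter.unusedSimpArgs false
set_option linter.style.haveILetI false

namespace Cfsg.Agent.Helper5.SUKlein

open Matrix Cfsg.Agent.Lead

/-- The index type of `quadFormMinus 2`. -/
abbrev J6 : Type := (Fin 2 ⊕ Fin 2) ⊕ Fin 2

section PMatrix

variable {F K : Type*} [Field F] [Field K]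

/-- The `K³`-components of the adapted basis of the `F`-form `{(u, σu)}`. -/
def uvec (ω ε ε' c Di : K) : J6 → Fin 3 → K
  | .inl (.inl 0) => ![1, ε, 0]
  | .inl (.inl 1) => ![ω, ω * ε, 0]
  | .inl (.inr 0) => ![ω * Di * c, ω * Di * c * ε', 0]
  | .inl (.inr 1) => ![-(c * Di), -(c * Di * ε'), 0]
  | .inr 0 => ![0, 0, 1]
  | .inr 1 => ![0, 0, ω]

/-- The matrix whose columns are the adapted basis vectors `(u, σu)`. -/
def Pm (σ : K →+* K) (ω ε ε' c Di : K) : Matrix Klein.I J6 K :=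
  Matrix.of fun i j => match i with
    | .inl i => uvec ω ε ε' c Di j i
    | .inr i => σ (uvec ω ε ε' c Di j i)

theorem Sm_mul {n : Type*} (M : Matrix Klein.I n K) :
    (Sm : Matrix Klein.I Klein.I K) * M = M.submatrix Sum.swap id := by
  ext i j
  have := congrFun (Sm_mulVec (fun k => M k j)) i
  simpa [Matrix.mul_apply, Matrix.mulVec, dotProduct] using this

theorem Sm_mul_Pm_map (σ : K →+* K) (hσσ : ∀ x, σ (σ x) = x) (ω ε ε' c Di : K) :
    (Sm : Matrix Klein.I Klein.I K) * (Pm σ ω ε ε' c Di).map σ = Pm σ ω ε ε' c Di := by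
  rw [Sm_mul]
  ext i j
  rcases i with i | i
  · simp [Pm, hσσ]
  · simp [Pm]

theorem key_identity {R : Type*} [CommRing R] (x0 x1 y0 y1 z1 z2 ω sω ε sε ε' sε' c sc Di : R)
    (hε : ε * sε = -1) (hε' : ε' * sε' = -1) (hc : c * (1 + sε * ε') = 1)
    (hc' : sc * (1 + ε * sε') = 1) (hD : (ω - sω) * Di = 1) :
    (x0 + ω * x1 + (ω * Di * c * y0 + -(c * Di * y1))) *
        (x0 + sω * x1 + (sω * -Di * sc * y0 + -(sc * -Di * y1))) +
      (ε * x0 + ω * ε * x1 + (ω * Di * c * ε' * y0 + -(c * Di * ε' * y1))) *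
        (sε * x0 + sω * sε * x1 + (sω * -Di * sc * sε' * y0 + -(sc * -Di * sε' * y1))) +
      (z1 + ω * z2) * (z1 + sω * z2) =
    x0 * y0 + x1 * y1 + (z1 ^ 2 + (ω + sω) * z1 * z2 + ω * sω * z2 ^ 2) := by
  linear_combination ((x0 + ω * x1) * (x0 + sω * x1)) * hε +
    (((ω * y0 - y1) * Di) * ((sω * y0 - y1) * -Di) * c * sc) * hε' +
    ((x0 + ω * x1) * ((sω * y0 - y1) * -Di)) * hc' +
    (((ω * y0 - y1) * Di) * (x0 + sω * x1)) * hc + (x0 * y0 + x1 * y1) * hD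

theorem quad_Pm (ι : F →+* K) (σ : K →+* K) (ω ε ε' c Di : K) (a b : F)
    (hω1 : ω + σ ω = ι a) (hω2 : ω * σ ω = ι b) (hε : ε * σ ε = -1) (hε' : ε' * σ ε' = -1)
    (hc : c * (1 + σ ε * ε') = 1) (hc' : σ c * (1 + ε * σ ε') = 1) (hD : (ω - σ ω) * Di = 1)
    (hDi : σ Di = -Di) (v : J6 → F) :
    Cfsg.quadFormPlus 3 K (Pm σ ω ε ε' c Di *ᵥ (ι ∘ v)) = ι (Cfsg.quadFormMinus 2 F a b v) := by
  simp only [Cfsg.quadFormPlus, Cfsg.quadFormMinus, Fin.sum_univ_three, Fin.sum_univ_two,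
    Matrix.mulVec, dotProduct, Fintype.sum_sum_type, Pm, uvec, Matrix.of_apply, Function.comp_apply]
  simp only [map_add, map_mul, map_pow, map_neg, map_one, map_zero, hDi, ← hω1, ← hω2]
  simp
  obtain ⟨x0, hx0⟩ : ∃ x, x = ι (v (.inl (.inl 0))) := ⟨_, rfl⟩
  obtain ⟨x1, hx1⟩ : ∃ x, x = ι (v (.inl (.inl 1))) := ⟨_, rfl⟩
  obtain ⟨y0, hy0⟩ : ∃ x, x = ι (v (.inl (.inr 0))) := ⟨_, rfl⟩
  obtain ⟨y1, hy1⟩ : ∃ x, x = ι (v (.inl (.inr 1))) := ⟨_, rfl⟩
  obtain ⟨z1, hz1⟩ : ∃ x, x = ι (v (.inr 0)) := ⟨_, rfl⟩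
  obtain ⟨z2, hz2⟩ : ∃ x, x = ι (v (.inr 1)) := ⟨_, rfl⟩
  rw [← hx0, ← hx1, ← hy0, ← hy1, ← hz1, ← hz2]
  rw [hDi]
  exact key_identity _ _ _ _ _ _ _ _ _ _ _ _ _ _ _ hε hε' hc hc' hD

/-- The Gram matrix of the polar form of `quadFormMinus 2 F a b`. -/
def G6 (a b : F) : Matrix J6 J6 F :=
  Matrix.fromBlocks (Matrix.fromBlocks 0 1 1 0) 0 0 !![2, a; a, 2 * b]

theorem quadMinus_add (a b : F) (x y : J6 → F) :
    Cfsg.quadFormMinus 2 F a b (x + y) = Cfsg.quadFormMinus 2 F a b x +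
      Cfsg.quadFormMinus 2 F a b y + x ⬝ᵥ (G6 a b *ᵥ y) := by
  simp only [Cfsg.quadFormMinus, G6, dotProduct, Matrix.mulVec, Fintype.sum_sum_type,
    Fin.sum_univ_two, Pi.add_apply, Matrix.fromBlocks_apply₁₁, Matrix.fromBlocks_apply₁₂,
    Matrix.fromBlocks_apply₂₁, Matrix.fromBlocks_apply₂₂, Matrix.zero_apply, Matrix.one_apply]
  simp
  ring

theorem comp_single (ι : F →+* K) {n : Type*} [DecidableEq n] (j : n) :
    (ι ∘ (Pi.single j 1 : n → F)) = Pi.single j 1 := by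
  funext k
  by_cases hk : k = j
  · subst hk; simp
  · simp [Pi.single_apply, hk]

theorem gram_of_quad (ι : F →+* K) (a b : F) (P : Matrix Klein.I J6 K)
    (hP : ∀ v : J6 → F, Cfsg.quadFormPlus 3 K (P *ᵥ (ι ∘ v)) = ι (Cfsg.quadFormMinus 2 F a b v)) :
    (Pᵀ : Matrix J6 Klein.I K) * (Sm : Matrix Klein.I Klein.I K) * P = (G6 a b).map ι := by
  have key : ∀ x y : J6 → F, (P *ᵥ (ι ∘ x)) ⬝ᵥ ((Sm : Matrix Klein.I Klein.I K) *ᵥ (P *ᵥ (ι ∘ y))) =
      ι (x ⬝ᵥ (G6 a b *ᵥ y)) := by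
    intro x y
    have h1 := quad_add (P *ᵥ (ι ∘ x)) (P *ᵥ (ι ∘ y))
    have h2 := quadMinus_add a b x y
    have h3 : (ι ∘ (x + y)) = ι ∘ x + ι ∘ y := by
      funext k; simp
    rw [← Matrix.mulVec_add, ← h3, hP, hP, hP, h2, map_add, map_add] at h1
    exact (add_left_cancel h1).symm
  ext j k
  have h := key (Pi.single j 1) (Pi.single k 1)
  rw [comp_single, comp_single, Matrix.mulVec_mulVec, Matrix.dotProduct_mulVec,
    Matrix.vecMul_mulVec, Matrix.single_one_vecMul, dotProduct_single_one,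
    Matrix.mulVec_single_one, single_one_dotProduct, ← Matrix.mul_assoc] at h
  rw [Matrix.map_apply]
  exact h

/-- The inverse Gram matrix over `K`. -/
def Ginv6 (ia ib Di : K) : Matrix J6 J6 K :=
  Matrix.fromBlocks (Matrix.fromBlocks 0 1 1 0) 0 0 ((-(Di ^ 2)) • !![2 * ib, -ia; -ia, 2])

theorem Ginv6_mul (ι : F →+* K) (a b : F) (ω sω Di : K) (hω1 : ω + sω = ι a) (hω2 : ω * sω = ι b)
    (hD : (ω - sω) * Di = 1) : Ginv6 (ι a) (ι b) Di * (G6 a b).map ι = 1 := by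
  have hd : (4 * ι b - ι a ^ 2) * (-(Di ^ 2)) = 1 := by
    rw [← hω1, ← hω2]
    linear_combination ((ω - sω) * Di + 1) * hD
  have h22 : ((-(Di ^ 2)) • !![2 * ι b, -ι a; -ι a, 2]) * (!![2, a; a, 2 * b] : Matrix (Fin 2) (Fin 2) F).map ι
      = 1 := by
    ext i j
    fin_cases i <;> fin_cases j <;>
      simp [Matrix.mul_apply, Fin.sum_univ_two, Matrix.one_apply, map_ofNat] <;>
      first | ring1 | linear_combination hd
  have h11 : (Matrix.fromBlocks (0 : Matrix (Fin 2) (Fin 2) K) (1 : Matrix (Fin 2) (Fin 2) K)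
      (1 : Matrix (Fin 2) (Fin 2) K) (0 : Matrix (Fin 2) (Fin 2) K)) *
      (Matrix.fromBlocks (0 : Matrix (Fin 2) (Fin 2) K) (1 : Matrix (Fin 2) (Fin 2) K)
      (1 : Matrix (Fin 2) (Fin 2) K) (0 : Matrix (Fin 2) (Fin 2) K)) = 1 := by
    rw [Matrix.fromBlocks_multiply]
    simp [Matrix.fromBlocks_one]
  unfold Ginv6 G6
  rw [Matrix.fromBlocks_map, Matrix.fromBlocks_map, Matrix.fromBlocks_multiply]
  simp only [Matrix.map_zero _ (map_zero ι), Matrix.map_one _ (map_zero ι) (map_one ι), Matrix.mul_zero, Matrix.zero_mul, add_zero,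
    zero_add, h11, h22, Matrix.fromBlocks_one]

end PMatrix

section DataSec

variable {F K : Type*} [Field F] [Field K]

/-- `Sm` with explicit field. -/
abbrev SmK (K : Type*) [Field K] : Matrix Klein.I Klein.I K := Sm

/-- The field-theoretic data for the descent. -/
structure Data (F K : Type*) [Field F] [Field K] (q : ℕ) (a b : F) where
  ι : F →+* K
  σ : K →+* K
  ω : K
  ε : K
  ε' : K
  c : K
  Di : K
  hσ : ∀ x, σ x = x ^ q
  hσσ : ∀ x, σ (σ x) = x
  hσι : ∀ f, σ (ι f) = ι f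
  hfix : ∀ x, σ x = x → ∃ f, ι f = x
  hω1 : ω + σ ω = ι a
  hω2 : ω * σ ω = ι b
  hε : ε * σ ε = -1
  hε' : ε' * σ ε' = -1
  hc : c * (1 + σ ε * ε') = 1
  hD : (ω - σ ω) * Di = 1

variable {q : ℕ} {a b : F} (D : Data F K q a b)

theorem Data.hc' : D.σ D.c * (1 + D.ε * D.σ D.ε') = 1 := by
  have := congrArg D.σ D.hc
  simpa [map_mul, map_add, D.hσσ] using this

theorem Data.hDi : D.σ D.Di = -D.Di := by
  have h1 := congrArg D.σ D.hD
  rw [map_mul, map_sub, D.hσσ, map_one] at h1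
  have hne : D.ω - D.σ D.ω ≠ 0 := by
    intro h
    have := D.hD
    rw [h, zero_mul] at this
    exact zero_ne_one this
  have h2 : (D.ω - D.σ D.ω) * (D.σ D.Di + D.Di) = 0 := by linear_combination D.hD - h1
  have := (mul_eq_zero.1 h2).resolve_left hne
  linear_combination this

/-- The adapted basis matrix. -/
def Data.P : Matrix Klein.I J6 K := Pm D.σ D.ω D.ε D.ε' D.c D.Di

/-- Its inverse. -/
def Data.Pinv : Matrix J6 Klein.I K :=
  Ginv6 (D.ι a) (D.ι b) D.Di * ((D.P)ᵀ : Matrix J6 Klein.I K) * (SmK K)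

theorem Data.quad_P (v : J6 → F) :
    Cfsg.quadFormPlus 3 K (D.P *ᵥ (D.ι ∘ v)) = D.ι (Cfsg.quadFormMinus 2 F a b v) :=
  quad_Pm D.ι D.σ D.ω D.ε D.ε' D.c D.Di a b D.hω1 D.hω2 D.hε D.hε' D.hc D.hc' D.hD D.hDi v

theorem Data.Pinv_mul_P : D.Pinv * D.P = 1 := by
  unfold Data.Pinv
  rw [Matrix.mul_assoc, Matrix.mul_assoc, ← Matrix.mul_assoc _ (SmK K), gram_of_quad D.ι a b D.P D.quad_P]
  exact Ginv6_mul D.ι a b D.ω (D.σ D.ω) D.Di D.hω1 D.hω2 D.hD

theorem Data.P_mul_Pinv : D.P * D.Pinv = 1 :=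
  (Matrix.mul_eq_one_comm_of_card_eq J6 Klein.I K (by simp)).1 D.Pinv_mul_P

theorem Data.Sm_mul_P_map : (SmK K) * (D.P).map D.σ = D.P :=
  Sm_mul_Pm_map D.σ D.hσσ _ _ _ _ _

theorem Data.P_map : (D.P).map D.σ = (SmK K) * D.P := by
  have h := congrArg (fun M => (SmK K) * M) D.Sm_mul_P_map
  simp only [← Matrix.mul_assoc, Sm_mul_Sm, Matrix.one_mul] at h
  exact h

theorem Data.Pinv_map : (D.Pinv).map D.σ = D.Pinv * (SmK K) := by
  -- both are left inverses of `Sm * P`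
  have h1 : (D.Pinv).map D.σ * ((SmK K) * D.P) = 1 := by
    rw [← D.P_map, ← Matrix.map_mul, D.Pinv_mul_P]
    exact Matrix.map_one _ (map_zero _) (map_one _)
  calc (D.Pinv).map D.σ = (D.Pinv).map D.σ * (((SmK K) * D.P) * (D.Pinv * (SmK K))) := by
        rw [Matrix.mul_assoc, ← Matrix.mul_assoc D.P, D.P_mul_Pinv, Matrix.one_mul, Sm_mul_Sm,
          Matrix.mul_one]
    _ = ((D.Pinv).map D.σ * ((SmK K) * D.P)) * (D.Pinv * (SmK K)) := by
        simp only [Matrix.mul_assoc]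
    _ = D.Pinv * (SmK K) := by rw [h1, Matrix.one_mul]

theorem transpose_mul_map_of_mem_SU {n : ℕ} (hq : q ≠ 0) (φ : K →+* K) (hφ : ∀ x, φ x = x ^ q)
    (A : Matrix.SpecialLinearGroup (Fin n) K) (hA : A ∈ Cfsg.SU n K q) :
    (A.val)ᵀ * (A.val).map φ = 1 := by
  ext i j
  have h := hA (Pi.single i 1) (Pi.single j 1)
  change Cfsg.hermForm n K q (A.val *ᵥ Pi.single i 1) (A.val *ᵥ Pi.single j 1) =
    Cfsg.hermForm n K q (Pi.single i 1) (Pi.single j 1) at h
  rw [Matrix.mulVec_single_one, Matrix.mulVec_single_one] at h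
  simp only [Cfsg.hermForm, Matrix.col_apply] at h
  rw [Matrix.mul_apply]
  simp only [Matrix.transpose_apply, Matrix.map_apply, hφ]
  rw [h, Matrix.one_apply, Finset.sum_eq_single i]
  · by_cases hij : i = j
    · rw [if_pos hij, hij]
      simp
    · rw [if_neg hij]
      have : (Pi.single j (1 : K) : Fin n → K) i = 0 := by
        simp [Pi.single_apply, hij]
      rw [this, zero_pow hq, mul_zero]
  · intro k _ hk
    have : (Pi.single i (1 : K) : Fin n → K) k = 0 := by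
      simp [Pi.single_apply, hk]
    rw [this, zero_mul]
  · simp

/-- The matrix of `kmat g` in the adapted basis. -/
noncomputable def Data.M (g : Matrix (Fin 4) (Fin 4) K) : Matrix J6 J6 K := D.Pinv * Klein.kmat g * D.P

theorem Data.M_one : D.M 1 = 1 := by
  rw [Data.M, kmat_one, Matrix.mul_one, D.Pinv_mul_P]

theorem Data.M_mul (g h : Matrix (Fin 4) (Fin 4) K) : D.M (g * h) = D.M g * D.M h := by
  unfold Data.M
  rw [kmat_mul]
  calc D.Pinv * (Klein.kmat g * Klein.kmat h) * D.P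
      = D.Pinv * Klein.kmat g * (1 : Matrix Klein.I Klein.I K) * Klein.kmat h * D.P := by
        simp only [Matrix.mul_assoc, Matrix.one_mul]
    _ = D.Pinv * Klein.kmat g * (D.P * D.Pinv) * Klein.kmat h * D.P := by rw [D.P_mul_Pinv]
    _ = _ := by simp only [Matrix.mul_assoc]

theorem Data.M_map (g : Matrix (Fin 4) (Fin 4) K) (hdet : g.det = 1) (hu : gᵀ * g.map D.σ = 1) :
    (D.M g).map D.σ = D.M g := by
  unfold Data.M
  rw [Matrix.map_mul, Matrix.map_mul, D.Pinv_map, D.P_map, kmat_map_of_unitary D.σ g hdet hu]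
  calc D.Pinv * (SmK K) * ((SmK K) * Klein.kmat g * (SmK K)) * ((SmK K) * D.P)
      = D.Pinv * ((SmK K) * (SmK K)) * Klein.kmat g * ((SmK K) * (SmK K)) * D.P := by
        simp only [Matrix.mul_assoc]
    _ = _ := by rw [Sm_mul_Sm, Matrix.mul_one, Matrix.mul_one]

theorem Data.kmat_eq (g : Matrix (Fin 4) (Fin 4) K) : Klein.kmat g = D.P * D.M g * D.Pinv := by
  unfold Data.M
  calc Klein.kmat g = (1 : Matrix Klein.I Klein.I K) * Klein.kmat g * (1 : Matrix Klein.I Klein.I K) := by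
        rw [Matrix.one_mul, Matrix.mul_one]
    _ = (D.P * D.Pinv) * Klein.kmat g * (D.P * D.Pinv) := by rw [D.P_mul_Pinv]
    _ = _ := by simp only [Matrix.mul_assoc]

/-- A section of `ι`. -/
noncomputable def Data.sec (x : K) : F := by
  classical
  exact if h : ∃ f, D.ι f = x then h.choose else 0

theorem Data.ι_sec (x : K) (hx : D.σ x = x) : D.ι (D.sec x) = x := by
  obtain ⟨f, hf⟩ := D.hfix x hx
  unfold Data.sec
  rw [dif_pos ⟨f, hf⟩]
  exact (⟨f, hf⟩ : ∃ f, D.ι f = x).choose_spec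

theorem Data.map_sec (M : Matrix J6 J6 K) (hM : M.map D.σ = M) : (M.map D.sec).map D.ι = M := by
  ext i j
  simp only [Matrix.map_apply]
  apply D.ι_sec
  have := congrFun (congrFun hM i) j
  simpa using this

/-- The descended matrix over `F`. -/
noncomputable def Data.R (g : Matrix (Fin 4) (Fin 4) K) : Matrix J6 J6 F := (D.M g).map D.sec

theorem Data.R_map (hq : q ≠ 0) (g : Cfsg.SU 4 K q) : (D.R g.val.val).map D.ι = D.M g.val.val :=
  D.map_sec _ (D.M_map _ g.val.prop (transpose_mul_map_of_mem_SU hq D.σ D.hσ g.val g.prop))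

/-- The action of `SU_4(K)` as a monoid hom into `6 × 6` matrices over `F`. -/
noncomputable def Data.rho0 (hq : q ≠ 0) : Cfsg.SU 4 K q →* Matrix J6 J6 F where
  toFun g := D.R g.val.val
  map_one' := by
    have key : (D.R (1 : Cfsg.SU 4 K q).val.val).map D.ι = (1 : Matrix J6 J6 F).map D.ι := by
      rw [D.R_map hq 1]
      change D.M 1 = _
      rw [D.M_one]
      exact (Matrix.map_one _ (map_zero _) (map_one _)).symm
    exact Matrix.map_injective D.ι.injective key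
  map_mul' g h := by
    have key : (D.R (g * h).val.val).map D.ι = (D.R g.val.val * D.R h.val.val).map D.ι := by
      rw [Matrix.map_mul, D.R_map hq, D.R_map hq, D.R_map hq]
      exact D.M_mul _ _
    exact Matrix.map_injective D.ι.injective key

theorem Data.quad_R (hq : q ≠ 0) (g : Cfsg.SU 4 K q) (v : J6 → F) :
    Cfsg.quadFormMinus 2 F a b (D.R g.val.val *ᵥ v) = Cfsg.quadFormMinus 2 F a b v := by
  apply D.ι.injective
  rw [← D.quad_P, ← D.quad_P]
  have h1 : (D.ι ∘ (D.R g.val.val *ᵥ v)) = D.M g.val.val *ᵥ (D.ι ∘ v) := by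
    rw [← D.R_map hq g]
    funext i
    exact RingHom.map_mulVec D.ι _ _ i
  rw [h1, Matrix.mulVec_mulVec]
  have h2 : D.P * D.M g.val.val = Klein.kmat g.val.val * D.P := by
    unfold Data.M
    rw [← Matrix.mul_assoc, ← Matrix.mul_assoc, D.P_mul_Pinv, Matrix.one_mul]
  rw [h2, ← Matrix.mulVec_mulVec, quad_kmat _ g.val.prop]

/-- The homomorphism `SU_4(K) → O⁻_6(F)`. -/
noncomputable def Data.rho (hq : q ≠ 0) :
    Cfsg.SU 4 K q →* Cfsg.isometryGroup F (Cfsg.quadFormMinus 2 F a b) :=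
  (D.rho0 hq).toHomUnits.codRestrict _ (by
    intro g u v
    change Cfsg.quadFormMinus 2 F a b (D.R g.val.val *ᵥ u) = _
    exact D.quad_R hq g u)

theorem Data.rho_val (hq : q ≠ 0) (g : Cfsg.SU 4 K q) :
    ((D.rho hq g).val : Matrix J6 J6 F) = D.R g.val.val := rfl

/-- Elements of the kernel of `rho` are in the kernel of the Klein map. -/
theorem Data.kmat_eq_one_of_rho (hq : q ≠ 0) (g : Cfsg.SU 4 K q) (hg : D.rho hq g = 1) :
    Klein.kmat g.val.val = 1 := by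
  have h1 : D.R g.val.val = 1 := by
    rw [← D.rho_val hq, hg]; rfl
  have h2 : D.M g.val.val = 1 := by
    rw [← D.R_map hq g, h1]
    exact Matrix.map_one _ (map_zero _) (map_one _)
  rw [D.kmat_eq, h2, Matrix.mul_one, D.P_mul_Pinv]

end DataSec

end Cfsg.Agent.Helper5.SUKlein
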