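import Mathlib
import Cfsg.Prelude.Def_Classical
import Cfsg.Agent.Lib.Helper5.SUKlein2
import Cfsg.Agent.Lib.Lead.KleinOmega
import Cfsg.Agent.Lib.Lead.PerfectIndex
import Cfsg.Agent.S0283
import Cfsg.Agent.S0278
import Cfsg.Agent.S0288

set_option autoImplicit false
set_option linter.unusedSectionVars false
set_option linter.unusedSimpArgs false
set_option linter.style.haveILetI false
set_option linter.unnecessarySeqFocus false

namespace Cfsg.Agent.Helper5.SUKlein

open Matrix Cfsg.Agent.Lead Cfsg.Agent.Lead.PerfectIndex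

section Final

variable {F K : Type*} [Field F] [Fintype F] [Field K] [Fintype K] {q : ℕ} {a b : F}

theorem exists_data (hF : Fintype.card F = q) (hK : Fintype.card K = q ^ 2) (a b : F)
    (hab : ∀ z₁ z₂ : F, z₁ ^ 2 + a * z₁ * z₂ + b * z₂ ^ 2 = 0 → z₁ = 0 ∧ z₂ = 0) :
    Nonempty (Data F K q a b) := by
  obtain ⟨ι, σ, ω, hσ, hσσ, hσι, hfix, hω1, hω2, hne⟩ :=
    Cfsg.Agent.Helper5.QuadExt.exists_field_data hF hK a b hab
  obtain ⟨ε, ε', hε, hε', hne'⟩ := Cfsg.Agent.Helper5.exists_two_norm_neg_one hK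
  have hε1 : ε * σ ε = -1 := by rw [hσ, ← pow_succ']; exact hε
  have hε'1 : ε' * σ ε' = -1 := by rw [hσ, ← pow_succ']; exact hε'
  have hw : 1 + σ ε * ε' ≠ 0 := by
    intro h
    apply hne'
    have hσε : σ ε ≠ 0 := by
      intro h0
      rw [h0, mul_zero] at hε1
      exact zero_ne_one (by linear_combination -hε1)
    have : σ ε * (ε' - ε) = 0 := by linear_combination h - hε1
    have := (mul_eq_zero.1 this).resolve_left hσε
    exact (sub_eq_zero.1 this).symm
  exact ⟨{ ι := ι, σ := σ, ω := ω, ε := ε, ε' := ε', c := (1 + σ ε * ε')⁻¹, Di := (ω - σ ω)⁻¹,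
           hσ := hσ, hσσ := hσσ, hσι := hσι, hfix := hfix, hω1 := hω1, hω2 := hω2,
           hε := hε1, hε' := hε'1, hc := inv_mul_cancel₀ hw, hD := mul_inv_cancel₀ hne }⟩

variable (hF : Fintype.card F = q) (hK : Fintype.card K = q ^ 2)
  (hab : ∀ z₁ z₂ : F, z₁ ^ 2 + a * z₁ * z₂ + b * z₂ ^ 2 = 0 → z₁ = 0 ∧ z₂ = 0)
  (D : Data F K q a b) (hq : q ≠ 0)

include hK in
theorem perfSU : commutator (Cfsg.SU 4 K q) = ⊤ :=
  Cfsg.Agent.S0283.su_perfect hK (by norm_num) (by omega)

theorem toO_eq_one_of_rho (g : Cfsg.SU 4 K q) (hg : D.rho hq g = 1) :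
    Klein.toO (F := K) g.val = 1 := by
  apply Subtype.ext
  apply Units.ext
  change Klein.kmat (g.val : Matrix (Fin 4) (Fin 4) K) = 1
  exact D.kmat_eq_one_of_rho hq g hg

theorem ker_rho_le_center : (D.rho hq).ker ≤ Subgroup.center (Cfsg.SU 4 K q) := by
  intro g hg
  have h1 : g.val ∈ (Klein.toO (F := K)).ker :=
    MonoidHom.mem_ker.2 (toO_eq_one_of_rho D hq g (MonoidHom.mem_ker.1 hg))
  have h2 := KleinOmega.ker_le_center h1
  rw [Subgroup.mem_center_iff] at h2 ⊢
  intro h
  apply Subtype.ext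
  exact h2 h.val

theorem card_ker_rho : Nat.card (D.rho hq).ker = 1 ∨ Nat.card (D.rho hq).ker = 2 := by
  have hle : Nat.card (D.rho hq).ker ≤ Nat.card (Klein.toO (F := K)).ker := by
    let f : (D.rho hq).ker → (Klein.toO (F := K)).ker := fun g =>
      ⟨g.1.val, MonoidHom.mem_ker.2 (toO_eq_one_of_rho D hq g.1 (MonoidHom.mem_ker.1 g.2))⟩
    have hf : Function.Injective f := by
      intro x y hxy
      have h1 : (f x).1 = (f y).1 := congrArg Subtype.val hxy
      exact Subtype.ext (Subtype.ext h1)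
    exact Nat.card_le_card_of_injective f hf
  have hpos : 0 < Nat.card (D.rho hq).ker := Nat.card_pos
  rcases KleinOmega.card_ker (F := K) with h | h <;> omega

include hF hK hab in
theorem card_O6minus : Nat.card (Cfsg.isometryGroup F (Cfsg.quadFormMinus 2 F a b)) =
    2 * Nat.card (Cfsg.SU 4 K q) := by
  have h1 := Cfsg.Agent.S0288.result hF 3 (by norm_num) a b hab
  have h2 := Cfsg.Agent.S0278.result hK 4 (by norm_num)
  have hq2 : 2 ≤ q := by rw [← hF]; exact Fintype.one_lt_card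
  simp only [Finset.prod_range_succ, Finset.prod_range_zero] at h1 h2
  norm_num at h1 h2
  have e1 : (3 - 1 : ℕ) = 2 := rfl
  rw [e1] at h1
  rw [h1]
  have hpos : 0 < q + 1 := by omega
  apply Nat.eq_of_mul_eq_mul_left hpos
  have : (q + 1) * (2 * Nat.card (Cfsg.SU 4 K q)) = 2 * ((q + 1) * Nat.card (Cfsg.SU 4 K q)) := by ring
  rw [this, h2]
  ring

include hF hK hab in
theorem index_range_rho :
    (D.rho hq).range.index = 2 * Nat.card (D.rho hq).ker := by
  have h1 := Subgroup.card_mul_index (D.rho hq).range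
  have h2 : Nat.card (D.rho hq).range * Nat.card (D.rho hq).ker = Nat.card (Cfsg.SU 4 K q) := by
    rw [← Nat.card_congr (QuotientGroup.quotientKerEquivRange (D.rho hq)).toEquiv]
    exact (Subgroup.card_eq_card_quotient_mul_card_subgroup _).symm
  rw [card_O6minus hF hK hab, ← h2] at h1
  have hpos : 0 < Nat.card (D.rho hq).range := Nat.card_pos
  apply Nat.eq_of_mul_eq_mul_left hpos
  rw [h1]; ring

include hK in
theorem range_rho_perfect : commutator (D.rho hq).range = ⊤ :=
  commutator_range_eq_top _ (perfSU hK)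

include hF hK hab in
theorem range_rho_normal : (D.rho hq).range.Normal := by
  apply normal_of_index_le_four _ (range_rho_perfect hK D hq)
  · rw [index_range_rho hF hK hab D hq]
    rcases card_ker_rho D hq with h | h <;> rw [h] <;> norm_num
  · rw [index_range_rho hF hK hab D hq]
    rcases card_ker_rho D hq with h | h <;> rw [h] <;> norm_num

include hF hK hab in
/-- `Ω⁻_6(F)` is the image of `rho`. -/
theorem omega_eq_range_rho :
    Cfsg.Omega F (Cfsg.quadFormMinus 2 F a b) = (D.rho hq).range := by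
  haveI := range_rho_normal hF hK hab D hq
  unfold Cfsg.Omega
  apply commutator_eq_of_perfect_normal _ (range_rho_perfect hK D hq)
  apply comm_of_card_two_or_four
  have h : Nat.card (Cfsg.isometryGroup F (Cfsg.quadFormMinus 2 F a b) ⧸ (D.rho hq).range) =
      (D.rho hq).range.index := rfl
  rw [h, index_range_rho hF hK hab D hq]
  rcases card_ker_rho D hq with h | h <;> rw [h] <;> norm_num

/-- `rho` onto `Ω⁻_6(F)`. -/
noncomputable def toOmegaMinus (hF : Fintype.card F = q) (hK : Fintype.card K = q ^ 2)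
    (hab : ∀ z₁ z₂ : F, z₁ ^ 2 + a * z₁ * z₂ + b * z₂ ^ 2 = 0 → z₁ = 0 ∧ z₂ = 0)
    (D : Data F K q a b) (hq : q ≠ 0) :
    Cfsg.SU 4 K q →* Cfsg.Omega F (Cfsg.quadFormMinus 2 F a b) :=
  (D.rho hq).codRestrict _ (fun g => by
    rw [omega_eq_range_rho hF hK hab D hq]; exact ⟨g, rfl⟩)

theorem toOmegaMinus_surjective :
    Function.Surjective (toOmegaMinus hF hK hab D hq) := by
  rintro ⟨x, hx⟩
  rw [omega_eq_range_rho hF hK hab D hq] at hx
  obtain ⟨g, rfl⟩ := hx
  exact ⟨g, rfl⟩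

theorem toOmegaMinus_ker : (toOmegaMinus hF hK hab D hq).ker = (D.rho hq).ker := by
  ext g
  rw [MonoidHom.mem_ker, MonoidHom.mem_ker]
  constructor
  · intro h
    exact congrArg Subtype.val h
  · intro h
    exact Subtype.ext h

/-- `PSU_4(q) ≃* PΩ⁻_6(q)`. -/
noncomputable def psuEquivPOmega :
    Cfsg.PSU 4 K q ≃* Cfsg.POmega F (Cfsg.quadFormMinus 2 F a b) :=
  centerQuotientEquiv (toOmegaMinus hF hK hab D hq) (toOmegaMinus_surjective hF hK hab D hq)
    (perfSU hK) (by rw [toOmegaMinus_ker]; exact ker_rho_le_center D hq)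

end Final

theorem pomega_six_minus_equiv_psu_four {F K : Type*} [Field F] [Fintype F] [Field K] [Fintype K]
    {q : ℕ} (hF : Fintype.card F = q) (hK : Fintype.card K = q ^ 2) (a b : F)
    (hab : ∀ z₁ z₂ : F, z₁ ^ 2 + a * z₁ * z₂ + b * z₂ ^ 2 = 0 → z₁ = 0 ∧ z₂ = 0) :
    Nonempty (Cfsg.POmega F (Cfsg.quadFormMinus 2 F a b) ≃* Cfsg.PSU 4 K q) := by
  obtain ⟨D⟩ := exists_data hF hK a b hab
  have hq : q ≠ 0 := by
    have : 2 ≤ q := by rw [← hF]; exact Fintype.one_lt_card
    omega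
  exact ⟨(psuEquivPOmega hF hK hab D hq).symm⟩

end Cfsg.Agent.Helper5.SUKlein
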