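import Mathlib
import Cfsg.Agent.Lib.Helper62.SUO0

/-!
# SUO (helper62 server, S2282): hypotheses-form cores of the small pieces
M0 (complete), M3 M4 M6 M8 M9 A7 (earlier pieces as hypotheses), A8 (complete)
-/

set_option autoImplicit false
set_option linter.unusedSectionVars false
set_option linter.unusedVariables false
set_option quotPrecheck false

namespace Cfsg.Agent.Helper5.SUOCore

open Matrix Cfsg Cfsg.Agent.Helper13 Cfsg.Agent.Helper87.PsuA Cfsg.Agent.Helper62.SUO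

section A
variable {F : Type*} [Field F] [Fintype F] {q n : ℕ} (hF : Fintype.card F = q ^ 2)
  {Hs : Subgroup ↥(Cfsg.SU n F q)} {e0 : Fin n → F}

local notation "V" => Fin n → F
local notation "G" => ↥(Cfsg.SU n F q)
local notation "H" => Cfsg.hermForm n F q

include hF

theorem h5_orb_iso (h00 : H e0 e0 = 0) {y : V} (hy : y ∈ Orb Hs e0) : H y y = 0 := by
  obtain ⟨h, _, rfl⟩ := hy
  rw [H_actv]; exact h00

/-- (A7) core: A3, A5, A6 as hypotheses -/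
theorem h5_QQ_tv_core (h00 : H e0 e0 = 0)
    (A3 : ∀ {x : V}, x ∈ Orb Hs e0 → ∀ {c : F}, c ∈ MM hF Hs e0 → eich hF x 0 c ∈ Hs)
    (A5 : ∃ S : AddSubgroup V, (S : Set V) = QQ hF Hs e0)
    (A6 : ∀ {w : V}, w ∈ QQ hF Hs e0 → ∀ {h : G}, h ∈ Hs → actv h e0 = e0 →
      actv h w ∈ QQ hF Hs e0)
    {w y : V} (hw : w ∈ QQ hF Hs e0) (hy : y ∈ Orb Hs e0)
    (hy0 : H e0 y = 0) {c : F} (hc : c ∈ MM hF Hs e0) :
    (c * H w y) • y ∈ QQ hF Hs e0 := by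
  have hyy : H y y = 0 := h5_orb_iso hF h00 hy
  have hy00 : H y (0 : V) = 0 := H_zero_right hF y
  have hc0 : c + c ^ q + H (0 : V) (0 : V) = 0 := by
    rw [H_zero_right hF, add_zero]; exact hc.1
  have ht : eich hF y 0 c ∈ Hs := A3 hy hc
  have hfix : actv (eich hF y 0 c) e0 = e0 := by
    rw [eich_act hF hyy hy00 hc0, hy0, H_zero_right hF]
    simp
  have h1 : actv (eich hF y 0 c) w ∈ QQ hF Hs e0 := A6 hw ht hfix
  have h2 : actv (eich hF y 0 c) w = w + (c * H w y) • y := by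
    rw [eich_act hF hyy hy00 hc0, H_zero_right hF]
    simp
  obtain ⟨S, hS⟩ := A5
  have hwS : w ∈ S := by
    have : w ∈ (S : Set V) := by rw [hS]; exact hw
    exact this
  have h1S : w + (c * H w y) • y ∈ S := by
    have : w + (c * H w y) • y ∈ (S : Set V) := by rw [hS, ← h2]; exact h1
    exact this
  have h3 : (c * H w y) • y ∈ S := by
    have := S.sub_mem h1S hwS
    simpa using this
  have : (c * H w y) • y ∈ (S : Set V) := h3
  rw [hS] at this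
  exact this

/-- (A8) complete -/
theorem h5_QQ_e0 (h00 : H e0 e0 = 0) (μ : F) : μ • e0 ∈ QQ hF Hs e0 := by
  have h1 : H e0 (μ • e0) = 0 := by rw [hermForm_smul_right, h00, mul_zero]
  have h2 : (-(μ - μ ^ q)) + (-(μ - μ ^ q)) ^ q + H (μ • e0) (μ • e0) = 0 := by
    rw [frob_neg hF, frob_sub hF, frob_frob hF, hermForm_smul_left, hermForm_smul_right, h00]
    ring
  refine ⟨h1, -(μ - μ ^ q), h2, ?_⟩
  have : eich hF e0 (μ • e0) (-(μ - μ ^ q)) = 1 := by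
    apply G_ext
    intro x
    rw [eich_act hF h00 h1 h2, actv_one, hermForm_smul_right]
    module
  rw [this]
  exact Hs.one_mem

end A

section M
variable {F : Type*} [Field F] [Fintype F] {q n : ℕ} (hF : Fintype.card F = q ^ 2)
  {Hs : Subgroup ↥(Cfsg.SU n F q)} {u l : ↥(Cfsg.SU n F q)} {e0 e1 p : Fin n → F} {c γ : F}

local notation "V" => Fin n → F
local notation "G" => ↥(Cfsg.SU n F q)
local notation "H" => Cfsg.hermForm n F q

include hF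

/-- (M0) complete -/
theorem h5_orb_basic (hyp : Hyp hF Hs u l e0 e1 p c γ) :
    e1 ∈ Orb Hs e0 ∧ e1 + e0 ∈ Orb Hs e0 ∧ p ∈ Orb Hs e0 ∧
    H e1 e1 = 0 ∧ H p p = 0 ∧ H e0 p = 0 ∧ H p e1 = γ ^ q := by
  refine ⟨⟨l, hyp.hl, hyp.le0⟩, ⟨u * l, Hs.mul_mem hyp.hu hyp.hl, ?_⟩,
    ⟨l⁻¹, Hs.inv_mem hyp.hl, ?_⟩, ?_, ?_, ?_, ?_⟩
  · rw [actv_mul, hyp.le0, hyp.ue1]
  · rw [← hyp.lp, actv_inv_actv]
  · rw [← hyp.le0, H_actv]; exact hyp.e0e0
  · rw [← H_actv l p p, hyp.lp]; exact hyp.e0e0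
  · rw [← H_actv l e0 p, hyp.le0, hyp.lp]; exact H_symm_zero hF hyp.e0e1
  · rw [← hermForm_conj hF e1 p, hyp.e1p]

/-- (M3) core: A7 as hypothesis -/
theorem h5_to_p_core (hyp : Hyp hF Hs u l e0 e1 p c γ)
    (A7 : ∀ {w y : V}, w ∈ QQ hF Hs e0 → y ∈ Orb Hs e0 → H e0 y = 0 → ∀ {c : F},
      c ∈ MM hF Hs e0 → (c * H w y) • y ∈ QQ hF Hs e0)
    {a m : F} (ha : a • e1 ∈ QQ hF Hs e0)
    (hm : m ∈ MM hF Hs e0) : (m * a * γ) • p ∈ QQ hF Hs e0 := by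
  obtain ⟨_, _, hp, _, _, h0p, _⟩ := h5_orb_basic hF hyp
  have := A7 ha hp h0p hm
  rw [hermForm_smul_left, hyp.e1p, ← mul_assoc] at this
  exact this

/-- (M4) core: A7 as hypothesis -/
theorem h5_to_e1_core (hyp : Hyp hF Hs u l e0 e1 p c γ)
    (A7 : ∀ {w y : V}, w ∈ QQ hF Hs e0 → y ∈ Orb Hs e0 → H e0 y = 0 → ∀ {c : F},
      c ∈ MM hF Hs e0 → (c * H w y) • y ∈ QQ hF Hs e0)
    {a m : F} (ha : a • p ∈ QQ hF Hs e0)
    (hm : m ∈ MM hF Hs e0) : (m * a * γ ^ q) • e1 ∈ QQ hF Hs e0 := by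
  obtain ⟨he1, _, _, _, _, _, hpe⟩ := h5_orb_basic hF hyp
  have := A7 ha he1 hyp.e0e1 hm
  rw [hermForm_smul_left, hpe, ← mul_assoc] at this
  exact this

/-- (M6) core: M1, M3, M5 as hypotheses -/
theorem h5_p_top_core (hyp : Hyp hF Hs u l e0 e1 p c γ)
    (M1 : ∀ {a : F}, a • e1 ∈ QQ hF Hs e0 → a - a ^ q ∈ MM hF Hs e0)
    (M3 : ∀ {a m : F}, a • e1 ∈ QQ hF Hs e0 → m ∈ MM hF Hs e0 →
      (m * a * γ) • p ∈ QQ hF Hs e0)
    (M5 : ∀ a : F, a • e1 ∈ QQ hF Hs e0) : ∀ a : F, a • p ∈ QQ hF Hs e0 := by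
  intro a
  have hκ : c - c ^ q ∈ MM hF Hs e0 := M1 hyp.hc
  have := M3 (M5 (a / ((c - c ^ q) * γ))) hκ
  have e : (c - c ^ q) * (a / ((c - c ^ q) * γ)) * γ = a := by
    have h1 := hyp.κ0
    have h2 := hyp.γ0
    field_simp
  rw [e] at this
  exact this

/-- (M8) core: M1, M5, M8a as hypotheses -/
theorem h5_MM_top_core (hyp : Hyp hF Hs u l e0 e1 p c γ)
    (M1 : ∀ {a : F}, a • e1 ∈ QQ hF Hs e0 → a - a ^ q ∈ MM hF Hs e0)
    (M5 : ∀ a : F, a • e1 ∈ QQ hF Hs e0)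
    (M8a : ∀ m : F, m + m ^ q = 0 → ∃ a : F, a - a ^ q = m) :
    ∀ m : F, m + m ^ q = 0 → m ∈ MM hF Hs e0 := by
  intro m hm
  obtain ⟨a, rfl⟩ := M8a m hm
  exact M1 (M5 a)

/-- (M9) core: M7, M8 as hypotheses -/
theorem h5_Q_le_core (hyp : Hyp hF Hs u l e0 e1 p c γ)
    (M7 : ∀ w : V, H e0 w = 0 → w ∈ QQ hF Hs e0)
    (M8 : ∀ m : F, m + m ^ q = 0 → m ∈ MM hF Hs e0) :
    ∀ (w : V) (a : F), H e0 w = 0 → a + a ^ q + H w w = 0 → eich hF e0 w a ∈ Hs := by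
  intro w a hw ha
  obtain ⟨_, a', ha', hmem⟩ := M7 w hw
  have h00 := hyp.e0e0
  have hd : (a - a') + (a - a') ^ q = 0 := by
    rw [frob_sub hF]
    linear_combination ha - ha'
  have hd0 : (a - a') + (a - a') ^ q + H (0 : V) (0 : V) = 0 := by
    rw [H_zero_right hF, add_zero]; exact hd
  have hmem2 : eich hF e0 0 (a - a') ∈ Hs := (M8 _ hd).2
  have e : eich hF e0 w a' * eich hF e0 0 (a - a') = eich hF e0 w a := by
    rw [eich_mul hF h00 hw ha' (H_zero_right hF e0) hd0, H_zero_left hF, add_zero]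
    congr 1
    ring
  rw [← e]
  exact Hs.mul_mem hmem hmem2

end M

end Cfsg.Agent.Helper5.SUOCore
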