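import Mathlib
import Cfsg.Agent.Lib.Helper62.SUO0
import Cfsg.Agent.Lib.Helper5.SUOMCore5

/-! SUO (helper62 server, S2282): (A8) `QQ_e0`, verbatim -/

set_option autoImplicit false
set_option linter.unusedSectionVars false
set_option linter.unusedVariables false
set_option quotPrecheck false

namespace Cfsg.Agent.Helper5.SUO

open Matrix Cfsg Cfsg.Agent.Helper13 Cfsg.Agent.Helper87.PsuA Cfsg.Agent.Helper62.SUO

section A
variable {F : Type*} [Field F] [Fintype F] {q n : ℕ} (hF : Fintype.card F = q ^ 2)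
  {Hs : Subgroup ↥(Cfsg.SU n F q)} {e0 : Fin n → F}

local notation "V" => Fin n → F
local notation "G" => ↥(Cfsg.SU n F q)
local notation "H" => Cfsg.hermForm n F q

include hF

/-- (A8) `eich e0 (μ • e0) (-(μ - μ^q))` acts trivially (`eich_act`, `G_ext`), so it is `1 ∈ Hs` -/
theorem QQ_e0 (h00 : H e0 e0 = 0) (μ : F) : μ • e0 ∈ QQ hF Hs e0 :=
  Cfsg.Agent.Helper5.SUOCore.h5_QQ_e0 hF h00 μ

end A

end Cfsg.Agent.Helper5.SUO
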