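import Mathlib
import Cfsg.Agent.Lib.Helper62.SUO0
import Cfsg.Agent.Lib.Helper5.SUOMCore5
import Cfsg.Agent.Lib.Helper66.SUOA
import Cfsg.Agent.Lib.Helper61.SUOM1
import Cfsg.Agent.Lib.Helper61.SUOM2
import Cfsg.Agent.Lib.Helper40.SUOM3
import Cfsg.Agent.Lib.Helper60.SUOM8a
import Cfsg.Agent.Lib.Helper70.SUOM57Core

/-! SUO (helper62 server, S2282): (M5) `S_top`, (M6) `p_top`, (M7) `QQ_full`, (M8) `MM_top`,
(M9) `Q_le`, verbatim, on the landed pieces A3 A5 A6 A7 (helper66), M1 M2 (helper61),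
M3 M4 (helper40), M8a (helper60) and the cores of helper70 (M5, M7) and helper5 (M6 M8 M9). -/

set_option autoImplicit false
set_option linter.unusedSectionVars false
set_option linter.unusedVariables false
set_option quotPrecheck false

namespace Cfsg.Agent.Helper5.SUO

open Matrix Cfsg Cfsg.Agent.Helper13 Cfsg.Agent.Helper87.PsuA Cfsg.Agent.Helper62.SUO

section M
variable {F : Type*} [Field F] [Fintype F] {q n : ℕ} (hF : Fintype.card F = q ^ 2)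
  {Hs : Subgroup ↥(Cfsg.SU n F q)} {u l : ↥(Cfsg.SU n F q)} {e0 e1 p : Fin n → F} {c γ : F}

local notation "V" => Fin n → F
local notation "G" => ↥(Cfsg.SU n F q)
local notation "H" => Cfsg.hermForm n F q

include hF

/-- (M5) `S = {a | a • e1 ∈ QQ}` is an additive subgroup (A5) containing `c` (`hyp.hc`) and
`κ = c - c^q` (M1 M2), stable under `κ^2 * (γ * γ^q)` (M3 then M4 with `m = κ`); `hyp.gen` -/
theorem S_top (hyp : Hyp hF Hs u l e0 e1 p c γ) : ∀ a : F, a • e1 ∈ QQ hF Hs e0 :=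
  Cfsg.Agent.Helper70.SUO.h70_S_top_core hF hyp
    (Cfsg.Agent.Helper66.SUO.QQ_addsub hF hyp.e0e0)
    (fun ha => Cfsg.Agent.Helper61.SUO.MM_of_S hF hyp ha)
    (fun hm => Cfsg.Agent.Helper61.SUO.seed hF hyp hm)
    (fun ha hm => Cfsg.Agent.Helper40.SUO.to_p hF hyp ha hm)
    (fun ha hm => Cfsg.Agent.Helper40.SUO.to_e1 hF hyp ha hm)

/-- (M6) M3 with `a / (κ * γ)`, `m = κ` -/
theorem p_top (hyp : Hyp hF Hs u l e0 e1 p c γ) : ∀ a : F, a • p ∈ QQ hF Hs e0 :=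
  Cfsg.Agent.Helper5.SUOCore.h5_p_top_core hF hyp
    (fun ha => Cfsg.Agent.Helper61.SUO.MM_of_S hF hyp ha)
    (fun ha hm => Cfsg.Agent.Helper40.SUO.to_p hF hyp ha hm)
    (S_top hF hyp)

/-- (M7) `{w | ∀ a, a • w ∈ QQ}` is a `u`-stable subspace (A5 A6) containing `p` (M6); `hyp.cyc` -/
theorem QQ_full (hyp : Hyp hF Hs u l e0 e1 p c γ) :
    ∀ w : V, H e0 w = 0 → w ∈ QQ hF Hs e0 :=
  Cfsg.Agent.Helper70.SUO.h70_QQ_full_core hF hyp
    (Cfsg.Agent.Helper66.SUO.QQ_addsub hF hyp.e0e0)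
    (fun hw _ hh hfix => Cfsg.Agent.Helper66.SUO.QQ_stab hF hyp.e0e0 hw hh hfix)
    (p_top hF hyp)

/-- (M8) M5 M1 M8a -/
theorem MM_top (hyp : Hyp hF Hs u l e0 e1 p c γ) :
    ∀ m : F, m + m ^ q = 0 → m ∈ MM hF Hs e0 :=
  Cfsg.Agent.Helper5.SUOCore.h5_MM_top_core hF hyp
    (fun ha => Cfsg.Agent.Helper61.SUO.MM_of_S hF hyp ha)
    (S_top hF hyp)
    (fun m hm => Cfsg.Agent.Helper60.SUO.exists_tau hF m hm)

/-- (M9) M7 gives some `a'`; `eich e0 w a = eich e0 w a' * eich e0 0 (a - a')` (`eich_mul`), M8 -/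
theorem Q_le (hyp : Hyp hF Hs u l e0 e1 p c γ) :
    ∀ (w : V) (a : F), H e0 w = 0 → a + a ^ q + H w w = 0 → eich hF e0 w a ∈ Hs :=
  Cfsg.Agent.Helper5.SUOCore.h5_Q_le_core hF hyp (QQ_full hF hyp) (MM_top hF hyp)

end M

end Cfsg.Agent.Helper5.SUO
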