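import Mathlib
import Cfsg.Agent.Lib.Helper43.Tri.Defs2
import Cfsg.Agent.Lib.Helper66.TriRB

/-!
# TRI2 (helper43, S2608), piece (M1): `r_a r_b (xy) = (N a N b)⁻¹ (a (b̄ x)) ((y b̄) a)`
-/

set_option autoImplicit false
set_option linter.unusedSectionVars false
set_option linter.unusedVariables false

namespace Cfsg.Agent.Helper5.Tri2

open Matrix QuadraticMap Cfsg.Agent.Helper13 Cfsg.Agent.Helper43 Cfsg.Agent.Helper5.OAut Module
  Cfsg.Agent.Helper43.Tri Cfsg.Agent.Helper43.OGam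

variable {F : Type*} [Field F]

/-- (M1) -/
theorem refl_mul_omul (a b : OV F) (ha : stdPlus F 4 a ≠ 0) (hb : stdPlus F 4 b ≠ 0) (x y : OV F) :
    (reflIso (stdPlus F 4) ha * reflIso (stdPlus F 4) hb : O8 F) • omul x y =
      (stdPlus F 4 a * stdPlus F 4 b)⁻¹ •
        omul (omul a (omul (oconj b) x)) (omul (omul y (oconj b)) a) := by
  rw [mul_smul, Cfsg.Agent.Helper66.Tri.rb_refl_smul b hb, Cfsg.Agent.Helper66.Tri.rb_refl_smul a ha]
  rw [oconj_smul, omul_smul_right, omul_smul_left, smul_smul, neg_mul_neg, mul_inv]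
  congr 1
  rw [oconj_omul, oconj_omul, oconj_oconj]
  rw [moufang_mid a (omul (oconj b) x) (omul y (oconj b)), moufang_mid (oconj b) x y,
    flex (oconj b) (omul x y)]

end Cfsg.Agent.Helper5.Tri2
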