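import Mathlib
import Cfsg.Agent.Lib.Helper43.Tri.Defs2

/-!
# TRI2 (helper43, S2608), piece (M2): the similitude `x ↦ a (b̄ x)` as a linear semisimilarity
-/

set_option autoImplicit false
set_option linter.unusedSectionVars false
set_option linter.unusedVariables false

namespace Cfsg.Agent.Helper5.Tri2

open Matrix QuadraticMap Cfsg.Agent.Helper13 Cfsg.Agent.Helper43 Cfsg.Agent.Helper5.OAut Module
  Cfsg.Agent.Helper43.Tri Cfsg.Agent.Helper43.OGam

variable {F : Type*} [Field F]

/-- (M2) -/
theorem exists_sim_L (a b : OV F) (ha : stdPlus F 4 a ≠ 0) (hb : stdPlus F 4 b ≠ 0) :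
    ∃ L : GamO ⇑(stdPlus F 4), L ∈ Lin ⇑(stdPlus F 4) ∧
      ∀ x : OV F, (L : Equiv.Perm (OV F)) x = omul a (omul (oconj b) x) := by
  have hab : stdPlus F 4 a * stdPlus F 4 b ≠ 0 := mul_ne_zero ha hb
  let P : Equiv.Perm (OV F) :=
    { toFun := fun x => omul a (omul (oconj b) x)
      invFun := fun y => (stdPlus F 4 a * stdPlus F 4 b)⁻¹ • omul b (omul (oconj a) y)
      left_inv := by
        intro x
        show (stdPlus F 4 a * stdPlus F 4 b)⁻¹ •
          omul b (omul (oconj a) (omul a (omul (oconj b) x))) = x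
        rw [oconj_omul_omul, omul_smul_right, omul_oconj_omul', smul_smul, smul_smul, mul_assoc,
          inv_mul_cancel₀ hab, one_smul]
      right_inv := by
        intro y
        show omul a (omul (oconj b) ((stdPlus F 4 a * stdPlus F 4 b)⁻¹ •
          omul b (omul (oconj a) y))) = y
        rw [omul_smul_right, omul_smul_right, oconj_omul_omul, omul_smul_right,
          omul_oconj_omul', smul_smul, smul_smul]
        have : (stdPlus F 4 a * stdPlus F 4 b)⁻¹ * (stdPlus F 4 b * stdPlus F 4 a) = 1 := by
          rw [mul_comm (stdPlus F 4 b)]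
          exact inv_mul_cancel₀ hab
        rw [mul_assoc, this, one_smul] }
  have hP : ∀ x, P x = omul a (omul (oconj b) x) := fun _ => rfl
  have hmem : P ∈ GamO ⇑(stdPlus F 4) := by
    refine ⟨RingEquiv.refl F, Units.mk0 _ hab, ?_, ?_, ?_⟩
    · intro x y
      rw [hP, hP, hP, omul_add_right, omul_add_right]
    · intro c x
      rw [hP, hP, omul_smul_right, omul_smul_right]
      rfl
    · intro x
      rw [hP, Units.val_mk0]
      show stdPlus F 4 (omul a (omul (oconj b) x)) = _
      rw [N_omul, N_omul, N_oconj]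
      simp only [RingEquiv.refl_apply]
      ring
  refine ⟨⟨P, hmem⟩, ?_, fun x => rfl⟩
  intro c x
  show P (c • x) = c • P x
  rw [hP, hP, omul_smul_right, omul_smul_right]

end Cfsg.Agent.Helper5.Tri2
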