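import Mathlib
import Cfsg.Agent.Lib.Helper43.Tri.Defs2
import Cfsg.Agent.Lib.Helper5.OP8X7b

/-!
# TRI2 (helper43, S2608), piece (M5): a linear similitude with non-square multiplier is not in the
image of `SO`
-/

set_option autoImplicit false
set_option linter.unusedSectionVars false
set_option linter.unusedVariables false

namespace Cfsg.Agent.Helper5.Tri2

open Matrix QuadraticMap Cfsg.Agent.Helper13 Cfsg.Agent.Helper43 Cfsg.Agent.Helper5.OAut Module
  Cfsg.Agent.Helper43.Tri Cfsg.Agent.Helper43.OGam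

variable {F : Type*} [Field F]

variable [Fintype F]

/-- (M5) -/
theorem Theta_not_mem_pso (L : GamO ⇑(stdPlus F 4)) (hL : L ∈ Lin ⇑(stdPlus F 4)) (μ : F)
    (hμ : ∀ x : OV F, stdPlus F 4 ((L : Equiv.Perm (OV F)) x) = μ * stdPlus F 4 x)
    (hns : ¬ IsSquare μ) :
    Theta ⇑(stdPlus F 4) L ∉ Cfsg.psoAut F ⇑(stdPlus F 4) := by
  have hodd : Odd (Fintype.card F) := by
    by_contra hne
    have hev : Even (Fintype.card F) := Nat.not_odd_iff_even.1 hne
    have h2 : ringChar F = 2 := by
      obtain ⟨p, hp⟩ := CharP.exists F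
      obtain ⟨n, hpp, hn⟩ := FiniteField.card F p
      have hp2 : p = 2 := by
        have : Even ((p : ℕ) ^ (n : ℕ)) := by rw [← hn]; exact hev
        have h2p : 2 ∣ p := (Nat.Prime.dvd_of_dvd_pow Nat.prime_two (even_iff_two_dvd.1 this))
        exact ((Nat.prime_dvd_prime_iff_eq Nat.prime_two hpp).1 h2p).symm
      subst hp2
      exact ringChar.eq F 2
    exact hns (FiniteField.isSquare_of_char_two h2 μ)
  exact (Cfsg.Agent.Helper5.OP8.Theta_lin_nonsquare hodd (by norm_num) L hL μ hμ hns).2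

end Cfsg.Agent.Helper5.Tri2
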