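import Mathlib
import Cfsg.Agent.Lib.Helper93.U20

/-!
# U2 project (S2335), piece D1 : the trace pairing on Hermitian matrices is nondegenerate
-/

set_option autoImplicit false

namespace Cfsg.Agent.Helper5.U2

open Matrix Cfsg.Agent.Helper13 Cfsg.Agent.Helper93.U2

variable {F : Type*} [Field F] [Fintype F] {q : ℕ} (hF : Fintype.card F = q ^ 2)

omit [Fintype F] in
theorem d1_trace_mul_single {m : ℕ} (H : Matrix (Fin m) (Fin m) F) (i j : Fin m) (c : F) :
    Matrix.trace (H * Matrix.single i j c) = H j i * c := by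
  rw [Matrix.trace, Finset.sum_eq_single j]
  · rw [Matrix.diag_apply]
    exact Matrix.mul_single_apply_same (c := c) i j j H
  · intro b _ hb
    rw [Matrix.diag_apply]
    exact Matrix.mul_single_apply_of_ne (c := c) i j b b hb H
  · intro h
    exact absurd (Finset.mem_univ j) h

theorem d1_cT_single {m : ℕ} (i j : Fin m) (c : F) :
    cT hF (Matrix.single i j c) = Matrix.single j i (c ^ q) := by
  ext a b
  rw [cT_apply, Matrix.single_apply, Matrix.single_apply]
  by_cases h : i = b ∧ j = a
  · rw [if_pos h, if_pos ⟨h.2, h.1⟩]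
  · rw [if_neg h, if_neg (fun h' => h ⟨h'.2, h'.1⟩), zero_pow (q_pos hF).ne']

theorem d1_trace_cT {m : ℕ} (M : Matrix (Fin m) (Fin m) F) :
    Matrix.trace (cT hF M) = (Matrix.trace M) ^ q := by
  rw [Matrix.trace, Matrix.trace, frob_sum hF]
  rfl

/-- piece D1 -/
theorem trace_pairing_nondeg (ψ : AddChar F ℂ) (hψ : ψ 1 ≠ 1) {m : ℕ}
    (H : Matrix (Fin m) (Fin m) F) (hH : cT hF H = H)
    (h : ∀ K : Matrix (Fin m) (Fin m) F, cT hF K = K → ψ (Matrix.trace (H * K)) = 1) :
    H = 0 := by
  -- step 1: tr(HK) = 0 for every Hermitian K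
  have h0 : ∀ K : Matrix (Fin m) (Fin m) F, cT hF K = K → Matrix.trace (H * K) = 0 := by
    intro K hK
    by_contra ht
    set t : F := Matrix.trace (H * K) with htdef
    have htq : t ^ q = t := by
      rw [htdef, ← d1_trace_cT hF, cT_mul, hK, hH, Matrix.trace_mul_comm]
    have hK' : cT hF (t⁻¹ • K) = t⁻¹ • K := by
      rw [cT_smul, hK, inv_pow, htq]
    have h1 := h (t⁻¹ • K) hK'
    rw [Matrix.mul_smul, Matrix.trace_smul, smul_eq_mul, ← htdef, inv_mul_cancel₀ ht] at h1
    exact hψ h1
  obtain ⟨z, hz⟩ := trace_surj_involution (frobQ hF) (frobQ_ne_id hF) (frobQ_frobQ hF) 1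
    (map_one _)
  rw [frobQ_apply] at hz
  ext i j
  rw [Matrix.zero_apply]
  by_contra hij
  have hji : H j i = (H i j) ^ q := by
    have := congrFun (congrFun hH j) i
    rw [cT_apply] at this
    exact this.symm
  set ω : F := z / H i j with hω
  have hK : cT hF (Matrix.single j i ω + Matrix.single i j (ω ^ q)) =
      Matrix.single j i ω + Matrix.single i j (ω ^ q) := by
    rw [cT_add, d1_cT_single, d1_cT_single, frob_frob hF, add_comm]
  have h2 := h0 _ hK
  rw [Matrix.mul_add, Matrix.trace_add, d1_trace_mul_single, d1_trace_mul_single, hji,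
    ← mul_pow] at h2
  have h3 : H i j * ω = z := by
    rw [hω]
    field_simp
  rw [h3, hz] at h2
  exact one_ne_zero h2

end Cfsg.Agent.Helper5.U2
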