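import Mathlib
import Cfsg.Agent.Lib.Helper93.U20

/-!
# U2 project (S2335), piece E1 : existence of a hyperbolic frame in `F^(m+m)`
-/

set_option autoImplicit false

namespace Cfsg.Agent.Helper5.U2

open Matrix Cfsg.Agent.Helper13 Cfsg.Agent.Helper93.U2

variable {F : Type*} [Field F] [Fintype F] {q : ℕ} (hF : Fintype.card F = q ^ 2)

theorem e1_cT_fromRows {α β γ : Type*} (A : Matrix α γ F) (B : Matrix β γ F) :
    cT hF (fromRows A B) = fromCols (cT hF A) (cT hF B) := by
  ext i (j | j) <;> rfl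

theorem e1_cT_submatrix {α β γ δ : Type*} (M : Matrix α β F) (f : γ → α) (g : δ → β) :
    cT hF (M.submatrix f g) = (cT hF M).submatrix g f := by
  ext i j; rfl

theorem e1_cT_smul_one {α : Type*} [DecidableEq α] (x : F) :
    cT hF (x • (1 : Matrix α α F)) = (x ^ q) • (1 : Matrix α α F) := by
  rw [cT_smul, cT_one]

/-- a frame from four scalars -/
theorem e1_frame_of_scalars (m : ℕ) (x1 x2 y1 y2 : F)
    (hpp : x1 ^ q * x1 + x2 ^ q * x2 = 0)
    (hqq : y1 ^ q * y1 + y2 ^ q * y2 = 0)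
    (hpq : x1 ^ q * y1 + x2 ^ q * y2 = 1)
    (h11 : x1 * y1 ^ q + y1 * x1 ^ q = 1)
    (h12 : x1 * y2 ^ q + y1 * x2 ^ q = 0)
    (h21 : x2 * y1 ^ q + y2 * x1 ^ q = 0)
    (h22 : x2 * y2 ^ q + y2 * x2 ^ q = 1) :
    Nonempty (Frame hF (m + m) m) := by
  classical
  set e : Fin m ⊕ Fin m ≃ Fin (m + m) := finSumFinEquiv with he
  set P0 : Matrix (Fin m ⊕ Fin m) (Fin m) F :=
    fromRows (x1 • (1 : Matrix (Fin m) (Fin m) F)) (x2 • (1 : Matrix (Fin m) (Fin m) F)) with hP0
  set Q0 : Matrix (Fin m ⊕ Fin m) (Fin m) F :=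
    fromRows (y1 • (1 : Matrix (Fin m) (Fin m) F)) (y2 • (1 : Matrix (Fin m) (Fin m) F)) with hQ0
  have hcP : cT hF P0 = fromCols ((x1 ^ q) • (1 : Matrix (Fin m) (Fin m) F))
      ((x2 ^ q) • (1 : Matrix (Fin m) (Fin m) F)) := by
    rw [hP0, e1_cT_fromRows, e1_cT_smul_one, e1_cT_smul_one]
  have hcQ : cT hF Q0 = fromCols ((y1 ^ q) • (1 : Matrix (Fin m) (Fin m) F))
      ((y2 ^ q) • (1 : Matrix (Fin m) (Fin m) F)) := by
    rw [hQ0, e1_cT_fromRows, e1_cT_smul_one, e1_cT_smul_one]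
  have key : ∀ s t u v : F,
      fromCols (s • (1 : Matrix (Fin m) (Fin m) F)) (t • (1 : Matrix (Fin m) (Fin m) F)) *
        fromRows (u • (1 : Matrix (Fin m) (Fin m) F)) (v • (1 : Matrix (Fin m) (Fin m) F)) =
      (s * u + t * v) • (1 : Matrix (Fin m) (Fin m) F) := by
    intro s t u v
    rw [fromCols_mul_fromRows]
    simp only [Matrix.smul_mul, Matrix.mul_smul, Matrix.one_mul, smul_smul, ← add_smul]
    congr 1
    ring
  have key2 : ∀ s t u v : F,
      fromRows (s • (1 : Matrix (Fin m) (Fin m) F)) (t • (1 : Matrix (Fin m) (Fin m) F)) *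
        fromCols (u • (1 : Matrix (Fin m) (Fin m) F)) (v • (1 : Matrix (Fin m) (Fin m) F)) =
      fromBlocks ((s * u) • (1 : Matrix (Fin m) (Fin m) F)) ((s * v) • 1) ((t * u) • 1)
        ((t * v) • 1) := by
    intro s t u v
    rw [fromRows_mul_fromCols]
    simp only [Matrix.smul_mul, Matrix.mul_smul, Matrix.one_mul, smul_smul]
    rw [mul_comm u s, mul_comm v s, mul_comm u t, mul_comm v t]
  have hadd : ∀ A B : Matrix (Fin m ⊕ Fin m) (Fin m ⊕ Fin m) F,
      A.submatrix e.symm e.symm + B.submatrix e.symm e.symm = (A + B).submatrix e.symm e.symm := by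
    intro A B
    ext i j
    rfl
  refine ⟨⟨P0.submatrix e.symm id, Q0.submatrix e.symm id, ?_, ?_, ?_, ?_⟩⟩
  · rw [e1_cT_submatrix, Matrix.submatrix_mul_equiv, hcP, hP0, key, hpp, zero_smul]
    rfl
  · rw [e1_cT_submatrix, Matrix.submatrix_mul_equiv, hcQ, hQ0, key, hqq, zero_smul]
    rfl
  · rw [e1_cT_submatrix, Matrix.submatrix_mul_equiv, hcP, hQ0, key, hpq, one_smul]
    rfl
  · rw [e1_cT_submatrix, e1_cT_submatrix]
    rw [← Matrix.submatrix_mul _ _ e.symm id e.symm Function.bijective_id,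
      ← Matrix.submatrix_mul _ _ e.symm id e.symm Function.bijective_id,
      hadd, hcP, hcQ, hP0, hQ0, key2, key2, Matrix.fromBlocks_add]
    simp only [← add_smul]
    rw [h11, h12, h21, h22, one_smul, zero_smul, Matrix.fromBlocks_one,
      Matrix.submatrix_one_equiv]

theorem exists_frame (n m : ℕ) (hn : n = m + m) : Nonempty (Frame hF n m) := by
  subst hn
  have hq0 : 0 < q := q_pos hF
  obtain ⟨a, ha⟩ := norm_surj_involution (frobQ hF) (frobQ_ne_id hF) (frobQ_frobQ hF) (-1)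
    (neg_ne_zero.mpr one_ne_zero) (by rw [map_neg, map_one])
  rw [frobQ_apply] at ha
  obtain ⟨z, hz⟩ : ∃ z : F, z ^ q ≠ z := by
    by_contra hcon
    push Not at hcon
    exact frobQ_ne_id hF (RingHom.ext fun x => by rw [frobQ_apply, hcon x]; rfl)
  have hz0 : z ≠ 0 := by
    rintro rfl
    exact hz (zero_pow hq0.ne')
  have hzq0 : z ^ q ≠ 0 := pow_ne_zero _ hz0
  have ha0 : a ≠ 0 := by
    rintro rfl
    rw [zero_mul] at ha
    exact one_ne_zero (neg_eq_zero.mp ha.symm)
  -- ζ = z^q / z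
  set ζ : F := z ^ q / z with hζ
  have hζ1 : ζ ≠ 1 := by
    intro h
    rw [hζ, div_eq_one_iff_eq hz0] at h
    exact hz h
  have hζq : ζ ^ q = z / z ^ q := by
    rw [hζ, div_pow, frob_frob hF]
  have hζN : ζ ^ q * ζ = 1 := by
    rw [hζq, hζ]
    field_simp
  set a' : F := a * ζ with ha'
  have ha'N : a' ^ q * a' = -1 := by
    rw [ha', mul_pow]
    calc a ^ q * ζ ^ q * (a * ζ) = (a * a ^ q) * (ζ ^ q * ζ) := by ring
      _ = -1 := by rw [ha, hζN, mul_one]
  have haq : a ^ q * a = -1 := by rw [mul_comm]; exact ha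
  set u : F := a ^ q * a' with hu
  have hu1 : 1 + u ≠ 0 := by
    have : u = -ζ := by
      rw [hu, ha', ← mul_assoc, haq]; ring
    rw [this]
    intro h
    apply hζ1
    have : ζ = 1 := by linear_combination -h
    exact this
  have huq : u ^ q = a * a' ^ q := by
    rw [hu, mul_pow, frob_frob hF]
  have huu : u ^ q * u = 1 := by
    rw [huq, hu]
    calc a * a' ^ q * (a ^ q * a') = (a ^ q * a) * (a' ^ q * a') := by ring
      _ = 1 := by rw [haq, ha'N]; ring
  have hu0 : u ≠ 0 := by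
    rintro h0
    rw [h0, mul_zero] at huu
    exact zero_ne_one huu
  have hu1q : 1 + u ^ q ≠ 0 := by
    intro h
    apply hu1
    have : u ^ q = -1 := by linear_combination h
    rw [this] at huu
    linear_combination -huu
  set c : F := (1 + u)⁻¹ with hc
  have hcq : c ^ q = (1 + u ^ q)⁻¹ := by
    rw [hc, inv_pow, frob_add hF, one_pow]
  have hc1 : c * (1 + u) = 1 := inv_mul_cancel₀ hu1
  have hcq1 : c ^ q * (1 + u ^ q) = 1 := by rw [hcq]; exact inv_mul_cancel₀ hu1q
  -- c^q = u * c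
  have hcqu : c ^ q = u * c := by
    have h1 : (1 + u ^ q) * u = 1 + u := by linear_combination huu
    have : c ^ q * (1 + u ^ q) = (u * c) * (1 + u ^ q) := by
      rw [hcq1]
      calc (1 : F) = c * (1 + u) := hc1.symm
        _ = c * ((1 + u ^ q) * u) := by rw [h1]
        _ = u * c * (1 + u ^ q) := by ring
    exact mul_right_cancel₀ hu1q this
  apply e1_frame_of_scalars hF m 1 a c (c * a')
  · rw [one_pow, mul_one]; linear_combination haq
  · rw [mul_pow]
    calc c ^ q * c + c ^ q * a' ^ q * (c * a') = c ^ q * c * (1 + a' ^ q * a') := by ring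
      _ = 0 := by rw [ha'N]; ring
  · rw [one_pow, one_mul]
    calc c + a ^ q * (c * a') = c * (1 + u) := by rw [hu]; ring
      _ = 1 := hc1
  · rw [one_pow, one_mul, mul_one, hcqu]
    linear_combination hc1
  · rw [one_mul, mul_pow, hcqu]
    have e1 : u * a' ^ q = -(a ^ q) := by
      rw [hu]
      calc a ^ q * a' * a' ^ q = a ^ q * (a' ^ q * a') := by ring
        _ = -(a ^ q) := by rw [ha'N]; ring
    calc u * c * a' ^ q + c * a ^ q = c * (u * a' ^ q + a ^ q) := by ring
      _ = 0 := by rw [e1]; ring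
  · rw [one_pow, mul_one, hcqu]
    have e2 : a * u = -a' := by
      rw [hu]
      calc a * (a ^ q * a') = (a ^ q * a) * a' := by ring
        _ = -a' := by rw [haq]; ring
    calc a * (u * c) + c * a' = c * (a * u + a') := by ring
      _ = 0 := by rw [e2]; ring
  · rw [mul_pow, hcqu]
    have e3 : a * u * a' ^ q = 1 := by
      rw [hu]
      calc a * (a ^ q * a') * a' ^ q = (a ^ q * a) * (a' ^ q * a') := by ring
        _ = 1 := by rw [haq, ha'N]; ring
    calc a * (u * c * a' ^ q) + c * a' * a ^ q = c * (a * u * a' ^ q + a ^ q * a') := by ring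
      _ = c * (1 + u) := by rw [e3]
      _ = 1 := hc1

end Cfsg.Agent.Helper5.U2
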