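import Mathlib
import Cfsg.Agent.Lib.Helper93.U30
import Cfsg.Agent.Lib.Helper5.U2E1

/-!
# U3 project (S2334), piece E1O : existence of an odd frame in `F^(m+m+1)`
-/

set_option autoImplicit false

namespace Cfsg.Agent.Helper5.U3

open Matrix Cfsg.Agent.Helper13 Cfsg.Agent.Helper93.U2 Cfsg.Agent.Helper93.U3
open Cfsg.Agent.Helper5.U2

variable {F : Type*} [Field F] [Fintype F] {q : ℕ} (hF : Fintype.card F = q ^ 2)

/-- piece E1O -/
theorem exists_frameO (n m : ℕ) (hn : n = m + m + 1) : Nonempty (FrameO hF n m) := by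
  classical
  subst hn
  obtain ⟨fr⟩ := exists_frame hF (m + m) m rfl
  set e : Fin (m + m) ⊕ Fin 1 ≃ Fin (m + m + 1) := finSumFinEquiv with he
  set P0 : Matrix (Fin (m + m) ⊕ Fin 1) (Fin m) F :=
    fromRows fr.P (0 : Matrix (Fin 1) (Fin m) F) with hP0
  set Q0 : Matrix (Fin (m + m) ⊕ Fin 1) (Fin m) F :=
    fromRows fr.Q (0 : Matrix (Fin 1) (Fin m) F) with hQ0
  set w0 : Matrix (Fin (m + m) ⊕ Fin 1) (Fin 1) F :=
    fromRows (0 : Matrix (Fin (m + m)) (Fin 1) F) (1 : Matrix (Fin 1) (Fin 1) F) with hw0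
  have hcP : cT hF P0 = fromCols (cT hF fr.P) (0 : Matrix (Fin m) (Fin 1) F) := by
    rw [hP0, e1_cT_fromRows, cT_zero]
  have hcQ : cT hF Q0 = fromCols (cT hF fr.Q) (0 : Matrix (Fin m) (Fin 1) F) := by
    rw [hQ0, e1_cT_fromRows, cT_zero]
  have hcw : cT hF w0 = fromCols (0 : Matrix (Fin 1) (Fin (m + m)) F)
      (1 : Matrix (Fin 1) (Fin 1) F) := by
    rw [hw0, e1_cT_fromRows, cT_zero, cT_one]
  refine ⟨⟨P0.submatrix e.symm id, Q0.submatrix e.symm id, w0.submatrix e.symm id,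
    ?_, ?_, ?_, ?_, ?_, ?_⟩⟩
  · rw [e1_cT_submatrix, Matrix.submatrix_mul_equiv, hcP, hP0, fromCols_mul_fromRows, fr.pp,
      Matrix.zero_mul, add_zero]
    rfl
  · rw [e1_cT_submatrix, Matrix.submatrix_mul_equiv, hcQ, hQ0, fromCols_mul_fromRows, fr.qq,
      Matrix.zero_mul, add_zero]
    rfl
  · rw [e1_cT_submatrix, Matrix.submatrix_mul_equiv, hcP, hQ0, fromCols_mul_fromRows, fr.pq,
      Matrix.zero_mul, add_zero]
    rfl
  · rw [e1_cT_submatrix, Matrix.submatrix_mul_equiv, hcP, hw0, fromCols_mul_fromRows,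
      Matrix.mul_zero, Matrix.zero_mul, add_zero]
    rfl
  · rw [e1_cT_submatrix, Matrix.submatrix_mul_equiv, hcQ, hw0, fromCols_mul_fromRows,
      Matrix.mul_zero, Matrix.zero_mul, add_zero]
    rfl
  · rw [e1_cT_submatrix, Matrix.submatrix_mul_equiv, hcw, hw0, fromCols_mul_fromRows,
      Matrix.mul_zero, Matrix.one_mul, zero_add]
    rfl

end Cfsg.Agent.Helper5.U3
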