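import Mathlib
import Cfsg.Agent.Lib.Helper73.W44Defs
import Cfsg.Agent.Lib.Helper73.FXSIMEIG
import Cfsg.Agent.Lib.Helper97.FXDefs2

/-!
# W44 (helper73, S4414), piece (DA): descent of joint fixed spaces under extension of scalars

A `k`-basis `(b i)` of `L` gives unique expansions `v = ∑ b i ⊗ e i` in `L ⊗ E`; `baseRep L ρ s` acts
coefficientwise, so `v` is fixed iff every `e i` is.
-/

set_option autoImplicit false

namespace Cfsg.Agent.Helper5.W44

open scoped TensorProduct
open Cfsg.Agent.Helper73.W44 Cfsg.Agent.Helper97.FX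

variable {k : Type*} [Field k] {L : Type*} [Field L] [Algebra k L] {G : Type*} [Group G]
variable {E : Type*} [AddCommGroup E] [Module k E]

/-- coefficientwise description: a vector `∑ b i ⊗ c i` is fixed by `P` iff every `c i` is -/
theorem h5_coeff_fixed {ι : Type*} (ℬ : Module.Basis ι k L) (ρ : G →* Module.End k E)
    (P : Subgroup G) (c : ι →₀ E)
    (hv : (c.sum fun i n => ℬ i ⊗ₜ[k] n) ∈ fixS (baseRep L ρ) P) (i : ι) :
    c i ∈ fixS ρ P := by
  intro s hs
  have h1 := hv s hs
  rw [baseRep_apply] at h1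
  have h2 : (ρ s).baseChange L (c.sum fun i n => ℬ i ⊗ₜ[k] n) =
      (c.mapRange (ρ s) (map_zero _)).sum fun i n => ℬ i ⊗ₜ[k] n := by
    rw [Finsupp.sum_mapRange_index (fun i => by rw [TensorProduct.tmul_zero])]
    rw [Finsupp.sum, map_sum]
    rfl
  rw [h2] at h1
  have hinj := TensorProduct.sum_tmul_basis_left_injective (R := k) (N := E) ℬ
  have h3 : c.mapRange (ρ s) (map_zero _) = c := by
    apply hinj
    rw [Finsupp.lsum_apply, Finsupp.lsum_apply]
    exact h1
  have := DFunLike.congr_fun h3 i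
  simpa using this

/-- **(DA)** -/
theorem fixS_baseRep_le_span (ρ : G →* Module.End k E) (P : Subgroup G) [Finite P] :
    fixS (baseRep L ρ) P ≤
      Submodule.span L ((fun e : E => (1 : L) ⊗ₜ[k] e) '' (fixS ρ P : Set E)) := by
  intro v hv
  let ℬ := Module.Free.chooseBasis k L
  obtain ⟨c, rfl⟩ := TensorProduct.eq_repr_basis_left (R := k) ℬ v
  have hc := h5_coeff_fixed ℬ ρ P c hv
  rw [Finsupp.sum]
  refine Submodule.sum_mem _ fun i _ => ?_
  have : ℬ i ⊗ₜ[k] c i = ℬ i • ((1 : L) ⊗ₜ[k] c i) := by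
    rw [TensorProduct.smul_tmul', smul_eq_mul, mul_one]
  rw [this]
  exact Submodule.smul_mem _ _ (Submodule.subset_span ⟨c i, hc i, rfl⟩)

end Cfsg.Agent.Helper5.W44
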