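import Mathlib
import Cfsg.Agent.Lib.Helper73.W44Defs
import Cfsg.Agent.Lib.Helper73.FXSIMEIG
import Cfsg.Agent.Lib.Helper97.FXDefs2
import Cfsg.Agent.Lib.Helper5.W44DA

/-!
# W44 (helper73, S4414), piece (DB): the dimension of the joint fixed space is invariant under
extension of scalars

`L ⊗ fixS ρ P → L ⊗ E` is injective (flatness) with range `fixS (baseRep L ρ) P` (by (DA)).
-/

set_option autoImplicit false

namespace Cfsg.Agent.Helper5.W44

open scoped TensorProduct
open Cfsg.Agent.Helper73.W44 Cfsg.Agent.Helper97.FX

variable {k : Type*} [Field k] {L : Type*} [Field L] [Algebra k L] {G : Type*} [Group G]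
variable {E : Type*} [AddCommGroup E] [Module k E]

/-- the range of `L ⊗ fixS ρ P → L ⊗ E` is the fixed space of the base change -/
theorem h5_range_baseChange_subtype (ρ : G →* Module.End k E) (P : Subgroup G) :
    LinearMap.range ((fixS ρ P).subtype.baseChange L) = fixS (baseRep L ρ) P := by
  apply le_antisymm
  · rintro _ ⟨x, rfl⟩
    induction x using TensorProduct.induction_on with
    | zero => rw [map_zero]; exact Submodule.zero_mem _
    | tmul l e =>
      intro s hs
      rw [baseRep_apply, LinearMap.baseChange_tmul, LinearMap.baseChange_tmul]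
      rw [Submodule.subtype_apply, e.2 s hs]
    | add x y hx hy => rw [map_add]; exact Submodule.add_mem _ hx hy
  · intro v hv
    let ℬ := Module.Free.chooseBasis k L
    obtain ⟨c, rfl⟩ := TensorProduct.eq_repr_basis_left (R := k) ℬ v
    have hc := h5_coeff_fixed ℬ ρ P c hv
    rw [Finsupp.sum]
    refine Submodule.sum_mem _ fun i _ => ?_
    exact ⟨ℬ i ⊗ₜ[k] ⟨c i, hc i⟩, by rw [LinearMap.baseChange_tmul]; rfl⟩

/-- **(DB)** -/
theorem finrank_fixS_baseRep (ρ : G →* Module.End k E) (P : Subgroup G) [Finite P] :
    Module.finrank L (fixS (baseRep L ρ) P) = Module.finrank k (fixS ρ P) := by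
  have hinj : Function.Injective ((fixS ρ P).subtype.baseChange L) := by
    rw [LinearMap.baseChange_eq_ltensor]
    exact Module.Flat.lTensor_preserves_injective_linearMap _ (Submodule.injective_subtype _)
  rw [← h5_range_baseChange_subtype ρ P, ← (LinearEquiv.ofInjective _ hinj).finrank_eq,
    Module.finrank_baseChange]

end Cfsg.Agent.Helper5.W44
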